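import Groth.Agent.Proet.Cont
import Mathlib.AlgebraicGeometry.Cover.QuasiCompact

/-!
# Finite coverings of the small pro-etale site

* `sieve_mem_of_finite`: a finite jointly surjective family of quasi-compact morphisms generates a covering sieve.
* `exists_finite_affine_refinement`: a covering sieve of a quasi-compact object contains a finite
  jointly surjective family of affine objects.
-/

set_option autoImplicit false
universe u

open CategoryTheory CategoryTheory.Limits AlgebraicGeometry Opposite

namespace Groth.Agent.Proet.CoverFin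

set_option backward.isDefEq.respectTransparency.types false

/-- A morphism in `X.ProEt` is weakly etale. -/
instance weaklyEtale_left {X : Scheme.{u}} {V W : X.ProEt} (g : V ⟶ W) : WeaklyEtale g.left := by
  have e : g.left ≫ W.hom = V.hom := Over.w g.hom
  have h : WeaklyEtale (g.left ≫ W.hom) := by rw [e]; exact V.prop
  exact WeaklyEtale.of_comp g.left W.hom

/-- A finite jointly surjective family of quasi-compact morphisms generates a covering sieve. -/
theorem sieve_mem_of_finite {X : Scheme.{u}} {V : X.ProEt} {ι : Type*} [Finite ι]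
    (Y : ι → X.ProEt) (g : ∀ i, Y i ⟶ V) (hqc : ∀ i, QuasiCompact (g i).left)
    (hsurj : ∀ v : V.left, ∃ i y, (g i).left y = v) :
    Sieve.ofArrows Y g ∈ Scheme.ProEt.topology X V := by
  apply Precoverage.generate_mem_toGrothendieck
  have h : Presieve.ofArrows Y g ∈ (Scheme.ProEt.precoverage X).coverings V := by
    rw [Cont.ofArrows_mem_precoverage_iff]
    have h1 : Presieve.ofArrows (fun i => (Y i).left) (fun i => (g i).left) ∈
        (Scheme.precoverage @WeaklyEtale).coverings V.left := by
      rw [Scheme.ofArrows_mem_precoverage_iff]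
      exact ⟨fun v => hsurj v, fun i => weaklyEtale_left (g i)⟩
    refine ⟨?_, h1⟩
    let 𝒰 : PreZeroHypercover V.left := ⟨ι, fun i => (Y i).left, fun i => (g i).left⟩
    have h3 : QuasiCompactCover 𝒰 := by
      constructor
      intro U hU
      refine .of_finite_of_isSpectralMap (fun i ↦ ?_) ?_ U.2 hU.isCompact
      · have : QuasiCompact (g i).left := hqc i
        exact ((g i).left).isSpectralMap
      · intro x _
        exact hsurj x
    exact Scheme.presieve₀_mem_qcPrecoverage_iff.2 h3
  exact h

/-- A covering sieve of a quasi-compact object contains a finite jointly surjective family of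
affine objects. -/
theorem exists_finite_affine_refinement {X : Scheme.{u}} {V : X.ProEt} [CompactSpace V.left]
    {S : Sieve V} (hS : S ∈ Scheme.ProEt.topology X V) :
    ∃ (n : ℕ) (Y : Fin n → X.ProEt) (g : ∀ i, Y i ⟶ V), (∀ i, IsAffine (Y i).left) ∧
      (∀ v : V.left, ∃ i y, (g i).left y = v) ∧ ∀ i, S (g i) := by
  obtain ⟨P, hP, hle⟩ := (Cont.mem_topology_iff S).1 hS
  obtain ⟨ι, Y, g, rfl⟩ := P.exists_eq_ofArrows
  rw [Cont.ofArrows_mem_precoverage_iff] at hP
  let 𝒰 : PreZeroHypercover V.left := ⟨ι, fun i => (Y i).left, fun i => (g i).left⟩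
  have h3 : QuasiCompactCover 𝒰 := Scheme.presieve₀_mem_qcPrecoverage_iff.1 hP.1
  obtain ⟨n, f, W, hW, h⟩ := QuasiCompactCover.exists_isAffineOpen_of_isCompact 𝒰
    (show IsCompact (⊤ : TopologicalSpace.Opens V.left).carrier from isCompact_univ)
  let T : Fin n → X.ProEt := fun k => Scheme.ProEt.mk ((W k).ι ≫ (Y (f k)).hom)
  let t : ∀ k, T k ⟶ Y (f k) := fun k => MorphismProperty.Over.homMk (W k).ι
  refine ⟨n, T, fun k => t k ≫ g (f k), fun k => hW k, ?_, ?_⟩
  · intro v
    have hv : v ∈ ⋃ i, 𝒰.f (f i) '' (W i) := by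
      rw [h]; trivial
    obtain ⟨k, y, hy, rfl⟩ := by simpa using hv
    exact ⟨k, ⟨y, hy⟩, rfl⟩
  · intro k
    exact S.downward_closed (hle _ _ ⟨f k⟩) (t k)

end Groth.Agent.Proet.CoverFin
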