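import Mathlib.RingTheory.Smooth.StandardSmoothOfFree
import Mathlib.RingTheory.Extension.Presentation.Core
import Mathlib.RingTheory.Smooth.StandardSmoothCotangent
import Mathlib.RingTheory.RingHom.Etale

/-!
# Lifting étale algebras along localizations (and more general maps)

* `exists_etale_lift`: if `A → R` is such that finitely many elements of `R` come from `A` up to a common unit,
  every étale `R`-algebra is `R ⊗[A] B` for an étale `A`-algebra `B`.
* `exists_etale_lift_of_isLocalization`.
-/

set_option autoImplicit false
universe u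
open TensorProduct

namespace Groth.Agent.Proet.EtaleLiftLoc

/-- Étale algebras lift along ring maps `A → R` that are "surjective up to units". -/
theorem exists_etale_lift (A R S : Type u) [CommRing A] [CommRing R] [Algebra A R]
    (h : ∀ s : Finset R, ∃ u : R, IsUnit u ∧ ∀ x ∈ s, u * x ∈ Set.range (algebraMap A R))
    [CommRing S] [Algebra R S] [Algebra.Etale R S] :
    ∃ (B : Type u) (_ : CommRing B) (_ : Algebra A B),
      Algebra.Etale A B ∧ Nonempty (R ⊗[A] B ≃ₐ[R] S) := by
  classical
  let : Algebra A S := ((algebraMap R S).comp (algebraMap A R)).toAlgebra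
  have : IsScalarTower A R S := IsScalarTower.of_algebraMap_eq' rfl
  obtain ⟨ι, σ, _, _, P, hP⟩ :=
    (Algebra.Etale.iff_isStandardSmoothOfRelativeDimension_zero (R := R) (S := S)).mp inferInstance
  let : Fintype σ := Fintype.ofFinite _
  choose u hu hux using fun j : σ => h (P.relation j).coeffs
  let P' : Algebra.PreSubmersivePresentation R S ι σ :=
    { toGenerators := P.toGenerators
      relation := fun j => MvPolynomial.C (u j) * P.relation j
      span_range_relation_eq_ker := by
        rw [← P.span_range_relation_eq_ker]
        apply le_antisymm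
        · rw [Ideal.span_le]
          rintro _ ⟨j, rfl⟩
          exact Ideal.mul_mem_left _ _ (Ideal.subset_span ⟨j, rfl⟩)
        · rw [Ideal.span_le]
          rintro _ ⟨j, rfl⟩
          have h1 : P.relation j =
              MvPolynomial.C ((hu j).unit⁻¹ : Rˣ).1 * (MvPolynomial.C (u j) * P.relation j) := by
            rw [← mul_assoc, ← map_mul]
            simp
          rw [h1]
          exact Ideal.mul_mem_left _ _ (Ideal.subset_span ⟨j, rfl⟩)
      map := P.map
      map_inj := P.map_inj }
  have hc : P'.toPresentation.HasCoeffs A := by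
    refine ⟨?_⟩
    rw [Algebra.Presentation.coeffs, Set.iUnion_subset_iff]
    intro j x hx
    have h1 : P'.relation j = MvPolynomial.C (u j) * P.relation j := rfl
    rw [h1, Finset.mem_coe, MvPolynomial.mem_coeffs_iff] at hx
    obtain ⟨n, hn, rfl⟩ := hx
    rw [MvPolynomial.coeff_C_mul]
    by_cases h0 : (P.relation j).coeff n = 0
    · rw [h0, mul_zero]
      exact ⟨0, map_zero _⟩
    · exact hux j _ (MvPolynomial.mem_coeffs_iff.2 ⟨n, MvPolynomial.mem_support_iff.2 h0, rfl⟩)
  have hjac : IsUnit P'.jacobian := by
    have h2 : P'.jacobiMatrix = P.jacobiMatrix * Matrix.diagonal (fun j => MvPolynomial.C (u j)) := by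
      ext1 i j
      rw [Matrix.mul_diagonal, Algebra.PreSubmersivePresentation.jacobiMatrix_apply,
        Algebra.PreSubmersivePresentation.jacobiMatrix_apply]
      change MvPolynomial.pderiv (P.map i) (MvPolynomial.C (u j) * P.relation j) = _
      rw [MvPolynomial.pderiv_C_mul, mul_comm]
    rw [Algebra.PreSubmersivePresentation.jacobian_eq_jacobiMatrix_det, h2, Matrix.det_mul, map_mul]
    refine IsUnit.mul ?_ ?_
    · exact P.jacobian_eq_jacobiMatrix_det ▸ P.jacobian_isUnit
    · rw [Matrix.det_diagonal, map_prod]
      refine IsUnit.prod_univ_iff.2 fun j => ?_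
      have : (algebraMap P'.Ring S) (MvPolynomial.C (u j)) = algebraMap R S (u j) := by
        rw [Algebra.Generators.algebraMap_apply]
        simp
      rw [this]
      exact (hu j).map _
  let Q := P'.ofHasCoeffs A
  let J := Q.jacobian
  have hJ' : P'.tensorModelOfHasCoeffsEquiv A ((1 : R) ⊗ₜ[A] J) = P'.jacobian := by
    have h3 : J = Ideal.Quotient.mk _ (Q.jacobiMatrix.det) := by
      simp only [J, Algebra.PreSubmersivePresentation.jacobian_eq_jacobiMatrix_det]
      rfl
    rw [h3]
    erw [P'.tensorModelOfHasCoeffsEquiv_tmul]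
    rw [map_one, one_mul, Algebra.PreSubmersivePresentation.jacobian_eq_jacobiMatrix_det,
      Algebra.Generators.algebraMap_apply, ← MvPolynomial.aeval_map_algebraMap R]
    congr 1
    rw [@RingHom.map_det]
    congr 1
    ext1 i j
    simp [Q, Algebra.Presentation.map_relationOfHasCoeffs, ← MvPolynomial.pderiv_map,
      Algebra.PreSubmersivePresentation.jacobiMatrix_apply]
  have hJu : IsUnit ((1 : R) ⊗ₜ[A] J : R ⊗[A] P'.ModelOfHasCoeffs A) := by
    have := hjac
    rw [← hJ'] at this
    have := this.map (P'.tensorModelOfHasCoeffsEquiv A).symm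
    rwa [AlgEquiv.symm_apply_apply] at this
  have hJ : IsUnit (algebraMap _ (Localization.Away J) J) :=
    IsLocalization.Away.algebraMap_isUnit _
  let Q' : Algebra.SubmersivePresentation A (Localization.Away J) _ _ :=
    { toPreSubmersivePresentation :=
        .comp (.localizationAway (Localization.Away J) J) Q,
      jacobian_isUnit := by
        simp [Algebra.smul_def, -isUnit_map_iff]
        exact ⟨hJ, hJ⟩ }
  have : Algebra.IsStandardSmoothOfRelativeDimension 0 A (Localization.Away J) :=
    ⟨_, _, _, inferInstance, Q', by
      simp only [Algebra.PreSubmersivePresentation.dimension_comp_eq_dimension_add_dimension, Q']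
      simpa [Algebra.Presentation.dimension] using! hP⟩
  refine ⟨Localization.Away J, inferInstance, inferInstance, inferInstance, ⟨?_⟩⟩
  let e1 := IsLocalization.Away.tensorProductEquivTMulRight A R J (Localization.Away J)
  let e2 := IsLocalization.atUnit (R ⊗[A] P'.ModelOfHasCoeffs A)
    (Localization.Away ((1 : R) ⊗ₜ[A] J : R ⊗[A] P'.ModelOfHasCoeffs A)) _ hJu
  exact e1.trans ((e2.restrictScalars R).symm.trans (P'.tensorModelOfHasCoeffsEquiv A))

/-- Étale algebras over a localization of `A` come from étale algebras over `A`. -/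
theorem exists_etale_lift_of_isLocalization (A R S : Type u) [CommRing A] [CommRing R] [Algebra A R]
    (M : Submonoid A) [IsLocalization M R] [CommRing S] [Algebra R S] [Algebra.Etale R S] :
    ∃ (B : Type u) (_ : CommRing B) (_ : Algebra A B),
      Algebra.Etale A B ∧ Nonempty (R ⊗[A] B ≃ₐ[R] S) := by
  refine exists_etale_lift A R S fun s => ?_
  obtain ⟨b, hb⟩ := IsLocalization.exist_integer_multiples_of_finset M s
  refine ⟨algebraMap A R b, IsLocalization.map_units R b, fun x hx => ?_⟩
  obtain ⟨a, ha⟩ := hb x hx
  exact ⟨a, by rw [ha, Algebra.smul_def]⟩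

end Groth.Agent.Proet.EtaleLiftLoc
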