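import Mathlib.CategoryTheory.Comma.Final
import Mathlib.CategoryTheory.Limits.Comma
import Mathlib.CategoryTheory.Limits.Final

/-!
# Morphisms between cofiltered limits are cofiltered limits of morphisms

`exists_arrow_limit`: for limit cones `c : Cone D`, `e : Cone E` over small cofiltered categories and
`φ : e.pt ⟶ c.pt` such that the `D j` are "cocompact" with respect to `e`, the morphism `φ` is the limit
of a small cofiltered diagram of morphisms `E (p i) ⟶ D (q i)`.
-/

set_option autoImplicit false
universe u v'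

open CategoryTheory CategoryTheory.Limits

namespace Groth.Agent.Proet.ArrowLim

variable {𝒞 : Type v'} [Category.{u} 𝒞] {J K : Type u} [SmallCategory J] [SmallCategory K]
  {D : J ⥤ 𝒞} (c : Cone D) {E : K ⥤ 𝒞} (e : Cone E) (φ : e.pt ⟶ c.pt)

/-- the sources -/
def L : K ⥤ Under e.pt where
  obj k := Under.mk (e.π.app k)
  map f := Under.homMk (E.map f) (e.w f)

/-- the targets -/
def R : J ⥤ Under e.pt where
  obj j := Under.mk (φ ≫ c.π.app j)
  map f := Under.homMk (D.map f) (by
    change (φ ≫ c.π.app _) ≫ D.map f = φ ≫ c.π.app _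
    rw [Category.assoc, c.w])

/-- the index category of the arrows -/
abbrev Idx : Type u := Comma (L e) (R c e φ)

/-- the arrows -/
def α : Comma.fst (L e) (R c e φ) ⋙ E ⟶ Comma.snd (L e) (R c e φ) ⋙ D where
  app i := i.hom.right
  naturality _ _ f := congr(($(f.w)).right)

theorem α_w (i : Idx c e φ) : e.π.app i.left ≫ (α c e φ).app i = φ ≫ c.π.app i.right :=
  Under.w i.hom

variable (h1 : ∀ (j : J) (a : e.pt ⟶ D.obj j), ∃ (k : K) (b : E.obj k ⟶ D.obj j),
    e.π.app k ≫ b = a)
  (h2 : ∀ (j : J) (k : K) (a b : E.obj k ⟶ D.obj j), e.π.app k ≫ a = e.π.app k ≫ b →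
    ∃ (l : K) (t : l ⟶ k), E.map t ≫ a = E.map t ≫ b)

include h1 h2 in
theorem isCofiltered_costructuredArrow [IsCofiltered K] (j : J) :
    IsCofiltered (CostructuredArrow (L e) ((R c e φ).obj j)) := by
  have hne : Nonempty (CostructuredArrow (L e) ((R c e φ).obj j)) := by
    obtain ⟨k, b, hb⟩ := h1 j (φ ≫ c.π.app j)
    exact ⟨CostructuredArrow.mk (Y := k) (Under.homMk b hb)⟩
  refine { cone_objs := fun A B => ?_, cone_maps := fun A B f g => ?_, nonempty := hne }
  · let a : E.obj A.left ⟶ D.obj j := A.hom.right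
    let b : E.obj B.left ⟶ D.obj j := B.hom.right
    have hA : e.π.app A.left ≫ a = φ ≫ c.π.app j := Under.w A.hom
    have hB : e.π.app B.left ≫ b = φ ≫ c.π.app j := Under.w B.hom
    obtain ⟨l, t, ht⟩ := h2 j (IsCofiltered.min A.left B.left)
      (E.map (IsCofiltered.minToLeft A.left B.left) ≫ a)
      (E.map (IsCofiltered.minToRight A.left B.left) ≫ b) (by
        rw [← Category.assoc, ← Category.assoc, e.w, e.w, hA, hB])
    refine ⟨CostructuredArrow.mk (Y := l)
      ((L e).map (t ≫ IsCofiltered.minToLeft A.left B.left) ≫ A.hom),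
      CostructuredArrow.homMk (t ≫ IsCofiltered.minToLeft A.left B.left) rfl,
      CostructuredArrow.homMk (t ≫ IsCofiltered.minToRight A.left B.left) ?_, trivial⟩
    apply Under.UnderMorphism.ext
    change E.map (t ≫ IsCofiltered.minToRight A.left B.left) ≫ b =
      E.map (t ≫ IsCofiltered.minToLeft A.left B.left) ≫ a
    rw [E.map_comp, E.map_comp, Category.assoc, Category.assoc, ht]
  · refine ⟨CostructuredArrow.mk (Y := IsCofiltered.eq f.left g.left)
      ((L e).map (IsCofiltered.eqHom f.left g.left) ≫ A.hom),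
      CostructuredArrow.homMk (IsCofiltered.eqHom f.left g.left) rfl, ?_⟩
    apply CostructuredArrow.hom_ext
    exact IsCofiltered.eq_condition f.left g.left

include h1 h2 in
theorem isCofiltered_idx [IsCofiltered J] [IsCofiltered K] : IsCofiltered (Idx c e φ) := by
  have := isCofiltered_costructuredArrow c e φ h1 h2
  exact Comma.isCofiltered_of_isCofiltered_costructuredArrow _ _

include h1 h2 in
theorem initial_fst [IsCofiltered J] [IsCofiltered K] :
    (Comma.fst (L e) (R c e φ)).Initial := by
  have := isCofiltered_costructuredArrow c e φ h1 h2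
  exact Comma.initial_fst_of_isCofiltered_costructuredArrow _ _

include h1 h2 in
theorem initial_snd [IsCofiltered J] [IsCofiltered K] :
    (Comma.snd (L e) (R c e φ)).Initial := by
  have h := isCofiltered_costructuredArrow c e φ h1 h2
  have (j : J) : IsConnected (CostructuredArrow (L e) ((R c e φ).obj j)) :=
    have := h j
    IsCofiltered.isConnected _
  exact Comma.initial_snd_of_isConnected_costructuredArrow _ _

/-- the diagram of arrows attached to a natural transformation -/
def arrowFunctor {I : Type*} [Category* I] {F G : I ⥤ 𝒞} (β : F ⟶ G) : I ⥤ Arrow 𝒞 where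
  obj i := Arrow.mk (β.app i)
  map f := Arrow.homMk (F.map f) (G.map f) (β.naturality f)

/-- the cone of arrows attached to a pair of cones -/
def arrowCone {I : Type*} [Category* I] {F G : I ⥤ 𝒞} (β : F ⟶ G) (s : Cone F) (t : Cone G)
    (ψ : s.pt ⟶ t.pt) (h : ∀ i, ψ ≫ t.π.app i = s.π.app i ≫ β.app i) :
    Cone (arrowFunctor β) where
  pt := Arrow.mk ψ
  π :=
    { app := fun i => Arrow.homMk (s.π.app i) (t.π.app i) (h i).symm
      naturality := fun i j f => by
        ext
        · exact s.π.naturality f
        · exact t.π.naturality f }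

/-- it is a limit cone -/
noncomputable def isLimitArrowCone {I : Type*} [Category* I] {F G : I ⥤ 𝒞} (β : F ⟶ G) (s : Cone F)
    (t : Cone G) (ψ : s.pt ⟶ t.pt) (h : ∀ i, ψ ≫ t.π.app i = s.π.app i ≫ β.app i)
    (hs : IsLimit s) (ht : IsLimit t) : IsLimit (arrowCone β s t ψ h) :=
  Comma.fstSndJointlyReflectLimit hs ht

end Groth.Agent.Proet.ArrowLim
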