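import Groth.Agent.Proet.PushAcyc

/-!
# The base change map `eps⁻¹ f_* ⟶ f_* eps⁻¹` and Stacks 09A6 from a description of sections

* `un F U : F(U) ⟶ (eps⁻¹ F)(eps U)`, the unit on sections, and `un_naturality`.
* `bcMap f : f_* ⋙ eps⁻¹ ⟶ eps⁻¹ ⋙ f_*`, `bcMap_un`.
* `bijective_bcMap`, `nonempty_iso_rpush`.
-/

set_option autoImplicit false
universe u v w w'

open CategoryTheory CategoryTheory.Limits AlgebraicGeometry Opposite CategoryTheory.Abelian

namespace Groth.Agent.Proet.RpushEps

open ZU PushAcyc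

section Unit

variable {X : Scheme.{u}} [ProEtS.EpsCont X]

set_option backward.isDefEq.respectTransparency.types false in
/-- The unit of `eps⁻¹ ⊣ eps_*` on sections. -/
noncomputable def un (F : EtCoh.Ab X) (U : X.Etale) :
    F.obj.obj (op U) →+ ((ProEtS.epsPull X).obj F).obj.obj (op ((ProEtS.eps X).obj U)) :=
  (((ProEtS.epsAdj X).unit.app F).hom.app (op U)).hom

set_option backward.isDefEq.respectTransparency.types false in
theorem un_naturality (F : EtCoh.Ab X) {U V : X.Etale} (h : V ⟶ U) (s : F.obj.obj (op U)) :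
    un F V (F.obj.map h.op s) =
      ((ProEtS.epsPull X).obj F).obj.map ((ProEtS.eps X).map h).op (un F U s) :=
  ConcreteCategory.congr_hom (((ProEtS.epsAdj X).unit.app F).hom.naturality h.op) s

end Unit

section BC

variable {X Y : Scheme.{u}} (f : X ⟶ Y) [ProEtS.EpsCont X] [ProEtS.EpsCont Y] [ProEtS.PCont f]

set_option backward.isDefEq.respectTransparency.types false in
/-- `f_* eps_* = eps_* f_*`. -/
noncomputable def pushEpsIso :
    ProEtS.pushP f ⋙ ProEtS.epsPush Y ≅ ProEtS.epsPush X ⋙ EtCoh.push f := Iso.refl _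

set_option backward.isDefEq.respectTransparency.types false in
/-- The base change map `eps⁻¹ f_* F ⟶ f_* eps⁻¹ F`. -/
noncomputable def bcMap :
    EtCoh.push f ⋙ ProEtS.epsPull Y ⟶ ProEtS.epsPull X ⋙ ProEtS.pushP f where
  app F := ((ProEtS.epsAdj Y).homEquiv ((EtCoh.push f).obj F)
    ((ProEtS.pushP f).obj ((ProEtS.epsPull X).obj F))).symm
      ((EtCoh.push f).map ((ProEtS.epsAdj X).unit.app F))
  naturality F G φ := by
    change (ProEtS.epsPull Y).map ((EtCoh.push f).map φ) ≫ _ = _ ≫ (ProEtS.pushP f).map ((ProEtS.epsPull X).map φ)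
    rw [← Adjunction.homEquiv_naturality_left_symm, ← Adjunction.homEquiv_naturality_right_symm]
    congr 1
    have h : (EtCoh.push f).map φ ≫ (EtCoh.push f).map ((ProEtS.epsAdj X).unit.app G) =
        (EtCoh.push f).map ((ProEtS.epsAdj X).unit.app F) ≫
          (EtCoh.push f).map ((ProEtS.epsPush X).map ((ProEtS.epsPull X).map φ)) :=
      ((EtCoh.push f).map_comp _ _).symm.trans
        ((congrArg (EtCoh.push f).map ((ProEtS.epsAdj X).unit.naturality φ)).trans
          ((EtCoh.push f).map_comp _ _))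
    exact h

set_option backward.isDefEq.respectTransparency.types false in
/-- The value of the base change map on unit sections. -/
theorem bcMap_un (F : EtCoh.Ab X) (W : Y.Etale) (s : F.obj.obj (op ((EtCoh.bc f).obj W))) :
    ((bcMap f).app F).hom.app (op ((ProEtS.eps Y).obj W)) (un ((EtCoh.push f).obj F) W s) =
      un F ((EtCoh.bc f).obj W) s := by
  have h := ((ProEtS.epsAdj Y).homEquiv ((EtCoh.push f).obj F)
    ((ProEtS.pushP f).obj ((ProEtS.epsPull X).obj F))).apply_symm_apply
      ((EtCoh.push f).map ((ProEtS.epsAdj X).unit.app F))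
  rw [Adjunction.homEquiv_unit] at h
  exact congrArg (fun k => (k.hom.app (op W)).hom s) h

set_option backward.isDefEq.respectTransparency.types false in
/-- Sections of `eps⁻¹ F` over `V ×_Y X` come from sections of `F` over `W ×_Y X`, `V ⟶ W`, `W` étale. -/
def BCSurj (V : Y.ProEt) : Prop :=
  ∀ (F : EtCoh.Ab X) (y : ((ProEtS.epsPull X).obj F).obj.obj (op ((ProEtS.bcP f).obj V))),
    ∃ (W : Y.Etale) (g : V ⟶ (ProEtS.eps Y).obj W) (s : F.obj.obj (op ((EtCoh.bc f).obj W))),
      ((ProEtS.epsPull X).obj F).obj.map ((ProEtS.bcP f).map g).op (un F ((EtCoh.bc f).obj W) s) = y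

set_option backward.isDefEq.respectTransparency.types false in
/-- A section of `F` over `W ×_Y X` dying in `eps⁻¹ F` over `V ×_Y X` dies over `W' ×_Y X` for some
`V ⟶ W' ⟶ W`. -/
def BCInj (V : Y.ProEt) : Prop :=
  ∀ (F : EtCoh.Ab X) (W : Y.Etale) (g : V ⟶ (ProEtS.eps Y).obj W)
    (s : F.obj.obj (op ((EtCoh.bc f).obj W))),
    ((ProEtS.epsPull X).obj F).obj.map ((ProEtS.bcP f).map g).op (un F ((EtCoh.bc f).obj W) s) = 0 →
      ∃ (W' : Y.Etale) (g' : V ⟶ (ProEtS.eps Y).obj W') (h : W' ⟶ W),
        g' ≫ (ProEtS.eps Y).map h = g ∧ F.obj.map ((EtCoh.bc f).map h).op s = 0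

end BC

section Rep

variable {Y : Scheme.{u}} [ProEtS.EpsCont Y]

set_option backward.isDefEq.respectTransparency.types false in
/-- Sections of `eps⁻¹ G` over `V` come from sections of `G` over étale `W` with `V ⟶ W`. -/
def RepSurj (V : Y.ProEt) : Prop :=
  ∀ (G : EtCoh.Ab Y) (y : ((ProEtS.epsPull Y).obj G).obj.obj (op V)),
    ∃ (W : Y.Etale) (g : V ⟶ (ProEtS.eps Y).obj W) (s : G.obj.obj (op W)),
      ((ProEtS.epsPull Y).obj G).obj.map g.op (un G W s) = y

end Rep

section Main

variable {X Y : Scheme.{u}} (f : X ⟶ Y) [ProEtS.EpsCont X] [ProEtS.EpsCont Y] [ProEtS.PCont f]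

set_option backward.isDefEq.respectTransparency.types false in
theorem bcMap_map_un (F : EtCoh.Ab X) (W : Y.Etale) (s : F.obj.obj (op ((EtCoh.bc f).obj W)))
    {V : Y.ProEt} (g : V ⟶ (ProEtS.eps Y).obj W) :
    ((bcMap f).app F).hom.app (op V)
      (((ProEtS.epsPull Y).obj ((EtCoh.push f).obj F)).obj.map g.op (un ((EtCoh.push f).obj F) W s)) =
      ((ProEtS.epsPull X).obj F).obj.map ((ProEtS.bcP f).map g).op (un F ((EtCoh.bc f).obj W) s) := by
  have h := ConcreteCategory.congr_hom (((bcMap f).app F).hom.naturality g.op)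
    (un ((EtCoh.push f).obj F) W s)
  refine h.trans ?_
  exact congrArg (((ProEtS.epsPull X).obj F).obj.map ((ProEtS.bcP f).map g).op) (bcMap_un f F W s)

set_option backward.isDefEq.respectTransparency.types false in
/-- The base change map is bijective on sections. -/
theorem bijective_bcMap {V : Y.ProEt} (h₀ : RepSurj V) (h₁ : BCSurj f V) (h₂ : BCInj f V)
    (F : EtCoh.Ab X) : Function.Bijective (((bcMap f).app F).hom.app (op V)) := by
  constructor
  · refine (injective_iff_map_eq_zero (((bcMap f).app F).hom.app (op V)).hom).2 ?_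
    intro x hx
    obtain ⟨W, g, s, rfl⟩ := h₀ ((EtCoh.push f).obj F) x
    have hx' := (bcMap_map_un f F W s g).symm.trans hx
    obtain ⟨W', g', h, rfl, hs⟩ := h₂ F W g s hx'
    have e1 : ((EtCoh.push f).obj F).obj.map h.op s = 0 := hs
    have e2 := un_naturality ((EtCoh.push f).obj F) h s
    rw [e1, map_zero] at e2
    rw [op_comp, Functor.map_comp]
    change ((ProEtS.epsPull Y).obj ((EtCoh.push f).obj F)).obj.map g'.op
      (((ProEtS.epsPull Y).obj ((EtCoh.push f).obj F)).obj.map ((ProEtS.eps Y).map h).op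
        (un ((EtCoh.push f).obj F) W s)) = 0
    rw [← e2, map_zero]
  · intro y
    obtain ⟨W, g, s, hs⟩ := h₁ F y
    exact ⟨_, (bcMap_map_un f F W s g).trans hs⟩

set_option backward.isDefEq.respectTransparency.types false in
/-- Stacks 09A6 on cohomology sheaves, from a description of sections of `eps⁻¹` over a basis and vanishing
for injectives. -/
theorem nonempty_iso_rpush {B : Y.ProEt → Prop} (hB : IsBasis (Scheme.ProEt.topology Y) B)
    (h₀ : ∀ V, B V → RepSurj V) (h₁ : ∀ V, B V → BCSurj f V) (h₂ : ∀ V, B V → BCInj f V)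
    (hI : ∀ (V : Y.ProEt), B V → ∀ (I : EtCoh.Ab X), Injective I → ∀ (q : ℕ)
      (x : Ext.{u + 1} ((zF.{u + 1} (Scheme.ProEt.topology X)).obj ((ProEtS.bcP f).obj V))
        ((ProEtS.epsPull X).obj I) (q + 1)), x = 0) (F : EtCoh.Ab X) (q : ℕ) :
    Nonempty ((ProEtS.RpushP f q).obj ((ProEtS.epsPull X).obj F) ≅
      (ProEtS.epsPull Y).obj ((EtCoh.Rpush f q).obj F)) := by
  have : ∀ F : EtCoh.Ab X, IsIso ((bcMap f).app F) := fun F =>
    isIso_of_basis _ hB fun V hV => bijective_bcMap f (h₀ V hV) (h₁ V hV) (h₂ V hV) F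
  have : IsIso (bcMap f) := NatIso.isIso_of_isIso_app _
  have := EpsBasic.preservesFiniteLimits_epsPull X
  have := EpsBasic.preservesFiniteLimits_epsPull Y
  have := EpsBasic.preservesFiniteLimits_pushP f
  have : (ProEtS.epsPull X).Additive := Functor.additive_of_preserves_binary_products _
  have : (ProEtS.epsPull Y).Additive := Functor.additive_of_preserves_binary_products _
  have : PreservesColimitsOfSize.{0, 0} (ProEtS.epsPull X) :=
    (ProEtS.epsAdj X).leftAdjoint_preservesColimits
  have : PreservesFiniteColimits (ProEtS.epsPull X) := inferInstance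
  have : PreservesColimitsOfSize.{0, 0} (ProEtS.epsPull Y) :=
    (ProEtS.epsAdj Y).leftAdjoint_preservesColimits
  have : PreservesFiniteColimits (ProEtS.epsPull Y) := inferInstance
  have : PreservesLimitsOfSize.{0, 0} (EtCoh.push f) :=
    (EtCoh.pullPushAdj f).rightAdjoint_preservesLimits
  have : PreservesFiniteLimits (EtCoh.push f) := inferInstance
  exact nonempty_iso_of_comm (ProEtS.epsPull X) (ProEtS.pushP f) (EtCoh.push f) (ProEtS.epsPull Y)
    (asIso (bcMap f)).symm
    (fun I hI' q hq => isZero_rightDerived_of_basis (ProEtS.bcP f) _ _ hB _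
      (fun V hV => hI V hV I hI') q hq) F q

end Main

end Groth.Agent.Proet.RpushEps
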