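import Groth.Agent.Proet.WC

/-!
# Weakly contractible objects: refining coverings by clopen decompositions
-/

set_option autoImplicit false
universe u v w

open CategoryTheory CategoryTheory.Limits AlgebraicGeometry Opposite

namespace Groth.Agent.Proet.WCClopen

open Scheme TensorProduct WCBasic WC

variable {X : Scheme.{u}}

set_option backward.isDefEq.respectTransparency.types false in
/-- The open subobject of an object of the small pro-etale site. -/
noncomputable abbrev openObj (U : X.ProEt) (T : U.left.Opens) : X.ProEt :=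
  Scheme.ProEt.mk (T.ι ≫ U.hom)

set_option backward.isDefEq.respectTransparency.types false in
/-- The inclusion of an open subobject. -/
noncomputable abbrev openHom (U : X.ProEt) (T : U.left.Opens) : openObj U T ⟶ U :=
  MorphismProperty.Over.homMk T.ι

set_option backward.isDefEq.respectTransparency.types false in
/-- The pull back of a component of a disjoint union factors through the component. -/
theorem exists_lift_component {ι : Type v} [Small.{u} ι] (W : ι → X.ProEt) {U : X.ProEt}
    (s : U ⟶ sigmaObj W) (i : ι) (T : U.left.Opens)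
    (hT : ∀ x ∈ T, s.left x ∈ Set.range (sigmaι W i).left) :
    ∃ t : openObj U T ⟶ W i, t ≫ sigmaι W i = openHom U T ≫ s := by
  have h1 : IsOpenImmersion (sigmaι W i).left := sigmaι_openImmersion W i
  have h2 : Set.range (T.ι ≫ s.left) ⊆ Set.range (sigmaι W i).left := by
    rintro _ ⟨x, rfl⟩
    rw [Scheme.Hom.comp_apply]
    exact hT _ x.2
  let t' : (T : Scheme.{u}) ⟶ (W i).left := IsOpenImmersion.lift (sigmaι W i).left (T.ι ≫ s.left) h2
  have ht' : t' ≫ (sigmaι W i).left = T.ι ≫ s.left := IsOpenImmersion.lift_fac _ _ _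
  have h3 : t' ≫ (W i).hom = T.ι ≫ U.hom := by
    have h4 : (sigmaι W i).left ≫ (sigmaObj W).hom = (W i).hom := Over.w (sigmaι W i).hom
    have h5 : s.left ≫ (sigmaObj W).hom = U.hom := Over.w s.hom
    rw [← h4, ← Category.assoc, ht', Category.assoc, h5]
  refine ⟨MorphismProperty.Over.homMk t' h3, ?_⟩
  apply MorphismProperty.Over.Hom.ext
  exact ht'

/-- The components of a finite disjoint union are clopen. -/
theorem isClopen_range_sigmaι {ι : Type v} [Finite ι] (W : ι → X.ProEt) (i : ι) :
    IsClopen (Set.range (sigmaι W i).left) := by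
  have (i : ι) : IsOpenImmersion (sigmaι W i).left := sigmaι_openImmersion W i
  refine ⟨?_, (sigmaι W i).left.isOpenEmbedding.isOpen_range⟩
  have h : (Set.range (sigmaι W i).left)ᶜ = ⋃ (j : ι) (_ : j ≠ i), Set.range (sigmaι W j).left := by
    ext x
    simp only [Set.mem_compl_iff, Set.mem_iUnion, exists_prop]
    constructor
    · intro hx
      obtain ⟨j, hj⟩ := sigmaι_cover W x
      exact ⟨j, fun hji => hx (hji ▸ hj), hj⟩
    · rintro ⟨j, hji, hj⟩ hx
      exact Set.disjoint_left.1 (sigmaι_disjoint W hji) hj hx
  rw [← isOpen_compl_iff, h]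
  exact isOpen_iUnion fun j => isOpen_iUnion fun _ => (sigmaι W j).left.isOpenEmbedding.isOpen_range

set_option backward.isDefEq.respectTransparency.types false in
/-- Coverings of affine weakly contractible objects are refined by finite clopen
decompositions. -/
theorem exists_clopen_of_isWC {U : X.ProEt} [IsAffine U.left] (hU : ProEtS.IsWC U)
    {R : Sieve U} (hR : R ∈ Scheme.ProEt.topology X U) :
    ∃ (n : ℕ) (W : Fin n → U.left.Opens),
        (∀ k, IsClopen ((W k : Set ↥U.left))) ∧
        Pairwise (fun k l => Disjoint (W k : Set ↥U.left) (W l)) ∧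
        (⋃ k, (W k : Set ↥U.left)) = Set.univ ∧
        ∀ k, R.arrows (openHom U (W k)) := by
  obtain ⟨n, W, g, hW, hg, hcov⟩ := exists_finite_affine hR
  have h1 : IsAffine (sigmaObj W).left := isAffine_sigmaObj W hW
  have h2 : Surjective (sigmaDesc W g).left := surjective_sigmaDesc W g hcov
  obtain ⟨s, hs⟩ := exists_section_of_isWC hU _ (generate_singleton_mem (sigmaDesc W g))
  let T : Fin n → U.left.Opens := fun i =>
    ⟨s.left ⁻¹' Set.range (sigmaι W i).left,
      (isClopen_range_sigmaι W i).isOpen.preimage s.left.continuous⟩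
  refine ⟨n, T, fun k => (isClopen_range_sigmaι W k).preimage s.left.continuous, ?_, ?_, ?_⟩
  · intro k l hkl
    exact (sigmaι_disjoint W hkl).preimage _
  · rw [Set.eq_univ_iff_forall]
    intro x
    obtain ⟨i, hi⟩ := sigmaι_cover W (s.left x)
    exact Set.mem_iUnion.2 ⟨i, hi⟩
  · intro k
    obtain ⟨t, ht⟩ := exists_lift_component W s k (T k) (fun x hx => hx)
    have h3 : openHom U (T k) = t ≫ g k := by
      rw [← sigmaι_desc W g k, ← Category.assoc, ht, Category.assoc, hs, Category.comp_id]
    rw [h3]
    exact R.downward_closed (hg k) t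

set_option backward.isDefEq.respectTransparency.types false in
/-- If every covering of an affine object is refined by a finite clopen decomposition, then
affine covers split. -/
theorem exists_section_of_clopen {U V : X.ProEt} (g : V ⟶ U)
    (h : ∃ (n : ℕ) (W : Fin n → U.left.Opens),
        (∀ k, IsClopen ((W k : Set ↥U.left))) ∧
        Pairwise (fun k l => Disjoint (W k : Set ↥U.left) (W l)) ∧
        (⋃ k, (W k : Set ↥U.left)) = Set.univ ∧
        ∀ k, (Sieve.generate (Presieve.singleton g)).arrows (openHom U (W k))) :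
    ∃ s : U ⟶ V, s ≫ g = 𝟙 U := by
  obtain ⟨n, W, -, hdisj, hcov, hW⟩ := h
  have hsub : ∀ V : X.ProEt, Presieve.IsSheaf (Scheme.ProEt.topology X) (yoneda.obj V) :=
    fun V => GrothendieckTopology.Subcanonical.isSheaf_of_isRepresentable _
  have h1 : ∀ k, IsOpenImmersion (openHom U (W k)).left := fun k =>
    inferInstanceAs (IsOpenImmersion (W k).ι)
  have h2 : ∀ x : U.left, ∃ i, x ∈ Set.range (openHom U (W i)).left := by
    intro x
    have hx : x ∈ ⋃ k, (W k : Set ↥U.left) := by rw [hcov]; trivial
    obtain ⟨i, hi⟩ := Set.mem_iUnion.1 hx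
    exact ⟨i, ⟨x, hi⟩, rfl⟩
  have h3 : Pairwise fun i j => Disjoint (Set.range (openHom U (W i)).left)
      (Set.range (openHom U (W j)).left) := by
    intro i j hij
    have e : ∀ i, Set.range (openHom U (W i)).left = (W i : Set ↥U.left) := fun i =>
      Subtype.range_coe
    rw [e, e]
    exact hdisj hij
  have h4 : ∀ k, ∃ t : openObj U (W k) ⟶ V, t ≫ g = openHom U (W k) := by
    intro k
    obtain ⟨_, t, _, ⟨⟩, ht⟩ := hW k
    exact ⟨t, ht⟩
  choose t ht using h4
  obtain ⟨s, hs⟩ := (bijective_of_disjoint (fun k => openHom U (W k)) h1 h2 h3 (hsub V)).2 t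
  refine ⟨s, ?_⟩
  apply (bijective_of_disjoint (fun k => openHom U (W k)) h1 h2 h3 (hsub U)).1
  funext k
  have h5 : openHom U (W k) ≫ s = t k := congrFun hs k
  change openHom U (W k) ≫ s ≫ g = openHom U (W k) ≫ 𝟙 U
  rw [← Category.assoc, h5, ht, Category.comp_id]

end Groth.Agent.Proet.WCClopen
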