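import Groth.Agent.Proet.EpsB0
import Groth.Agent.Proet.RpushEps
import Groth.Agent.Proet.WCClopen

/-!
# The objects ind-étale over an affine étale scheme form a basis of the small pro-étale site

`isBasis_B0 Y : IsBasis (Scheme.ProEt.topology Y) B0`.
-/

set_option autoImplicit false
universe u

open CategoryTheory CategoryTheory.Limits AlgebraicGeometry Opposite

namespace Groth.Agent.Proet.B0Basis

open PushAcyc EpsB0 WCBasic WCClopen

variable {X : Scheme.{u}}

/-- The sieve of morphisms factoring through an object of `B0`. -/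
def b0Sieve (V : X.ProEt) : Sieve V where
  arrows U g := ∃ (W : X.ProEt) (_ : B0 W) (h : U ⟶ W) (k : W ⟶ V), h ≫ k = g
  downward_closed := by
    rintro U U' g ⟨W, hW, h, k, rfl⟩ a
    exact ⟨W, hW, a ≫ h, k, Category.assoc _ _ _⟩

set_option backward.isDefEq.respectTransparency.types false in
theorem b0Sieve_mem (V : X.ProEt) : b0Sieve V ∈ Scheme.ProEt.topology X V := by
  let ι := {T : V.left.Opens // IsAffineOpen T ∧ ∃ U0 : X.Opens, IsAffineOpen U0 ∧ T ≤ V.hom ⁻¹ᵁ U0}
  have h1 : Sieve.generate (Presieve.ofArrows _ (fun i : ι => openHom V i.1)) ∈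
      Scheme.ProEt.topology X V := by
    refine ofArrows_openImmersion_mem _ (fun i => inferInstanceAs (IsOpenImmersion (i.1).ι))
      fun x => ?_
    obtain ⟨U0, hU0, hxU0, -⟩ := exists_isAffineOpen_mem_and_subset (x := V.hom x) (U := ⊤) trivial
    obtain ⟨T, hT, hxT, hle⟩ := exists_isAffineOpen_mem_and_subset (x := x)
      (U := V.hom ⁻¹ᵁ U0) hxU0
    exact ⟨⟨T, hT, U0, hU0, hle⟩, ⟨x, hxT⟩, rfl⟩
  refine (Scheme.ProEt.topology X).transitive h1 _ ?_
  intro U f hf
  obtain ⟨Z, k, m, hm, rfl⟩ := hf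
  obtain ⟨i⟩ := hm
  rw [Sieve.pullback_comp]
  apply (Scheme.ProEt.topology _).pullback_stable
  obtain ⟨T, hT, U0, hU0, hle⟩ := i
  let V0 : X.Etale := Scheme.Etale.mk U0.ι
  let p : (T : Scheme.{u}) ⟶ X := T.ι ≫ V.hom
  have hr : Set.range p ⊆ Set.range U0.ι := by
    rintro _ ⟨x, rfl⟩
    rw [Scheme.Opens.range_ι]
    exact hle x.2
  let l : (T : Scheme.{u}) ⟶ (U0 : Scheme.{u}) := IsOpenImmersion.lift U0.ι p hr
  have hl : l ≫ U0.ι = p := IsOpenImmersion.lift_fac _ _ _
  let v : openObj V T ⟶ (ProEtS.eps X).obj V0 := MorphismProperty.Over.homMk l hl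
  obtain ⟨W, w, hw, hs, hv⟩ := exists_indEt_cover v hT hU0
  have hq : QuasiCompact w.left := by
    have := hw.1
    have : IsAffine (openObj V T).left := hT
    infer_instance
  refine (Scheme.ProEt.topology _).superset_covering ?_ (generate_singleton_mem w)
  rw [Sieve.generate_le_iff]
  rintro _ _ ⟨⟩
  exact ⟨W, ⟨V0, w ≫ v, hv⟩, 𝟙 _, w ≫ openHom V T, by simp⟩

/-- The objects of `B0` form a basis. -/
theorem isBasis_B0 (X : Scheme.{u}) : IsBasis (Scheme.ProEt.topology X) (B0 (X := X)) :=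
  fun V => ⟨b0Sieve V, b0Sieve_mem V, fun _ _ hg => hg⟩

end Groth.Agent.Proet.B0Basis
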