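import Groth.Agent.Ega43.LimBC

/-!
# Base change of a cofiltered limit of schemes along a fixed morphism to a stage

* `exists_range_subset`: `Q ⟶ D j`, `Q` quasi-compact; if `Q ×_{D j} lim D ⟶ Q` lands in an open `O`, then so does
  `Q ×_{D j} D k ⟶ Q` for some `k`.
* `exists_factor_bc`: morphisms from `Q ×_{D j} lim D` to a scheme locally of finite presentation factor
  through a stage.
-/

set_option autoImplicit false
universe u

open CategoryTheory AlgebraicGeometry Limits

namespace Groth.Agent.Proet.BCLim229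

open Ega43.LimBC

variable {I : Type u} [SmallCategory I] [IsCofiltered I] (D : I ⥤ Scheme.{u})
  (c : Cone D) (hc : IsLimit c) {j : I} {Q : Scheme.{u}} (q : Q ⟶ D.obj j)

/-- first projection -/
noncomputable def pf (k : Over j) : (bcDiagram D j q).obj k ⟶ Q := pullback.fst q (D.map k.hom)

/-- second projection -/
noncomputable def ps (k : Over j) : (bcDiagram D j q).obj k ⟶ D.obj k.left :=
  pullback.snd q (D.map k.hom)

omit [IsCofiltered I] in
theorem isPullback_pf (k : Over j) :
    IsPullback (pf D q k) (ps D q k) q (D.map k.hom) := .of_hasPullback _ _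

/-- first projection of the limit -/
noncomputable def cf : (bcCone D c j q).pt ⟶ Q := pullback.fst q (c.π.app j)

/-- second projection of the limit -/
noncomputable def cs : (bcCone D c j q).pt ⟶ c.pt := pullback.snd q (c.π.app j)

/-- projection of the limit -/
noncomputable def cp (k : Over j) : (bcCone D c j q).pt ⟶ (bcDiagram D j q).obj k :=
  (bcCone D c j q).π.app k

omit [IsCofiltered I] in
theorem isPullback_cf : IsPullback (cf D c q) (cs D c q) q (c.π.app j) := .of_hasPullback _ _

omit [IsCofiltered I] in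
theorem map_pf {k l : Over j} (φ : k ⟶ l) : (bcDiagram D j q).map φ ≫ pf D q l = pf D q k :=
  pullback.lift_fst _ _ _

omit [IsCofiltered I] in
theorem cp_pf (k : Over j) : cp D c q k ≫ pf D q k = cf D c q := pullback.lift_fst _ _ _

omit [IsCofiltered I] in
theorem cp_ps (k : Over j) : cp D c q k ≫ ps D q k = cs D c q ≫ c.π.app k.left :=
  pullback.lift_snd _ _ _

variable [∀ {i j : I} (f : i ⟶ j), IsAffineHom (D.map f)]

omit [IsCofiltered I] in
theorem isAffineHom_pf (k : Over j) : IsAffineHom (pf D q k) := by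
  have h0 : IsAffineHom (D.map (show k.left ⟶ j from k.hom)) := inferInstance
  exact MorphismProperty.of_isPullback (isPullback_pf D q k).flip h0

omit [IsCofiltered I] in
theorem compactSpace_bc [CompactSpace Q] (k : Over j) :
    CompactSpace ((bcDiagram D j q).obj k) := by
  have h := isAffineHom_pf D q k
  exact QuasiCompact.compactSpace_of_compactSpace (pf D q k)

omit [IsCofiltered I] in
theorem quasiSeparatedSpace_bc [QuasiSeparatedSpace Q] (k : Over j) :
    QuasiSeparatedSpace ((bcDiagram D j q).obj k) := by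
  have h := isAffineHom_pf D q k
  exact quasiSeparatedSpace_of_quasiSeparated (pf D q k)

omit [IsCofiltered I] in
theorem isAffineHom_map_bc {k l : Over j} (φ : k ⟶ l) :
    IsAffineHom ((bcDiagram D j q).map φ) := by
  have h0 : IsAffineHom (D.map φ.left) := inferInstance
  exact MorphismProperty.of_isPullback (P := @IsAffineHom) (isPullback_map D j q φ).flip h0

include hc in
/-- If `Q ×_{D j} lim D ⟶ Q` lands in `O`, then so does `Q ×_{D j} D k ⟶ Q` for some `k`. -/
theorem exists_range_subset [CompactSpace Q]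
    (O : Q.Opens) {P : Scheme.{u}} {a : P ⟶ Q} {b : P ⟶ c.pt}
    (sq : IsPullback a b q (c.π.app j)) (h : Set.range a ⊆ (O : Set Q)) :
    ∃ (k : I) (t : k ⟶ j), ∀ {P' : Scheme.{u}} {a' : P' ⟶ Q} {b' : P' ⟶ D.obj k},
      a' ≫ q = b' ≫ D.map t → Set.range a' ⊆ (O : Set Q) := by
  have h1 (k : Over j) : CompactSpace ((bcDiagram D j q).obj k) := compactSpace_bc D q k
  have h2 {k l : Over j} (φ : k ⟶ l) : IsAffineHom ((bcDiagram D j q).map φ) :=
    isAffineHom_map_bc D q φ
  let U : ((bcDiagram D j q).obj (Over.mk (𝟙 j))).Opens := pf D q (Over.mk (𝟙 j)) ⁻¹ᵁ O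
  have hU : (bcCone D c j q).π.app (Over.mk (𝟙 j)) ⁻¹ᵁ U = ⊤ := by
    rw [eq_top_iff]
    intro x _
    have e1 := cp_pf D c q (Over.mk (𝟙 j))
    have e2 : cf D c q x ∈ (O : Set Q) := by
      apply h
      refine ⟨sq.lift (cf D c q) (cs D c q) (isPullback_cf D c q).w x, ?_⟩
      rw [← Scheme.Hom.comp_apply, sq.lift_fst]
    rw [← e1] at e2
    exact e2
  obtain ⟨k, φ, hφ⟩ := exists_map_eq_top (bcDiagram D j q) _ (isLimitBcCone D c j q hc) U hU
  refine ⟨k.left, k.hom, ?_⟩
  rintro P' a' b' hab _ ⟨x, rfl⟩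
  let l : P' ⟶ (bcDiagram D j q).obj k := (isPullback_pf D q k).lift a' b' hab
  have e3 : l x ∈ (bcDiagram D j q).map φ ⁻¹ᵁ U := by
    rw [hφ]; trivial
  have e5 : (l ≫ (bcDiagram D j q).map φ ≫ pf D q (Over.mk (𝟙 j))) x ∈ O := e3
  rw [map_pf, (isPullback_pf D q k).lift_fst] at e5
  exact e5

include hc in
/-- Morphisms from `Q ×_{D j} lim D` to a scheme locally of finite presentation factor through a
stage. -/
theorem exists_factor_bc [CompactSpace Q] [QuasiSeparatedSpace Q]
    {S U : Scheme.{u}} (x : Q ⟶ S) (f : U ⟶ S) [LocallyOfFinitePresentation f]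
    {P : Scheme.{u}} {a : P ⟶ Q} {b : P ⟶ c.pt} (sq : IsPullback a b q (c.π.app j))
    (m : P ⟶ U) (hm : m ≫ f = a ≫ x) :
    ∃ (k : I) (t : k ⟶ j), ∀ {P' : Scheme.{u}} {a' : P' ⟶ Q} {b' : P' ⟶ D.obj k}
      (_ : IsPullback a' b' q (D.map t)), ∃ n : P' ⟶ U, n ≫ f = a' ≫ x ∧
        ∀ (r : P ⟶ P'), r ≫ a' = a → r ≫ b' = b ≫ c.π.app k → r ≫ n = m := by
  have h1 (k : Over j) : CompactSpace ((bcDiagram D j q).obj k) := compactSpace_bc D q k
  have h2 (k : Over j) : QuasiSeparatedSpace ((bcDiagram D j q).obj k) :=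
    quasiSeparatedSpace_bc D q k
  have h3 {k l : Over j} (φ : k ⟶ l) : IsAffineHom ((bcDiagram D j q).map φ) :=
    isAffineHom_map_bc D q φ
  let t : bcDiagram D j q ⟶ (Functor.const (Over j)).obj S :=
    { app := fun k => pf D q k ≫ x
      naturality := fun k l φ => by
        have e : (bcDiagram D j q).map φ ≫ pf D q l ≫ x = pf D q k ≫ x := by
          rw [← Category.assoc, map_pf]
        exact e.trans (Category.comp_id _).symm }
  let s : (bcCone D c j q).pt ⟶ P := sq.lift (cf D c q) (cs D c q) (isPullback_cf D c q).w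
  let s' : P ⟶ (bcCone D c j q).pt := (isPullback_cf D c q).lift a b sq.w
  have hs's : s' ≫ s = 𝟙 P := by
    apply sq.hom_ext
    · rw [Category.assoc, sq.lift_fst, (isPullback_cf D c q).lift_fst, Category.id_comp]
    · rw [Category.assoc, sq.lift_snd, (isPullback_cf D c q).lift_snd, Category.id_comp]
  obtain ⟨k, g, hg1, hg2⟩ := Scheme.exists_π_app_comp_eq_of_locallyOfFinitePresentation
    (bcDiagram D j q) t f _ (isLimitBcCone D c j q hc) (s ≫ m) (by
      ext k : 2
      have e1 : cp D c q k ≫ pf D q k ≫ x = (s ≫ m) ≫ f := by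
        rw [← Category.assoc, cp_pf, Category.assoc, hm, ← Category.assoc, sq.lift_fst]
      exact e1)
  have hg1' : cp D c q k ≫ g = s ≫ m := hg1
  have hg2' : g ≫ f = pf D q k ≫ x := hg2
  refine ⟨k.left, k.hom, ?_⟩
  intro P' a' b' sq'
  let l : P' ⟶ (bcDiagram D j q).obj k := (isPullback_pf D q k).lift a' b' sq'.w
  refine ⟨l ≫ g, ?_, ?_⟩
  · rw [Category.assoc, hg2', ← Category.assoc, (isPullback_pf D q k).lift_fst]
  · intro r hr1 hr2
    have e3 : r ≫ l = s' ≫ cp D c q k := by
      apply (isPullback_pf D q k).hom_ext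
      · rw [Category.assoc, Category.assoc, (isPullback_pf D q k).lift_fst, cp_pf, hr1,
          (isPullback_cf D c q).lift_fst]
      · rw [Category.assoc, Category.assoc, (isPullback_pf D q k).lift_snd, cp_ps, hr2,
          ← Category.assoc, (isPullback_cf D c q).lift_snd]
    rw [← Category.assoc, e3, Category.assoc, hg1', ← Category.assoc, hs's, Category.id_comp]

end Groth.Agent.Proet.BCLim229
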