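import Groth.Agent.Proet.EpsB0
import Mathlib.AlgebraicGeometry.Morphisms.Descent

/-!
# Acyclicity on quasi-compact quasi-separated objects of the pro-étale site

* `IndAff t` for `t : T ⟶ eps T0`: the base change of `t` to every affine étale `A ⟶ T0` is ind-étale.
* `CechOK P t`: for `u : W0 ⟶ B` over `T0`, `W0` affine, `B` qcqs, the Čech complex of `P` along
  `T ×_{T0} W0 ⟶ T ×_{T0} B` is exact in positive degrees.
* `exists_nerve_base`: the terms of the Čech nerve of a base change `w` of `eps u` along `t` are base changes of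
  étale schemes.
* `indAff_bcP`: base changes `V ×_Y X ⟶ V0 ×_Y X` of ind-étale `V ⟶ eps V0` satisfy `IndAff`.
* `acy`: if `P` is acyclic on `B0`, then `P` is acyclic on `T` for `T ⟶ eps T0` with `IndAff` and `CechOK`
  and `T0` qcqs.
-/

set_option autoImplicit false
universe u

open CategoryTheory CategoryTheory.Limits AlgebraicGeometry Opposite CategoryTheory.Abelian Simplicial

namespace Groth.Agent.Proet.QcqsAcyc

open ZU CechEl CechAcyclic EpsB0 WCBasic

set_option backward.isDefEq.respectTransparency.types false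

variable {X : Scheme.{u}}

/-- base changes of `t` to affine étale schemes over `T0` are ind-étale -/
def IndAff {T : X.ProEt} {T0 : X.Etale} (t : T ⟶ (ProEtS.eps X).obj T0) : Prop :=
  ∀ (A : X.Etale) (a : A ⟶ T0) (P : X.ProEt) (p : P ⟶ T) (q : P ⟶ (ProEtS.eps X).obj A),
    IsAffine A.left → IsPullback p q t ((ProEtS.eps X).map a) → IndEt q

theorem IndAff.baseChange {T : X.ProEt} {T0 : X.Etale} {t : T ⟶ (ProEtS.eps X).obj T0}
    (ht : IndAff t) {B : X.Etale} {b : B ⟶ T0} {S : X.ProEt} {s : S ⟶ T}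
    {q : S ⟶ (ProEtS.eps X).obj B} (h : IsPullback s q t ((ProEtS.eps X).map b)) : IndAff q := by
  intro A a P p' q' hA hP
  refine ht A (a ≫ b) P (p' ≫ s) q' hA ?_
  rw [Functor.map_comp]
  exact hP.paste_horiz h

/-- Čech exactness for all étale base changes. -/
def CechOK (P : ProEtS.AbP X) {T : X.ProEt} {T0 : X.Etale} (t : T ⟶ (ProEtS.eps X).obj T0) : Prop :=
  ∀ (B : X.Etale) (b : B ⟶ T0) (S : X.ProEt) (s : S ⟶ T) (q : S ⟶ (ProEtS.eps X).obj B),
    CompactSpace B.left → QuasiSeparatedSpace B.left → IsPullback s q t ((ProEtS.eps X).map b) →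
    ∀ (W0 : X.Etale) (u : W0 ⟶ B) (W : X.ProEt) (w : W ⟶ S) (w0 : W ⟶ (ProEtS.eps X).obj W0),
      IsAffine W0.left → IsPullback w w0 q ((ProEtS.eps X).map u) → CechExact (nerve w) P.obj

theorem CechOK.baseChange {P : ProEtS.AbP X} {T : X.ProEt} {T0 : X.Etale}
    {t : T ⟶ (ProEtS.eps X).obj T0} (ht : CechOK P t) {B : X.Etale} {b : B ⟶ T0} {S : X.ProEt}
    {s : S ⟶ T} {q : S ⟶ (ProEtS.eps X).obj B} (h : IsPullback s q t ((ProEtS.eps X).map b)) :
    CechOK P q := by
  intro B' b' S' s' q' h1 h2 hP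
  refine ht B' (b' ≫ b) S' (s' ≫ s) q' h1 h2 ?_
  rw [Functor.map_comp]
  exact hP.paste_horiz h

/-- The terms of the Čech nerve of a base change of an étale map. -/
theorem exists_nerve_base (Φ : X.Etale → Prop) {T0 W0 : X.Etale} (u : W0 ⟶ T0) {T W : X.ProEt}
    (t : T ⟶ (ProEtS.eps X).obj T0) (w : W ⟶ T) (w0 : W ⟶ (ProEtS.eps X).obj W0)
    (h : IsPullback w w0 t ((ProEtS.eps X).map u)) (h0 : Φ W0)
    (hS : ∀ (B : X.Etale) (b : B ⟶ T0), Φ B → Φ (pullback b u)) (n : ℕ) :
    ∃ (B : X.Etale) (b : B ⟶ T0) (q : (nerve w) _⦋n⦌ ⟶ (ProEtS.eps X).obj B),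
      Φ B ∧ IsPullback (nbase w n) q t ((ProEtS.eps X).map b) := by
  have := Cont.preservesFiniteLimits_eps X
  induction n with
  | zero =>
    refine ⟨W0, u, nπ w 0 0 ≫ w0, h0, ?_⟩
    have h1 := (isPullback_nerve_zero w).paste_vert h
    rwa [Category.id_comp] at h1
  | succ n ih =>
    obtain ⟨B, b, q, hB, hq⟩ := ih
    have h1 : IsPullback ((nerve w).δ (Fin.last (n + 1))) (nπ w (n + 1) (Fin.last (n + 1)) ≫ w0)
        (nbase w n ≫ t) ((ProEtS.eps X).map u) := (isPullback_nerve w n).paste_vert h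
    rw [hq.w] at h1
    have h2 : IsPullback ((ProEtS.eps X).map (pullback.fst b u)) ((ProEtS.eps X).map (pullback.snd b u))
        ((ProEtS.eps X).map b) ((ProEtS.eps X).map u) := (IsPullback.of_hasPullback b u).map _
    let q' := h2.lift ((nerve w).δ (Fin.last (n + 1)) ≫ q)
      (nπ w (n + 1) (Fin.last (n + 1)) ≫ w0) (by rw [Category.assoc]; exact h1.w)
    have h3 : IsPullback ((nerve w).δ (Fin.last (n + 1))) q' q
        ((ProEtS.eps X).map (pullback.fst b u)) := by
      refine IsPullback.of_bot ?_ (h2.lift_fst _ _ _).symm h2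
      have e : q' ≫ (ProEtS.eps X).map (pullback.snd b u) =
        nπ w (n + 1) (Fin.last (n + 1)) ≫ w0 := h2.lift_snd _ _ _
      rw [e]
      exact h1
    refine ⟨pullback b u, pullback.fst b u ≫ b, q', hS B b hB, ?_⟩
    have h4 := h3.paste_horiz hq
    rwa [nδ_base, ← Functor.map_comp] at h4

section Geometry

/-- pullback squares in the small étale site are pullback squares of schemes -/
theorem isPullback_left_et {P V W U : X.Etale} {p : P ⟶ V} {q : P ⟶ W} {f : V ⟶ U} {g : W ⟶ U}
    (h : IsPullback p q f g) : IsPullback p.left q.left f.left g.left :=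
  h.map (Scheme.Etale.forget X ⋙ Over.forget X)

/-- A quasi-compact étale scheme is covered by an affine étale scheme. -/
theorem exists_affine_cover (T0 : X.Etale) [CompactSpace T0.left] :
    ∃ (W0 : X.Etale) (u : W0 ⟶ T0), IsAffine W0.left ∧ Surjective u.left := by
  obtain ⟨Y, p, hp, hp', hY⟩ :=
    Scheme.exists_hom_isAffine_of_isZariskiLocalAtSource (P := @Etale) T0.left
  have : Etale p := hp'
  let W0 : X.Etale := Scheme.Etale.mk (p ≫ T0.hom)
  exact ⟨W0, MorphismProperty.Over.homMk p rfl, hY, hp⟩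

theorem isAffineHom_of_isSeparated {Y Z : Scheme.{u}} (f : Y ⟶ Z) [IsAffine Y] [Z.IsSeparated] :
    IsAffineHom f := by
  have : IsAffineHom (f ≫ terminal.from Z) := by
    rw [terminal.comp_from]
    infer_instance
  exact IsAffineHom.of_comp f (terminal.from Z)

/-- fibre products of affine schemes over a separated scheme are affine -/
theorem isAffine_pullback {T0 W0 B : X.Etale} (u : W0 ⟶ T0) (b : B ⟶ T0) (hT : T0.left.IsSeparated)
    (hW : IsAffine W0.left) (hB : IsAffine B.left) : IsAffine (pullback b u).left := by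
  have h := isPullback_left_et (IsPullback.of_hasPullback b u)
  have := isAffineHom_of_isSeparated u.left
  have : IsAffineHom (pullback.fst b u).left := MorphismProperty.of_isPullback h.flip this
  exact isAffine_of_isAffineHom (pullback.fst b u).left

/-- fibre products of compact separated schemes over a quasi-separated scheme -/
theorem isSeparated_pullback {T0 W0 B : X.Etale} (u : W0 ⟶ T0) (b : B ⟶ T0)
    (hT : QuasiSeparatedSpace T0.left)
    (hW : IsAffine W0.left) (hB : CompactSpace B.left ∧ B.left.IsSeparated) :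
    CompactSpace (pullback b u).left ∧ (pullback b u).left.IsSeparated := by
  have h := isPullback_left_et (IsPullback.of_hasPullback b u)
  obtain ⟨h1, h2⟩ := hB
  have h3 : QuasiCompact u.left := inferInstance
  have h4 : IsSeparated u.left := inferInstance
  have h5 : QuasiCompact (pullback.fst b u).left := MorphismProperty.of_isPullback h.flip h3
  have h6 : IsSeparated (pullback.fst b u).left := MorphismProperty.of_isPullback h.flip h4
  refine ⟨QuasiCompact.compactSpace_of_compactSpace (pullback.fst b u).left, ⟨?_⟩⟩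
  rw [← terminal.comp_from (pullback.fst b u).left]
  infer_instance

end Geometry

/-- Base change of an ind-étale map over an affine étale scheme along an arbitrary morphism. -/
theorem indAff_bcP {Y : Scheme.{u}} (f : X ⟶ Y) {V : Y.ProEt} {V0 : Y.Etale}
    (g : V ⟶ (ProEtS.eps Y).obj V0) (hg : IndEt g) :
    IndAff (T0 := (EtCoh.bc f).obj V0) ((ProEtS.bcP f).map g) := by
  intro A a P p q hA hP
  have h1 := EpsB0.isPullback_left hP
  have h2 := Cont.isPullback_bcP_map f g
  have hA' : IsAffine ((ProEtS.eps X).obj A).left := hA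
  have hV := hg.1
  have hV0 := hg.2.1
  obtain ⟨r, k, h3⟩ : ∃ (r : P.left ⟶ V.left)
      (k : ((ProEtS.eps X).obj A).left ⟶ ((ProEtS.eps Y).obj V0).left),
      IsPullback (X := ((ProEtS.eps X).obj A).left) (Y := V.left) q.left r k g.left :=
    ⟨_, _, h1.flip.paste_vert h2⟩
  refine ⟨.of_isPullback h3.flip, hA, ?_⟩
  exact indEtHom_of_isPushout (isPushout_appTop_of_isPullback h3.flip) hg.2.2

section Main

variable (P : ProEtS.AbP X)

/-- `P` is acyclic on `T`. -/
def Acy (T : X.ProEt) : Prop :=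
  ∀ (q : ℕ) (x : Ext.{u + 1} ((zF.{u + 1} (Scheme.ProEt.topology X)).obj T) P (q + 1)), x = 0

variable {P}

/-- Čech descent of acyclicity along an affine étale cover of `T0`. -/
theorem acy_of_cover (Φ : X.Etale → Prop)
    (hΦ : ∀ (T : X.ProEt) (T0 : X.Etale) (t : T ⟶ (ProEtS.eps X).obj T0), Φ T0 → IndAff t →
      CechOK P t → Acy P T)
    {T0 W0 : X.Etale} (u : W0 ⟶ T0) (hW0 : IsAffine W0.left) (hu : Surjective u.left)
    (hT0 : CompactSpace T0.left) (hT0' : QuasiSeparatedSpace T0.left) (h0 : Φ W0)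
    (hS : ∀ (B : X.Etale) (b : B ⟶ T0), Φ B → Φ (pullback b u)) {T : X.ProEt}
    (t : T ⟶ (ProEtS.eps X).obj T0) (ht : IndAff t) (hc : CechOK P t) : Acy P T := by
  let W : X.ProEt := pullback t ((ProEtS.eps X).map u)
  let w : W ⟶ T := pullback.fst _ _
  let w0 : W ⟶ (ProEtS.eps X).obj W0 := pullback.snd _ _
  have h : IsPullback w w0 t ((ProEtS.eps X).map u) := IsPullback.of_hasPullback _ _
  have hl := EpsB0.isPullback_left h
  have hu' : Surjective ((ProEtS.eps X).map u).left := hu
  have hq : QuasiCompact ((ProEtS.eps X).map u).left :=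
    inferInstanceAs (QuasiCompact u.left)
  have hw : Surjective w.left := MorphismProperty.of_isPullback hl.flip hu'
  have hwq : QuasiCompact w.left := MorphismProperty.of_isPullback hl.flip hq
  refine fun q x => ext_eq_zero_of_nerve w (WCBasic.generate_singleton_mem w) P ?_ ?_ q x
  · intro n q' x'
    obtain ⟨B, b, r, hB, hr⟩ := exists_nerve_base Φ u t w w0 h h0 hS n
    exact hΦ _ B r hB (ht.baseChange hr) (hc.baseChange hr) q' x'
  · exact hc T0 (𝟙 T0) T (𝟙 T) t hT0 hT0' (by
      rw [CategoryTheory.Functor.map_id]; exact IsPullback.of_horiz_isIso ⟨by simp⟩) W0 u W w w0 hW0 h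

/-- If `P` is acyclic on `B0`, it is acyclic on all `T ⟶ eps T0` with `IndAff`, `CechOK`, `T0` qcqs. -/
theorem acy (hP : ∀ V : X.ProEt, B0 V → Acy P V) {T : X.ProEt} {T0 : X.Etale}
    (t : T ⟶ (ProEtS.eps X).obj T0) (hT0 : CompactSpace T0.left)
    (hT0' : QuasiSeparatedSpace T0.left) (ht : IndAff t) (hc : CechOK P t) : Acy P T := by
  -- affine `T0`
  have h1 : ∀ (T : X.ProEt) (T0 : X.Etale) (t : T ⟶ (ProEtS.eps X).obj T0), IsAffine T0.left →
      IndAff t → CechOK P t → Acy P T := by
    intro T T0 t hT ht _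
    refine hP T ⟨T0, t, ht T0 (𝟙 T0) T (𝟙 T) t hT ?_⟩
    rw [CategoryTheory.Functor.map_id]
    exact IsPullback.of_horiz_isIso ⟨by simp⟩
  -- separated `T0`
  have h2 : ∀ (T : X.ProEt) (T0 : X.Etale) (t : T ⟶ (ProEtS.eps X).obj T0),
      (CompactSpace T0.left ∧ T0.left.IsSeparated) → IndAff t → CechOK P t → Acy P T := by
    intro T T0 t hT ht hc
    have := hT.1
    have := hT.2
    obtain ⟨W0, u, hW0, hu⟩ := exists_affine_cover T0
    exact acy_of_cover (fun B => IsAffine B.left) h1 u hW0 hu hT.1 inferInstance hW0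
      (fun B b hB => isAffine_pullback u b hT.2 hW0 hB) t ht hc
  obtain ⟨W0, u, hW0, hu⟩ := exists_affine_cover T0
  exact acy_of_cover (fun B => CompactSpace B.left ∧ B.left.IsSeparated) h2 u hW0 hu hT0 hT0'
    ⟨inferInstance, inferInstance⟩ (fun B b hB => isSeparated_pullback u b hT0' hW0 hB) t ht hc

end Main

end Groth.Agent.Proet.QcqsAcyc
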