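import Groth.Agent.Proet.EpsPres
import Groth.Agent.Proet.QcqsAcyc

/-!
# Base change of small pro-étale sites preserves connected limits of schemes
-/

set_option autoImplicit false
universe u

open CategoryTheory CategoryTheory.Limits AlgebraicGeometry Opposite CategoryTheory.Abelian Simplicial

namespace Groth.Agent.Proet.BcPLim

set_option backward.isDefEq.respectTransparency.types false

variable {X Y : Scheme.{u}} (f : X ⟶ Y)

/-- `bcP f ⋙ forget ≅ forget ⋙ Over.pullback f`. -/
noncomputable def bcPForgetIso :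
    ProEtS.bcP f ⋙ Scheme.ProEt.forget X ≅ Scheme.ProEt.forget Y ⋙ Over.pullback f :=
  MorphismProperty.Over.pullbackCompForgetIso (P := @WeaklyEtale) (Q := ⊤) f

/-- `bcP f` preserves connected limits of schemes. -/
theorem isLimit_forget_bcP {J : Type u} [SmallCategory J] [IsConnected J] {E : J ⥤ Y.ProEt}
    (c : Cone E) (h : IsLimit ((Scheme.ProEt.forget Y ⋙ Over.forget Y).mapCone c)) :
    Nonempty (IsLimit ((Scheme.ProEt.forget X).mapCone ((ProEtS.bcP f).mapCone c))) := by
  have h1 : IsLimit ((Scheme.ProEt.forget Y).mapCone c) := isLimitOfReflects (Over.forget Y) h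
  have h2 : IsLimit ((Over.pullback f).mapCone ((Scheme.ProEt.forget Y).mapCone c)) := by
    have : PreservesLimitsOfShape J (Over.pullback f) :=
      ((Over.mapPullbackAdj f).rightAdjoint_preservesLimits).1
    exact isLimitOfPreserves _ h1
  exact ⟨IsLimit.mapConeEquiv (bcPForgetIso f).symm h2⟩

theorem isLimit_bcP {J : Type u} [SmallCategory J] [IsConnected J] {E : J ⥤ Y.ProEt}
    (c : Cone E) (h : IsLimit ((Scheme.ProEt.forget Y ⋙ Over.forget Y).mapCone c)) :
    Nonempty (IsLimit ((ProEtS.bcP f).mapCone c)) ∧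
      Nonempty (IsLimit ((Scheme.ProEt.forget X ⋙ Over.forget X).mapCone
        ((ProEtS.bcP f).mapCone c))) := by
  obtain ⟨h1⟩ := isLimit_forget_bcP f c h
  exact ⟨⟨isLimitOfReflects (Scheme.ProEt.forget X) h1⟩, ⟨isLimitOfPreserves (Over.forget X) h1⟩⟩

end Groth.Agent.Proet.BcPLim
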