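import Groth.Agent.Proet.EpsProLim
import Groth.Agent.Proet.RpushEps
import Groth.Agent.Proet.BcPLim

/-!
# Sections of `eps⁻¹ F` over base changes of objects of `B0`

For `f : X ⟶ Y` quasi-compact quasi-separated and `V` in `B0` of `Y`: `repSurj`, `bcSurj`, `bcInj`.
-/

set_option autoImplicit false
set_option linter.unusedSectionVars false
universe u

open CategoryTheory CategoryTheory.Limits AlgebraicGeometry Opposite Simplicial

namespace Groth.Agent.Proet.BCSec

open EpsPre EpsLim CechLim CechEt CechEl CechAcyclic EtStep BZero CovRef NerveLim EpsSec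
  EpsUnit IndPres EpsProLim RpushEps

variable {X Y : Scheme.{u}}

/-- Comparison of the two versions of `B0`. -/
theorem b0_of_b0 {V : X.ProEt} (h : EpsB0.B0 V) : B0 V := by
  obtain ⟨V₀, g, h1, h2, h3⟩ := h
  exact ⟨(ProEtS.eps X).obj V₀, g, V₀.prop, h1, h2, (indEtMP_iff _).2 h3⟩

section

variable (f : X ⟶ Y) [QuasiCompact f] [QuasiSeparated f]

set_option backward.isDefEq.respectTransparency.types false in
theorem isProLim_bcP {K : Type u} [SmallCategory K] [IsCofiltered K] {D : K ⥤ Y.ProEt}
    {c : Cone D} (h : IsProLim D c) : IsProLim (D ⋙ ProEtS.bcP f) ((ProEtS.bcP f).mapCone c) where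
  lim := by
    have : IsConnected K := IsCofiltered.isConnected K
    exact BcPLim.isLimit_forget_bcP f c (isLimitOfPreserves (Over.forget Y) h.lim.some)
  aff g := MorphismProperty.of_isPullback (P := @IsAffineHom)
    (Cont.isPullback_bcP_map f (D.map g)).flip (h.aff g)
  qc k := by
    have h1 := h.qc k
    have h2 : QuasiCompact (pullback.fst (D.obj k).hom f) := inferInstance
    exact compactSpace_of (pullback.fst (D.obj k).hom f) h2 h1
  qs k := by
    have h1 := h.qs k
    have h2 : QuasiSeparated (pullback.fst (D.obj k).hom f) := inferInstance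
    exact quasiSeparatedSpace_of (pullback.fst (D.obj k).hom f) h2 h1

theorem alpha_naturality (P : X.Etaleᵒᵖ ⥤ AddCommGrpCat.{u + 1}) {U V : X.Etale} (h : V ⟶ U)
    (s : P.obj (op U)) :
    (LanElem.α (ProEtS.eps X) P).app (op V) (P.map h.op s) =
      (Gp P).map ((ProEtS.eps X).map h).op ((LanElem.α (ProEtS.eps X) P).app (op U) s) :=
  ConcreteCategory.congr_hom ((LanElem.α (ProEtS.eps X) P).naturality h.op) s

variable [ProEtS.EpsCont X]

theorem un_eq (F : EtCoh.Ab X) (U : X.Etale) (s : F.obj.obj (op U)) :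
    un F U s = (tau F).app (op ((ProEtS.eps X).obj U))
      ((LanElem.α (ProEtS.eps X) F.obj).app (op U) s) := unit_apply F U s

theorem repSurj {V : X.ProEt} (hV : B0 V) : RepSurj V := by
  intro F y
  obtain ⟨y', rfl⟩ := tau_surjective F hV y
  obtain ⟨U, g, s, rfl⟩ := exists_rep F.obj y'
  refine ⟨U, g, s, ?_⟩
  rw [un_eq, ← tau_naturality]
  rfl

variable [ProEtS.EpsCont Y] [ProEtS.PCont f]

set_option backward.isDefEq.respectTransparency.types false in
theorem etale_bcP (V : Y.ProEt) (hV : Etale V.hom) : Etale ((ProEtS.bcP f).obj V).hom := by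
  have : Etale (pullback.snd V.hom f) := inferInstance
  exact this

set_option backward.isDefEq.respectTransparency.types false in
theorem bcSurj {V : Y.ProEt} (hV : B0 V) : BCSurj f V := by
  intro F y
  obtain ⟨K, _, _, D, π, h, hA, hE⟩ := hV.exists_limit
  have hb := isProLim_bcP f h
  obtain ⟨y', rfl⟩ := tau_surjective_of_proLim F hb (fun k => etale_bcP f _ (hE k)) y
  obtain ⟨k, z, rfl⟩ := hb.exists_section F.obj y'
  have := hE k
  let U : Y.Etale := Scheme.Etale.mk (D.obj k).hom
  let z' : (Gp F.obj).obj (op ((ProEtS.eps X).obj ((EtCoh.bc f).obj U))) := z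
  obtain ⟨s, hs⟩ := (alpha_bijective F.obj ((EtCoh.bc f).obj U)).2 z'
  refine ⟨U, π.app k, s, ?_⟩
  rw [un_eq, hs]
  exact (tau_naturality F ((ProEtS.bcP f).map (π.app k)) z).symm

set_option backward.isDefEq.respectTransparency.types false in
theorem bcInj {V : Y.ProEt} (hV : B0 V) : BCInj f V := by
  intro F W g s h0
  obtain ⟨K, _, _, D, π, h, hA, hE⟩ := hV.exists_limit
  have hb := isProLim_bcP f h
  obtain ⟨k, g₁, rfl⟩ := h.exists_hom g
  let a : (Gp F.obj).obj (op ((ProEtS.bcP f).obj ((ProEtS.eps Y).obj W))) :=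
    (LanElem.α (ProEtS.eps X) F.obj).app (op ((EtCoh.bc f).obj W)) s
  have ha : (tau F).app (op ((ProEtS.bcP f).obj ((ProEtS.eps Y).obj W))) a =
    un F ((EtCoh.bc f).obj W) s := (un_eq F _ s).symm
  let z : (Gp F.obj).obj (op ((ProEtS.bcP f).obj (D.obj k))) :=
    (Gp F.obj).map ((ProEtS.bcP f).map g₁).op a
  have hz : (Gp F.obj).map ((ProEtS.bcP f).map (π.app k)).op z = 0 := by
    apply tau_injective F
    rw [map_zero]
    change (tau F).app _ ((Gp F.obj).map ((ProEtS.bcP f).map (π.app k)).op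
      ((Gp F.obj).map ((ProEtS.bcP f).map g₁).op a)) = 0
    rw [map_map, ← Functor.map_comp, tau_naturality, ha]
    exact h0
  obtain ⟨k', b, hb'⟩ := hb.exists_section_eq_zero F.obj z hz
  have := hE k'
  let W' : Y.Etale := Scheme.Etale.mk (D.obj k').hom
  obtain ⟨j, hj⟩ := exists_preimage (U := W') (V := W) (D.map b ≫ g₁)
  refine ⟨W', π.app k', j, ?_, ?_⟩
  · have e : π.app k' ≫ D.map b = π.app k := (Cone.mk V π).w b
    rw [hj]
    change π.app k' ≫ D.map b ≫ g₁ = π.app k ≫ g₁
    rw [← e, Category.assoc]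
  · apply (alpha_bijective F.obj _).1
    rw [map_zero]
    refine (alpha_naturality F.obj ((EtCoh.bc f).map j) s).trans ?_
    change (Gp F.obj).map ((ProEtS.bcP f).map ((ProEtS.eps Y).map j)).op a = 0
    rw [hj, Functor.map_comp, ← map_map]
    exact hb'

end

end Groth.Agent.Proet.BCSec
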