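import Groth.Agent.Proet.CechEl
import Groth.Agent.CohtopA.DimShift
import Mathlib.CategoryTheory.Sites.IsSheafFor
import Mathlib.CategoryTheory.Sites.PreservesSheafification
import Mathlib.CategoryTheory.Sites.LocallyBijective
import Mathlib.CategoryTheory.Limits.Shapes.FiniteLimits

/-!
# Cech acyclicity criteria in general universes

`C` locally `w`-small, abelian sheaves valued in `AddCommGrpCat.{w}`, `Z_U = (zF J).obj U`.
* `sep`, `glue`: sheaf condition for a covering by one morphism, elementwise;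
* `cechExact_of_injective_sheaf`;
* `cechExact_quotient`: Cech exactness passes to quotients when sections lift on all `X_n`;
* `ext_eq_zero_of_nerve` (Leray lemma): `f : V ⟶ U` covering, `Ext^(q+1)(Z_{N_n f}, P) = 0` for all
  `n, q` and `CechExact (nerve f) P` imply `Ext^(q+1)(Z_U, P) = 0`;
* `ext_eq_zero_of_cech` (Stacks 03F9 for single-morphism covers).
-/

set_option autoImplicit false
universe w' w v u

open CategoryTheory Category Limits Opposite Simplicial Abelian

noncomputable section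

namespace Groth.Agent.Proet.CechAcyclic

open ZU CechEl

variable {C : Type u} [Category.{v} C] {J : GrothendieckTopology C}

section Sections

theorem isSheafFor_singleton (F : Sheaf J AddCommGrpCat.{w}) {V U : C} (f : V ⟶ U)
    (hf : Sieve.generate (Presieve.singleton f) ∈ J U) :
    Presieve.IsSheafFor (F.obj ⋙ forget AddCommGrpCat.{w}) (Presieve.singleton f) := by
  rw [Presieve.isSheafFor_iff_generate]
  exact ((isSheaf_iff_isSheaf_of_type _ _).1
    (GrothendieckTopology.HasSheafCompose.isSheaf (J := J) (F := forget AddCommGrpCat.{w})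
      F.obj F.property)) _ hf

/-- separatedness for a one-morphism cover -/
theorem sep (F : Sheaf J AddCommGrpCat.{w}) {V U : C} (f : V ⟶ U)
    (hf : Sieve.generate (Presieve.singleton f) ∈ J U) {y y' : F.obj.obj (op U)}
    (h : F.obj.map f.op y = F.obj.map f.op y') : y = y' :=
  Presieve.isSeparatedFor_singleton.1 (isSheafFor_singleton F f hf).isSeparatedFor h

/-- gluing for a one-morphism cover -/
theorem glue (F : Sheaf J AddCommGrpCat.{w}) {V U : C} (f : V ⟶ U)
    (hf : Sieve.generate (Presieve.singleton f) ∈ J U) (x : F.obj.obj (op V))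
    (h : ∀ {Z : C} (p₁ p₂ : Z ⟶ V), p₁ ≫ f = p₂ ≫ f → F.obj.map p₁.op x = F.obj.map p₂.op x) :
    ∃ y : F.obj.obj (op U), F.obj.map f.op y = x :=
  (Presieve.isSheafFor_singleton.1 (isSheafFor_singleton F f hf) x h).exists

/-- A `1`-cocycle condition in degree `0` of the Cech nerve gives a section on the base. -/
theorem exists_of_cd_zero (F : Sheaf J AddCommGrpCat.{w}) {V U : C} (f : V ⟶ U)
    [∀ n : ℕ, HasWidePullback.{0} (Arrow.mk f).right
      (fun _ : Fin (n + 1) => (Arrow.mk f).left) fun _ => (Arrow.mk f).hom]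
    (hf : Sieve.generate (Presieve.singleton f) ∈ J U)
    (x : F.obj.obj (op ((nerve f) _⦋0⦌))) (hx : cd (nerve f) F.obj 0 x = 0) :
    ∃ y : F.obj.obj (op U), F.obj.map (nbase f 0).op y = x := by
  let d : V ⟶ (nerve f) _⦋0⦌ := nlift f 0 f (fun _ => 𝟙 V) (fun _ => id_comp _)
  have hd : d ≫ nπ f 0 0 = 𝟙 V := nlift_π f 0 _ _ _ 0
  have hd' : nπ f 0 0 ≫ d = 𝟙 _ := by
    apply nhom_ext
    intro j
    obtain rfl : j = 0 := Fin.fin_one_eq_zero j
    rw [assoc, hd, comp_id, id_comp]
  rw [cd_apply, Fin.sum_univ_two] at hx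
  simp only [Fin.val_zero, pow_zero, one_zsmul, Fin.val_one, pow_one, neg_smul] at hx
  rw [← sub_eq_add_neg, sub_eq_zero] at hx
  obtain ⟨y, hy⟩ := glue F f hf (F.obj.map d.op x) (by
    intro Z p₁ p₂ h
    let k : Z ⟶ (nerve f) _⦋1⦌ := nlift f 1 (p₁ ≫ f) (![p₂, p₁]) (by
      intro j
      fin_cases j
      · exact h.symm
      · rfl)
    have h1 : k ≫ (nerve f).δ 0 = p₁ ≫ d := by
      apply nhom_ext
      intro j
      obtain rfl : j = 0 := Fin.fin_one_eq_zero j
      rw [assoc, nδ_π, nlift_π, assoc, hd, comp_id]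
      rfl
    have h2 : k ≫ (nerve f).δ 1 = p₂ ≫ d := by
      apply nhom_ext
      intro j
      obtain rfl : j = 0 := Fin.fin_one_eq_zero j
      rw [assoc, nδ_π, nlift_π, assoc, hd, comp_id]
      rfl
    rw [← ConcreteCategory.comp_apply, ← ConcreteCategory.comp_apply, ← F.obj.map_comp,
      ← F.obj.map_comp, ← op_comp, ← op_comp, ← h1, ← h2, op_comp, op_comp, F.obj.map_comp,
      F.obj.map_comp, ConcreteCategory.comp_apply, ConcreteCategory.comp_apply]
    exact congrArg (F.obj.map k.op) hx)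
  refine ⟨y, ?_⟩
  rw [← nπ_comp f 0 0, op_comp, F.obj.map_comp, ConcreteCategory.comp_apply, hy,
    ← ConcreteCategory.comp_apply, ← F.obj.map_comp, ← op_comp, hd', op_id, F.obj.map_id]
  rfl

theorem sep_nbase (F : Sheaf J AddCommGrpCat.{w}) {V U : C} (f : V ⟶ U)
    [∀ n : ℕ, HasWidePullback.{0} (Arrow.mk f).right
      (fun _ : Fin (n + 1) => (Arrow.mk f).left) fun _ => (Arrow.mk f).hom]
    (hf : Sieve.generate (Presieve.singleton f) ∈ J U)
    {y y' : F.obj.obj (op U)} (h : F.obj.map (nbase f 0).op y = F.obj.map (nbase f 0).op y') :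
    y = y' := by
  let d : V ⟶ (nerve f) _⦋0⦌ := nlift f 0 f (fun _ => 𝟙 V) (fun _ => id_comp _)
  have hd : d ≫ nbase f 0 = f := by
    rw [← nπ_comp f 0 0, ← assoc, nlift_π, id_comp]
  apply sep F f hf
  rw [← hd, op_comp, F.obj.map_comp, ConcreteCategory.comp_apply, h,
    ConcreteCategory.comp_apply]

end Sections

section Quotient

variable [HasSheafify J AddCommGrpCat.{w}]

/-- sections are left exact: injectivity -/
theorem app_injective {S : ShortComplex (Sheaf J AddCommGrpCat.{w})} (hS : S.ShortExact) (W : C) :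
    Function.Injective (S.f.hom.app (op W)) := by
  have := hS.mono_f
  have : Mono ((sheafToPresheaf _ _).map S.f) := inferInstance
  have : Mono (((sheafToPresheaf _ _).map S.f).app (op W)) := inferInstance
  exact (AddCommGrpCat.mono_iff_injective _).1 this

/-- sections are left exact: exactness in the middle -/
theorem app_exact {S : ShortComplex (Sheaf J AddCommGrpCat.{w})} (hS : S.ShortExact) (W : C)
    (s : S.X₂.obj.obj (op W)) (h : S.g.hom.app (op W) s = 0) :
    ∃ t : S.X₁.obj.obj (op W), S.f.hom.app (op W) t = s := by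
  let F : Sheaf J AddCommGrpCat.{w} ⥤ AddCommGrpCat.{w} :=
    sheafToPresheaf J _ ⋙ (evaluation Cᵒᵖ AddCommGrpCat.{w}).obj (op W)
  have : F.PreservesZeroMorphisms := { map_zero := fun _ _ => rfl }
  have : PreservesFiniteLimits F := comp_preservesFiniteLimits _ _
  have := hS.mono_f
  exact (ShortComplex.ab_exact_iff _).1
    ((F.preservesFiniteLimits_iff_forall_exact_map_and_mono.1 ‹_›) S hS).1 s h

omit [HasSheafify J AddCommGrpCat.{w}] in
theorem app_zero {S : ShortComplex (Sheaf J AddCommGrpCat.{w})} (W : C)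
    (s : S.X₁.obj.obj (op W)) : S.g.hom.app (op W) (S.f.hom.app (op W) s) = 0 := by
  change (S.f ≫ S.g).hom.app (op W) s = 0
  rw [S.zero]
  rfl

/-- Cech exactness passes to quotients if sections lift on all `X_n`. -/
theorem cechExact_quotient {S : ShortComplex (Sheaf J AddCommGrpCat.{w})} (hS : S.ShortExact)
    (X : SimplicialObject C) (h₁ : CechExact X S.X₁.obj) (h₂ : CechExact X S.X₂.obj)
    (hs : ∀ (n : ℕ) (s : S.X₃.obj.obj (op (X _⦋n⦌))), ∃ t : S.X₂.obj.obj (op (X _⦋n⦌)),
      S.g.hom.app _ t = s) : CechExact X S.X₃.obj := by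
  intro n z hz
  obtain ⟨t, rfl⟩ := hs _ z
  rw [cd_naturality] at hz
  obtain ⟨a, ha⟩ := app_exact hS _ _ hz
  have h0 : cd X S.X₁.obj (n + 2) a = 0 := by
    apply app_injective hS
    rw [← cd_naturality, ha, cd_cd, map_zero]
  obtain ⟨b, hb⟩ := h₁ (n + 1) a h0
  obtain ⟨c, hc⟩ := h₂ n (t - S.f.hom.app _ b) (by
    rw [map_sub, cd_naturality, hb, ha, sub_self])
  refine ⟨S.g.hom.app _ c, ?_⟩
  rw [cd_naturality, hc, map_sub, app_zero, sub_zero]

variable {V U : C} (f : V ⟶ U)
    [∀ n : ℕ, HasWidePullback.{0} (Arrow.mk f).right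
      (fun _ : Fin (n + 1) => (Arrow.mk f).left) fun _ => (Arrow.mk f).hom]

/-- lifting sections over the base of a one-morphism cover. -/
theorem exists_lift_of_nerve {S : ShortComplex (Sheaf J AddCommGrpCat.{w})} (hS : S.ShortExact)
    (hf : Sieve.generate (Presieve.singleton f) ∈ J U)
    (h₁ : CechExact (nerve f) S.X₁.obj) (s : S.X₃.obj.obj (op U))
    (t : S.X₂.obj.obj (op ((nerve f) _⦋0⦌)))
    (ht : S.g.hom.app _ t = S.X₃.obj.map (nbase f 0).op s) :
    ∃ t' : S.X₂.obj.obj (op U), S.g.hom.app _ t' = s := by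
  have h0 : cd (nerve f) S.X₃.obj 0 (S.X₃.obj.map (nbase f 0).op s) = 0 := by
    rw [cd_apply, Fin.sum_univ_two]
    simp only [Fin.val_zero, pow_zero, one_zsmul, Fin.val_one, pow_one, neg_smul]
    rw [← ConcreteCategory.comp_apply, ← ConcreteCategory.comp_apply, ← S.X₃.obj.map_comp,
      ← S.X₃.obj.map_comp, ← op_comp, ← op_comp, nδ_base, nδ_base, add_neg_cancel]
  obtain ⟨a, ha⟩ := app_exact hS _ (cd (nerve f) S.X₂.obj 0 t) (by
    rw [← cd_naturality, ht, h0])
  obtain ⟨b, hb⟩ := h₁ 0 a (by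
    apply app_injective hS
    rw [← cd_naturality, ha, cd_cd, map_zero])
  obtain ⟨y, hy⟩ := exists_of_cd_zero S.X₂ f hf (t - S.f.hom.app _ b) (by
    rw [map_sub, cd_naturality, hb, ha, sub_self])
  refine ⟨y, sep_nbase S.X₃ f hf ?_⟩
  have := ConcreteCategory.congr_hom (S.g.hom.naturality (nbase f 0).op) y
  refine this.symm.trans ?_
  change S.g.hom.app _ (S.X₂.obj.map (nbase f 0).op y) = _
  rw [hy, map_sub, app_zero, sub_zero, ht]

/-- same, with the lift given on `V`. -/
theorem exists_lift_of_nerve' {S : ShortComplex (Sheaf J AddCommGrpCat.{w})} (hS : S.ShortExact)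
    (hf : Sieve.generate (Presieve.singleton f) ∈ J U)
    (h₁ : CechExact (nerve f) S.X₁.obj) (s : S.X₃.obj.obj (op U))
    (t : S.X₂.obj.obj (op V))
    (ht : S.g.hom.app _ t = S.X₃.obj.map f.op s) :
    ∃ t' : S.X₂.obj.obj (op U), S.g.hom.app _ t' = s := by
  refine exists_lift_of_nerve f hS hf h₁ s (S.X₂.obj.map (nπ f 0 0).op t) ?_
  have := ConcreteCategory.congr_hom (S.g.hom.naturality (nπ f 0 0).op) t
  refine this.trans ?_
  change S.X₃.obj.map (nπ f 0 0).op (S.g.hom.app _ t) = _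
  rw [ht, ← ConcreteCategory.comp_apply, ← S.X₃.obj.map_comp, ← op_comp, nπ_comp]

end Quotient

section Injective

variable [HasSheafify J AddCommGrpCat.{w}] [LocallySmall.{w} C]

omit [LocallySmall.{w} C] in
/-- injective sheaves are injective presheaves -/
theorem injective_obj (I : Sheaf J AddCommGrpCat.{w}) [Injective I] : Injective I.obj := by
  have : (presheafToSheaf J AddCommGrpCat.{w}).PreservesMonomorphisms := inferInstance
  exact Injective.injective_of_adjoint (sheafificationAdjunction J AddCommGrpCat.{w}) I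

theorem cechExact_of_injective_sheaf (X : SimplicialObject C)
    (hc : ∀ W : C, Nonempty (ConeOp X W)) (I : Sheaf J AddCommGrpCat.{w}) [Injective I] :
    CechExact X I.obj :=
  have := injective_obj I
  cechExact_of_injective hc _

end Injective

section Main

variable [HasSheafify J AddCommGrpCat.{w}] [LocallySmall.{w} C]
  [HasExt.{w'} (Sheaf J AddCommGrpCat.{w})]

/-- `Ext^1(Z_W, X₁) = 0` gives surjectivity of `X₂(W) → X₃(W)`. -/
theorem exists_section_lift {S : ShortComplex (Sheaf J AddCommGrpCat.{w})} (hS : S.ShortExact)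
    (W : C) (h : ∀ x : Ext.{w'} ((zF.{w} J).obj W) S.X₁ 1, x = 0)
    (s : S.X₃.obj.obj (op W)) : ∃ t : S.X₂.obj.obj (op W), S.g.hom.app _ t = s := by
  obtain ⟨g, hg⟩ := CohtopA.DimShift.exists_lift_of_ext_one hS _ h ((ev J W _).symm s)
  refine ⟨ev J W _ g, ?_⟩
  rw [← ev_comp, hg, AddEquiv.apply_symm_apply]

omit [HasExt.{w'} (Sheaf J AddCommGrpCat.{w})] in
/-- surjectivity on sections in terms of `Z_W`. -/
theorem exists_hom_lift {S : ShortComplex (Sheaf J AddCommGrpCat.{w})}
    (W : C) (h : ∀ s : S.X₃.obj.obj (op W), ∃ t : S.X₂.obj.obj (op W), S.g.hom.app _ t = s)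
    (φ : (zF.{w} J).obj W ⟶ S.X₃) : ∃ g : (zF.{w} J).obj W ⟶ S.X₂, g ≫ S.g = φ := by
  obtain ⟨t, ht⟩ := h (ev J W _ φ)
  refine ⟨(ev J W _).symm t, ?_⟩
  rw [ev_symm_comp, ht, AddEquiv.symm_apply_apply]

variable [EnoughInjectives (Sheaf J AddCommGrpCat.{w})]

/-- Leray lemma: a sheaf which is acyclic on all terms of the Cech nerve of a covering `f` and has
exact Cech complex along `f` is acyclic on the base. -/
theorem ext_eq_zero_of_nerve {V U : C} (f : V ⟶ U)
    [∀ n : ℕ, HasWidePullback.{0} (Arrow.mk f).right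
      (fun _ : Fin (n + 1) => (Arrow.mk f).left) fun _ => (Arrow.mk f).hom]
    (hf : Sieve.generate (Presieve.singleton f) ∈ J U)
    (P : Sheaf J AddCommGrpCat.{w})
    (hP : ∀ (n q : ℕ) (x : Ext.{w'} ((zF.{w} J).obj ((nerve f) _⦋n⦌)) P (q + 1)), x = 0)
    (hc : CechExact (nerve f) P.obj) (q : ℕ) (x : Ext.{w'} ((zF.{w} J).obj U) P (q + 1)) :
    x = 0 := by
  refine CohtopA.DimShift.ext_succ_eq_zero_of_class
    (fun P : Sheaf J AddCommGrpCat.{w} =>
      (∀ (n q : ℕ) (x : Ext.{w'} ((zF.{w} J).obj ((nerve f) _⦋n⦌)) P (q + 1)), x = 0) ∧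
        CechExact (nerve f) P.obj) ((zF.{w} J).obj U) ?_ ?_ P ⟨hP, hc⟩ q x
  · intro S hS h₁ h₂
    refine ⟨fun n q => CohtopA.DimShift.ext_eq_zero_of_left hS _ _ (h₁.1 n (q + 1))
      (fun x => Ext.eq_zero_of_injective x), ?_⟩
    exact cechExact_quotient hS _ h₁.2 (cechExact_of_injective_sheaf _ (nerve_coneOp f) _)
      (fun n => exists_section_lift hS _ (h₁.1 n 0))
  · intro S hS h₁ _
    refine exists_hom_lift U fun s => ?_
    obtain ⟨t, ht⟩ := exists_section_lift hS _ (h₁.1 0 0) (S.X₃.obj.map (nbase f 0).op s)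
    exact exists_lift_of_nerve f hS hf h₁.2 s t ht

end Main

section Cover

variable [HasSheafify J AddCommGrpCat.{w}] [LocallySmall.{w} C]
  [HasExt.{w'} (Sheaf J AddCommGrpCat.{w})] [HasFiniteWidePullbacks C]

/-- A class `Cov` of one-morphism covers of objects of the class `B`: the terms of the Cech nerves
lie in `B`, and every section over an object of `B` of the target of an epimorphism of abelian
sheaves lifts after a member of `Cov`. -/
structure IsCechBasis (J : GrothendieckTopology C) (B : C → Prop)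
    (Cov : ∀ ⦃V U : C⦄, (V ⟶ U) → Prop) [HasSheafify J AddCommGrpCat.{w}] : Prop where
  mem : ∀ ⦃V U : C⦄ (f : V ⟶ U), Cov f → Sieve.generate (Presieve.singleton f) ∈ J U
  nerve_mem : ∀ ⦃V U : C⦄ (f : V ⟶ U), Cov f → ∀ n : ℕ, B ((nerve f) _⦋n⦌)
  lift : ∀ ⦃F G : Sheaf J AddCommGrpCat.{w}⦄ (φ : F ⟶ G) [Epi φ] (U : C) (_ : B U)
    (s : G.obj.obj (op U)), ∃ (V : C) (f : V ⟶ U) (_ : Cov f) (t : F.obj.obj (op V)),
      φ.hom.app _ t = G.obj.map f.op s

variable [EnoughInjectives (Sheaf J AddCommGrpCat.{w})]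

omit [LocallySmall.{w} C] [HasExt.{w'} (Sheaf J AddCommGrpCat.{w})]
  [EnoughInjectives (Sheaf J AddCommGrpCat.{w})] in
theorem IsCechBasis.lift_sections {B : C → Prop} {Cov : ∀ ⦃V U : C⦄, (V ⟶ U) → Prop}
    (hB : IsCechBasis J B Cov) {S : ShortComplex (Sheaf J AddCommGrpCat.{w})} (hS : S.ShortExact)
    (h₁ : ∀ ⦃V U : C⦄ (f : V ⟶ U), Cov f → CechExact (nerve f) S.X₁.obj) (U : C) (hU : B U)
    (s : S.X₃.obj.obj (op U)) : ∃ t : S.X₂.obj.obj (op U), S.g.hom.app _ t = s := by
  have := hS.epi_g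
  obtain ⟨V, f, hf, t, ht⟩ := hB.lift S.g U hU s
  exact exists_lift_of_nerve' f hS (hB.mem f hf) (h₁ f hf) s t ht

/-- Stacks 03F9 for one-morphism covers, general universes. -/
theorem ext_eq_zero_of_cech {B : C → Prop} {Cov : ∀ ⦃V U : C⦄, (V ⟶ U) → Prop}
    (hB : IsCechBasis J B Cov) (F : Sheaf J AddCommGrpCat.{w})
    (hF : ∀ ⦃V U : C⦄ (f : V ⟶ U), Cov f → CechExact (nerve f) F.obj) (U : C) (hU : B U) (q : ℕ)
    (x : Ext.{w'} ((zF.{w} J).obj U) F (q + 1)) : x = 0 := by
  refine CohtopA.DimShift.ext_succ_eq_zero_of_class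
    (fun F : Sheaf J AddCommGrpCat.{w} =>
      ∀ ⦃V U : C⦄ (f : V ⟶ U), Cov f → CechExact (nerve f) F.obj) ((zF.{w} J).obj U) ?_ ?_
      F hF q x
  · intro S hS h₁ h₂ V W f hf
    exact cechExact_quotient hS _ (h₁ f hf) (cechExact_of_injective_sheaf _ (nerve_coneOp f) _)
      (fun n => hB.lift_sections hS h₁ _ (hB.nerve_mem f hf n))
  · intro S hS h₁ _
    exact exists_hom_lift U fun s => hB.lift_sections hS h₁ U hU s

end Cover

end Groth.Agent.Proet.CechAcyclic
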