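import Mathlib.CategoryTheory.Sites.Pullback
import Mathlib.CategoryTheory.Sites.LocallyBijective
import Mathlib.CategoryTheory.Functor.Flat
import Mathlib.Algebra.Category.Grp.FilteredColimits
import Mathlib.Algebra.Category.Grp.Colimits
import Mathlib.CategoryTheory.Sites.Whiskering
import Mathlib.CategoryTheory.Limits.ConcreteCategory.Basic

/-!
# Elements of the pullback of a sheaf of abelian groups along a continuous functor

Let `G : C ⥤ D` be a continuous functor of sites, `L` a left adjoint of
`G.sheafPushforwardContinuous` on sheaves of abelian groups, `F` a sheaf on `C`.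

* `locally_rep`: every section of `L F` is locally of the form `(unit x)|_g` for `g : T' ⟶ G.obj W`,
  `x ∈ F(W)` (when `G` is representably flat).
* `locally_zero`: if `(unit x)|_g = 0` for `g : T ⟶ G.obj W`, then locally on `T`, `x` dies on
  some `W' ⟶ W` through which `g` factors.
* `locally_zero_of_isEmpty`: sections of `L F` over `T` vanish when `T` can be covered by objects
  having no map to any `G.obj W`.
-/

set_option autoImplicit false
set_option linter.unusedSectionVars false
universe w v₁ v₂ u₁ u₂

open CategoryTheory CategoryTheory.Limits Opposite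

namespace Groth.Agent.Proet.PullElem

variable {C : Type u₁} [Category.{v₁} C] {D : Type u₂} [Category.{v₂} D] (G : C ⥤ D)
  (J : GrothendieckTopology C) (K : GrothendieckTopology D) [G.IsContinuous J K]

section Presheaf

variable (P : Cᵒᵖ ⥤ AddCommGrpCat.{w}) [G.op.HasPointwiseLeftKanExtension P]

/-- Representation of elements of the presheaf pullback. -/
theorem lan_rep (T : D) [PreservesColimitsOfShape (CostructuredArrow G.op (op T)) (forget AddCommGrpCat.{w})]
    (t : ((G.op.leftKanExtension P).obj (op T))) :
    ∃ (W : C) (g : T ⟶ G.obj W) (x : P.obj (op W)),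
      (G.op.leftKanExtension P).map g.op ((G.op.leftKanExtensionUnit P).app (op W) x) = t := by
  obtain ⟨j, y, hy⟩ := Concrete.isColimit_exists_rep _
    (G.op.isPointwiseLeftKanExtensionLeftKanExtensionUnit P (op T)) t
  refine ⟨j.left.unop, j.hom.unop, y, ?_⟩
  rw [← hy]
  rfl

/-- Vanishing of elements of the presheaf pullback. -/
theorem lan_zero [RepresentablyFlat G] (T : D)
    [PreservesColimitsOfShape (CostructuredArrow G.op (op T)) (forget AddCommGrpCat.{w})]
    (W : C) (g : T ⟶ G.obj W) (x : P.obj (op W))
    (h : (G.op.leftKanExtension P).map g.op ((G.op.leftKanExtensionUnit P).app (op W) x) = 0) :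
    ∃ (W' : C) (k : W' ⟶ W) (g' : T ⟶ G.obj W'), g' ≫ G.map k = g ∧ P.map k.op x = 0 := by
  have : IsFiltered (CostructuredArrow G.op (op T)) := inferInstance
  let j : CostructuredArrow G.op (op T) := CostructuredArrow.mk (Y := op W) g.op
  have h' := Concrete.isColimit_exists_of_rep_eq (CostructuredArrow.proj G.op (op T) ⋙ P)
    (G.op.isPointwiseLeftKanExtensionLeftKanExtensionUnit P (op T)) (i := j) (j := j) x 0 (by
      rw [map_zero]
      exact h)
  obtain ⟨k, f, f', hf⟩ := h'
  refine ⟨k.left.unop, f.left.unop, k.hom.unop, ?_, ?_⟩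
  · have := CostructuredArrow.w f
    apply Quiver.Hom.op_inj
    exact this
  · rw [map_zero] at hf
    exact hf

/-- The presheaf pullback vanishes on objects having no map to any `G.obj W`. -/
theorem lan_zero_of_isEmpty (T : D) (hT : ∀ W : C, IsEmpty (T ⟶ G.obj W))
    (t : ((G.op.leftKanExtension P).obj (op T))) : t = 0 := by
  have hc : IsColimit _ := G.op.isPointwiseLeftKanExtensionLeftKanExtensionUnit P (op T)
  have : IsEmpty (CostructuredArrow G.op (op T)) := ⟨fun j => (hT j.left.unop).elim j.hom.unop⟩
  have h0 : (𝟙 ((G.op.leftKanExtension P).obj (op T))) = 0 := by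
    apply hc.hom_ext
    intro j
    exact isEmptyElim j
  have := ConcreteCategory.congr_hom h0 t
  simpa using this

end Presheaf

section Sheaf

variable [HasWeakSheafify K AddCommGrpCat.{w}] [K.WEqualsLocallyBijective AddCommGrpCat.{w}]
  [∀ P : Cᵒᵖ ⥤ AddCommGrpCat.{w}, G.op.HasPointwiseLeftKanExtension P]
  {L : Sheaf J AddCommGrpCat.{w} ⥤ Sheaf K AddCommGrpCat.{w}}
  (adj : L ⊣ G.sheafPushforwardContinuous AddCommGrpCat.{w} J K)
  (F : Sheaf J AddCommGrpCat.{w})

/-- The comparison of the constructed pullback with `L`. -/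
noncomputable def compIso :
    Functor.sheafPullbackConstruction.sheafPullback G AddCommGrpCat.{w} J K ≅ L :=
  (Functor.sheafPullbackConstruction.sheafAdjunctionContinuous G AddCommGrpCat.{w} J K).leftAdjointUniq adj

/-- The map from the presheaf pullback to `L F`. -/
noncomputable def fromLan : G.op.leftKanExtension F.obj ⟶ (L.obj F).obj :=
  toSheafify K (G.op.leftKanExtension F.obj) ≫ ((compIso G J K adj).hom.app F).hom

theorem W_fromLan : K.W (fromLan G J K adj F) := by
  have : IsIso ((compIso G J K adj).hom.app F).hom :=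
    inferInstanceAs (IsIso ((sheafToPresheaf K _).map ((compIso G J K adj).hom.app F)))
  exact K.W.comp_mem _ _ (K.W_toSheafify _) (MorphismProperty.of_isIso _ _)

instance locInj_fromLan : Presheaf.IsLocallyInjective K (fromLan G J K adj F) :=
  (W_fromLan G J K adj F).isLocallyInjective

instance locSurj_fromLan : Presheaf.IsLocallySurjective K (fromLan G J K adj F) :=
  (W_fromLan G J K adj F).isLocallySurjective

/-- Compatibility with the unit. -/
theorem unit_fromLan : (adj.unit.app F).hom =
    G.op.leftKanExtensionUnit F.obj ≫ Functor.whiskerLeft G.op (fromLan G J K adj F) := by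
  have h := Adjunction.unit_leftAdjointUniq_hom_app
    (Functor.sheafPullbackConstruction.sheafAdjunctionContinuous G AddCommGrpCat.{w} J K) adj F
  rw [← h]
  have h2 := Adjunction.map_restrictFullyFaithful_unit_app
    ((G.op.lanAdjunction AddCommGrpCat.{w}).comp (sheafificationAdjunction K AddCommGrpCat.{w}))
    (fullyFaithfulSheafToPresheaf J AddCommGrpCat.{w})
    (Functor.FullyFaithful.id _) (Iso.refl _) (Iso.refl _)
    (L := Functor.sheafPullbackConstruction.sheafPullback G AddCommGrpCat.{w} J K)
    (R := G.sheafPushforwardContinuous AddCommGrpCat.{w} J K) F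
  have h3 : ((Functor.sheafPullbackConstruction.sheafAdjunctionContinuous G AddCommGrpCat.{w} J K).unit.app F).hom
      = G.op.leftKanExtensionUnit F.obj ≫ Functor.whiskerLeft G.op
        (toSheafify K (G.op.leftKanExtension F.obj)) := by
    refine h2.trans ?_
    ext W x
    simp only [Adjunction.comp_unit_app, Functor.lanAdjunction_unit]
    rfl
  rw [ObjectProperty.FullSubcategory.comp_hom, h3]
  rfl

theorem unit_fromLan_apply (W : C) (x : F.obj.obj (op W)) :
    (adj.unit.app F).hom.app (op W) x =
      (fromLan G J K adj F).app (op (G.obj W)) ((G.op.leftKanExtensionUnit F.obj).app (op W) x) := by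
  have h := congrArg (fun f => f.app (op W) x) (unit_fromLan G J K adj F)
  exact h

/-- Every section of the pullback is locally of the form `(unit x)|_g`. -/
theorem locally_rep
    [∀ T : D, PreservesColimitsOfShape (CostructuredArrow G.op (op T)) (forget AddCommGrpCat.{w})]
    (T : D) (t : (L.obj F).obj.obj (op T)) :
    ∃ S ∈ K T, ∀ (T' : D) (f : T' ⟶ T), S f → ∃ (W : C) (g : T' ⟶ G.obj W) (x : F.obj.obj (op W)),
      (L.obj F).obj.map f.op t =
        (L.obj F).obj.map g.op ((adj.unit.app F).hom.app (op W) x) := by
  refine ⟨_, Presheaf.imageSieve_mem K (fromLan G J K adj F) t, ?_⟩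
  intro T' f hf
  obtain ⟨y, hy⟩ := hf
  obtain ⟨W, g, x, rfl⟩ := lan_rep G F.obj T' y
  refine ⟨W, g, x, ?_⟩
  rw [unit_fromLan_apply]
  have hnat := ConcreteCategory.congr_hom ((fromLan G J K adj F).naturality g.op)
    ((G.op.leftKanExtensionUnit F.obj).app (op W) x)
  exact hy.symm.trans hnat

/-- Sections `(unit x)|_g` that vanish do so for a local reason. -/
theorem locally_zero [RepresentablyFlat G]
    [∀ T : D, PreservesColimitsOfShape (CostructuredArrow G.op (op T)) (forget AddCommGrpCat.{w})]
    (T : D) (W : C) (g : T ⟶ G.obj W) (x : F.obj.obj (op W))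
    (h : (L.obj F).obj.map g.op ((adj.unit.app F).hom.app (op W) x) = 0) :
    ∃ S ∈ K T, ∀ (T' : D) (f : T' ⟶ T), S f → ∃ (W' : C) (k : W' ⟶ W) (g' : T' ⟶ G.obj W'),
      g' ≫ G.map k = f ≫ g ∧ F.obj.map k.op x = 0 := by
  set y := (G.op.leftKanExtension F.obj).map g.op ((G.op.leftKanExtensionUnit F.obj).app (op W) x) with hy
  have h0 : (fromLan G J K adj F).app (op T) y = (fromLan G J K adj F).app (op T) 0 := by
    rw [map_zero, ← h, unit_fromLan_apply]
    exact ConcreteCategory.congr_hom ((fromLan G J K adj F).naturality g.op)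
      ((G.op.leftKanExtensionUnit F.obj).app (op W) x)
  refine ⟨_, Presheaf.equalizerSieve_mem K (fromLan G J K adj F) y 0 h0, ?_⟩
  intro T' f hf
  have hf' : (G.op.leftKanExtension F.obj).map f.op y = 0 := by
    have := hf
    rw [Presheaf.equalizerSieve_apply, map_zero] at this
    exact this
  apply lan_zero G F.obj T' W (f ≫ g) x
  rw [op_comp, Functor.map_comp]
  exact hf'

include adj in
/-- Sections of the pullback over `T` vanish when `T` is covered by objects on which the pullback
has no sections for trivial reasons. -/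
theorem eq_zero_of_cover [K.HasSheafCompose (forget AddCommGrpCat.{w})] (T : D) (t : (L.obj F).obj.obj (op T))
    (hT : ∀ S ∈ K T, ∃ S' ∈ K T, S' ≤ S ∧ ∀ (T' : D) (f : T' ⟶ T), S' f →
      (∀ W : C, IsEmpty (T' ⟶ G.obj W)) ∨ Subsingleton ((L.obj F).obj.obj (op T'))) :
    t = 0 := by
  obtain ⟨S', hS', hle, H⟩ := hT _ (Presheaf.imageSieve_mem K (fromLan G J K adj F) t)
  refine (L.obj F).isSeparated T S' hS' t 0 ?_
  · intro T' f hf
    obtain (h | h) := H T' f hf
    · obtain ⟨y, hy⟩ := hle _ hf
      have : y = 0 := lan_zero_of_isEmpty G F.obj T' h y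
      rw [this, map_zero] at hy
      exact hy.symm.trans (map_zero _).symm
    · exact Subsingleton.elim (α := (L.obj F).obj.obj (op T')) _ _

end Sheaf

end Groth.Agent.Proet.PullElem
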