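import Groth.Agent.Proet.Eps228C
import Groth.Agent.Proet.CechAcyclic
import Groth.Agent.Proet.PullElem
import Groth.Agent.Etbase.EtAffCover

/-!
# Sections of `eps⁻¹ F` over affine ind-etale objects come from stages
-/

set_option autoImplicit false
universe u

open CategoryTheory CategoryTheory.Limits AlgebraicGeometry Opposite

namespace Groth.Agent.Proet.RepSurj234

open EpsB0 EpsPres

variable {X : Scheme.{u}}

set_option backward.isDefEq.respectTransparency.types false in
/-- Open image factorization in the small etale site. -/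
theorem exists_image {A B : X.Etale} (β : A ⟶ B) :
    ∃ (U : X.Etale) (b : A ⟶ U) (j : U ⟶ B), b ≫ j = β ∧ IsOpenImmersion j.left ∧
      Function.Surjective b.left ∧ Set.range j.left = Set.range β.left := by
  have hβ : Etale β.left := inferInstance
  let O : B.left.Opens := ⟨Set.range β.left, β.left.isOpenMap.isOpen_range⟩
  have hr : Set.range β.left ⊆ Set.range O.ι := by
    rw [Scheme.Opens.range_ι]
    exact subset_rfl
  have hB : Etale B.hom := B.prop
  let U : X.Etale := Scheme.Etale.mk (O.ι ≫ B.hom)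
  let b' : A.left ⟶ (O : Scheme.{u}) := IsOpenImmersion.lift O.ι β.left hr
  have hb' : b' ≫ O.ι = β.left := IsOpenImmersion.lift_fac _ _ _
  have hw : b' ≫ O.ι ≫ B.hom = A.hom := by
    rw [← Category.assoc, hb']
    exact Over.w β.hom
  let b : A ⟶ U := MorphismProperty.Over.homMk b' hw
  let j : U ⟶ B := MorphismProperty.Over.homMk O.ι rfl
  refine ⟨U, b, j, ?_, (inferInstance : IsOpenImmersion O.ι), ?_, ?_⟩
  · apply MorphismProperty.Over.Hom.ext
    exact hb'
  · intro x
    have hx : O.ι x ∈ Set.range β.left := x.2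
    obtain ⟨a, ha⟩ := hx
    refine ⟨a, ?_⟩
    apply O.ι.isOpenEmbedding.injective
    change O.ι (b' a) = _
    rw [← Scheme.Hom.comp_apply, hb', ha]
  · exact Scheme.Opens.range_ι O

set_option backward.isDefEq.respectTransparency.types false in
theorem generate_singleton_mem {A U : X.Etale} (b : A ⟶ U) (hb : Function.Surjective b.left) :
    Sieve.generate (Presieve.singleton b) ∈ X.smallEtaleTopology U := by
  have h : Sieve.ofArrows (fun _ : PUnit.{1} => A) (fun _ => b) ∈ X.smallEtaleTopology U := by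
    rw [Scheme.ofArrows_mem_smallEtaleTopology_iff]
    ext x
    simp only [Set.mem_iUnion, Set.mem_range, Set.mem_univ, iff_true]
    exact ⟨PUnit.unit, hb x⟩
  rwa [Sieve.ofArrows, Presieve.ofArrows_pUnit] at h


open CechEl Eps228 Simplicial

omit X in
theorem map_map {X : Scheme.{u}} (F : EtCoh.Ab X) {A B C : X.Etale} (g : A ⟶ B) (h : B ⟶ C)
    (x : F.obj.obj (op C)) : F.obj.map g.op (F.obj.map h.op x) = F.obj.map (g ≫ h).op x := by
  rw [op_comp, Functor.map_comp]
  rfl

section Stage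

variable {W V : X.ProEt} (f : W ⟶ V) {I : Type u} [SmallCategory I] [IsCofiltered I]
  {A B : I ⥤ X.Etale} (β : A ⟶ B)
  (s : (Functor.const I).obj W ⟶ A ⋙ ProEtS.eps X)
  (t : (Functor.const I).obj V ⟶ B ⋙ ProEtS.eps X)
  (hst : ∀ i, f ≫ t.app i = s.app i ≫ (ProEtS.eps X).map (β.app i))
  (hA : ∀ i, IsAffine (A.obj i).left) (hB : ∀ i, IsAffine (B.obj i).left)
  (hs : IsLimit ((Scheme.ProEt.forget X ⋙ Over.forget X).mapCone (Cone.mk W s)))
  (ht : IsLimit ((Scheme.ProEt.forget X ⋙ Over.forget X).mapCone (Cone.mk V t)))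
  [ProEtS.EpsCont X] (F : EtCoh.Ab X)

include hst hA hB hs ht in
set_option backward.isDefEq.respectTransparency.types false in
/-- A section at a stage whose pull backs along the two projections agree in the limit, becomes
compatible at a later stage. -/
theorem exists_stage (i : I) (x : F.obj.obj (op (A.obj i)))
    (h : br F (nπ f 1 0 ≫ s.app i) x = br F (nπ f 1 1 ≫ s.app i) x) :
    ∃ (j : I) (a : j ⟶ i), ∀ {Z : X.Etale} (p q : Z ⟶ A.obj j), p ≫ β.app j = q ≫ β.app j →
      F.obj.map p.op (F.obj.map (A.map a).op x) = F.obj.map q.op (F.obj.map (A.map a).op x) := by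
  let δx : F.obj.obj (op ((nerve (β.app i)) _⦋1⦌)) :=
    F.obj.map (nπ (β.app i) 1 0).op x - F.obj.map (nπ (β.app i) 1 1).op x
  have h1 : br F (τapp f β s t hst 1 i) δx = 0 := by
    rw [map_sub, ← br_comp, ← br_comp, τapp_π, τapp_π, h, sub_self]
  obtain ⟨U', k, g', hg', hk⟩ := repInj _ _ h1
  obtain ⟨hτ⟩ := isLimit_τ f β s t hst 1 hs ht
  have hN := isAffine_N β hA hB 1
  let c : Cone (N β 1 ⋙ ProEtS.eps X) := Cone.mk _ (τ f β s t hst 1)
  have := locallyOfFinitePresentation_eps U'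
  obtain ⟨k0, b, hb⟩ := exists_factor (N β 1 ⋙ ProEtS.eps X) c hτ hN ((ProEtS.eps X).obj U') g'
  let m := IsCofiltered.min k0 i
  let m1 : m ⟶ k0 := IsCofiltered.minToLeft k0 i
  let m2 : m ⟶ i := IsCofiltered.minToRight k0 i
  have := locallyOfFinitePresentation_eps ((N β 1).obj i)
  obtain ⟨l, r, hr⟩ := exists_eq (N β 1 ⋙ ProEtS.eps X) c hτ hN
    ((ProEtS.eps X).obj ((N β 1).obj i)) m
    ((N β 1 ⋙ ProEtS.eps X).map m1 ≫ b ≫ (ProEtS.eps X).map k)
    ((N β 1 ⋙ ProEtS.eps X).map m2) (by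
      rw [← Category.assoc, c.w, ← Category.assoc, hb, c.w]
      exact hg')
  obtain ⟨b', rfl⟩ := (epsFF X).map_surjective b
  have hr' : (N β 1).map r ≫ (N β 1).map m1 ≫ b' ≫ k = (N β 1).map r ≫ (N β 1).map m2 := by
    apply (epsFF X).map_injective
    simp only [Functor.map_comp]
    exact hr
  refine ⟨l, r ≫ m2, ?_⟩
  let nm : (nerve (β.app l)) _⦋1⦌ ⟶ (nerve (β.app i)) _⦋1⦌ := nMap β 1 (r ≫ m2)
  let b1 : (nerve (β.app l)) _⦋1⦌ ⟶ U' := (N β 1).map r ≫ (N β 1).map m1 ≫ b'
  have h3 : nm = b1 ≫ k := by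
    have h30 : (N β 1).map (r ≫ m2) = (N β 1).map r ≫ (N β 1).map m2 := (N β 1).map_comp r m2
    exact h30.trans (hr'.symm.trans (by simp only [b1, Category.assoc]; rfl))
  have h2 : F.obj.map nm.op δx = 0 := by
    rw [h3, ← map_map, hk, map_zero]
  have h4 : ∀ k : Fin 2, F.obj.map nm.op (F.obj.map (nπ (β.app i) 1 k).op x) =
      F.obj.map (nπ (β.app l) 1 k).op (F.obj.map (A.map (r ≫ m2)).op x) := by
    intro k
    rw [map_map, map_map, nMap_π]
  have h5 : F.obj.map (nπ (β.app l) 1 0).op (F.obj.map (A.map (r ≫ m2)).op x) =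
      F.obj.map (nπ (β.app l) 1 1).op (F.obj.map (A.map (r ≫ m2)).op x) := by
    rw [← h4, ← h4, ← sub_eq_zero, ← map_sub]
    exact h2
  intro Z p q hpq
  let e : Z ⟶ (nerve (β.app l)) _⦋1⦌ := nlift (β.app l) 1 (p ≫ β.app l) (![p, q]) (by
    intro j
    fin_cases j
    · rfl
    · exact hpq.symm)
  have he0 : e ≫ nπ (β.app l) 1 0 = p := nlift_π _ _ _ _ _ 0
  have he1 : e ≫ nπ (β.app l) 1 1 = q := nlift_π _ _ _ _ _ 1
  have h7 (k : Fin 2) (y : F.obj.obj (op (A.obj l))) :
      F.obj.map e.op (F.obj.map (nπ (β.app l) 1 k).op y) =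
        F.obj.map (e ≫ nπ (β.app l) 1 k).op y := map_map F _ _ y
  have h6 := congrArg (F.obj.map e.op) h5
  have h8 := (h7 0 _).symm.trans (h6.trans (h7 1 _))
  rw [he0, he1] at h8
  exact h8

end Stage

variable [ProEtS.EpsCont X] (F : EtCoh.Ab X)

set_option backward.isDefEq.respectTransparency.types false in
/-- A section over `V` which becomes representable after a map `f : W ⟶ V` in `Cov0` is
representable. -/
theorem repSurj_of_cover {W V : X.ProEt} (f : W ⟶ V) (hf : Cov0 f)
    (y : ((ProEtS.epsPull X).obj F).obj.obj (op V)) (U : X.Etale)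
    (g : W ⟶ (ProEtS.eps X).obj U) (x : F.obj.obj (op U))
    (hy : ((ProEtS.epsPull X).obj F).obj.map f.op y = br F g x) :
    ∃ (U : X.Etale) (g : V ⟶ (ProEtS.eps X).obj U) (x : F.obj.obj (op U)), br F g x = y := by
  obtain ⟨I, _, _, A, B, β, s, t, hA, hB, hst, -, -, ⟨hs⟩, ⟨ht⟩⟩ :=
    exists_arrow_pres f hf.1 hf.2.1
  have := locallyOfFinitePresentation_eps U
  obtain ⟨i, b, hb⟩ := exists_factor (A ⋙ ProEtS.eps X) (Cone.mk W s) hs hA
    ((ProEtS.eps X).obj U) g
  obtain ⟨b', rfl⟩ := (epsFF X).map_surjective b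
  have hb' : s.app i ≫ (ProEtS.eps X).map b' = g := hb
  let x1 : F.obj.obj (op (A.obj i)) := F.obj.map b'.op x
  have hx1 : br F (s.app i) x1 = ((ProEtS.epsPull X).obj F).obj.map f.op y := by
    rw [hy, ← hb', br_comp]
  obtain ⟨j, a, hj⟩ := exists_stage f β s t hst hA hB hs ht F i x1 (by
    rw [← map_br, ← map_br, hx1]
    change (((ProEtS.epsPull X).obj F).obj.map _ ≫ ((ProEtS.epsPull X).obj F).obj.map _) y =
      (((ProEtS.epsPull X).obj F).obj.map _ ≫ ((ProEtS.epsPull X).obj F).obj.map _) y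
    rw [← Functor.map_comp, ← Functor.map_comp, ← op_comp, ← op_comp, nπ_comp, nπ_comp])
  let x2 : F.obj.obj (op (A.obj j)) := F.obj.map (A.map a).op x1
  have hx2 : br F (s.app j) x2 = ((ProEtS.epsPull X).obj F).obj.map f.op y := by
    have h := s.naturality a
    have h' : s.app j ≫ (ProEtS.eps X).map (A.map a) = s.app i := h.symm.trans (Category.id_comp _)
    rw [← hx1, ← h', br_comp]
  obtain ⟨U1, β', o, hβo, ho, hsurj, hrange⟩ := exists_image (β.app j)
  obtain ⟨z, hz⟩ := CechAcyclic.glue F β' (generate_singleton_mem β' hsurj) x2 (by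
    intro Z p q hpq
    exact hj p q (by rw [← hβo, ← Category.assoc, hpq, Category.assoc]))
  have hfs := hf.2.2
  -- factorization of `V ⟶ B j` through the image
  have hr : Set.range (t.app j).left ⊆ Set.range o.left := by
    rintro _ ⟨v, rfl⟩
    obtain ⟨w, rfl⟩ := hfs.surj v
    have h : f.left ≫ (t.app j).left = (s.app j).left ≫ (β.app j).left :=
      congrArg (fun t => t.left) (hst j)
    have h2 := congrArg (fun t => t w) h
    exact hrange.ge ⟨(s.app j).left w, h2.symm⟩
  let l : V.left ⟶ U1.left := IsOpenImmersion.lift o.left (t.app j).left hr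
  have hl : l ≫ o.left = (t.app j).left := IsOpenImmersion.lift_fac _ _ _
  have hw : l ≫ U1.hom = V.hom := by
    have h3 : o.left ≫ (B.obj j).hom = U1.hom := Over.w o.hom
    have h4 : (t.app j).left ≫ (B.obj j).hom = V.hom := Over.w (t.app j).hom
    rw [← h3, ← Category.assoc, hl]
    exact h4
  let g1 : V ⟶ (ProEtS.eps X).obj U1 := MorphismProperty.Over.homMk l hw
  have hg1 : g1 ≫ (ProEtS.eps X).map o = t.app j := by
    apply MorphismProperty.Over.Hom.ext
    exact hl
  have hg2 : f ≫ g1 = s.app j ≫ (ProEtS.eps X).map β' := by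
    apply MorphismProperty.Over.Hom.ext
    have h5 : (f ≫ g1) ≫ (ProEtS.eps X).map o =
        (s.app j ≫ (ProEtS.eps X).map β') ≫ (ProEtS.eps X).map o := by
      rw [Category.assoc, hg1, hst, Category.assoc, ← Functor.map_comp, hβo]
    have h6 : (f ≫ g1).left ≫ o.left = (s.app j ≫ (ProEtS.eps X).map β').left ≫ o.left :=
      congrArg (fun t => t.left) h5
    exact (cancel_mono o.left).1 h6
  refine ⟨U1, g1, z, ?_⟩
  have := hf.2.1.1
  have := hf.2.1.2.1
  apply CechAcyclic.sep ((ProEtS.epsPull X).obj F) f (WCBasic.generate_singleton_mem f)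
  rw [map_br, hg2, br_comp, hz, hx2]

set_option backward.isDefEq.respectTransparency.types false in
/-- **Surjectivity**: every section of `eps⁻¹ F` over `V` in `B0` is of the form `(unit x)|_g`. -/
theorem repSurj {V : X.ProEt} (hV : B0 V) (y : ((ProEtS.epsPull X).obj F).obj.obj (op V)) :
    ∃ (U : X.Etale) (g : V ⟶ (ProEtS.eps X).obj U) (x : F.obj.obj (op U)), br F g x = y := by
  obtain ⟨S, hS, H⟩ := PullElem.locally_rep (ProEtS.eps X) X.smallEtaleTopology
    (Scheme.ProEt.topology X) (ProEtS.epsAdj X) F V y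
  have hVa : IsAffine V.left := by
    obtain ⟨V0, g, hg⟩ := hV
    exact hg.1
  obtain ⟨n, Y, g, W, w, hY, hg, h1, h2⟩ := exists_refinement hVa hS
  choose U h x hx using fun i => H (Y i) (g i) (hg i)
  -- the disjoint union
  let U' : ULift.{u} (Fin n) → X.Etale := fun i => U i.down
  obtain ⟨x', hx'⟩ := Etbase.EtAffCover.glue_sigma F U' (fun i => x i.down)
  let h' : WCBasic.sigmaObj Y ⟶ (ProEtS.eps X).obj (Etbase.EtAffCover.sigma U') :=
    WCBasic.sigmaDesc Y (fun i => h i ≫ (ProEtS.eps X).map (Etbase.EtAffCover.sι U' ⟨i⟩))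
  have hE : Presieve.IsSheaf (Scheme.ProEt.topology X)
      (((ProEtS.epsPull X).obj F).obj ⋙ forget AddCommGrpCat.{u + 1}) :=
    (isSheaf_iff_isSheaf_of_type _ _).1
      (GrothendieckTopology.HasSheafCompose.isSheaf _ ((ProEtS.epsPull X).obj F).property)
  have key : ((ProEtS.epsPull X).obj F).obj.map (WCBasic.sigmaDesc Y g).op y = br F h' x' := by
    apply (WCBasic.bijective_sigma Y hE).1
    funext i
    change ((ProEtS.epsPull X).obj F).obj.map (WCBasic.sigmaι Y i).op
        (((ProEtS.epsPull X).obj F).obj.map (WCBasic.sigmaDesc Y g).op y) =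
      ((ProEtS.epsPull X).obj F).obj.map (WCBasic.sigmaι Y i).op (br F h' x')
    rw [map_br, WCBasic.sigmaι_desc, br_comp, hx' ⟨i⟩]
    change (((ProEtS.epsPull X).obj F).obj.map _ ≫ ((ProEtS.epsPull X).obj F).obj.map _) y = _
    rw [← Functor.map_comp, ← op_comp, WCBasic.sigmaι_desc]
    exact hx i
  refine repSurj_of_cover F (w ≫ WCBasic.sigmaDesc Y g) ⟨hV, h1, h2⟩ y
    (Etbase.EtAffCover.sigma U') (w ≫ h') x' ?_
  rw [← map_br, ← key]
  change _ = (((ProEtS.epsPull X).obj F).obj.map _ ≫ ((ProEtS.epsPull X).obj F).obj.map _) y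
  rw [← Functor.map_comp, ← op_comp]

end Groth.Agent.Proet.RepSurj234
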