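import Groth.Agent.Proet.RepLim229
import Groth.Agent.Proet.RepSurj234
import Groth.Agent.Proet.BcPLim

/-!
# Sections of `eps⁻¹ F` over `V ×_Y X`

* `repSurj_B0 : B0 V → RepSurj V`.
* `bcSurj`, `bcInj`: `BCSurj f V` and `BCInj f V` for `f` qcqs and `V` in `B0`.
-/

set_option autoImplicit false
universe u

open CategoryTheory CategoryTheory.Limits AlgebraicGeometry Opposite

namespace Groth.Agent.Proet.BCSec229

set_option backward.isDefEq.respectTransparency.types false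

open RpushEps EpsSec229 EpsB0 EpsPres RepLim229 EtpbcA.EqLocus QcqsAcyc

theorem repSurj_B0 {Y : Scheme.{u}} [ProEtS.EpsCont Y] {V : Y.ProEt} (hV : B0 V) : RepSurj V :=
  fun G y => RepSurj234.repSurj G hV y

variable {X Y : Scheme.{u}} (f : X ⟶ Y) [QuasiCompact f] [QuasiSeparated f]
  [ProEtS.EpsCont X] [ProEtS.EpsCont Y] [ProEtS.PCont f]

omit [QuasiCompact f] [QuasiSeparated f] [ProEtS.EpsCont X] [ProEtS.EpsCont Y] [ProEtS.PCont f] in
/-- `W ×_Y X ⟶ W`. -/
theorem isPullback_bc_hom (W : Y.Etale) :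
    IsPullback (pullback.fst W.hom f : ((EtCoh.bc f).obj W).left ⟶ W.left)
      ((EtCoh.bc f).obj W).hom W.hom f := IsPullback.of_hasPullback W.hom f

omit [ProEtS.EpsCont X] [ProEtS.EpsCont Y] [ProEtS.PCont f] [QuasiSeparated f] in
theorem compactSpace_bc (W : Y.Etale) [CompactSpace W.left] :
    CompactSpace ((EtCoh.bc f).obj W).left := by
  let q : ((EtCoh.bc f).obj W).left ⟶ W.left := pullback.fst W.hom f
  have h : QuasiCompact q :=
    MorphismProperty.of_isPullback (isPullback_bc_hom f W).flip inferInstance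
  exact QuasiCompact.compactSpace_of_compactSpace q

omit [ProEtS.EpsCont X] [ProEtS.EpsCont Y] [ProEtS.PCont f] [QuasiCompact f] in
theorem quasiSeparatedSpace_bc (W : Y.Etale) [QuasiSeparatedSpace W.left] :
    QuasiSeparatedSpace ((EtCoh.bc f).obj W).left := by
  let q : ((EtCoh.bc f).obj W).left ⟶ W.left := pullback.fst W.hom f
  have h : QuasiSeparated q :=
    MorphismProperty.of_isPullback (isPullback_bc_hom f W).flip inferInstance
  exact quasiSeparatedSpace_of_quasiSeparated q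

omit [ProEtS.EpsCont X] [ProEtS.EpsCont Y] [ProEtS.PCont f] [QuasiSeparated f] [QuasiCompact f] in
theorem isAffineHom_bc {W W' : Y.Etale} (g : W ⟶ W') (hg : IsAffineHom g.left) :
    IsAffineHom ((EtCoh.bc f).map g).left :=
  MorphismProperty.of_isPullback (Cont.isPullback_bcP_map f ((ProEtS.eps Y).map g)).flip hg

omit [QuasiCompact f] [QuasiSeparated f] [ProEtS.EpsCont X] [ProEtS.EpsCont Y] [ProEtS.PCont f] in
/-- The limit presentation of `V ×_Y X`. -/
theorem isLimit_bcP {V : Y.ProEt} {J : Type u} [SmallCategory J] [IsCofiltered J]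
    (D : J ⥤ Y.Etale) (π : (Functor.const J).obj V ⟶ D ⋙ ProEtS.eps Y)
    (h : IsLimit ((Scheme.ProEt.forget Y ⋙ Over.forget Y).mapCone (Cone.mk V π))) :
    ∃ π' : (Functor.const J).obj ((ProEtS.bcP f).obj V) ⟶ (D ⋙ EtCoh.bc f) ⋙ ProEtS.eps X,
      (∀ j, π'.app j = (ProEtS.bcP f).map (π.app j)) ∧
      Nonempty (IsLimit ((Scheme.ProEt.forget X ⋙ Over.forget X).mapCone
        (Cone.mk ((ProEtS.bcP f).obj V) π'))) := by
  have : IsConnected J := IsCofiltered.isConnected J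
  obtain ⟨-, ⟨h2⟩⟩ := BcPLim.isLimit_bcP f (Cone.mk V π) h
  exact ⟨((ProEtS.bcP f).mapCone (Cone.mk V π)).π, fun j => rfl, ⟨h2⟩⟩

omit [QuasiSeparated f] [ProEtS.EpsCont Y] [ProEtS.PCont f] in
theorem bcInj {V : Y.ProEt} (hV : B0 V) : BCInj f V := by
  intro F W g s hs
  obtain ⟨V0, g0, hg0⟩ := hV
  obtain ⟨J, _, _, D, π, hD, -, ⟨hπ⟩⟩ := exists_pres g0 hg0
  obtain ⟨π', hπ', ⟨hlim⟩⟩ := isLimit_bcP f D π hπ
  have := locallyOfFinitePresentation_eps W
  obtain ⟨j, b, hb⟩ := exists_factor (D ⋙ ProEtS.eps Y) (Cone.mk V π) hπ hD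
    ((ProEtS.eps Y).obj W) g
  let b' : D.obj j ⟶ W := (epsFF Y).preimage b
  have hb' : (ProEtS.eps Y).map b' = b := (epsFF Y).map_preimage _
  have hgb : π.app j ≫ (ProEtS.eps Y).map b' = g := by rw [hb']; exact hb
  have hc (j) : CompactSpace ((D ⋙ EtCoh.bc f).obj j).left := by
    have := hD j
    exact compactSpace_bc f (D.obj j)
  have haff {i j : J} (t : i ⟶ j) : IsAffineHom ((D ⋙ EtCoh.bc f).map t).left := by
    have := hD i
    have := hD j
    exact isAffineHom_bc f (D.map t) inferInstance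
  let s' : EtCoh.sect F ((EtCoh.bc f).obj (D.obj j)) := F.obj.map ((EtCoh.bc f).map b').op s
  have h0 : br F (pr (D ⋙ EtCoh.bc f) π' j) s' = br F (pr (D ⋙ EtCoh.bc f) π' j) 0 := by
    have e1 : br F (pr (D ⋙ EtCoh.bc f) π' j) s' =
        br F (pr (D ⋙ EtCoh.bc f) π' j ≫ (ProEtS.eps X).map ((EtCoh.bc f).map b')) s :=
      (br_comp_map F _ _ _).symm
    have e2 : pr (D ⋙ EtCoh.bc f) π' j ≫ (ProEtS.eps X).map ((EtCoh.bc f).map b') =
        (ProEtS.bcP f).map g := by
      rw [← hgb, Functor.map_comp]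
      exact congrArg (· ≫ (ProEtS.bcP f).map ((ProEtS.eps Y).map b')) (hπ' j)
    rw [e1, e2]
    refine hs.trans ?_
    have e3 := br_sub F (pr (D ⋙ EtCoh.bc f) π' j) (0 : EtCoh.sect F ((EtCoh.bc f).obj (D.obj j))) 0
    rw [sub_self, sub_self] at e3
    exact e3.symm
  obtain ⟨k, t, ht⟩ := eq_limit F (D ⋙ EtCoh.bc f) π' hlim hc haff j s' 0 h0
  refine ⟨D.obj k, π.app k, D.map t ≫ b', ?_, ?_⟩
  · rw [Functor.map_comp, ← Category.assoc, ← hgb]
    exact congrArg (· ≫ (ProEtS.eps Y).map b') (pr_w D π t)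
  · rw [map_zero] at ht
    rw [Functor.map_comp, EtpbcA.EqLocus.map_comp]
    exact ht

omit [ProEtS.EpsCont Y] [ProEtS.PCont f] in
theorem bcSurj {V : Y.ProEt} (hV : B0 V) : BCSurj f V := by
  intro F y
  obtain ⟨V0, g0, hg0⟩ := hV
  obtain ⟨J, _, _, D, π, hD, -, ⟨hπ⟩⟩ := exists_pres g0 hg0
  obtain ⟨π', hπ', ⟨hlim⟩⟩ := isLimit_bcP f D π hπ
  have := locallyOfFinitePresentation_eps V0
  have hV0 : IsAffine V0.left := hg0.2.1
  obtain ⟨j, b, hb⟩ := exists_factor (D ⋙ ProEtS.eps Y) (Cone.mk V π) hπ hD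
    ((ProEtS.eps Y).obj V0) g0
  let b' : D.obj j ⟶ V0 := (epsFF Y).preimage b
  have hb' : (ProEtS.eps Y).map b' = b := (epsFF Y).map_preimage _
  have hgb : π.app j ≫ (ProEtS.eps Y).map b' = g0 := by rw [hb']; exact hb
  have hc (j) : CompactSpace ((D ⋙ EtCoh.bc f).obj j).left := by
    have := hD j
    exact compactSpace_bc f (D.obj j)
  have hqs (j) : QuasiSeparatedSpace ((D ⋙ EtCoh.bc f).obj j).left := by
    have := hD j
    exact quasiSeparatedSpace_bc f (D.obj j)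
  have haff {i j : J} (t : i ⟶ j) : IsAffineHom ((D ⋙ EtCoh.bc f).map t).left := by
    have := hD i
    have := hD j
    exact isAffineHom_bc f (D.map t) inferInstance
  -- the affine cover of `V0 ×_Y X`
  have := compactSpace_bc f V0
  obtain ⟨W0, w0, hW0, hw0⟩ := exists_affine_cover ((EtCoh.bc f).obj V0)
  have := Cont.preservesFiniteLimits_eps X
  -- base change to the stage `j`
  let W : X.Etale := pullback ((EtCoh.bc f).map b') w0
  let w : W ⟶ (D ⋙ EtCoh.bc f).obj j := pullback.fst _ _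
  let ww : W ⟶ W0 := pullback.snd _ _
  have hW : IsPullback w ww ((EtCoh.bc f).map b') w0 := IsPullback.of_hasPullback _ _
  have hWl := isPullback_left_et hW
  have hw : Surjective w.left := MorphismProperty.of_isPullback hWl.flip hw0
  have hb'a : IsAffineHom b'.left := by
    have := hD j
    infer_instance
  have hwwa : IsAffineHom ww.left :=
    MorphismProperty.of_isPullback hWl (isAffineHom_bc f b' hb'a)
  have hWa : IsAffine W.left := isAffine_of_isAffineHom ww.left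
  let P : X.ProEt := pullback (pr (D ⋙ EtCoh.bc f) π' j) ((ProEtS.eps X).map w)
  let p : P ⟶ (ProEtS.bcP f).obj V := pullback.fst _ _
  let r : P ⟶ (ProEtS.eps X).obj W := pullback.snd _ _
  have hP : IsPullback p r (pr (D ⋙ EtCoh.bc f) π' j) ((ProEtS.eps X).map w) :=
    IsPullback.of_hasPullback _ _
  have hP0 : IsPullback p (r ≫ (ProEtS.eps X).map ww) ((ProEtS.bcP f).map g0)
      ((ProEtS.eps X).map w0) := by
    have h1 := hP.paste_vert (hW.map (ProEtS.eps X))
    have e2 : pr (D ⋙ EtCoh.bc f) π' j ≫ (ProEtS.eps X).map ((EtCoh.bc f).map b') =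
        (ProEtS.bcP f).map g0 := by
      rw [← hgb, Functor.map_comp]
      exact congrArg (· ≫ (ProEtS.bcP f).map ((ProEtS.eps Y).map b')) (hπ' j)
    rw [e2] at h1
    exact h1
  have hPB : B0 P := ⟨W0, r ≫ (ProEtS.eps X).map ww,
    indAff_bcP f g0 hg0 W0 w0 P p _ hW0 hP0⟩
  obtain ⟨U, g, x, hx⟩ := repSurj_B0 hPB F (((ProEtS.epsPull X).obj F).obj.map p.op y)
  obtain ⟨k, s, hs⟩ := rep_of_cover F (D ⋙ EtCoh.bc f) π' hlim hc haff hqs y w hP g x hx.symm
  refine ⟨D.obj k, π.app k, s, ?_⟩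
  rw [hs]
  exact congrArg (fun t => ((ProEtS.epsPull X).obj F).obj.map (Quiver.Hom.op t) (un F _ s)) (hπ' k).symm

end Groth.Agent.Proet.BCSec229
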