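import Groth.Agent.Proet.EtDesc

/-!
# The basis `B0` of the small pro-etale site

* `IndEt f` : `f` is a map of affine objects which is ind-etale on global sections.
* `B0 V` : `V` is affine and has an ind-etale map to an affine etale object.
* `Cov0 f` : `f : W ⟶ V` is a surjective ind-etale map of affine objects, `B0 V`.
* `cExact_cov0`, `cZero_cov0` : Cech exactness and sheaf condition of the presheaf pullback along
  members of `Cov0`.
-/

set_option autoImplicit false
universe u

open CategoryTheory CategoryTheory.Limits AlgebraicGeometry Opposite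

namespace Groth.Agent.Proet.BZero

open EpsPre EpsLim CechLim CechEt CechEl PullLim IndPres EtStep EtDesc IndAlg NerveLim NerveProp

instance : (etMP.{u}).IsStableUnderCobaseChange := good_etale.isStableUnderCobaseChange
instance : (etMP.{u}).IsMultiplicative := good_etale.isMultiplicative
instance : (etMP.{u}).RespectsIso := good_etale.respectsIso

instance : (indEtMP.{u}).IsStableUnderComposition := by
  have := good_etale.{u}.preIndSpreads
  exact MorphismProperty.IsStableUnderComposition.ind_of_preIndSpreads.{u} good_etale.mp_le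

instance : (indEtMP.{u}).IsStableUnderCobaseChange := inferInstance

theorem indEtMP_of_etMP {R S : CommRingCat.{u}} (φ : R ⟶ S) (h : etMP φ) : indEtMP φ :=
  MorphismProperty.le_ind.{u} _ _ h

variable {X : Scheme.{u}}

/-- A map of affine objects which is ind-etale on global sections. -/
structure IndEt {W V : X.ProEt} (f : W ⟶ V) : Prop where
  affW : IsAffine ((sch X).obj W)
  affV : IsAffine ((sch X).obj V)
  ind : indEtMP ((sch X).map f).appTop

/-- Affine objects with an ind-etale map to an affine etale object. -/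
def B0 (V : X.ProEt) : Prop := ∃ (V₀ : X.ProEt) (p : V ⟶ V₀), Etale V₀.hom ∧ IndEt p

/-- Surjective ind-etale maps between members of `B0`. -/
def Cov0 ⦃W V : X.ProEt⦄ (f : W ⟶ V) : Prop :=
  B0 V ∧ IndEt f ∧ Function.Surjective ((sch X).map f)

theorem IndEt.comp {U V W : X.ProEt} {f : U ⟶ V} {g : V ⟶ W} (hf : IndEt f) (hg : IndEt g) :
    IndEt (f ≫ g) where
  affW := hf.affW
  affV := hg.affV
  ind := by
    rw [Functor.map_comp, Scheme.Hom.comp_appTop]
    exact MorphismProperty.comp_mem _ _ _ hg.ind hf.ind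

theorem indEt_of_etale {V W : X.ProEt} (f : W ⟶ V) (hW : IsAffine ((sch X).obj W))
    (hV : IsAffine ((sch X).obj V)) (hf : Etale ((sch X).map f)) : IndEt f :=
  ⟨hW, hV, indEtMP_of_etMP _ (etMP_appTop _)⟩

theorem B0.affine {V : X.ProEt} (h : B0 V) : IsAffine ((sch X).obj V) := by
  obtain ⟨V₀, p, _, hp⟩ := h
  exact hp.affW

theorem B0.of_indEt {V W : X.ProEt} (hV : B0 V) {f : W ⟶ V} (hf : IndEt f) : B0 W := by
  obtain ⟨V₀, p, h₀, hp⟩ := hV
  exact ⟨V₀, f ≫ p, h₀, hf.comp hp⟩

theorem B0.of_etale {V : X.ProEt} (hV : IsAffine ((sch X).obj V)) (h : Etale V.hom) : B0 V :=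
  ⟨V, 𝟙 V, h, indEt_of_etale _ hV hV (by rw [CategoryTheory.Functor.map_id]; infer_instance)⟩

theorem Cov0.B0_left {W V : X.ProEt} {f : W ⟶ V} (h : Cov0 f) : B0 W := h.1.of_indEt h.2.1

theorem IndEt.of_isPullback {A B C D : X.ProEt} {f : A ⟶ B} {g : A ⟶ C} {h : B ⟶ D} {i : C ⟶ D}
    (H : IsPullback f g h i) (hi : IndEt i) (hB : IsAffine ((sch X).obj B)) : IndEt f := by
  have H' := isPullback_left H
  have := hi.affW
  have := hi.affV
  have hA : IsAffine ((sch X).obj A) := IsAffine.of_isIso H'.isoPullback.hom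
  exact ⟨hA, hB, MorphismProperty.of_isPushout (P := indEtMP)
    (isPushout_appTop_of_isPullback H') hi.ind⟩

/-- Nerve levels. -/
theorem indEt_nerve {W V : X.ProEt} {f : W ⟶ V} (hf : IndEt f) (n : ℕ) :
    IndEt ((bs X.ProEt n).app (Arrow.mk f)) := by
  induction n with
  | zero =>
    rw [← pr_leftToRight 0 0 (Arrow.mk f)]
    have : IsIso ((pr X.ProEt 0 0).app (Arrow.mk f)) := isIso_pr_zero _
    have h1 : IsIso ((sch X).map ((pr X.ProEt 0 0).app (Arrow.mk f))) := inferInstance
    have h2 : IsAffine ((sch X).obj (Arrow.leftFunc.obj (Arrow.mk f))) := hf.affW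
    have h3 : IsAffine ((sch X).obj ((nerveAt X.ProEt 0).obj (Arrow.mk f))) :=
      IsAffine.of_isIso ((sch X).map ((pr X.ProEt 0 0).app (Arrow.mk f)))
    have h4 : Etale ((sch X).map ((pr X.ProEt 0 0).app (Arrow.mk f))) := inferInstance
    exact (indEt_of_etale _ h3 h2 h4).comp hf
  | succ n ih =>
    rw [← dr_bs]
    exact (IndEt.of_isPullback (isPullback_nerve n (Arrow.mk f)).flip hf ih.affW).comp ih

theorem affine_of_indEt_bs {W V : X.ProEt} {f : W ⟶ V} (hf : IndEt f) (n : ℕ) :
    IsAffine ((sch X).obj ((nerveAt X.ProEt n).obj (Arrow.mk f))) := (indEt_nerve hf n).affW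

theorem Cov0.nerve_mem {W V : X.ProEt} {f : W ⟶ V} (h : Cov0 f) (n : ℕ) :
    B0 ((nerveAt X.ProEt n).obj (Arrow.mk f)) :=
  B0.of_indEt (V := Arrow.rightFunc.obj (Arrow.mk f)) h.1 (indEt_nerve h.2.1 n)

theorem Cov0.mem {W V : X.ProEt} {f : W ⟶ V} (h : Cov0 f) :
    Sieve.generate (Presieve.singleton f) ∈ Scheme.ProEt.topology X V := by
  have h1 : Surjective f.left := ⟨h.2.2⟩
  have h2 : IsAffine W.left := h.2.1.affW
  have h3 : IsAffine V.left := h.2.1.affV
  have h4 : QuasiCompact f.left := inferInstance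
  exact WCBasic.generate_singleton_mem f

section Etale

variable {P : X.Etaleᵒᵖ ⥤ AddCommGrpCat.{u + 1}}

theorem isPullback_level {K : Type u} [SmallCategory K] {D : K ⥤ X.ProEt} {c : Cone D}
    {j : K} {E₀ : X.ProEt} (e : E₀ ⟶ D.obj j) {E : X.ProEt} (p : E ⟶ c.pt)
    (q : E ⟶ E₀) (hpb : IsPullback p q (c.π.app j) e) (a : Over j) :
    IsPullback p (πL D e p q hpb a) (c.π.app a.left) (fst D e a) := by
  refine IsPullback.of_bot (v₂₁ := snd D e a) (v₂₂ := D.map a.hom) (h₃₁ := e) ?_
    (πL_fst D e p q hpb a).symm (isPullback D e a)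
  rw [πL_snd, c.w]
  exact hpb

theorem cExact_pullback' {K : Type u} [SmallCategory K] [IsCofiltered K] {D : K ⥤ X.ProEt}
    {c : Cone D} (h : IsProLim D c) (hD : ∀ k, Etale (D.obj k).hom) {j : K} {E₀ : X.ProEt}
    (e : E₀ ⟶ D.obj j) (he : Etale ((sch X).map e))
    {E : X.ProEt} (p : E ⟶ c.pt) (q : E ⟶ E₀) (hpb : IsPullback p q (c.π.app j) e)
    (hp : Function.Surjective ((sch X).map p))
    (hqc : CompactSpace E₀.left) (hqs : QuasiSeparatedSpace E₀.left) (hP : EtExact P) :
    CExact (Arrow.mk p) (Gp P) := by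
  obtain ⟨a, ha⟩ := exists_surjective_fst h hD e he p q hpb hp
  have H := isPullback_left (isPullback D e a)
  exact cExact_pullback h (fst D e a) p _ (isPullback_level e p q hpb a) hD
    (etale_of_isPullback H he) ha (qc_of_isPullback H hqc (h.qs j) (h.qc a.left))
    (qs_of_isPullback H hqs (h.qs a.left)) hP

theorem cZero_pullback' {K : Type u} [SmallCategory K] [IsCofiltered K] {D : K ⥤ X.ProEt}
    {c : Cone D} (h : IsProLim D c) (hD : ∀ k, Etale (D.obj k).hom) {j : K} {E₀ : X.ProEt}
    (e : E₀ ⟶ D.obj j) (he : Etale ((sch X).map e))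
    {E : X.ProEt} (p : E ⟶ c.pt) (q : E ⟶ E₀) (hpb : IsPullback p q (c.π.app j) e)
    (hp : Function.Surjective ((sch X).map p))
    (hqc : CompactSpace E₀.left) (hqs : QuasiSeparatedSpace E₀.left) (hP : EtZero P) :
    CZero (Arrow.mk p) (Gp P) := by
  obtain ⟨a, ha⟩ := exists_surjective_fst h hD e he p q hpb hp
  have H := isPullback_left (isPullback D e a)
  exact cZero_pullback h (fst D e a) p _ (isPullback_level e p q hpb a) hD
    (etale_of_isPullback H he) ha (qc_of_isPullback H hqc (h.qs j) (h.qc a.left))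
    (qs_of_isPullback H hqs (h.qs a.left)) hP

/-- Objects of `B0` are limits of affine etale objects. -/
theorem B0.exists_limit {V : X.ProEt} (hV : B0 V) :
    ∃ (K : Type u) (_ : SmallCategory K) (_ : IsCofiltered K) (D : K ⥤ X.ProEt)
      (π : (Functor.const K).obj V ⟶ D), IsProLim D (Cone.mk V π) ∧
        (∀ k, IsAffine (D.obj k).left) ∧ (∀ k, Etale (D.obj k).hom) := by
  obtain ⟨V₀, p, h₀, hp⟩ := hV
  have : IsAffine V.left := hp.affW
  have : IsAffine V₀.left := hp.affV
  obtain ⟨K, _, _, D, π, t, h, hA, hE, -⟩ := exists_presentation p hp.ind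
  exact ⟨K, inferInstance, inferInstance, D, π, h, hA, fun k => etale_hom_of (t.app k) (hE k) h₀⟩

theorem cExact_etale {E V : X.ProEt} (hV : B0 V) (hE : IsAffine E.left) (p : E ⟶ V)
    (hp : Etale ((sch X).map p)) (hs : Function.Surjective ((sch X).map p)) (hP : EtExact P) :
    CExact (Arrow.mk p) (Gp P) := by
  obtain ⟨K, _, _, D, π, h, hA, hDE⟩ := hV.exists_limit
  obtain ⟨j, E₀, e, q, hE₀, he, hpb⟩ := exists_descent h hA hV.affine hE p hp
  exact cExact_pullback' h hDE e he p q hpb hs inferInstance inferInstance hP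

theorem cZero_etale {E V : X.ProEt} (hV : B0 V) (hE : IsAffine E.left) (p : E ⟶ V)
    (hp : Etale ((sch X).map p)) (hs : Function.Surjective ((sch X).map p)) (hP : EtZero P) :
    CZero (Arrow.mk p) (Gp P) := by
  obtain ⟨K, _, _, D, π, h, hA, hDE⟩ := hV.exists_limit
  obtain ⟨j, E₀, e, q, hE₀, he, hpb⟩ := exists_descent h hA hV.affine hE p hp
  exact cZero_pullback' h hDE e he p q hpb hs inferInstance inferInstance hP

end Etale

section IndEtale

/-- The system of arrows with constant target. -/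
def arrowSys {𝒜 : Type*} [Category* 𝒜] {K : Type*} [Category* K] {V : 𝒜} (D : K ⥤ 𝒜)
    (t : D ⟶ (Functor.const K).obj V) : K ⥤ Arrow 𝒜 where
  obj k := Arrow.mk (t.app k)
  map {k l} g := Arrow.homMk (D.map g) (𝟙 V) ((t.naturality g))
  map_id k := by
    ext
    · exact D.map_id k
    · rfl
  map_comp {i j k} f g := by
    ext
    · exact D.map_comp f g
    · exact (Category.comp_id (𝟙 V)).symm

/-- The cone over the system of arrows with constant target. -/
def arrowCone {𝒜 : Type*} [Category* 𝒜] {K : Type*} [Category* K] {V W : 𝒜} (f : W ⟶ V)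
    (D : K ⥤ 𝒜) (t : D ⟶ (Functor.const K).obj V) (π : (Functor.const K).obj W ⟶ D)
    (h : ∀ k, π.app k ≫ t.app k = f) : Cone (arrowSys D t) where
  pt := Arrow.mk f
  π :=
    { app := fun k => Arrow.homMk (π.app k) (𝟙 V) ((h k).trans (Category.comp_id f).symm)
      naturality := fun i j g => by
        ext
        · exact π.naturality g
        · rfl }

theorem isProLim_const {K : Type u} [SmallCategory K] [IsCofiltered K] {V : X.ProEt}
    (hV : IsAffine ((sch X).obj V)) (D : K ⥤ X.ProEt) (t : D ⟶ (Functor.const K).obj V)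
    {W : X.ProEt} (f : W ⟶ V) (π : (Functor.const K).obj W ⟶ D)
    (h : ∀ k, π.app k ≫ t.app k = f) :
    IsProLim (arrowSys D t ⋙ Arrow.rightFunc)
      (Arrow.rightFunc.mapCone (arrowCone f D t π h)) where
  lim := by
    have : IsConnected K := IsCofiltered.isConnected K
    obtain ⟨k₀⟩ : Nonempty K := IsCofiltered.nonempty
    refine ⟨IsLimit.ofExistsUnique fun s => ⟨s.π.app k₀, fun k => ?_, fun m hm => ?_⟩⟩
    · let a : s.pt ⟶ (Scheme.ProEt.forget X).obj V := s.π.app k₀
      change a ≫ (Scheme.ProEt.forget X).map (𝟙 V) = s.π.app k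
      rw [CategoryTheory.Functor.map_id]
      refine (Category.comp_id _).trans ?_
      let s' : (Functor.const K).obj s.pt ⟶ (Functor.const K).obj ((Scheme.ProEt.forget X).obj V) :=
        { app := fun k => s.π.app k
          naturality := fun i j g => by
            refine (s.π.naturality g).trans ?_
            let b : s.pt ⟶ (Scheme.ProEt.forget X).obj V := s.π.app i
            change b ≫ (Scheme.ProEt.forget X).map (𝟙 V) = b ≫ 𝟙 _
            rw [CategoryTheory.Functor.map_id] }
      exact nat_trans_from_is_connected s' k₀ k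
    · let m' : s.pt ⟶ (Scheme.ProEt.forget X).obj V := m
      have h1 : m' ≫ (Scheme.ProEt.forget X).map (𝟙 V) = s.π.app k₀ := hm k₀
      have h2 : m' ≫ (Scheme.ProEt.forget X).map (𝟙 V) = m' := by
        rw [CategoryTheory.Functor.map_id]
        exact Category.comp_id _
      exact h2.symm.trans h1
  aff g := by
    change IsAffineHom ((sch X).map (𝟙 V))
    rw [CategoryTheory.Functor.map_id]
    infer_instance
  qc k := by
    change CompactSpace ((sch X).obj V)
    infer_instance
  qs k := by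
    change QuasiSeparatedSpace ((sch X).obj V)
    infer_instance

variable {P : X.Etaleᵒᵖ ⥤ AddCommGrpCat.{u + 1}}

theorem surj_of_comp {A B C : Scheme.{u}} (f : A ⟶ B) (g : B ⟶ C) (h : A ⟶ C) (w : f ≫ g = h)
    (hh : Function.Surjective h) : Function.Surjective g := by
  intro x
  obtain ⟨y, hy⟩ := hh x
  exact ⟨f y, (comp_apply_scheme' f g h w y).trans hy⟩

/-- **Cech exactness along `Cov0`.** -/
theorem cExact_cov0 (hP : EtExact P) {W V : X.ProEt} {f : W ⟶ V} (hf : Cov0 f) :
    CExact (Arrow.mk f) (Gp P) := by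
  obtain ⟨hV, hfI, hs⟩ := hf
  have : IsAffine W.left := hfI.affW
  have : IsAffine V.left := hfI.affV
  obtain ⟨K, _, _, D, π, t, h, hA, hE, hπ⟩ := exists_presentation f hfI.ind
  exact cExact_lim P (D := arrowSys D t) (c := arrowCone f D t π hπ) h
    (isProLim_const hfI.affV D t f π hπ) (fun k => cExact_etale hV (hA k) (t.app k) (hE k)
      (surj_of_comp ((sch X).map (π.app k)) _ _
        (((sch X).map_comp _ _).symm.trans (congrArg (sch X).map (hπ k))) hs) hP)

/-- **Sheaf condition along `Cov0`.** -/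
theorem cZero_cov0 (hP : EtZero P) {W V : X.ProEt} {f : W ⟶ V} (hf : Cov0 f) :
    CZero (Arrow.mk f) (Gp P) := by
  obtain ⟨hV, hfI, hs⟩ := hf
  have : IsAffine W.left := hfI.affW
  have : IsAffine V.left := hfI.affV
  obtain ⟨K, _, _, D, π, t, h, hA, hE, hπ⟩ := exists_presentation f hfI.ind
  exact cZero_lim P (D := arrowSys D t) (c := arrowCone f D t π hπ) h
    (isProLim_const hfI.affV D t f π hπ) (fun k => cZero_etale hV (hA k) (t.app k) (hE k)
      (surj_of_comp ((sch X).map (π.app k)) _ _
        (((sch X).map_comp _ _).symm.trans (congrArg (sch X).map (hπ k))) hs) hP)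

end IndEtale

end Groth.Agent.Proet.BZero
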