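import Groth.Agent.Proet.ZU
import Mathlib.AlgebraicTopology.CechNerve
import Mathlib.AlgebraicTopology.AlternatingFaceMapComplex
import Mathlib.Algebra.Homology.ShortComplex.Ab
import Mathlib.Algebra.Homology.ShortComplex.Exact
import Mathlib.Algebra.Homology.ShortComplex.FunctorEquivalence
import Mathlib.CategoryTheory.Abelian.FunctorCategory
import Mathlib.Algebra.Category.Grp.Abelian

/-!
# Elementwise Cech complexes of presheaves of abelian groups (general universes)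

For a simplicial object `X` of `C` and a presheaf of abelian groups `P`:
* `cd X P n : P(X_n) →+ P(X_{n+1})`, alternating sum of the coface maps;
* `CechExact X P`: exactness in all degrees `≥ 1`;
* `ConeOp X W`: extra degeneracies on `Hom(W, X_n)`; exists for Cech nerves;
* `cechExact_of_injective`: Cech exactness of injective presheaves.
-/

set_option autoImplicit false
universe w v u

open CategoryTheory Category Limits Opposite Simplicial

noncomputable section

namespace Groth.Agent.Proet.CechEl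

open ZU

/-- sums of morphisms of abelian groups are pointwise. -/
theorem hom_sum_apply {A B : AddCommGrpCat.{w}} {ι : Type*} (s : Finset ι) (f : ι → (A ⟶ B))
    (x : A) : (∑ i ∈ s, f i) x = ∑ i ∈ s, (f i) x := by
  classical
  induction s using Finset.induction_on with
  | empty => simp
  | insert a s ha ih =>
    rw [Finset.sum_insert ha, Finset.sum_insert ha, ← ih]
    rfl

variable {C : Type u} [Category.{v} C]

/-- The Cech differential `P(X_n) →+ P(X_{n+1})`. -/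
def cd (X : SimplicialObject C) (P : Cᵒᵖ ⥤ AddCommGrpCat.{w}) (n : ℕ) :
    P.obj (op (X _⦋n⦌)) →+ P.obj (op (X _⦋n + 1⦌)) :=
  (AlgebraicTopology.AlternatingCofaceMapComplex.objD (X.rightOp ⋙ P) n).hom

theorem cd_apply (X : SimplicialObject C) (P : Cᵒᵖ ⥤ AddCommGrpCat.{w}) (n : ℕ)
    (x : P.obj (op (X _⦋n⦌))) :
    cd X P n x = ∑ i : Fin (n + 2), (-1 : ℤ) ^ (i : ℕ) • P.map (X.δ i).op x := by
  change (∑ i : Fin (n + 2), (-1 : ℤ) ^ (i : ℕ) • P.map (X.δ i).op) x = _
  rw [hom_sum_apply]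
  rfl

theorem cd_cd (X : SimplicialObject C) (P : Cᵒᵖ ⥤ AddCommGrpCat.{w}) (n : ℕ)
    (x : P.obj (op (X _⦋n⦌))) : cd X P (n + 1) (cd X P n x) = 0 :=
  ConcreteCategory.congr_hom
    (AlgebraicTopology.AlternatingCofaceMapComplex.d_squared (X.rightOp ⋙ P) n) x

theorem cd_naturality (X : SimplicialObject C) {P Q : Cᵒᵖ ⥤ AddCommGrpCat.{w}} (α : P ⟶ Q) (n : ℕ)
    (x : P.obj (op (X _⦋n⦌))) :
    cd X Q n (α.app _ x) = α.app _ (cd X P n x) := by
  rw [cd_apply, cd_apply, map_sum]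
  refine Finset.sum_congr rfl fun i _ => ?_
  rw [map_zsmul]
  congr 1
  exact (ConcreteCategory.congr_hom (α.naturality (X.δ i).op) x).symm

/-- naturality of the Cech differential in the simplicial object. -/
theorem cd_map {X Y : SimplicialObject C} (a : X ⟶ Y) (P : Cᵒᵖ ⥤ AddCommGrpCat.{w}) (n : ℕ)
    (x : P.obj (op (Y _⦋n⦌))) :
    cd X P n (P.map (a.app (op ⦋n⦌)).op x) = P.map (a.app (op ⦋n + 1⦌)).op (cd Y P n x) := by
  rw [cd_apply, cd_apply, map_sum]
  refine Finset.sum_congr rfl fun i _ => ?_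
  rw [map_zsmul]
  congr 1
  rw [← ConcreteCategory.comp_apply, ← ConcreteCategory.comp_apply, ← P.map_comp, ← P.map_comp,
    ← op_comp, ← op_comp]
  congr 4
  exact (a.naturality (SimplexCategory.δ i).op)

/-- The Cech complex of `P` along `X` is exact in degrees `≥ 1`. -/
def CechExact (X : SimplicialObject C) (P : Cᵒᵖ ⥤ AddCommGrpCat.{w}) : Prop :=
  ∀ (n : ℕ) (x : P.obj (op (X _⦋n + 1⦌))), cd X P (n + 1) x = 0 →
    ∃ y : P.obj (op (X _⦋n⦌)), cd X P n y = x

theorem CechExact.of_iso {X : SimplicialObject C} {P Q : Cᵒᵖ ⥤ AddCommGrpCat.{w}} (e : P ≅ Q)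
    (h : CechExact X P) : CechExact X Q := by
  intro n x hx
  obtain ⟨y, hy⟩ := h n (e.inv.app _ x) (by rw [cd_naturality, hx, map_zero])
  refine ⟨e.hom.app _ y, ?_⟩
  rw [cd_naturality, hy]
  change (e.inv ≫ e.hom).app _ x = x
  rw [e.inv_hom_id]
  rfl

/-- Extra degeneracies on the simplicial set `Hom(W, X_•)` (no augmentation; nothing is required
when `Hom(W, X_0)` is empty). -/
structure ConeOp (X : SimplicialObject C) (W : C) where
  /-- the extra degeneracy -/
  s : ∀ n : ℕ, (W ⟶ X _⦋n⦌) → (W ⟶ X _⦋n + 1⦌)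
  s_zero : ∀ (n : ℕ) (g : W ⟶ X _⦋n⦌), s n g ≫ X.δ 0 = g
  s_succ : ∀ (n : ℕ) (g : W ⟶ X _⦋n + 1⦌) (i : Fin (n + 2)),
    s (n + 1) g ≫ X.δ i.succ = s n (g ≫ X.δ i)

/-- Exactness in a category of presheaves is checked objectwise, elementwise. -/
theorem exact_of_elements (S : ShortComplex (Cᵒᵖ ⥤ AddCommGrpCat.{w}))
    (h : ∀ (W : C) (z : S.X₂.obj (op W)), S.g.app (op W) z = 0 →
      ∃ y : S.X₁.obj (op W), S.f.app (op W) y = z) : S.Exact := by
  rw [ShortComplex.exact_iff_isZero_homology, Functor.isZero_iff]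
  intro W
  have e : ((evaluation Cᵒᵖ AddCommGrpCat.{w}).obj W).obj S.homology ≅
      (S.map ((evaluation Cᵒᵖ AddCommGrpCat.{w}).obj W)).homology :=
    (S.mapHomologyIso ((evaluation Cᵒᵖ AddCommGrpCat.{w}).obj W)).symm
  refine IsZero.of_iso ?_ e
  rw [← ShortComplex.exact_iff_isZero_homology, ShortComplex.ab_exact_iff]
  exact h W.unop

section Injective

variable [LocallySmall.{w} C]

/-- the boundary `Z_{X_{n+1}} → Z_{X_n}`. -/
def bd (X : SimplicialObject C) (n : ℕ) : zPre.{w}.obj (X _⦋n + 1⦌) ⟶ zPre.{w}.obj (X _⦋n⦌) :=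
  ∑ i : Fin (n + 2), (-1 : ℤ) ^ (i : ℕ) • zPre.{w}.map (X.δ i)

theorem bd_comp_symm (X : SimplicialObject C) (P : Cᵒᵖ ⥤ AddCommGrpCat.{w}) (n : ℕ)
    (x : P.obj (op (X _⦋n⦌))) :
    bd X n ≫ (preEv _ P).symm x = (preEv _ P).symm (cd X P n x) := by
  rw [cd_apply, map_sum, bd, Preadditive.sum_comp]
  refine Finset.sum_congr rfl fun i _ => ?_
  rw [map_zsmul, Preadditive.zsmul_comp, map_comp_preEv_symm]

theorem bd_app_pt (X : SimplicialObject C) (n : ℕ) {W : C} (g : W ⟶ X _⦋n + 1⦌) :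
    (bd.{w} X n).app (op W) (pt g) =
      ∑ i : Fin (n + 2), (-1 : ℤ) ^ (i : ℕ) • (pt (g ≫ X.δ i) : (zPre.{w}.obj _).obj (op W)) := by
  rw [bd, NatTrans.app_sum, hom_sum_apply]
  refine Finset.sum_congr rfl fun i _ => ?_
  change (-1 : ℤ) ^ (i : ℕ) • ((zPre.{w}.map (X.δ i)).app (op W) (pt g)) = _
  rw [map_pt]

variable {X : SimplicialObject C} {W : C} (c : ConeOp X W)

/-- the contracting homotopy attached to extra degeneracies. -/
def cone (n : ℕ) : (zPre.{w}.obj (X _⦋n⦌)).obj (op W) →+ (zPre.{w}.obj (X _⦋n + 1⦌)).obj (op W) :=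
  FreeAbelianGroup.lift (fun x => pt (c.s n (shrinkYonedaObjObjEquiv.{w} x)))

theorem cone_pt (n : ℕ) (g : W ⟶ X _⦋n⦌) : cone.{w} c n (pt g) = pt (c.s n g) := by
  change FreeAbelianGroup.lift _ (FreeAbelianGroup.of _) = _
  rw [FreeAbelianGroup.lift_apply_of, Equiv.apply_symm_apply]

theorem bd_cone (n : ℕ) (z : (zPre.{w}.obj (X _⦋n + 1⦌)).obj (op W)) :
    (bd.{w} X (n + 1)).app (op W) (cone c (n + 1) z) + cone c n ((bd.{w} X n).app (op W) z) = z := by
  have : ((bd.{w} X (n + 1)).app (op W)).hom.comp (cone c (n + 1)) +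
      (cone c n).comp ((bd.{w} X n).app (op W)).hom = AddMonoidHom.id _ := by
    apply hom_ext_pt
    intro g
    change (bd.{w} X (n + 1)).app (op W) (cone c (n + 1) (pt g)) +
      cone c n ((bd.{w} X n).app (op W) (pt g)) = pt g
    rw [cone_pt, bd_app_pt, bd_app_pt, map_sum, Fin.sum_univ_succ]
    simp only [Fin.val_zero, pow_zero, one_zsmul, Fin.val_succ, map_zsmul, cone_pt, c.s_zero,
      c.s_succ]
    rw [add_assoc, add_eq_left, ← Finset.sum_add_distrib]
    refine Finset.sum_eq_zero fun i _ => ?_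
    rw [← add_zsmul, pow_succ, mul_neg_one, neg_add_cancel, zero_smul]
  exact DFunLike.congr_fun this z

theorem exact_bd (hc : ∀ W : C, Nonempty (ConeOp X W)) (n : ℕ)
    (h : bd.{w} X (n + 1) ≫ bd.{w} X n = 0) :
    (ShortComplex.mk _ _ h).Exact := by
  apply exact_of_elements
  intro W z hz
  obtain ⟨c⟩ := hc W
  refine ⟨cone c (n + 1) z, ?_⟩
  have := bd_cone c n z
  change (bd.{w} X n).app (op W) z = 0 at hz
  rw [hz, map_zero, add_zero] at this
  exact this

theorem bd_bd (X : SimplicialObject C) (n : ℕ) : bd.{w} X (n + 1) ≫ bd.{w} X n = 0 := by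
  apply (preEv _ _).injective
  have h1 : bd.{w} X n = (preEv _ _).symm (preEv _ _ (bd.{w} X n)) :=
    (AddEquiv.symm_apply_apply _ _).symm
  have h2 : preEv (X _⦋n + 1⦌) _ (bd.{w} X n) =
      cd X (zPre.{w}.obj (X _⦋n⦌)) n (preEv _ _ (𝟙 _)) := by
    apply (preEv _ _).symm.injective
    rw [← bd_comp_symm, AddEquiv.symm_apply_apply, AddEquiv.symm_apply_apply, comp_id]
  rw [h1, bd_comp_symm, h2, cd_cd, map_zero]

/-- Cech exactness of injective presheaves. -/
theorem cechExact_of_injective (hc : ∀ W : C, Nonempty (ConeOp X W))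
    (P : Cᵒᵖ ⥤ AddCommGrpCat.{w}) [Injective P] : CechExact X P := by
  intro n x hx
  have hS := exact_bd hc n (bd_bd X n)
  have h0 : bd.{w} X (n + 1) ≫ (preEv _ P).symm x = 0 := by
    rw [bd_comp_symm, hx, map_zero]
  let φ : zPre.{w}.obj (X _⦋n⦌) ⟶ P := hS.descToInjective ((preEv _ P).symm x) h0
  have hφ : bd.{w} X n ≫ φ = (preEv _ P).symm x := hS.comp_descToInjective _ _
  refine ⟨preEv _ P φ, ?_⟩
  apply (preEv _ P).symm.injective
  rw [← bd_comp_symm, AddEquiv.symm_apply_apply, hφ]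

end Injective

section CechNerve

variable {V U : C} (f : V ⟶ U) [∀ n : ℕ, HasWidePullback.{0} (Arrow.mk f).right
  (fun _ : Fin (n + 1) => (Arrow.mk f).left) fun _ => (Arrow.mk f).hom]

/-- The Cech nerve of a morphism. -/
abbrev nerve : SimplicialObject C := (Arrow.mk f).cechNerve

/-- the projections of the Cech nerve. -/
abbrev nπ (n : ℕ) (j : Fin (n + 1)) : (nerve f) _⦋n⦌ ⟶ V :=
  WidePullback.π (B := (Arrow.mk f).right) (fun _ : Fin (n + 1) => (Arrow.mk f).hom) j

/-- the augmentation of the Cech nerve. -/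
abbrev nbase (n : ℕ) : (nerve f) _⦋n⦌ ⟶ U :=
  WidePullback.base (B := (Arrow.mk f).right) (fun _ : Fin (n + 1) => (Arrow.mk f).hom)

theorem nπ_comp (n : ℕ) (j : Fin (n + 1)) : nπ f n j ≫ f = nbase f n :=
  WidePullback.π_arrow (B := (Arrow.mk f).right) (fun _ : Fin (n + 1) => (Arrow.mk f).hom) j

theorem nδ_π (n : ℕ) (i : Fin (n + 2)) (j : Fin (n + 1)) :
    (nerve f).δ i ≫ nπ f n j = nπ f (n + 1) (i.succAbove j) := by
  simp only [SimplicialObject.δ, Arrow.cechNerve_map]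
  erw [WidePullback.lift_π]
  rfl

theorem nδ_base (n : ℕ) (i : Fin (n + 2)) : (nerve f).δ i ≫ nbase f n = nbase f (n + 1) := by
  rw [← nπ_comp f n 0, ← assoc, nδ_π, nπ_comp]

/-- lifting a tuple. -/
abbrev nlift (n : ℕ) {W : C} (u : W ⟶ U) (g : Fin (n + 1) → (W ⟶ V)) (h : ∀ j, g j ≫ f = u) :
    W ⟶ (nerve f) _⦋n⦌ :=
  WidePullback.lift (B := (Arrow.mk f).right) (objs := fun _ : Fin (n + 1) => (Arrow.mk f).left)
    (arrows := fun _ => (Arrow.mk f).hom) u g h

theorem nlift_π (n : ℕ) {W : C} (u : W ⟶ U) (g : Fin (n + 1) → (W ⟶ V)) (h : ∀ j, g j ≫ f = u)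
    (j : Fin (n + 1)) : nlift f n u g h ≫ nπ f n j = g j := WidePullback.lift_π _ _ _ _ _

theorem nhom_ext {n : ℕ} {W : C} {a b : W ⟶ (nerve f) _⦋n⦌}
    (h : ∀ j, a ≫ nπ f n j = b ≫ nπ f n j) : a = b := by
  apply WidePullback.hom_ext
  · exact h
  · change a ≫ nbase f n = b ≫ nbase f n
    rw [← nπ_comp f n 0, ← assoc, h, assoc]

/-- a chosen lift depending only on the map to the base -/
def chosen {W : C} (u : W ⟶ U) (h : ∃ g : W ⟶ V, g ≫ f = u) : W ⟶ V := h.choose

omit [∀ n : ℕ, HasWidePullback.{0} (Arrow.mk f).right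
  (fun _ : Fin (n + 1) => (Arrow.mk f).left) fun _ => (Arrow.mk f).hom] in
theorem chosen_comp {W : C} (u : W ⟶ U) (h : ∃ g : W ⟶ V, g ≫ f = u) : chosen f u h ≫ f = u :=
  h.choose_spec

theorem nexists (n : ℕ) {W : C} (g : W ⟶ (nerve f) _⦋n⦌) :
    ∃ k : W ⟶ V, k ≫ f = g ≫ nbase f n := ⟨g ≫ nπ f n 0, by rw [assoc, nπ_comp]⟩

/-- Extra degeneracies for Cech nerves. -/
def nerveConeOp (W : C) : ConeOp (nerve f) W where
  s n g := nlift f (n + 1) (g ≫ nbase f n)
    (Fin.cases (chosen f (g ≫ nbase f n) (nexists f n g)) (fun j => g ≫ nπ f n j)) (by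
      intro j
      refine Fin.cases ?_ (fun j => ?_) j
      · exact chosen_comp f _ _
      · change (g ≫ nπ f n j) ≫ f = _
        rw [assoc, nπ_comp])
  s_zero n g := by
    apply nhom_ext
    intro j
    rw [assoc, nδ_π, nlift_π, Fin.succAbove_zero]
    rfl
  s_succ n g i := by
    apply nhom_ext
    intro j
    rw [assoc, nδ_π, nlift_π, nlift_π]
    refine Fin.cases ?_ (fun j => ?_) j
    · rw [Fin.succ_succAbove_zero]
      change chosen f (g ≫ nbase f (n + 1)) _ = chosen f ((g ≫ (nerve f).δ i) ≫ nbase f n) _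
      congr 1
      rw [assoc, nδ_base]
    · rw [Fin.succ_succAbove_succ]
      change g ≫ nπ f (n + 1) (i.succAbove j) = (g ≫ (nerve f).δ i) ≫ nπ f n j
      rw [assoc, nδ_π]

theorem nerve_coneOp (W : C) : Nonempty (ConeOp (nerve f) W) := ⟨nerveConeOp f W⟩

end CechNerve

end Groth.Agent.Proet.CechEl
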