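import Groth.Agent.Proet.CechLim

/-!
# Cech complexes of the presheaf pullback along images of etale arrows
-/

set_option autoImplicit false
set_option linter.unusedSectionVars false
universe u v₁ v₂ u₁ u₂ w

open CategoryTheory CategoryTheory.Limits Opposite Simplicial

namespace Groth.Agent.Proet.CechEt

open EpsPre EpsLim NerveLim NerveProp CechEl CechLim CechAcyclic

section Cmp

variable {C : Type u₁} [Category.{v₁} C] [HasFiniteWidePullbacks C]

/-- projections of the Cech nerve -/
noncomputable def np (f : Arrow C) (n : SimplexCategoryᵒᵖ) (i : Fin (n.unop.len + 1)) :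
    f.cechNerve.obj n ⟶ f.left := WidePullback.π _ i

/-- base of the Cech nerve -/
noncomputable def nb (f : Arrow C) (n : SimplexCategoryᵒᵖ) :
    f.cechNerve.obj n ⟶ f.right := WidePullback.base _

theorem map_np (f : Arrow C) {m n : SimplexCategoryᵒᵖ} (g : m ⟶ n) (i : Fin (n.unop.len + 1)) :
    f.cechNerve.map g ≫ np f n i = np f m (g.unop.toOrderHom i) := WidePullback.lift_π _ _ _ _ _

theorem np_hom (f : Arrow C) (n : SimplexCategoryᵒᵖ) (i : Fin (n.unop.len + 1)) :
    np f n i ≫ f.hom = nb f n := WidePullback.π_arrow _ _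

theorem np_hom_ext (f : Arrow C) (n : SimplexCategoryᵒᵖ) {T : C} {a b : T ⟶ f.cechNerve.obj n}
    (h : ∀ i, a ≫ np f n i = b ≫ np f n i) : a = b := by
  refine WidePullback.hom_ext _ _ _ h ?_
  change a ≫ nb f n = b ≫ nb f n
  rw [← np_hom f n 0, ← Category.assoc, h, Category.assoc]

theorem exists_np (f : Arrow C) (n : SimplexCategoryᵒᵖ) {T : C} (a : T ⟶ f.right)
    (b : Fin (n.unop.len + 1) → (T ⟶ f.left)) (h : ∀ i, b i ≫ f.hom = a) :
    ∃ t : T ⟶ f.cechNerve.obj n, ∀ i, t ≫ np f n i = b i :=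
  ⟨WidePullback.lift a b h, fun _ => WidePullback.lift_π _ _ _ _ _⟩

variable {D : Type u₂} [Category.{v₂} D] [HasFiniteWidePullbacks D] (F : C ⥤ D)

theorem exists_map_np [PreservesFiniteLimits F] (f : Arrow C) (n : SimplexCategoryᵒᵖ) {T : D}
    (a : T ⟶ F.obj f.right)
    (b : Fin (n.unop.len + 1) → (T ⟶ F.obj f.left)) (h : ∀ i, b i ≫ F.map f.hom = a) :
    ∃ t : T ⟶ F.obj (f.cechNerve.obj n), ∀ i, t ≫ F.map (np f n i) = b i := by
  obtain ⟨t, -, ht⟩ := exists_hom_widePullback F (Fin (n.unop.len + 1)) f.hom a b h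
  exact ⟨t, ht⟩

theorem map_np_hom_ext [PreservesFiniteLimits F] (f : Arrow C) (n : SimplexCategoryᵒᵖ) {T : D}
    {a b : T ⟶ F.obj (f.cechNerve.obj n)}
    (h : ∀ i, a ≫ F.map (np f n i) = b ≫ F.map (np f n i)) : a = b := by
  refine hom_ext_widePullback F (Fin (n.unop.len + 1)) f.hom ?_ h
  change a ≫ F.map (nb f n) = b ≫ F.map (nb f n)
  rw [← np_hom f n 0, Functor.map_comp, ← Category.assoc, h, Category.assoc]

section

variable (f : Arrow C) (g : Arrow D) (l : F.obj f.left ⟶ g.left) (r : F.obj f.right ⟶ g.right)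
    (w : l ≫ g.hom = F.map f.hom ≫ r)

include w in
theorem exists_cmpApp (n : SimplexCategoryᵒᵖ) :
    ∃ t : F.obj (f.cechNerve.obj n) ⟶ g.cechNerve.obj n,
      ∀ i, t ≫ np g n i = F.map (np f n i) ≫ l :=
  exists_np g n (F.map (nb f n) ≫ r) (fun i => F.map (np f n i) ≫ l) (fun i => by
    rw [Category.assoc, w, ← Category.assoc, ← F.map_comp, np_hom])

/-- The comparison map at one level. -/
noncomputable def cmpApp (n : SimplexCategoryᵒᵖ) : F.obj (f.cechNerve.obj n) ⟶ g.cechNerve.obj n :=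
  (exists_cmpApp F f g l r w n).choose

theorem cmpApp_np (n : SimplexCategoryᵒᵖ) (i : Fin (n.unop.len + 1)) :
    cmpApp F f g l r w n ≫ np g n i = F.map (np f n i) ≫ l :=
  (exists_cmpApp F f g l r w n).choose_spec i

/-- Comparison of Cech nerves. -/
noncomputable def cmp : ((SimplicialObject.whiskering C D).obj F).obj f.cechNerve ⟶ g.cechNerve where
  app n := cmpApp F f g l r w n
  naturality m n φ := by
    apply np_hom_ext
    intro i
    change (F.map (f.cechNerve.map φ) ≫ cmpApp F f g l r w n) ≫ np g n i =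
      (cmpApp F f g l r w m ≫ g.cechNerve.map φ) ≫ np g n i
    rw [Category.assoc, cmpApp_np, Category.assoc, map_np, cmpApp_np, ← Category.assoc,
      ← F.map_comp, map_np]

theorem isIso_cmpApp [PreservesFiniteLimits F] [IsIso l] [IsIso r] (n : SimplexCategoryᵒᵖ) :
    IsIso (cmpApp F f g l r w n) := by
  obtain ⟨t, ht⟩ := exists_map_np F f n (nb g n ≫ inv r) (fun i => np g n i ≫ inv l) (by
    intro i
    rw [Category.assoc, ← np_hom g n i, Category.assoc]
    congr 1
    rw [IsIso.inv_comp_eq, ← Category.assoc, IsIso.eq_comp_inv, w])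
  refine ⟨t, ?_, ?_⟩
  · apply map_np_hom_ext
    intro i
    rw [Category.assoc, ht, ← Category.assoc, cmpApp_np, Category.assoc, IsIso.hom_inv_id,
      Category.comp_id, Category.id_comp]
  · apply np_hom_ext
    intro i
    rw [Category.assoc, cmpApp_np, ← Category.assoc, ht, Category.assoc, IsIso.inv_hom_id,
      Category.comp_id, Category.id_comp]

end

omit [HasFiniteWidePullbacks C] in
/-- Cech exactness is invariant under levelwise isomorphisms of simplicial objects. -/
theorem cechExact_of_map {X Y : SimplicialObject C} (a : X ⟶ Y)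
    (ha : ∀ n : SimplexCategoryᵒᵖ, IsIso (a.app n)) (Q : Cᵒᵖ ⥤ AddCommGrpCat.{w})
    (h : CechExact X Q) : CechExact Y Q := by
  have hb (n : ℕ) : Function.Bijective (Q.map (a.app (op (SimplexCategory.mk n))).op) := by
    have := ha (op (SimplexCategory.mk n))
    exact ConcreteCategory.bijective_of_isIso _
  intro n x hx
  obtain ⟨y', hy'⟩ := h n (Q.map (a.app (op (SimplexCategory.mk (n + 1)))).op x) (by
    refine (cd_map a Q (n + 1) x).trans ?_
    rw [hx, map_zero])
  obtain ⟨y, rfl⟩ := (hb n).2 y'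
  refine ⟨y, (hb (n + 1)).1 ?_⟩
  exact (cd_map a Q n y).symm.trans hy'

variable [PreservesFiniteLimits F] (Q : Dᵒᵖ ⥤ AddCommGrpCat.{w})

theorem cechExact_map (f : Arrow C) (g : Arrow D) (l : F.obj f.left ⟶ g.left)
    (r : F.obj f.right ⟶ g.right) (w : l ≫ g.hom = F.map f.hom ≫ r) (_ : IsIso l) (_ : IsIso r)
    (h : CechExact f.cechNerve (F.op ⋙ Q)) : CechExact g.cechNerve Q :=
  cechExact_of_map (cmp F f g l r w) (isIso_cmpApp F f g l r w) Q h

end Cmp

section Zero

variable {C : Type u₁} [Category.{v₁} C] {D : Type u₂} [Category.{v₂} D]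
  [HasFiniteWidePullbacks C] [HasFiniteWidePullbacks D]

/-- The sheaf condition in degree `0`, unfolded. -/
theorem cZero_iff (f : Arrow C) (P : Cᵒᵖ ⥤ AddCommGrpCat.{u + 1}) :
    CZero f P ↔ ∀ x : P.obj (op (f.cechNerve.obj (op (SimplexCategory.mk 0)))),
      cd (f.cechNerve) P 0 x = 0 → ∃ y : P.obj (op f.right),
        P.map (nb f (op (SimplexCategory.mk 0))).op y = x := Iff.rfl

variable (F : C ⥤ D)
  [PreservesFiniteLimits F] (Q : Dᵒᵖ ⥤ AddCommGrpCat.{u + 1})

theorem cmpApp_nb (f : Arrow C) (g : Arrow D) (l : F.obj f.left ⟶ g.left)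
    (r : F.obj f.right ⟶ g.right) (w : l ≫ g.hom = F.map f.hom ≫ r) (n : SimplexCategoryᵒᵖ) :
    cmpApp F f g l r w n ≫ nb g n = F.map (nb f n) ≫ r := by
  rw [← np_hom g n 0, ← Category.assoc, cmpApp_np, Category.assoc, w, ← Category.assoc,
    ← F.map_comp, np_hom]

theorem cZero_map (f : Arrow C) (g : Arrow D) (l : F.obj f.left ⟶ g.left)
    (r : F.obj f.right ⟶ g.right) (w : l ≫ g.hom = F.map f.hom ≫ r) (_ : IsIso l) (_ : IsIso r)
    (h : CZero f (F.op ⋙ Q)) : CZero g Q := by
  rw [cZero_iff] at h ⊢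
  have hb : Function.Bijective
      (Q.map ((cmp F f g l r w).app (op (SimplexCategory.mk 0))).op) := by
    have := isIso_cmpApp F f g l r w (op (SimplexCategory.mk 0))
    exact ConcreteCategory.bijective_of_isIso
      (Q.map (cmpApp F f g l r w (op (SimplexCategory.mk 0))).op)
  intro x hx
  obtain ⟨y, hy⟩ := h (Q.map ((cmp F f g l r w).app (op (SimplexCategory.mk 0))).op x) (by
    refine (cd_map (cmp F f g l r w) Q 0 x).trans ?_
    exact (congrArg _ hx).trans (map_zero _))
  refine ⟨Q.map (inv r).op y, hb.1 ?_⟩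
  refine Eq.trans ?_ hy
  change Q.map (cmpApp F f g l r w (op (SimplexCategory.mk 0))).op
    (Q.map (nb g (op (SimplexCategory.mk 0))).op (Q.map (inv r).op y)) =
    Q.map (F.map (nb f (op (SimplexCategory.mk 0)))).op y
  rw [map_map, map_map, cmpApp_nb, Category.assoc, IsIso.hom_inv_id, Category.comp_id]

end Zero

open AlgebraicGeometry

variable {X : Scheme.{u}}

/-- The unit `P ≅ eps^* Gp P`. -/
noncomputable def unitIso (P : X.Etaleᵒᵖ ⥤ AddCommGrpCat.{u + 1}) :
    P ≅ (ProEtS.eps X).op ⋙ Gp P :=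
  have : ∀ U, IsIso ((LanElem.α (ProEtS.eps X) P).app U) := fun U => by
    rw [ConcreteCategory.isIso_iff_bijective]
    have h := bijective_unit P U.unop
    have e : (fun s : P.obj (op U.unop) => cls P (𝟙 ((ProEtS.eps X).obj U.unop)) s) =
        ⇑((LanElem.α (ProEtS.eps X) P).app U) := by
      funext s
      change (Gp P).map (𝟙 ((ProEtS.eps X).obj U.unop)).op
        ((LanElem.α (ProEtS.eps X) P).app U s) = _
      rw [op_id, CategoryTheory.Functor.map_id]
      rfl
    rw [e] at h
    exact h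
  have : IsIso (LanElem.α (ProEtS.eps X) P) := NatIso.isIso_of_isIso_app _
  asIso (LanElem.α (ProEtS.eps X) P)

theorem cZero_of_iso {C : Type u₁} [Category.{v₁} C] [HasFiniteWidePullbacks C] {f : Arrow C}
    {P Q : Cᵒᵖ ⥤ AddCommGrpCat.{u + 1}} (e : P ≅ Q) (h : CZero f P) : CZero f Q := by
  intro x hx
  obtain ⟨y, hy⟩ := h (e.inv.app _ x) (by
    refine (cd_naturality f.cechNerve e.inv 0 x).trans ?_
    rw [hx, map_zero])
  refine ⟨e.hom.app _ y, ?_⟩
  have := ConcreteCategory.congr_hom (e.hom.naturality ((bs C 0).app f).op) y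
  refine this.symm.trans ?_
  change e.hom.app _ (P.map _ y) = x
  rw [hy]
  change (e.inv ≫ e.hom).app _ x = x
  rw [e.inv_hom_id]
  rfl

/-- Cech exactness along images of arrows of the etale site. -/
theorem cExact_eps (P : X.Etaleᵒᵖ ⥤ AddCommGrpCat.{u + 1}) (f : Arrow X.Etale)
    (h : CechExact f.cechNerve P) : CExact ((ProEtS.eps X).mapArrow.obj f) (Gp P) := by
  have := Cont.preservesFiniteLimits_eps X
  exact cechExact_map (ProEtS.eps X) (Gp P) f _ (𝟙 _) (𝟙 _)
    ((Category.id_comp _).trans (Category.comp_id _).symm) (IsIso.id _) (IsIso.id _)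
    (h.of_iso (unitIso P))

theorem cZero_eps (P : X.Etaleᵒᵖ ⥤ AddCommGrpCat.{u + 1}) (f : Arrow X.Etale)
    (h : CZero f P) : CZero ((ProEtS.eps X).mapArrow.obj f) (Gp P) := by
  have := Cont.preservesFiniteLimits_eps X
  exact cZero_map (ProEtS.eps X) (Gp P) f _ (𝟙 _) (𝟙 _)
    ((Category.id_comp _).trans (Category.comp_id _).symm) (IsIso.id _) (IsIso.id _)
    (cZero_of_iso (unitIso P) h)

set_option backward.isDefEq.respectTransparency.types false in
theorem singleton_mem_etale {U V : X.Etale} (f : V ⟶ U) (hf : Function.Surjective f.left) :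
    Sieve.generate (Presieve.singleton f) ∈ X.smallEtaleTopology U := by
  apply mem_etale_topology
  intro x
  obtain ⟨y, hy⟩ := hf x
  exact ⟨V, f, y, Sieve.le_generate _ _ _ ⟨⟩, hy⟩

/-- The sheaf condition for a sheaf on the etale site. -/
theorem cZero_etale_sheaf (F : EtCoh.Ab X) (f : Arrow X.Etale)
    (hf : Function.Surjective f.hom.left) : CZero f F.obj := by
  intro x hx
  exact exists_of_cd_zero F f.hom (singleton_mem_etale f.hom hf) x hx

theorem cExact_etale_injective (I : EtCoh.Ab X) [Injective I] (f : Arrow X.Etale) :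
    CechExact f.cechNerve I.obj :=
  cechExact_of_injective_sheaf _ (nerve_coneOp f.hom) I

end Groth.Agent.Proet.CechEt
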