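import Groth.Agent.Proet.EpsPre
import Mathlib.AlgebraicGeometry.AffineTransitionLimit

/-!
# Sections of the presheaf pullback over cofiltered limits
-/

set_option autoImplicit false
universe u

open CategoryTheory CategoryTheory.Limits AlgebraicGeometry Opposite

namespace Groth.Agent.Proet.EpsLim

open EpsPre

variable {X : Scheme.{u}} {K : Type u} [SmallCategory K]

/-- A cone in `X.ProEt` that is a limit in `Over X` of quasi-compact quasi-separated objects
with affine transition maps. -/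
structure IsProLim (D : K ⥤ X.ProEt) (c : Cone D) : Prop where
  lim : Nonempty (IsLimit ((Scheme.ProEt.forget X).mapCone c))
  aff : ∀ {i j : K} (f : i ⟶ j), IsAffineHom (D.map f).left
  qc : ∀ i : K, CompactSpace (D.obj i).left
  qs : ∀ i : K, QuasiSeparatedSpace (D.obj i).left

set_option backward.isDefEq.respectTransparency.types false in
/-- The structure maps as a natural transformation. -/
def strMap (D : K ⥤ X.ProEt) :
    D ⋙ Scheme.ProEt.forget X ⋙ Over.forget X ⟶ (Functor.const K).obj X where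
  app := fun k => (D.obj k).hom
  naturality := fun i j f => by
    have : (D.map f).left ≫ (D.obj j).hom = (D.obj i).hom := Over.w (D.map f).hom
    exact this.trans (Category.comp_id _).symm

set_option backward.isDefEq.respectTransparency.types false in
theorem IsProLim.exists_hom [IsCofiltered K] {D : K ⥤ X.ProEt} {c : Cone D} (h : IsProLim D c)
    {U : X.Etale} (g : c.pt ⟶ (ProEtS.eps X).obj U) :
    ∃ (k : K) (g' : D.obj k ⟶ (ProEtS.eps X).obj U), c.π.app k ≫ g' = g := by
  obtain ⟨⟨hc⟩, haff, hqc, hqs⟩ := h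
  let D' : K ⥤ Scheme.{u} := D ⋙ Scheme.ProEt.forget X ⋙ Over.forget X
  let t : D' ⟶ (Functor.const K).obj X := strMap D
  have hc' : IsLimit ((Over.forget X).mapCone ((Scheme.ProEt.forget X).mapCone c)) :=
    isLimitOfPreserves (Over.forget X) hc
  have h1 : ∀ {i j : K} (f : i ⟶ j), IsAffineHom (D'.map f) := fun f => haff f
  have h2 : ∀ i : K, CompactSpace (D'.obj i) := hqc
  have h3 : ∀ i : K, QuasiSeparatedSpace (D'.obj i) := hqs
  obtain ⟨k, g', hg', hg''⟩ := Scheme.exists_π_app_comp_eq_of_locallyOfFinitePresentation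
    D' t U.hom _ hc' g.left (by
      ext k
      have e1 : (c.π.app k).left ≫ (D.obj k).hom = c.pt.hom := Over.w (c.π.app k).hom
      have e2 : g.left ≫ U.hom = c.pt.hom := Over.w g.hom
      exact e1.trans e2.symm)
  refine ⟨k, MorphismProperty.Over.homMk g' hg'' trivial, ?_⟩
  apply MorphismProperty.Comma.Hom.ext'
  apply Over.OverMorphism.ext
  exact hg'

set_option backward.isDefEq.respectTransparency.types false in
theorem IsProLim.exists_hom_eq [IsCofiltered K] {D : K ⥤ X.ProEt} {c : Cone D} (h : IsProLim D c)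
    {U : X.Etale} {k : K} (g g' : D.obj k ⟶ (ProEtS.eps X).obj U)
    (hg : c.π.app k ≫ g = c.π.app k ≫ g') :
    ∃ (k' : K) (f : k' ⟶ k), D.map f ≫ g = D.map f ≫ g' := by
  obtain ⟨⟨hc⟩, haff, hqc, hqs⟩ := h
  let D' : K ⥤ Scheme.{u} := D ⋙ Scheme.ProEt.forget X ⋙ Over.forget X
  let t : D' ⟶ (Functor.const K).obj X := strMap D
  have hc' : IsLimit ((Over.forget X).mapCone ((Scheme.ProEt.forget X).mapCone c)) :=
    isLimitOfPreserves (Over.forget X) hc
  have h1 : ∀ {i j : K} (f : i ⟶ j), IsAffineHom (D'.map f) := fun f => haff f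
  have h2 : ∀ i : K, CompactSpace (D'.obj i) := hqc
  obtain ⟨k', f, hf⟩ := Scheme.exists_hom_comp_eq_comp_of_locallyOfFiniteType
    D' t U.hom _ hc' (i := k) g.left g'.left (Over.w g.hom).symm (Over.w g'.hom).symm
    congr($(hg).left)
  refine ⟨k', f, ?_⟩
  apply MorphismProperty.Comma.Hom.ext'
  apply Over.OverMorphism.ext
  exact hf

/-- Every section of `Gp P` over a limit comes from a finite level. -/
theorem IsProLim.exists_section [IsCofiltered K] {D : K ⥤ X.ProEt} {c : Cone D}
    (h : IsProLim D c) (P : X.Etaleᵒᵖ ⥤ AddCommGrpCat.{u + 1}) (x : (Gp P).obj (op c.pt)) :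
    ∃ (k : K) (y : (Gp P).obj (op (D.obj k))), (Gp P).map (c.π.app k).op y = x := by
  obtain ⟨U, g, s, rfl⟩ := exists_rep P x
  obtain ⟨k, g', rfl⟩ := h.exists_hom g
  exact ⟨k, cls P g' s, LanElem.map_cls _ _ _ _ _⟩

/-- A section of `Gp P` at a finite level which dies in the limit dies at a finite level. -/
theorem IsProLim.exists_section_eq_zero [IsCofiltered K] {D : K ⥤ X.ProEt} {c : Cone D}
    (h : IsProLim D c) (P : X.Etaleᵒᵖ ⥤ AddCommGrpCat.{u + 1}) {k : K}
    (y : (Gp P).obj (op (D.obj k))) (hy : (Gp P).map (c.π.app k).op y = 0) :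
    ∃ (k' : K) (f : k' ⟶ k), (Gp P).map (D.map f).op y = 0 := by
  obtain ⟨U, g, s, rfl⟩ := exists_rep P y
  have hy' : cls P (c.π.app k ≫ g) s = 0 := (LanElem.map_cls _ _ _ _ _).symm.trans hy
  obtain ⟨U', g', j, hj, hs⟩ := exists_of_eq_zero P _ _ hy'
  obtain ⟨k₁, g₁, rfl⟩ := h.exists_hom g'
  obtain ⟨k₂, a, b, -⟩ := IsCofilteredOrEmpty.cone_objs k k₁
  have hw : c.π.app k₂ ≫ D.map a = c.π.app k := c.w a
  have hw' : c.π.app k₂ ≫ D.map b = c.π.app k₁ := c.w b
  obtain ⟨k₃, f, hf⟩ := h.exists_hom_eq (k := k₂) (D.map a ≫ g)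
    (D.map b ≫ g₁ ≫ (ProEtS.eps X).map j) (by
      rw [reassoc_of% hw, reassoc_of% hw', ← hj, Category.assoc])
  refine ⟨k₃, f ≫ a, ?_⟩
  refine (LanElem.map_cls _ _ _ _ _).trans ?_
  rw [Functor.map_comp, Category.assoc, hf]
  have := LanElem.cls_comp (ProEtS.eps X) P (D.map f ≫ D.map b ≫ g₁) j s
  simp only [Category.assoc] at this
  rw [this, hs]
  exact LanElem.cls_zero _ _ _

end Groth.Agent.Proet.EpsLim
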