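import Groth.Agent.Proet.NerveProp
import Groth.Agent.Proet.EpsLim
import Groth.Agent.Proet.CechAcyclic

/-!
# Cech complexes of the presheaf pullback over cofiltered limits of arrows

If an arrow of `X.ProEt` is a limit of arrows of quasi-compact quasi-separated objects with affine
transition maps, then Cech exactness of `Gp P` (and the sheaf condition in degree `0`) passes
to the limit.
-/

set_option autoImplicit false
universe u

open CategoryTheory CategoryTheory.Limits AlgebraicGeometry Opposite Simplicial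

namespace Groth.Agent.Proet.CechLim

open EpsPre EpsLim NerveLim NerveProp CechEl

variable {X : Scheme.{u}} {K : Type u} [SmallCategory K]

/-- The underlying scheme. -/
abbrev sch (X : Scheme.{u}) : X.ProEt ⥤ Scheme.{u} := Scheme.ProEt.forget X ⋙ Over.forget X

theorem qc_of_qcqs {Y Z : Scheme.{u}} (f : Y ⟶ Z) (hY : CompactSpace Y)
    (hZ : QuasiSeparatedSpace Z) : QuasiCompact f := inferInstance

theorem qs_of_qs {Y Z : Scheme.{u}} (f : Y ⟶ Z) (hY : QuasiSeparatedSpace Y) :
    QuasiSeparated f := inferInstance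

theorem compactSpace_of {Y Z : Scheme.{u}} (f : Y ⟶ Z) (h : QuasiCompact f)
    (hZ : CompactSpace Z) : CompactSpace Y := QuasiCompact.compactSpace_of_compactSpace f

theorem quasiSeparatedSpace_of {Y Z : Scheme.{u}} (f : Y ⟶ Z) (h : QuasiSeparated f)
    (hZ : QuasiSeparatedSpace Z) : QuasiSeparatedSpace Y := quasiSeparatedSpace_of_quasiSeparated f

set_option backward.isDefEq.respectTransparency.types false in
theorem qc_nerve (f : Arrow X.ProEt) (hl : CompactSpace ((sch X).obj (Arrow.leftFunc.obj f)))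
    (hr : CompactSpace ((sch X).obj (Arrow.rightFunc.obj f)))
    (hr' : QuasiSeparatedSpace ((sch X).obj (Arrow.rightFunc.obj f))) (n : ℕ) :
    CompactSpace ((sch X).obj ((nerveAt X.ProEt n).obj f)) :=
  compactSpace_of ((sch X).map ((bs X.ProEt n).app f))
    (map_bs_mem (sch X) @QuasiCompact f (qc_of_qcqs _ hl hr') n) hr

set_option backward.isDefEq.respectTransparency.types false in
theorem qs_nerve (f : Arrow X.ProEt)
    (hl : QuasiSeparatedSpace ((sch X).obj (Arrow.leftFunc.obj f)))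
    (hr : QuasiSeparatedSpace ((sch X).obj (Arrow.rightFunc.obj f))) (n : ℕ) :
    QuasiSeparatedSpace ((sch X).obj ((nerveAt X.ProEt n).obj f)) :=
  quasiSeparatedSpace_of ((sch X).map ((bs X.ProEt n).app f))
    (map_bs_mem (sch X) @QuasiSeparated f (qs_of_qs _ hl) n) hr

set_option backward.isDefEq.respectTransparency.types false in
/-- The nerve levels of a limit of arrows. -/
theorem isProLim_nerve (D : K ⥤ Arrow X.ProEt) (c : Cone D)
    (hl : IsProLim (D ⋙ Arrow.leftFunc) (Arrow.leftFunc.mapCone c))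
    (hr : IsProLim (D ⋙ Arrow.rightFunc) (Arrow.rightFunc.mapCone c)) (n : ℕ) :
    IsProLim (D ⋙ nerveAt X.ProEt n) ((nerveAt X.ProEt n).mapCone c) where
  lim := isLimit_nerve (Scheme.ProEt.forget X) n c hl.lim.some hr.lim.some
  aff f := isAffineHom_map_nerve (sch X) (D.map f) (hl.aff f) (hr.aff f) n
  qc i := qc_nerve (D.obj i) (hl.qc i) (hr.qc i) (hr.qs i) n
  qs i := qs_nerve (D.obj i) (hl.qs i) (hr.qs i) n

/-- The Cech differential of a presheaf along an arrow. -/
noncomputable abbrev CExact (f : Arrow X.ProEt) (P : X.ProEtᵒᵖ ⥤ AddCommGrpCat.{u + 1}) : Prop :=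
  CechExact (f.cechNerve) P

/-- The sheaf condition in degree `0`. -/
def CZero {C : Type*} [Category* C] [HasFiniteWidePullbacks C] (f : Arrow C)
    (P : Cᵒᵖ ⥤ AddCommGrpCat.{u + 1}) : Prop :=
  ∀ x : P.obj (op ((nerveAt C 0).obj f)), cd (f.cechNerve) P 0 x = 0 →
    ∃ y : P.obj (op (Arrow.rightFunc.obj f)), P.map ((bs C 0).app f).op y = x

theorem map_map {C : Type*} [Category* C] (P : Cᵒᵖ ⥤ AddCommGrpCat.{u + 1}) {A B D : C}
    (f : A ⟶ B) (g : B ⟶ D) (x : P.obj (op D)) :
    P.map f.op (P.map g.op x) = P.map (f ≫ g).op x := by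
  rw [op_comp, P.map_comp]
  rfl

section

variable [IsCofiltered K] (P : X.Etaleᵒᵖ ⥤ AddCommGrpCat.{u + 1}) {D : K ⥤ Arrow X.ProEt}
  {c : Cone D} (hl : IsProLim (D ⋙ Arrow.leftFunc) (Arrow.leftFunc.mapCone c))
  (hr : IsProLim (D ⋙ Arrow.rightFunc) (Arrow.rightFunc.mapCone c))

include hl hr

theorem exists_level (n : ℕ) (x : (Gp P).obj (op ((nerveAt X.ProEt n).obj c.pt))) :
    ∃ (k : K) (y : (Gp P).obj (op ((nerveAt X.ProEt n).obj (D.obj k)))),
      (Gp P).map ((nerveAt X.ProEt n).map (c.π.app k)).op y = x :=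
  (isProLim_nerve D c hl hr n).exists_section P x

theorem exists_level_zero (n : ℕ) (k : K)
    (y : (Gp P).obj (op ((nerveAt X.ProEt n).obj (D.obj k))))
    (hy : (Gp P).map ((nerveAt X.ProEt n).map (c.π.app k)).op y = 0) :
    ∃ (k' : K) (f : k' ⟶ k), (Gp P).map ((nerveAt X.ProEt n).map (D.map f)).op y = 0 :=
  (isProLim_nerve D c hl hr n).exists_section_eq_zero P y hy

/-- Reduction of a cocycle over the limit to a finite level. -/
theorem exists_cocycle (n : ℕ) (x : (Gp P).obj (op ((nerveAt X.ProEt n).obj c.pt)))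
    (hx : cd (c.pt.cechNerve) (Gp P) n x = 0) :
    ∃ (k : K) (y : (Gp P).obj (op ((nerveAt X.ProEt n).obj (D.obj k)))),
      (Gp P).map ((nerveAt X.ProEt n).map (c.π.app k)).op y = x ∧
        cd ((D.obj k).cechNerve) (Gp P) n y = 0 := by
  obtain ⟨k, y, rfl⟩ := exists_level P hl hr n x
  have h1 : cd (c.pt.cechNerve) (Gp P) n
      ((Gp P).map ((nerveAt X.ProEt n).map (c.π.app k)).op y) =
      (Gp P).map ((nerveAt X.ProEt (n + 1)).map (c.π.app k)).op
        (cd ((D.obj k).cechNerve) (Gp P) n y) :=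
    cd_map (SimplicialObject.cechNerve.map (c.π.app k)) (Gp P) n y
  obtain ⟨k', f, hf⟩ := exists_level_zero P hl hr (n + 1) k
    (cd ((D.obj k).cechNerve) (Gp P) n y) (h1.symm.trans hx)
  refine ⟨k', (Gp P).map ((nerveAt X.ProEt n).map (D.map f)).op y, ?_, ?_⟩
  · rw [map_map, ← Functor.map_comp, c.w]
  · have h2 : cd ((D.obj k').cechNerve) (Gp P) n
      ((Gp P).map ((nerveAt X.ProEt n).map (D.map f)).op y) =
      (Gp P).map ((nerveAt X.ProEt (n + 1)).map (D.map f)).op
        (cd ((D.obj k).cechNerve) (Gp P) n y) :=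
      cd_map (SimplicialObject.cechNerve.map (D.map f)) (Gp P) n y
    exact h2.trans hf

theorem cExact_lim (h : ∀ k, CExact (D.obj k) (Gp P)) : CExact c.pt (Gp P) := by
  intro n x hx
  obtain ⟨k, y, rfl, hy⟩ := exists_cocycle P hl hr (n + 1) x hx
  obtain ⟨z, hz⟩ := h k n y hy
  refine ⟨(Gp P).map ((nerveAt X.ProEt n).map (c.π.app k)).op z, ?_⟩
  have h1 : cd (c.pt.cechNerve) (Gp P) n
      ((Gp P).map ((nerveAt X.ProEt n).map (c.π.app k)).op z) =
      (Gp P).map ((nerveAt X.ProEt (n + 1)).map (c.π.app k)).op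
        (cd ((D.obj k).cechNerve) (Gp P) n z) :=
    cd_map (SimplicialObject.cechNerve.map (c.π.app k)) (Gp P) n z
  rw [h1, hz]

theorem cZero_lim (h : ∀ k, CZero (D.obj k) (Gp P)) : CZero c.pt (Gp P) := by
  intro x hx
  obtain ⟨k, y, rfl, hy⟩ := exists_cocycle P hl hr 0 x hx
  obtain ⟨z, hz⟩ := h k y hy
  refine ⟨(Gp P).map (Arrow.rightFunc.map (c.π.app k)).op z, ?_⟩
  rw [map_map, ← (bs X.ProEt 0).naturality, ← map_map, hz]

end

end Groth.Agent.Proet.CechLim
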