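import Groth.Agent.Proet.WCBasic

/-!
# Weakly contractible objects of the small pro-etale site
-/

set_option autoImplicit false
universe u v w

open CategoryTheory CategoryTheory.Limits AlgebraicGeometry Opposite

namespace Groth.Agent.Proet.WC

open Scheme TensorProduct WCBasic

variable {X : Scheme.{u}}

/-- `IsWC` in terms of locally surjective maps. -/
theorem isWC_iff (U : X.ProEt) : ProEtS.IsWC U ↔
    ∀ (F G : Sheaf (Scheme.ProEt.topology X) (Type (u + 1))) (φ : F ⟶ G),
      Sheaf.IsLocallySurjective φ → Function.Surjective (φ.hom.app (op U)) := by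
  constructor
  · intro h F G φ hφ
    exact h F G φ inferInstance
  · intro h F G φ hφ
    exact h F G φ ((Sheaf.isLocallySurjective_iff_epi φ).2 hφ)

/-- Covers of weakly contractible objects by a single object split. -/
theorem exists_section_of_isWC {U V : X.ProEt} (hU : ProEtS.IsWC U) (g : V ⟶ U)
    (hg : Sieve.generate (Presieve.singleton g) ∈ Scheme.ProEt.topology X U) :
    ∃ s : U ⟶ V, s ≫ g = 𝟙 U := by
  rw [isWC_iff] at hU
  let φ := (GrothendieckTopology.uliftYoneda.{u + 1} (Scheme.ProEt.topology X)).map g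
  have hφ : Sheaf.IsLocallySurjective φ := by
    refine ⟨fun {Z} t => ?_⟩
    refine (Scheme.ProEt.topology X).superset_covering ?_
      ((Scheme.ProEt.topology X).pullback_stable (ULift.down t : Z ⟶ U) hg)
    rintro Y f ⟨_, k, _, ⟨⟩, hk⟩
    exact ⟨ULift.up k, congrArg ULift.up hk⟩
  obtain ⟨s, hs⟩ := hU _ _ φ hφ (ULift.up (𝟙 U))
  refine ⟨s.down, ?_⟩
  exact congrArg ULift.down hs

set_option backward.isDefEq.respectTransparency.types false in
/-- A covering sieve of an affine object contains the pieces of a finite affine family whose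
disjoint union is an affine cover. -/
theorem isWC_of_exists_section {U : X.ProEt} [CompactSpace U.left]
    (h : ∀ (V : X.ProEt) (g : V ⟶ U), IsAffine V.left → Surjective g.left →
      ∃ s : U ⟶ V, s ≫ g = 𝟙 U) : ProEtS.IsWC U := by
  rw [isWC_iff]
  intro F G φ hφ t
  have ht : Presheaf.imageSieve φ.hom t ∈ Scheme.ProEt.topology X U :=
    Presheaf.imageSieve_mem _ φ.hom (U := op U) t
  obtain ⟨n, W, g, hW, hg, hcov⟩ := exists_finite_affine ht
  choose x hx using hg
  have hF : Presieve.IsSheaf (Scheme.ProEt.topology X) F.obj :=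
    (isSheaf_iff_isSheaf_of_type _ _).1 F.property
  have hG : Presieve.IsSheaf (Scheme.ProEt.topology X) G.obj :=
    (isSheaf_iff_isSheaf_of_type _ _).1 G.property
  obtain ⟨y, hy⟩ := (bijective_sigma W hF).2 x
  obtain ⟨s, hs⟩ := h (sigmaObj W) (sigmaDesc W g) (isAffine_sigmaObj W hW)
    (surjective_sigmaDesc W g hcov)
  refine ⟨F.obj.map s.op y, ?_⟩
  have h1 : φ.hom.app (op (sigmaObj W)) y = G.obj.map (sigmaDesc W g).op t := by
    apply (bijective_sigma W hG).1
    funext i
    have h2 : F.obj.map (sigmaι W i).op y = x i := congrFun hy i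
    have h3 : φ.hom.app (op (W i)) (x i) = G.obj.map (g i).op t := hx i
    have h4 : G.obj.map (sigmaι W i).op (φ.hom.app (op (sigmaObj W)) y) =
        φ.hom.app (op (W i)) (F.obj.map (sigmaι W i).op y) :=
      (ConcreteCategory.congr_hom (φ.hom.naturality (sigmaι W i).op) y).symm
    have h5 : G.obj.map (sigmaι W i).op (G.obj.map (sigmaDesc W g).op t) =
        G.obj.map (g i).op t := by
      rw [← sigmaι_desc W g i, op_comp, Functor.map_comp]
      rfl
    dsimp only
    rw [h4, h2, h3, h5]
  have h6 : φ.hom.app (op U) (F.obj.map s.op y) =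
      G.obj.map s.op (φ.hom.app (op (sigmaObj W)) y) :=
    (ConcreteCategory.congr_hom (φ.hom.naturality s.op) y)
  rw [h6, h1]
  have h7 : G.obj.map s.op (G.obj.map (sigmaDesc W g).op t) =
      G.obj.map (s ≫ sigmaDesc W g).op t := by
    rw [op_comp, Functor.map_comp]
    rfl
  rw [h7, hs]
  simp

set_option backward.isDefEq.respectTransparency.types false in
/-- Sections of affine weakly etale covers from retractions. -/
theorem exists_section_of_isWContractible {U V : X.ProEt} [IsAffine U.left] [IsAffine V.left]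
    (hU : EtPBC.IsWContractible ↥(Γ(U.left, ⊤))) (g : V ⟶ U) [Surjective g.left] :
    ∃ s : U ⟶ V, s ≫ g = 𝟙 U := by
  have hg := weaklyEtale_left g
  let A : Type u := ↥(Γ(U.left, ⊤))
  let B : Type u := ↥(Γ(V.left, ⊤))
  let φ : Γ(U.left, ⊤) ⟶ Γ(V.left, ⊤) := Scheme.Hom.appTop g.left
  let _ : Algebra A B := φ.hom.toAlgebra
  have e := arrowIsoSpecΓOfIsAffine g.left
  have h1 : WeaklyEtale (Spec.map φ) :=
    (MorphismProperty.arrow_mk_iso_iff @WeaklyEtale e).1 hg
  have h2 : Surjective (Spec.map φ) :=
    (MorphismProperty.arrow_mk_iso_iff @Surjective e).1 inferInstance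
  have h3 : Algebra.WeaklyEtale A B := (weaklyEtale_Spec_iff A B).1 h1
  have h4 : Module.FaithfullyFlat A B :=
    @faithfullyFlat_of_surjective A B _ _ _ h1.flat h2
  obtain ⟨r⟩ := hU B h4 h3
  let s' : U.left ⟶ V.left := (Scheme.isoSpec U.left).hom ≫
    Spec.map (CommRingCat.ofHom r.toRingHom) ≫ (Scheme.isoSpec V.left).inv
  have hs' : s' ≫ g.left = 𝟙 _ := by
    have h5 : φ ≫ CommRingCat.ofHom r.toRingHom = 𝟙 _ := by
      ext a
      exact r.commutes a
    simp only [s', Category.assoc]
    rw [← Scheme.isoSpec_inv_naturality, ← Spec.map_comp_assoc, h5]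
    simp
  have hs2 : s' ≫ V.hom = U.hom := by
    have h6 : g.left ≫ U.hom = V.hom := Over.w g.hom
    rw [← h6, ← Category.assoc, hs', Category.id_comp]
  refine ⟨MorphismProperty.Over.homMk s' hs2, ?_⟩
  apply MorphismProperty.Over.Hom.ext
  exact hs'

set_option backward.isDefEq.respectTransparency.types false in
/-- Retractions from sections. -/
theorem isWContractible_of_exists_section {U : X.ProEt} [IsAffine U.left]
    (h : ∀ (V : X.ProEt) (g : V ⟶ U), IsAffine V.left → Surjective g.left →
      ∃ s : U ⟶ V, s ≫ g = 𝟙 U) : EtPBC.IsWContractible ↥(Γ(U.left, ⊤)) := by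
  intro B _ _ hff hwe
  let A : Type u := ↥(Γ(U.left, ⊤))
  let φ : CommRingCat.of A ⟶ CommRingCat.of B := CommRingCat.ofHom (algebraMap A B)
  have h1 : WeaklyEtale (Spec.map φ) := (weaklyEtale_Spec_iff A B).2 hwe
  have h2 : Surjective (Spec.map φ) := surjective_of_faithfullyFlat A B
  let p : Spec (CommRingCat.of B) ⟶ U.left := Spec.map φ ≫ (Scheme.isoSpec U.left).inv
  have h3 : WeaklyEtale (p ≫ U.hom) := inferInstance
  let V : X.ProEt := Scheme.ProEt.mk (p ≫ U.hom)
  let g : V ⟶ U := MorphismProperty.Over.homMk p rfl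
  have hp : Surjective p := inferInstance
  obtain ⟨s, hs⟩ := h V g (inferInstanceAs (IsAffine (Spec (CommRingCat.of B)))) hp
  have hs' : s.left ≫ p = 𝟙 _ := congrArg (fun t => t.left) hs
  let q : Spec (CommRingCat.of A) ⟶ Spec (CommRingCat.of B) :=
    (Scheme.isoSpec U.left).inv ≫ s.left
  obtain ⟨ψ, hψ⟩ := Spec.map_surjective q
  have h5 : φ ≫ ψ = 𝟙 _ := by
    apply Spec.map_injective
    rw [Spec.map_comp, hψ, Spec.map_id]
    have h6 : s.left ≫ Spec.map φ = (Scheme.isoSpec U.left).hom := by
      rw [← cancel_mono (Scheme.isoSpec U.left).inv, Iso.hom_inv_id, Category.assoc]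
      exact hs'
    simp only [q, Category.assoc]
    exact (congrArg (fun t => (Scheme.isoSpec U.left).inv ≫ t) h6).trans
      (Scheme.isoSpec U.left).inv_hom_id
  exact ⟨{ ψ.hom with commutes' := fun a => congrArg (fun t => t.hom a) h5 }⟩

/-- Stacks 098H, (1) iff (2), for the small pro-etale site. -/
theorem isWContractible_iff_isWC (U : X.ProEt) [IsAffine U.left] :
    EtPBC.IsWContractible ↥(Γ(U.left, ⊤)) ↔ ProEtS.IsWC U := by
  constructor
  · intro h
    exact isWC_of_exists_section fun V g hV hg => exists_section_of_isWContractible h g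
  · intro h
    refine isWContractible_of_exists_section fun V g hV hg => ?_
    exact exists_section_of_isWC h g (generate_singleton_mem g)

end Groth.Agent.Proet.WC
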