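import Groth.Agent.Proet.WCScheme
import Groth.Agent.Proet.WC

/-!
# Sections of weakly etale morphisms over affine schemes with w-contractible ring of functions, 2

* `exists_disjoint_refinement`: open covers are refined by finite disjoint open covers.
* `exists_lift`: lifting of sections of weakly etale morphisms along closed immersions.
* `isWContractible_open`: clopen pieces.
-/

set_option autoImplicit false
universe u

open CategoryTheory CategoryTheory.Limits AlgebraicGeometry Opposite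

namespace Groth.Agent.Proet.WCScheme2

open WCScheme

set_option backward.isDefEq.respectTransparency.types false in
/-- Open covers of an affine scheme with w-contractible ring of functions are refined by finite
disjoint open covers. -/
theorem exists_disjoint_refinement {V : Scheme.{u}} [IsAffine V]
    (hV : EtPBC.IsWContractible Γ(V, ⊤)) {ι : Type*} (O : ι → V.Opens)
    (hO : ∀ v : V, ∃ i, v ∈ O i) :
    ∃ (n : ℕ) (D : Fin n → V.Opens) (k : Fin n → ι), (∀ l, D l ≤ O (k l)) ∧
      (∀ v, ∃ l, v ∈ D l) ∧ Pairwise (fun l m => Disjoint (D l) (D m)) := by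
  have h1 : ∀ v : V, ∃ (U : V.Opens) (i : ι), IsAffineOpen U ∧ v ∈ U ∧ U ≤ O i := by
    intro v
    obtain ⟨i, hi⟩ := hO v
    obtain ⟨U, hU, hvU, hUO⟩ := (TopologicalSpace.Opens.isBasis_iff_nbhd.1 V.isBasis_affineOpens)
      hi
    exact ⟨U, i, hU, hvU, hUO⟩
  choose U i hU hvU hUO using h1
  obtain ⟨t, ht⟩ := isCompact_univ.elim_finite_subcover (fun v : V => (U v : Set V))
    (fun v => (U v).2) (fun v _ => Set.mem_iUnion.2 ⟨v, hvU v⟩)
  let e := (Fintype.equivFin t).symm
  let n := Fintype.card t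
  let U' : Fin n → V.Opens := fun l => U (e l)
  let T : Scheme.{u} := ∐ fun l : Fin n => (U' l : Scheme.{u})
  let p : T ⟶ V := Sigma.desc fun l => (U' l).ι
  have : ∀ l : Fin n, IsAffine (U' l : Scheme.{u}) := fun l => hU _
  have : IsAffine T := (inferInstance : IsAffine (∐ fun l : Fin n => (U' l : Scheme.{u})))
  have : WeaklyEtale p := IsZariskiLocalAtSource.sigmaDesc (P := @WeaklyEtale)
    fun _ => inferInstance
  have : Surjective p := by
    refine Surjective.sigmaDesc_of_union_range_eq_univ (Set.eq_univ_iff_forall.2 fun v => ?_)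
    obtain ⟨w, hw, hv⟩ := Set.mem_iUnion₂.1 (ht (Set.mem_univ v))
    refine Set.mem_iUnion.2 ⟨e.symm ⟨w, hw⟩, ?_⟩
    rw [Scheme.Opens.range_ι]
    simp only [U', Equiv.apply_symm_apply]
    exact hv
  obtain ⟨σ, hσ⟩ := exists_section hV p
  let D : Fin n → V.Opens := fun l => σ ⁻¹ᵁ (Sigma.ι (fun l : Fin n => (U' l : Scheme.{u})) l).opensRange
  refine ⟨n, D, fun l => i (e l), ?_, ?_, ?_⟩
  · rintro l v ⟨y, hy⟩
    apply hUO
    have h2 : p (σ v) = v := by
      rw [← Scheme.Hom.comp_apply, hσ]; rfl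
    have h3 : p (Sigma.ι (fun l : Fin n => (U' l : Scheme.{u})) l y) = (U' l).ι y := by
      rw [← Scheme.Hom.comp_apply, Sigma.ι_desc]
    have h4 : v = (U' l).ι y := by
      rw [← h3, ← h2]
      exact congrArg p hy.symm
    rw [h4]
    exact y.2
  · intro v
    obtain ⟨l, y, hy⟩ := WCBasic.exists_mem_range_sigmaι
      (fun l : Fin n => (U' l : Scheme.{u})) (σ v)
    exact ⟨l, y, hy⟩
  · intro l m hlm
    have := disjoint_opensRange_sigmaι (fun l : Fin n => (U' l : Scheme.{u})) l m hlm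
    rw [disjoint_iff] at this ⊢
    rw [← Scheme.Hom.preimage_inf, this]
    rfl

set_option backward.isDefEq.respectTransparency.types false in
/-- Lifting of sections of weakly etale morphisms along closed immersions containing all closed
points, over an affine scheme with w-contractible ring of functions. -/
theorem exists_lift {V T W : Scheme.{u}} [IsAffine V]
    (hV : EtPBC.IsWContractible Γ(V, ⊤)) (j : W ⟶ V) [IsClosedImmersion j]
    (hj : ∀ v : V, ∃ w : W, v ⤳ j w) (p : T ⟶ V) [WeaklyEtale p] (s : W ⟶ T) (hs : s ≫ p = j) :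
    ∃ σ : V ⟶ T, σ ≫ p = 𝟙 V ∧ j ≫ σ = s := by
  have h1 : ∀ w : W, ∃ (U : T.Opens), IsAffineOpen U ∧ s w ∈ U := by
    intro w
    obtain ⟨U, hU, hvU, -⟩ := (TopologicalSpace.Opens.isBasis_iff_nbhd.1 T.isBasis_affineOpens)
      (show s w ∈ (⊤ : T.Opens) from trivial)
    exact ⟨U, hU, hvU⟩
  choose U hU hsU using h1
  have h2 : ∀ w : W, ∃ O : V.Opens, j ⁻¹ᵁ O = s ⁻¹ᵁ (U w) := by
    intro w
    obtain ⟨O, hO, hO'⟩ := j.isEmbedding.isInducing.isOpen_iff.1 (s ⁻¹ᵁ (U w)).2
    exact ⟨⟨O, hO⟩, TopologicalSpace.Opens.ext hO'⟩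
  choose O hO using h2
  obtain ⟨n, D, k, hDO, hDcov, hDdisj⟩ := exists_disjoint_refinement hV O (by
    intro v
    obtain ⟨w, hw⟩ := hj v
    refine ⟨w, hw.mem_open (O w).2 ?_⟩
    have : w ∈ j ⁻¹ᵁ (O w) := by rw [hO]; exact hsU w
    exact this)
  let T' : Scheme.{u} := ∐ fun l : Fin n => (U (k l) : Scheme.{u})
  let q : T' ⟶ T := Sigma.desc fun l => (U (k l)).ι
  have : ∀ l : Fin n, IsAffine (U (k l) : Scheme.{u}) := fun l => hU _
  have : IsAffine T' := (inferInstance : IsAffine (∐ fun l : Fin n => (U (k l) : Scheme.{u})))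
  have : WeaklyEtale q := IsZariskiLocalAtSource.sigmaDesc (P := @WeaklyEtale)
    fun _ => inferInstance
  let Wl : Fin n → W.Opens := fun l => j ⁻¹ᵁ (D l)
  have hWl : ∀ l, Wl l ≤ s ⁻¹ᵁ (U (k l)) := fun l => by
    rw [← hO]
    exact fun x hx => hDO l hx
  obtain ⟨hc⟩ := nonempty_isColimit_cofanMk_of (fun l => (Wl l).ι) (by
      rw [eq_top_iff]
      intro w _
      obtain ⟨l, hl⟩ := hDcov (j w)
      rw [TopologicalSpace.Opens.mem_iSup]
      refine ⟨l, ?_⟩
      rw [Scheme.Opens.opensRange_ι]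
      exact hl) (by
      intro l m hlm
      have : Disjoint (D l) (D m) := hDdisj hlm
      simp only [Function.onFun, Scheme.Opens.opensRange_ι]
      rw [disjoint_iff] at this ⊢
      rw [← Scheme.Hom.preimage_inf, this]
      rfl)
  have hr : ∀ l, Set.range ((Wl l).ι ≫ s) ⊆ Set.range (U (k l)).ι := by
    rintro l _ ⟨w, rfl⟩
    rw [Scheme.Opens.range_ι, Scheme.Hom.comp_apply]
    exact hWl l w.2
  let sl : ∀ l, (Wl l : Scheme.{u}) ⟶ (U (k l) : Scheme.{u}) := fun l =>
    IsOpenImmersion.lift (U (k l)).ι ((Wl l).ι ≫ s) (hr l)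
  have hsl : ∀ l, sl l ≫ (U (k l)).ι = (Wl l).ι ≫ s := fun l => IsOpenImmersion.lift_fac _ _ _
  let s' : W ⟶ T' := Cofan.IsColimit.desc hc fun l =>
    sl l ≫ Sigma.ι (fun l : Fin n => (U (k l) : Scheme.{u})) l
  have hs' : s' ≫ q = s := by
    refine Cofan.IsColimit.hom_ext hc _ _ fun l => ?_
    have e1 : (Wl l).ι ≫ s' = sl l ≫ Sigma.ι (fun l : Fin n => (U (k l) : Scheme.{u})) l :=
      Cofan.IsColimit.fac hc _ _
    have e2 : Sigma.ι (fun l : Fin n => (U (k l) : Scheme.{u})) l ≫ q = (U (k l)).ι :=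
      Sigma.ι_desc _ _
    change (Wl l).ι ≫ s' ≫ q = (Wl l).ι ≫ s
    rw [← Category.assoc, e1, Category.assoc, e2, hsl]
  obtain ⟨σ, h3, h4⟩ := exists_lift_affine hV j hj (q ≫ p) s' (by
    rw [← Category.assoc, hs', hs])
  exact ⟨σ ≫ q, by rw [Category.assoc, h3], by rw [← Category.assoc, h4, hs']⟩

set_option backward.isDefEq.respectTransparency.types false in
/-- The ring of functions is w-contractible if all affine weakly etale covers have sections. -/
theorem isWContractible_of_exists_section' {V : Scheme.{u}} [IsAffine V]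
    (h : ∀ (T : Scheme.{u}) (p : T ⟶ V), IsAffine T → WeaklyEtale p → Surjective p →
      ∃ σ : V ⟶ T, σ ≫ p = 𝟙 V) : EtPBC.IsWContractible Γ(V, ⊤) := by
  have : IsAffine (ProEtS.topP V).left := ‹IsAffine V›
  refine WC.isWContractible_of_exists_section (U := ProEtS.topP V) fun T g hT hg => ?_
  have hw := WCBasic.weaklyEtale_left g
  obtain ⟨σ, hσ⟩ := h T.left g.left hT hw hg
  refine ⟨MorphismProperty.Over.homMk σ ?_, ?_⟩
  · have h6 : g.left ≫ (ProEtS.topP V).hom = T.hom := Over.w g.hom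
    refine (congrArg (fun t => σ ≫ t) h6.symm).trans ?_
    refine (Category.assoc _ _ _).symm.trans ?_
    exact (congrArg (fun t => t ≫ (ProEtS.topP V).hom) hσ).trans (Category.id_comp _)
  · apply MorphismProperty.Over.Hom.ext
    exact hσ

set_option backward.isDefEq.respectTransparency.types false in
/-- Clopen pieces of affine schemes with w-contractible ring of functions. -/
theorem isWContractible_open {V : Scheme.{u}} [IsAffine V]
    (hV : EtPBC.IsWContractible Γ(V, ⊤)) (D : V.Opens) (hD : IsClosed (D : Set V)) :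
    IsAffine (D : Scheme.{u}) ∧ EtPBC.IsWContractible Γ(D, ⊤) := by
  have haff : ∀ D : V.Opens, IsClosed (D : Set V) → IsAffine (D : Scheme.{u}) := by
    intro D hD
    have : IsClosedImmersion D.ι := IsClosedImmersion.of_isPreimmersion _ (by
      rw [Scheme.Opens.range_ι]; exact hD)
    exact isAffine_of_isAffineHom D.ι
  have h1 := haff D hD
  refine ⟨h1, ?_⟩
  let D' : V.Opens := ⟨(D : Set V)ᶜ, hD.isOpen_compl⟩
  have h2 : IsAffine (D' : Scheme.{u}) := haff D' D.2.isClosed_compl
  refine isWContractible_of_exists_section' fun T p _ _ _ => ?_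
  let f : Bool → Scheme.{u} := fun b => bif b then T else D'
  let g : ∀ b, f b ⟶ V := fun b => match b with
    | true => p ≫ D.ι
    | false => D'.ι
  let T' : Scheme.{u} := ∐ f
  let q : T' ⟶ V := Sigma.desc g
  have : ∀ b, IsAffine (f b) := fun b => by
    cases b
    · exact h2
    · exact ‹IsAffine T›
  have : IsAffine T' := (inferInstance : IsAffine (∐ f))
  have : WeaklyEtale q := IsZariskiLocalAtSource.sigmaDesc (P := @WeaklyEtale) fun b => by
    cases b
    · exact (inferInstance : WeaklyEtale D'.ι)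
    · exact (inferInstance : WeaklyEtale (p ≫ D.ι))
  have : Surjective q := by
    refine Surjective.sigmaDesc_of_union_range_eq_univ (Set.eq_univ_iff_forall.2 fun v => ?_)
    by_cases hv : v ∈ D
    · obtain ⟨t, ht⟩ := p.surjective ⟨v, hv⟩
      refine Set.mem_iUnion.2 ⟨true, t, ?_⟩
      change (p ≫ D.ι) t = v
      rw [Scheme.Hom.comp_apply, ht]
      rfl
    · exact Set.mem_iUnion.2 ⟨false, ⟨v, hv⟩, rfl⟩
  obtain ⟨σ, hσ⟩ := exists_section hV q
  have hr : Set.range (D.ι ≫ σ) ⊆ Set.range (Sigma.ι f true) := by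
    rintro _ ⟨x, rfl⟩
    obtain ⟨b, y, hy⟩ := WCBasic.exists_mem_range_sigmaι f ((D.ι ≫ σ) x)
    have h3 : q ((D.ι ≫ σ) x) = D.ι x := by
      rw [← Scheme.Hom.comp_apply, Category.assoc, hσ, Category.comp_id]
    have h4 : ∀ (b : Bool) (y : f b), q (Sigma.ι f b y) = g b y := fun b y => by
      rw [← Scheme.Hom.comp_apply, Sigma.ι_desc]
    cases b with
    | true => exact ⟨y, hy⟩
    | false =>
      rw [← hy, h4] at h3
      have h5 : D'.ι y ∈ (D' : Set V) := y.2
      have h6 : D.ι x ∈ (D : Set V) := x.2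
      exact absurd (show D'.ι y ∈ (D : Set V) by
        have : D'.ι y = D.ι x := h3
        rw [this]; exact h6) h5
  have : IsOpenImmersion (Sigma.ι f true) := WCBasic.sigmaι_isOpenImmersion f true
  let τ : (D : Scheme.{u}) ⟶ T := IsOpenImmersion.lift (Sigma.ι f true) (D.ι ≫ σ) hr
  have hτ : τ ≫ Sigma.ι f true = D.ι ≫ σ := IsOpenImmersion.lift_fac _ _ _
  refine ⟨τ, ?_⟩
  rw [← cancel_mono D.ι, Category.id_comp, Category.assoc]
  have h7 : Sigma.ι f true ≫ q = p ≫ D.ι := Sigma.ι_desc _ _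
  rw [← h7, ← Category.assoc, hτ, Category.assoc, hσ, Category.comp_id]

end Groth.Agent.Proet.WCScheme2
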