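import Groth.Agent.Proet.PartialAdj
import Groth.Agent.Proet.WCScheme2
import Groth.Agent.Proet.WCClopen
import Groth.Agent.Proet.Cont
import Groth.Prelude.Def_ProEtS
import Mathlib.AlgebraicGeometry.Morphisms.FlatMono

/-!
# Closed immersions and the small pro-etale site: good objects
-/

set_option autoImplicit false
universe u

open CategoryTheory CategoryTheory.Limits AlgebraicGeometry Opposite

namespace Groth.Agent.Proet.ClosedImm

variable {Z X : Scheme.{u}} (i : Z ⟶ X)

/-- An object `V` of the small pro-etale site of `X` is local along `i : Z ⟶ X` if every point of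
`V` specializes to a point lying over `Z`. -/
def IsLocalAlong (V : X.ProEt) : Prop :=
  ∀ v : V.left, ∃ z : V.left, V.hom z ∈ Set.range i ∧ v ⤳ z

/-- Good objects of the small pro-etale site of `X` with respect to `i : Z ⟶ X`. -/
def goodP : ObjectProperty X.ProEt := fun V =>
  IsAffine V.left ∧ EtPBC.IsWContractible Γ(V.left, ⊤) ∧ IsLocalAlong i V

/-- The projection `V ×_X Z ⟶ V`. -/
noncomputable abbrev jV (V : X.ProEt) : ((ProEtS.bcP i).obj V).left ⟶ V.left :=
  pullback.fst V.hom i

variable {i}

set_option backward.isDefEq.respectTransparency.types false in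
theorem IsLocalAlong.exists_jV {V : X.ProEt} (hV : IsLocalAlong i V) (v : V.left) :
    ∃ w : ((ProEtS.bcP i).obj V).left, v ⤳ jV i V w := by
  obtain ⟨z, hz, hvz⟩ := hV v
  have h1 : z ∈ Set.range (pullback.fst V.hom i) := by
    rw [Scheme.Pullback.range_fst]
    exact hz
  obtain ⟨w, rfl⟩ := h1
  exact ⟨w, hvz⟩

set_option backward.isDefEq.respectTransparency.types false in
theorem jV_naturality {U V : X.ProEt} (f : V ⟶ U) :
    ((ProEtS.bcP i).map f).left ≫ jV i U = jV i V ≫ f.left :=
  (Cont.isPullback_bcP_map i f).w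

set_option backward.isDefEq.respectTransparency.types false in
instance preservesEqualizers_forget :
    PreservesLimitsOfShape WalkingParallelPair (Scheme.ProEt.forget X ⋙ Over.forget X) := by
  have : PreservesFiniteLimits (Scheme.ProEt.forget X) := inferInstance
  infer_instance

set_option backward.isDefEq.respectTransparency.types false in
/-- The equalizer of two morphisms of the small pro-etale site is an immersion. -/
theorem isImmersion_equalizerι {U V : X.ProEt} (f g : V ⟶ U) :
    IsImmersion (equalizer.ι f g).left := by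
  let F := Scheme.ProEt.forget X ⋙ Over.forget X
  have h := isLimitForkMapOfIsLimit F (equalizer.condition f g) (equalizerIsEqualizer f g)
  let e := IsLimit.conePointUniqueUpToIso h (equalizerIsEqualizer (F.map f) (F.map g))
  have he : e.hom ≫ equalizer.ι (F.map f) (F.map g) = F.map (equalizer.ι f g) :=
    IsLimit.conePointUniqueUpToIso_hom_comp h (equalizerIsEqualizer (F.map f) (F.map g))
      WalkingParallelPair.zero
  have h2 : IsImmersion (e.hom ≫ equalizer.ι (F.map f) (F.map g)) := inferInstance
  rw [he] at h2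
  exact h2

set_option backward.isDefEq.respectTransparency.types false in
theorem exists_lift_equalizer {U V : X.ProEt} (f g : V ⟶ U) {W : Scheme.{u}} (a : W ⟶ V.left)
    (h : a ≫ f.left = a ≫ g.left) :
    ∃ b : W ⟶ (equalizer f g).left, b ≫ (equalizer.ι f g).left = a := by
  let F := Scheme.ProEt.forget X ⋙ Over.forget X
  have h1 := isLimitForkMapOfIsLimit F (equalizer.condition f g) (equalizerIsEqualizer f g)
  obtain ⟨b, hb⟩ := Fork.IsLimit.lift' h1 a h
  exact ⟨b, hb⟩

set_option backward.isDefEq.respectTransparency.types false in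
theorem map_injective {U V : X.ProEt} (hV : IsLocalAlong i V) (f g : V ⟶ U)
    (h : (ProEtS.bcP i).map f = (ProEtS.bcP i).map g) : f = g := by
  have h1 : jV i V ≫ f.left = jV i V ≫ g.left := by
    rw [← jV_naturality, ← jV_naturality, h]
  obtain ⟨b, hb⟩ := exists_lift_equalizer f g (jV i V) h1
  have himm := isImmersion_equalizerι f g
  have hwe := WCBasic.weaklyEtale_left (equalizer.ι f g)
  have hsurj : Surjective (equalizer.ι f g).left := by
    refine ⟨fun v => ?_⟩
    obtain ⟨w, hw⟩ := hV.exists_jV v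
    rw [← hb, Scheme.Hom.comp_apply] at hw
    obtain ⟨y, -, hy⟩ := Flat.generalizingMap (equalizer.ι f g).left hw
    exact ⟨y, hy⟩
  have hqc : QuasiCompact (equalizer.ι f g).left := by
    have hh : IsHomeomorph (equalizer.ι f g).left :=
      (isHomeomorph_iff_isEmbedding_surjective).2
        ⟨(equalizer.ι f g).left.isEmbedding, hsurj.surj⟩
    exact ⟨fun U hU hc => hh.homeomorph.isCompact_preimage.mpr hc⟩
  have hiso : IsIso (equalizer.ι f g).left := Flat.isIso_of_surjective_of_mono _
  have h2 : (equalizer.ι f g).left ≫ f.left = (equalizer.ι f g).left ≫ g.left :=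
    congrArg (fun t => t.left) (equalizer.condition f g)
  rw [cancel_epi] at h2
  exact MorphismProperty.Over.Hom.ext h2

set_option backward.isDefEq.respectTransparency.types false in
theorem map_surjective [IsClosedImmersion i] {U V : X.ProEt} (hV : goodP i V)
    (h : (ProEtS.bcP i).obj V ⟶ (ProEtS.bcP i).obj U) : ∃ f : V ⟶ U, (ProEtS.bcP i).map f = h := by
  obtain ⟨haff, hwc, hloc⟩ := hV
  have hw : h.left ≫ pullback.snd U.hom i = pullback.snd V.hom i := Over.w h.hom
  have e1 : jV i V ≫ V.hom = pullback.snd V.hom i ≫ i := pullback.condition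
  have e2 : jV i U ≫ U.hom = pullback.snd U.hom i ≫ i := pullback.condition
  have hc : jV i V ≫ V.hom = (h.left ≫ jV i U) ≫ U.hom :=
    e1.trans ((congrArg (fun t => t ≫ i) hw.symm).trans ((Category.assoc _ _ _).trans
      ((congrArg (fun t => h.left ≫ t) e2.symm).trans (Category.assoc _ _ _).symm)))
  let s : ((ProEtS.bcP i).obj V).left ⟶ pullback V.hom U.hom :=
    pullback.lift (jV i V) (h.left ≫ jV i U) hc
  have hs : s ≫ pullback.fst V.hom U.hom = jV i V := pullback.lift_fst _ _ _
  have hs2 : s ≫ pullback.snd V.hom U.hom = h.left ≫ jV i U := pullback.lift_snd _ _ _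
  have hci : IsClosedImmersion (jV i V) := (inferInstance : IsClosedImmersion (pullback.fst V.hom i))
  obtain ⟨σ, hσ, hσ2⟩ := WCScheme2.exists_lift hwc (jV i V) hloc.exists_jV
    (pullback.fst V.hom U.hom) s hs
  have hσ3 : (σ ≫ pullback.snd V.hom U.hom) ≫ U.hom = V.hom := by
    rw [Category.assoc, ← pullback.condition, ← Category.assoc, hσ, Category.id_comp]
  refine ⟨MorphismProperty.Over.homMk (σ ≫ pullback.snd V.hom U.hom) hσ3, ?_⟩
  apply MorphismProperty.Over.Hom.ext
  refine pullback.hom_ext ?_ ?_
  · refine (jV_naturality _).trans ?_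
    change jV i V ≫ σ ≫ pullback.snd V.hom U.hom = _
    rw [← Category.assoc, hσ2, hs2]
    rfl
  · refine Eq.trans ?_ hw.symm
    exact Over.w ((ProEtS.bcP i).map (MorphismProperty.Over.homMk
      (σ ≫ pullback.snd V.hom U.hom) hσ3)).hom

theorem map_bijective [IsClosedImmersion i] {V : X.ProEt} (hV : goodP i V) (U : X.ProEt) :
    Function.Bijective (fun f : V ⟶ U => (ProEtS.bcP i).map f) :=
  ⟨fun f g h => map_injective hV.2.2 f g h, fun h => map_surjective hV h⟩

open WCClopen in
set_option backward.isDefEq.respectTransparency.types false in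
/-- Open pieces of good objects. -/
theorem goodP_openObj {V : X.ProEt} (hV : goodP i V) (D : V.left.Opens)
    (hD : IsClosed (D : Set V.left)) : goodP i (openObj V D) := by
  obtain ⟨haff, hwc, hloc⟩ := hV
  obtain ⟨h1, h2⟩ := WCScheme2.isWContractible_open hwc D hD
  refine ⟨h1, h2, ?_⟩
  intro v
  obtain ⟨z, hz, hvz⟩ := hloc (D.ι v)
  have hzD : z ∈ (D : Set V.left) := hvz.mem_closed hD v.2
  refine ⟨⟨z, hzD⟩, hz, ?_⟩
  exact D.ι.isOpenEmbedding.isInducing.specializes_iff.1 hvz

open WCClopen in
set_option backward.isDefEq.respectTransparency.types false in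
/-- Refinement of coverings of `V ×_X Z` by decompositions of `V`. -/
theorem exists_decomp [IsClosedImmersion i] {V : X.ProEt} (hV : goodP i V)
    (hwc : ProEtS.IsWC ((ProEtS.bcP i).obj V)) {S : Sieve ((ProEtS.bcP i).obj V)}
    (hS : S ∈ Scheme.ProEt.topology Z ((ProEtS.bcP i).obj V)) :
    ∃ (ι : Type) (W : ι → X.ProEt) (g : ∀ k, W k ⟶ V),
      PartialAdj.Decomp (Scheme.ProEt.topology X) W g ∧ (∀ k, goodP i (W k)) ∧
        (∀ k, S ((ProEtS.bcP i).map (g k))) := by
  have hV' := hV
  obtain ⟨haff, hwcV, hloc⟩ := hV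
  have hci : IsClosedImmersion (jV i V) := (inferInstance : IsClosedImmersion (pullback.fst V.hom i))
  have haff' : IsAffine ((ProEtS.bcP i).obj V).left := isAffine_of_isAffineHom (jV i V)
  obtain ⟨n, W, hWclopen, hWdisj, hWcov, hWS⟩ := exists_clopen_of_isWC hwc hS
  have h2 : ∀ k, ∃ O : V.left.Opens, (jV i V) ⁻¹ᵁ O = W k := by
    intro k
    obtain ⟨O, hO, hO'⟩ := (jV i V).isEmbedding.isInducing.isOpen_iff.1 (W k).2
    exact ⟨⟨O, hO⟩, TopologicalSpace.Opens.ext hO'⟩
  choose O hO using h2
  obtain ⟨m, D, k, hDO, hDcov, hDdisj⟩ := WCScheme2.exists_disjoint_refinement hwcV O (by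
    intro v
    obtain ⟨w, hw⟩ := hloc.exists_jV v
    have hw2 : w ∈ ⋃ k, (W k : Set ((ProEtS.bcP i).obj V).left) := by rw [hWcov]; trivial
    obtain ⟨l, hl⟩ := Set.mem_iUnion.1 hw2
    refine ⟨l, hw.mem_open (O l).2 ?_⟩
    have : w ∈ (jV i V) ⁻¹ᵁ (O l) := by rw [hO]; exact hl
    exact this)
  have hDclosed : ∀ l, IsClosed (D l : Set V.left) := by
    intro l
    have h : (D l : Set V.left)ᶜ = ⋃ (j : Fin m) (_ : j ≠ l), (D j : Set V.left) := by
      ext x
      simp only [Set.mem_compl_iff, Set.mem_iUnion, exists_prop]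
      constructor
      · intro hx
        obtain ⟨j, hj⟩ := hDcov x
        exact ⟨j, fun hji => hx (hji ▸ hj), hj⟩
      · rintro ⟨j, hji, hj⟩ hx
        have h3 : Disjoint (D j) (D l) := hDdisj hji
        have : x ∈ D j ⊓ D l := ⟨hj, hx⟩
        rw [disjoint_iff.1 h3] at this
        exact this.elim
    rw [← isOpen_compl_iff, h]
    exact isOpen_iUnion fun j => isOpen_iUnion fun _ => (D j).2
  have hop : ∀ l, IsOpenImmersion (openHom V (D l)).left := fun l =>
    inferInstanceAs (IsOpenImmersion (D l).ι)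
  refine ⟨Fin m, fun l => openObj V (D l), fun l => openHom V (D l), ⟨?_, ?_, ?_⟩,
    fun l => goodP_openObj hV' (D l) (hDclosed l), ?_⟩
  · exact WCBasic.ofArrows_openImmersion_mem _ hop fun x => by
      obtain ⟨l, hl⟩ := hDcov x
      exact ⟨l, ⟨x, hl⟩, rfl⟩
  · intro l
    have := hop l
    exact ⟨fun a b h => WCBasic.hom_ext_of_mono (openHom V (D l)) h⟩
  · intro l l' hll' T a b hab
    have : IsEmpty T.left := by
      refine ⟨fun t => ?_⟩
      have h1 : (a ≫ openHom V (D l)).left t = (b ≫ openHom V (D l')).left t := by rw [hab]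
      have h2 : (D l).ι (a.left t) = (D l').ι (b.left t) := h1
      have h3 : Disjoint (D l) (D l') := hDdisj hll'
      have h4 : (D l).ι (a.left t) ∈ D l ⊓ D l' := ⟨(a.left t).2, by
        rw [h2]; exact (b.left t).2⟩
      rw [disjoint_iff.1 h3] at h4
      exact h4.elim
    exact Scheme.ProEt.bot_mem_topology T
  · intro l
    let g := (ProEtS.bcP i).map (openHom V (D l))
    have hr : Set.range g.left ⊆ Set.range (W (k l)).ι := by
      rintro _ ⟨y, rfl⟩
      rw [Scheme.Opens.range_ι, ← hO]
      change jV i V (g.left y) ∈ O (k l)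
      rw [← Scheme.Hom.comp_apply]
      have h3 : g.left ≫ jV i V = jV i (openObj V (D l)) ≫ (D l).ι := jV_naturality (openHom V (D l))
      rw [h3, Scheme.Hom.comp_apply]
      exact hDO l (jV i (openObj V (D l)) y).2
    let t : ((ProEtS.bcP i).obj (openObj V (D l))).left ⟶ (W (k l) : Scheme.{u}) :=
      IsOpenImmersion.lift (W (k l)).ι g.left hr
    have ht : t ≫ (W (k l)).ι = g.left := IsOpenImmersion.lift_fac _ _ _
    have ht2 : t ≫ (openObj ((ProEtS.bcP i).obj V) (W (k l))).hom =
        ((ProEtS.bcP i).obj (openObj V (D l))).hom := by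
      change t ≫ (W (k l)).ι ≫ ((ProEtS.bcP i).obj V).hom = _
      rw [← Category.assoc, ht]
      exact Over.w g.hom
    have hfac : (MorphismProperty.Over.homMk t ht2 :
        (ProEtS.bcP i).obj (openObj V (D l)) ⟶ openObj ((ProEtS.bcP i).obj V) (W (k l))) ≫
        openHom ((ProEtS.bcP i).obj V) (W (k l)) = g := by
      apply MorphismProperty.Over.Hom.ext
      exact ht
    change S g
    rw [← hfac]
    exact S.downward_closed (hWS _) _

end Groth.Agent.Proet.ClosedImm
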