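import Groth.Agent.Proet.WCClopen

/-!
# Existence of weakly contractible covers (given the ring theoretic input)
-/

set_option autoImplicit false
universe u v w

open CategoryTheory CategoryTheory.Limits AlgebraicGeometry Opposite

namespace Groth.Agent.Proet.WCExist

open Scheme TensorProduct WCBasic WC WCClopen

/-- w-contractibility is invariant under ring isomorphisms. -/
theorem isWContractible_of_ringEquiv {A B : Type u} [CommRing A] [CommRing B] (e : A ≃+* B)
    (h : EtPBC.IsWContractible A) : EtPBC.IsWContractible B := by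
  intro C _ _ hff hwe
  let _ : Algebra A B := e.toRingHom.toAlgebra
  let _ : Algebra A C := ((algebraMap B C).comp e.toRingHom).toAlgebra
  have : IsScalarTower A B C := IsScalarTower.of_algebraMap_eq' rfl
  let e' : A ≃ₐ[A] B := { e with commutes' := fun a => rfl }
  have h1 : Algebra.Etale A B := Algebra.Etale.of_equiv e'
  have h2 : Algebra.WeaklyEtale A C := Algebra.WeaklyEtale.trans A B C
  have h3 : Module.FaithfullyFlat A C := by
    have h4 : Module.FaithfullyFlat A B := Module.FaithfullyFlat.of_linearEquiv _ _ e'.symm.toLinearEquiv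
    exact Module.FaithfullyFlat.trans A B C
  obtain ⟨r⟩ := h C h3 h2
  exact ⟨{ e.toRingHom.comp r.toRingHom with
    commutes' := fun b => by
      have h5 : r (algebraMap A C (e.symm b)) = e.symm b := r.commutes _
      have h6 : algebraMap A C (e.symm b) = algebraMap B C b := by
        change algebraMap B C (e (e.symm b)) = _
        rw [e.apply_symm_apply]
      rw [h6] at h5
      change e (r (algebraMap B C b)) = b
      rw [h5, e.apply_symm_apply] }⟩

/-- The ring theoretic input: every ring has a faithfully flat weakly etale w-contractible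
extension. -/
def HasWCCover : Prop := ∀ (A : Type u) [CommRing A], ∃ (D : Type u) (_ : CommRing D)
  (_ : Algebra A D), Module.FaithfullyFlat A D ∧ Algebra.WeaklyEtale A D ∧ EtPBC.IsWContractible D

variable {X : Scheme.{u}}

set_option backward.isDefEq.respectTransparency.types false in
/-- Affine objects have affine weakly contractible covers. -/
theorem exists_affine_wc_cover (hwc : HasWCCover.{u}) (U : X.ProEt) [IsAffine U.left] :
    ∃ (V : X.ProEt) (g : V ⟶ U), IsAffine V.left ∧ Surjective g.left ∧ ProEtS.IsWC V := by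
  let A : Type u := ↥(Γ(U.left, ⊤))
  obtain ⟨D, _, _, h1, h2, h3⟩ := hwc A
  let φ : CommRingCat.of A ⟶ CommRingCat.of D := CommRingCat.ofHom (algebraMap A D)
  have h4 : WeaklyEtale (Spec.map φ) := (weaklyEtale_Spec_iff A D).2 h2
  have h5 : Surjective (Spec.map φ) := surjective_of_faithfullyFlat A D
  let p : Spec (CommRingCat.of D) ⟶ U.left := Spec.map φ ≫ (Scheme.isoSpec U.left).inv
  have h6 : WeaklyEtale (p ≫ U.hom) := inferInstance
  let V : X.ProEt := Scheme.ProEt.mk (p ≫ U.hom)
  have hV : IsAffine V.left := inferInstanceAs (IsAffine (Spec (CommRingCat.of D)))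
  refine ⟨V, MorphismProperty.Over.homMk p rfl, hV, (inferInstance : Surjective p), ?_⟩
  rw [← isWContractible_iff_isWC]
  exact isWContractible_of_ringEquiv
    (Scheme.ΓSpecIso (CommRingCat.of D)).symm.commRingCatIsoToRingEquiv h3

set_option backward.isDefEq.respectTransparency.types false in
/-- Disjoint unions of weakly contractible objects are weakly contractible. -/
theorem isWC_sigmaObj {ι : Type v} [Small.{u} ι] (W : ι → X.ProEt)
    (h : ∀ i, ProEtS.IsWC (W i)) : ProEtS.IsWC (sigmaObj W) := by
  intro F G φ hφ t
  have hF : Presieve.IsSheaf (Scheme.ProEt.topology X) F.obj :=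
    (isSheaf_iff_isSheaf_of_type _ _).1 F.property
  have hG : Presieve.IsSheaf (Scheme.ProEt.topology X) G.obj :=
    (isSheaf_iff_isSheaf_of_type _ _).1 G.property
  choose x hx using fun i => h i F G φ hφ (G.obj.map (sigmaι W i).op t)
  obtain ⟨y, hy⟩ := (bijective_sigma W hF).2 x
  refine ⟨y, ?_⟩
  apply (bijective_sigma W hG).1
  funext i
  have h2 : F.obj.map (sigmaι W i).op y = x i := congrFun hy i
  have h4 : G.obj.map (sigmaι W i).op (φ.hom.app (op (sigmaObj W)) y) =
      φ.hom.app (op (W i)) (F.obj.map (sigmaι W i).op y) :=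
    (ConcreteCategory.congr_hom (φ.hom.naturality (sigmaι W i).op) y).symm
  dsimp only
  rw [h4, h2, hx]

set_option backward.isDefEq.respectTransparency.types false in
/-- Covers by a single weakly contractible object from a cover by affine opens. -/
theorem exists_wc_cover_of_opens (hwc : HasWCCover.{u}) (U : X.ProEt) {ι : Type v} [Small.{u} ι]
    (T : ι → U.left.Opens) (hT : ∀ i, IsAffineOpen (T i))
    (hcov : ∀ x : U.left, ∃ i, x ∈ T i) :
    ∃ (V : X.ProEt) (g : V ⟶ U),
      Sieve.generate (Presieve.singleton g) ∈ Scheme.ProEt.topology X U ∧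
      (Finite ι → IsAffine V.left) ∧ ProEtS.IsWC V := by
  have hT' : ∀ i, IsAffine (openObj U (T i)).left := fun i => hT i
  choose V g hV hg hwcV using fun i => exists_affine_wc_cover hwc (openObj U (T i))
  refine ⟨sigmaObj V, sigmaDesc V fun i => g i ≫ openHom U (T i), ?_,
    fun _ => isAffine_sigmaObj V hV, isWC_sigmaObj V hwcV⟩
  have h1 : Sieve.generate (Presieve.ofArrows _ (fun i => openHom U (T i))) ∈
      Scheme.ProEt.topology X U := by
    refine ofArrows_openImmersion_mem _ (fun i => inferInstanceAs (IsOpenImmersion (T i).ι))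
      fun x => ?_
    obtain ⟨i, hi⟩ := hcov x
    exact ⟨i, ⟨x, hi⟩, rfl⟩
  refine (Scheme.ProEt.topology X).transitive h1 _ ?_
  rintro Y f ⟨_, k, _, ⟨i⟩, rfl⟩
  rw [Sieve.pullback_comp]
  apply (Scheme.ProEt.topology X).pullback_stable
  refine (Scheme.ProEt.topology X).superset_covering ?_ (generate_singleton_mem (g i))
  rw [Sieve.generate_le_iff]
  rintro _ _ ⟨⟩
  refine ⟨_, sigmaι V i, _, Presieve.singleton.mk, ?_⟩
  exact sigmaι_desc V _ i

end Groth.Agent.Proet.WCExist
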