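import Groth.Agent.Proet.WEtale2
import Mathlib.RingTheory.RingHom.Flat
import Mathlib.RingTheory.Spectrum.Prime.RingHom
import Mathlib.RingTheory.Flat.FaithfullyFlat.Algebra

/-!
# Products of weakly etale algebras; faithfully flat products

* `flat_of_fst_snd`: a ring map to a product is flat as soon as the two components are.
* `weaklyEtale_prod`.
* `exists_factor_of_prod`: the retraction trick of Stacks 097W / 0987.
-/

set_option autoImplicit false
universe u v w

open scoped TensorProduct

namespace Groth.Agent.Proet.WEtaleProd

theorem flat_prod {R : Type u} (M : Type v) (N : Type w) [CommRing R] [AddCommGroup M] [Module R M]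
    [AddCommGroup N] [Module R N] [Module.Flat R M] [Module.Flat R N] : Module.Flat R (M × N) := by
  rw [Module.Flat.iff_rTensor_injectiveₛ]
  intro P _ _ Q
  have h1 := Module.Flat.rTensor_preserves_injective_linearMap (M := M) Q.subtype
    Q.injective_subtype
  have h2 := Module.Flat.rTensor_preserves_injective_linearMap (M := N) Q.subtype
    Q.injective_subtype
  let e1 := TensorProduct.prodRight R R Q M N
  let e2 := TensorProduct.prodRight R R P M N
  have h : e2.toLinearMap ∘ₗ (Q.subtype.rTensor (M × N)) =
      LinearMap.prodMap (Q.subtype.rTensor M) (Q.subtype.rTensor N) ∘ₗ e1.toLinearMap := by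
    apply TensorProduct.ext'
    intro x y
    simp [e1, e2]
  have h3 : Function.Injective (LinearMap.prodMap (Q.subtype.rTensor M) (Q.subtype.rTensor N)) :=
    Prod.map_injective.2 ⟨h1, h2⟩
  have h4 : Function.Injective (e2.toLinearMap ∘ₗ (Q.subtype.rTensor (M × N))) := by
    rw [h]
    exact h3.comp e1.injective
  exact Function.Injective.of_comp h4

/-- A ring map to a product is flat as soon as both components are flat. -/
theorem flat_of_fst_snd {R : Type u} {S : Type v} {T : Type w} [CommRing R] [CommRing S]
    [CommRing T] (f : R →+* S × T) (h1 : ((RingHom.fst S T).comp f).Flat)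
    (h2 : ((RingHom.snd S T).comp f).Flat) : f.Flat := by
  algebraize [(RingHom.fst S T).comp f, (RingHom.snd S T).comp f]
  have : Module.Flat R (S × T) := flat_prod S T
  have hf : f = algebraMap R (S × T) := rfl
  rw [hf, RingHom.flat_algebraMap_iff]
  exact this

theorem flat_fst (S : Type v) (T : Type w) [CommRing S] [CommRing T] : (RingHom.fst S T).Flat := by
  let := (RingHom.fst S T).toAlgebra
  have : IsLocalization.Away (R := S × T) (1, 0) S := IsLocalization.away_fst
  exact (RingHom.flat_algebraMap_iff (R := S × T) (S := S)).2
    (IsLocalization.flat S (Submonoid.powers ((1, 0) : S × T)))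

theorem flat_snd (S : Type v) (T : Type w) [CommRing S] [CommRing T] : (RingHom.snd S T).Flat := by
  let := (RingHom.snd S T).toAlgebra
  have : IsLocalization.Away (R := S × T) (0, 1) T := IsLocalization.away_snd
  exact (RingHom.flat_algebraMap_iff (R := S × T) (S := T)).2
    (IsLocalization.flat T (Submonoid.powers ((0, 1) : S × T)))

/-- A product of two weakly etale algebras is weakly etale. -/
theorem weaklyEtale_prod (A : Type u) (S : Type v) (T : Type w) [CommRing A] [CommRing S]
    [CommRing T] [Algebra A S] [Algebra A T] [Algebra.WeaklyEtale A S] [Algebra.WeaklyEtale A T] :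
    Algebra.WeaklyEtale A (S × T) where
  flat := flat_prod S T
  flat_lmul' := by
    apply flat_of_fst_snd
    · have h : (RingHom.fst S T).comp
          (Algebra.TensorProduct.lmul' A (S := S × T)).toRingHom =
          (Algebra.TensorProduct.lmul' A (S := S)).toRingHom.comp
            (Algebra.TensorProduct.map (AlgHom.fst A S T) (AlgHom.fst A S T)).toRingHom := by
        apply RingHom.ext
        intro x
        induction x with
        | zero => simp
        | tmul a b => simp
        | add a b ha hb => simp only [map_add, ha, hb]
      rw [h]
      refine RingHom.Flat.comp ?_ (Algebra.WeaklyEtale.flat_lmul' A S)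
      exact RingHom.Flat.tensorProductMap (f := AlgHom.fst A S T) (g := AlgHom.fst A S T)
        (flat_fst S T) (flat_fst S T)
    · have h : (RingHom.snd S T).comp
          (Algebra.TensorProduct.lmul' A (S := S × T)).toRingHom =
          (Algebra.TensorProduct.lmul' A (S := T)).toRingHom.comp
            (Algebra.TensorProduct.map (AlgHom.snd A S T) (AlgHom.snd A S T)).toRingHom := by
        apply RingHom.ext
        intro x
        induction x with
        | zero => simp
        | tmul a b => simp
        | add a b ha hb => simp only [map_add, ha, hb]
      rw [h]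
      refine RingHom.Flat.comp ?_ (Algebra.WeaklyEtale.flat_lmul' A T)
      exact RingHom.Flat.tensorProductMap (f := AlgHom.snd A S T) (g := AlgHom.snd A S T)
        (flat_snd S T) (flat_snd S T)

/-- the spectrum of a product maps onto the union of the images. -/
theorem range_comap_prod (A : Type u) (S : Type v) (T : Type w) [CommRing A] [CommRing S]
    [CommRing T] [Algebra A S] [Algebra A T] :
    Set.range (PrimeSpectrum.comap (algebraMap A (S × T))) =
      Set.range (PrimeSpectrum.comap (algebraMap A S)) ∪
      Set.range (PrimeSpectrum.comap (algebraMap A T)) := by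
  ext p
  constructor
  · rintro ⟨q, rfl⟩
    obtain ⟨q, rfl⟩ := (PrimeSpectrum.primeSpectrumProd S T).symm.surjective q
    rcases q with q | q
    · left
      exact ⟨q, by ext x; simp [PrimeSpectrum.primeSpectrumProd]⟩
    · right
      exact ⟨q, by ext x; simp [PrimeSpectrum.primeSpectrumProd]⟩
  · rintro (⟨q, rfl⟩ | ⟨q, rfl⟩)
    · exact ⟨PrimeSpectrum.comap (RingHom.fst S T) q, rfl⟩
    · exact ⟨PrimeSpectrum.comap (RingHom.snd S T) q, rfl⟩

/-- Faithful flatness of a product. -/
theorem faithfullyFlat_prod (A : Type u) (S : Type v) (T : Type w) [CommRing A] [CommRing S]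
    [CommRing T] [Algebra A S] [Algebra A T] [Module.Flat A S] [Module.Flat A T]
    (h : Set.range (PrimeSpectrum.comap (algebraMap A S)) ∪
      Set.range (PrimeSpectrum.comap (algebraMap A T)) = Set.univ) :
    Module.FaithfullyFlat A (S × T) := by
  have : Module.Flat A (S × T) := flat_prod S T
  apply Module.FaithfullyFlat.of_comap_surjective
  rw [← Set.range_eq_univ, range_comap_prod, h]

/-- The retraction trick of Stacks 097W, 0987: let `S × T → A` be an `A`-algebra retraction and `B` an
`A`-algebra such that no maximal ideal of `B` lies over a point in the image of `Spec T`. Then there is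
an `A`-algebra map `S → B`. -/
theorem exists_algHom_of_retraction {A : Type u} {S : Type v} {T : Type w} {B : Type*}
    [CommRing A] [CommRing S] [CommRing T] [CommRing B] [Algebra A S] [Algebra A T] [Algebra A B]
    (r : S × T →ₐ[A] A)
    (hB : ∀ m : PrimeSpectrum B, m.asIdeal.IsMaximal →
      PrimeSpectrum.comap (algebraMap A B) m ∉ Set.range (PrimeSpectrum.comap (algebraMap A T))) :
    Nonempty (S →ₐ[A] B) := by
  let φ : S × T →ₐ[A] B := (Algebra.ofId A B).comp r
  have he : IsUnit (φ (1, 0)) := by
    by_contra hcon
    obtain ⟨m, hm, hem⟩ := exists_max_ideal_of_mem_nonunits hcon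
    have hp : m.IsPrime := hm.isPrime
    refine hB ⟨m, hp⟩ hm ?_
    -- the map `T → B / m`
    let ψ : S × T →ₐ[A] B ⧸ m := (Ideal.Quotient.mkₐ A m).comp φ
    have h10 : ψ (1, 0) = 0 := Ideal.Quotient.eq_zero_iff_mem.2 hem
    have h01 : ψ (0, 1) = 1 := by
      have : ψ (1, 0) + ψ (0, 1) = 1 := by
        rw [← map_add]
        simp only [Prod.mk_add_mk, add_zero, zero_add]
        exact map_one ψ
      rwa [h10, zero_add] at this
    let χ : T →+* B ⧸ m :=
      { toFun := fun t => ψ (0, t)
        map_one' := h01
        map_zero' := by
          have : ((0 : S), (0 : T)) = 0 := rfl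
          rw [this, map_zero]
        map_add' := by
          intro a b
          rw [← map_add]
          simp
        map_mul' := by
          intro a b
          rw [← map_mul]
          simp }
    have hχ : χ.comp (algebraMap A T) = algebraMap A (B ⧸ m) := by
      apply RingHom.ext
      intro a
      change ψ (0, algebraMap A T a) = _
      have h1 : ((0 : S), algebraMap A T a) = algebraMap A (S × T) a * (0, 1) := by
        ext <;> simp
      rw [h1, map_mul, h01, mul_one, AlgHom.commutes]
    refine ⟨⟨RingHom.ker χ, RingHom.ker_isPrime χ⟩, ?_⟩
    ext a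
    change χ (algebraMap A T a) = 0 ↔ algebraMap A B a ∈ m
    have : χ (algebraMap A T a) = algebraMap A (B ⧸ m) a := RingHom.congr_fun hχ a
    rw [this, ← Ideal.Quotient.eq_zero_iff_mem]
    rfl
  have hid : φ (1, 0) * φ (1, 0) = φ (1, 0) := by
    rw [← map_mul]
    simp
  have he1 : φ (1, 0) = 1 := by
    have := he.mul_left_cancel (hid.trans (mul_one _).symm)
    exact this
  refine ⟨{ toFun := fun s => φ (s, 0)
            map_one' := he1
            map_zero' := by
              have : ((0 : S), (0 : T)) = 0 := rfl
              rw [this, map_zero]
            map_add' := by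
              intro a b
              rw [← map_add]
              simp
            map_mul' := by
              intro a b
              rw [← map_mul]
              simp
            commutes' := by
              intro a
              have h1 : (algebraMap A S a, (0 : T)) = algebraMap A (S × T) a * (1, 0) := by
                ext <;> simp
              rw [h1, map_mul, he1, mul_one, AlgHom.commutes] }⟩

end Groth.Agent.Proet.WEtaleProd
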