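import Groth.Prelude.Def_ProEtW
import Groth.Agent.Proet.EtaleLift
import Mathlib.RingTheory.Localization.Integral
import Mathlib.RingTheory.Etale.StandardEtale
import Mathlib.RingTheory.Henselian
import Mathlib.FieldTheory.IsSepClosed
import Mathlib.RingTheory.LocalRing.ResidueField.Ideal

/-!
# Rings over which faithfully flat étale algebras have retractions

* `hasEtaleRetractions_of_surjective` (097U): passes to quotients.
* `isSepClosed_of_hasEtaleRetractions`: a field with étale retractions is separably closed.
* `exists_algHom_localization`: over such a ring `A`, an étale algebra `B` with a prime over the maximal ideal `m`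
  has an `A`-algebra map to `A_m`.
* `strictlyHenselian_localization` (097V).
-/

set_option autoImplicit false
universe u
open TensorProduct Polynomial

namespace Groth.Agent.Proet.Retract

theorem hasEtaleRetractions_of_surjective {A R : Type u} [CommRing A] [CommRing R] [Algebra A R]
    (hs : Function.Surjective (algebraMap A R)) (h : ProEtW.HasEtaleRetractions A) :
    ProEtW.HasEtaleRetractions R := by
  intro Bb _ _ hff het
  obtain ⟨B, _, _, hB, ⟨e⟩⟩ := EtaleLift.exists_etale_lift A R Bb hs
  let I : Ideal A := RingHom.ker (algebraMap A R)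
  have hV : PrimeSpectrum.zeroLocus (I : Set A) ⊆ Set.range (PrimeSpectrum.comap (algebraMap A B)) := by
    intro p hp
    rw [← range_comap_of_surjective _ (algebraMap A R) hs] at hp
    obtain ⟨q, rfl⟩ := hp
    obtain ⟨r, rfl⟩ := PrimeSpectrum.comap_surjective_of_faithfullyFlat (A := R) (B := Bb) q
    let g : B →+* Bb := e.toRingHom.comp
      (Algebra.TensorProduct.includeRight (R := A) (A := R) (B := B)).toRingHom
    refine ⟨PrimeSpectrum.comap g r, ?_⟩
    rw [← PrimeSpectrum.comap_comp_apply, ← PrimeSpectrum.comap_comp_apply]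
    congr 1
    ext a
    have h1 : (algebraMap R Bb) (algebraMap A R a) = e (algebraMap R _ (algebraMap A R a)) :=
      (e.commutes _).symm
    simp only [RingHom.comp_apply, g]
    rw [h1]
    change e ((1 : R) ⊗ₜ[A] (algebraMap A B a)) = e _
    congr 1
    rw [Algebra.TensorProduct.algebraMap_apply, Algebra.algebraMap_self_apply,
      Algebra.algebraMap_eq_smul_one (R := A) (A := B) a, ← TensorProduct.smul_tmul,
      Algebra.smul_def, mul_one]
  obtain ⟨f, hfI, hE, hF⟩ := EtaleLift.exists_faithfullyFlat_prod I hV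
  obtain ⟨ρ⟩ := h (B × Localization.Away f) hF hE
  obtain ⟨ψ, -⟩ := EtaleLift.exists_algHom_of_prod (R := R) f
    hfI ((IsScalarTower.toAlgHom A A R).comp ρ)
  let Φ : R ⊗[A] B →ₐ[R] R :=
    Algebra.TensorProduct.lift (AlgHom.id R R) ψ (fun _ _ => Commute.all _ _)
  exact ⟨Φ.comp e.symm.toAlgHom⟩

theorem isSepClosed_of_hasEtaleRetractions (k : Type u) [Field k] (h : ProEtW.HasEtaleRetractions k) :
    IsSepClosed k := by
  apply IsSepClosed.of_exists_root
  intro p hm hi hs
  obtain ⟨a, b, hab⟩ := hs
  let P : StandardEtalePair k :=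
    { f := p
      monic_f := hm
      g := 1
      cond := ⟨b, a, 1, by rw [mul_comm, mul_comm p a, pow_one, ← hab, add_comm]⟩ }
  have : Fact (Irreducible p) := ⟨hi⟩
  have hP : P.HasMap (AdjoinRoot.root p) := ⟨by simp [P, AdjoinRoot.aeval_eq], by simp [P]⟩
  have : Nontrivial P.Ring := (P.lift _ hP).toRingHom.domain_nontrivial
  obtain ⟨ρ⟩ := h P.Ring inferInstance inferInstance
  refine ⟨ρ P.X, ?_⟩
  have := (StandardEtalePair.hasMap_X (P := P)).1
  have h2 := (StandardEtalePair.HasMap.map (StandardEtalePair.hasMap_X (P := P)) ρ).1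
  simpa [P, aeval_def] using h2

/-- An algebra map `B × A_f → R` killing `(0, 1)` factors through the first projection. -/
theorem exists_algHom_of_prod' {A B R C : Type*} [CommRing A] [CommRing B] [CommRing R] [CommRing C]
    [Algebra A C] [Algebra A B] [Algebra A R] (φ : (B × C) →ₐ[A] R) (h01 : φ (0, 1) = 0) :
    ∃ ψ : B →ₐ[A] R, ∀ x, φ x = ψ x.1 := by
  have h0 : ∀ y : C, φ (0, y) = 0 := by
    intro y
    have : ((0, y) : B × C) = (0, 1) * (0, y) := by ext <;> simp
    rw [this, map_mul, h01, zero_mul]
  have hx : ∀ x : B × C, φ x = φ (x.1, 0) := by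
    intro x
    have : x = (x.1, 0) + (0, x.2) := by ext <;> simp
    conv_lhs => rw [this]
    rw [map_add, h0, add_zero]
  refine ⟨{ toFun := fun b => φ (b, 0)
            map_one' := ?_
            map_mul' := ?_
            map_zero' := ?_
            map_add' := ?_
            commutes' := ?_ }, hx⟩
  · rw [← map_one φ, hx 1]; rfl
  · intro x y
    rw [← map_mul]
    congr 1
    ext <;> simp
  · exact map_zero φ
  · intro x y
    rw [← map_add]
    congr 1
    ext <;> simp
  · intro a
    rw [← AlgHom.commutes φ a, hx (algebraMap A _ a)]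
    rfl

theorem exists_algHom_localization {A B : Type u} [CommRing A] [CommRing B] [Algebra A B]
    (h : ProEtW.HasEtaleRetractions A) (m : Ideal A) [m.IsMaximal] [Algebra.Etale A B]
    (q : PrimeSpectrum B) (hq : q.asIdeal.comap (algebraMap A B) = m) :
    Nonempty (B →ₐ[A] Localization.AtPrime m) := by
  have hV : PrimeSpectrum.zeroLocus (m : Set A) ⊆ Set.range (PrimeSpectrum.comap (algebraMap A B)) := by
    intro p hp
    have hmp : m = p.asIdeal := Ideal.IsMaximal.eq_of_le inferInstance p.isPrime.ne_top hp
    exact ⟨q, PrimeSpectrum.ext (hq.trans hmp)⟩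
  obtain ⟨f, hfI, hE, hF⟩ := EtaleLift.exists_faithfullyFlat_prod m hV
  obtain ⟨ρ⟩ := h (B × Localization.Away f) hF hE
  let φ : B × Localization.Away f →ₐ[A] Localization.AtPrime m :=
    (IsScalarTower.toAlgHom A A (Localization.AtPrime m)).comp ρ
  have hmul : φ (0, 1) * (1 - φ (0, 1)) = 0 := by
    rw [mul_sub, mul_one, ← map_mul, Prod.mk_mul_mk, mul_zero, mul_one, sub_self]
  have h1 : ((0, 1) : B × Localization.Away f) =
      algebraMap A _ f * (0, IsLocalization.Away.invSelf f) := by
    ext
    · simp
    · simp only [Prod.snd_mul, Prod.algebraMap_apply]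
      exact (IsLocalization.Away.mul_invSelf f).symm
  have h01 : φ (0, 1) = 0 := by
    have hnu : ¬ IsUnit (φ (0, 1)) := by
      rw [h1, map_mul, AlgHom.commutes]
      intro hu
      have := isUnit_of_mul_isUnit_left hu
      rw [IsLocalization.AtPrime.isUnit_to_map_iff (Localization.AtPrime m) m] at this
      exact this hfI
    have hu : IsUnit (1 - φ (0, 1)) := by
      rcases IsLocalRing.isUnit_or_isUnit_one_sub_self (φ (0, 1)) with h | h
      · exact absurd h hnu
      · exact h
    exact (hu.mul_left_eq_zero).mp hmul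
  obtain ⟨ψ, -⟩ := exists_algHom_of_prod' φ h01
  exact ⟨ψ⟩

theorem scaleRoots_X_sub_C {K : Type*} [Field K] (a s : K) :
    (X - C a : K[X]).scaleRoots s = X - C (s * a) := by
  have := X_add_C_scaleRoots (R := K) (-a) s
  rw [sub_eq_add_neg, ← C_neg, this, sub_eq_add_neg, ← C_neg]
  congr 2
  ring

theorem henselianLocalRing_localization {A : Type u} [CommRing A]
    (h : ProEtW.HasEtaleRetractions A) (m : Ideal A) [m.IsMaximal] :
    HenselianLocalRing (Localization.AtPrime m) := by
  refine ((HenselianLocalRing.TFAE (Localization.AtPrime m)).out 0 1).mpr ?_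
  intro f hf a₀ ha hda
  set R := Localization.AtPrime m with hR
  let κ := IsLocalRing.ResidueField R
  let s : R := algebraMap A R (IsLocalization.commonDenom m.primeCompl f.support f.coeff)
  have hs : IsUnit s := IsLocalization.map_units R _
  obtain ⟨F, hFmap, -, hFm⟩ := lifts_and_natDegree_eq_and_monic
    (IsLocalization.scaleRoots_commonDenom_mem_lifts m.primeCompl f
      (by rw [hf.leadingCoeff]; exact one_mem _)) ((monic_scaleRoots_iff _).mpr hf)
  change F.map (algebraMap A R) = f.scaleRoots s at hFmap
  -- residue polynomials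
  let fb : κ[X] := f.map (IsLocalRing.residue R)
  have hfb0 : fb.IsRoot a₀ := by
    simpa [fb, IsRoot, aeval_def, eval_map] using! ha
  have hfb1 : fb.derivative.eval a₀ ≠ 0 := by
    simpa [fb, derivative_map, aeval_def, eval_map] using! hda
  obtain ⟨hb, hfb⟩ := dvd_iff_isRoot.mpr hfb0
  have hhb : hb.eval a₀ ≠ 0 := by
    rw [hfb] at hfb1
    simpa [derivative_mul] using hfb1
  let sb : κ := IsLocalRing.residue R s
  have hsb : sb ≠ 0 := (hs.map (IsLocalRing.residue R)).ne_zero
  let Fb : κ[X] := F.map (algebraMap A κ)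
  have hFb : Fb = (X - C (sb * a₀)) * hb.scaleRoots sb := by
    have h1 : Fb = (f.scaleRoots s).map (IsLocalRing.residue R) := by
      rw [← hFmap, Polynomial.map_map]; rfl
    rw [h1, map_scaleRoots _ _ _ (by rw [hf.leadingCoeff, map_one]; exact one_ne_zero)]
    change fb.scaleRoots sb = _
    rw [hfb, mul_scaleRoots_of_noZeroDivisors, scaleRoots_X_sub_C]
  have hAκ : Function.Surjective (algebraMap A κ) := m.algebraMap_residueField_surjective
  obtain ⟨H, hH⟩ := Polynomial.map_surjective _ hAκ (hb.scaleRoots sb)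
  let P : StandardEtalePair A :=
    { f := F
      monic_f := hFm
      g := derivative F * H
      cond := ⟨H, 0, 1, by rw [mul_zero, add_zero, pow_one]⟩ }
  -- values in the residue field
  have hder : ∀ x : κ, Fb.eval x = 0 → Fb.derivative.eval x * (hb.scaleRoots sb).eval x ≠ 0 →
      x = sb * a₀ := by
    intro x hx hx'
    rw [hFb, eval_mul] at hx
    rcases mul_eq_zero.mp hx with h0 | h0
    · simpa [sub_eq_zero] using h0
    · exact absurd (by rw [h0, mul_zero]) hx'
  have hcroot : Fb.eval (sb * a₀) = 0 := by rw [hFb]; simp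
  have hcH : (hb.scaleRoots sb).eval (sb * a₀) ≠ 0 := by
    rw [scaleRoots_eval_mul]
    exact mul_ne_zero (pow_ne_zero _ hsb) hhb
  have hcder : Fb.derivative.eval (sb * a₀) = (hb.scaleRoots sb).eval (sb * a₀) := by
    rw [hFb]; simp [derivative_mul]
  have hPκ : P.HasMap (sb * a₀ : κ) := by
    refine ⟨?_, ?_⟩
    · rw [← hcroot]; simp [P, Fb, aeval_def, eval_map]
    · have : aeval (sb * a₀ : κ) P.g = Fb.derivative.eval (sb * a₀) * (hb.scaleRoots sb).eval (sb * a₀) := by
        rw [← hH]
        simp [P, Fb, aeval_def, eval_map, derivative_map]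
      rw [this, hcder]
      exact (mul_ne_zero hcH hcH).isUnit
  -- the point of `P.Ring` over `m`
  let q : PrimeSpectrum P.Ring := PrimeSpectrum.comap (P.lift _ hPκ).toRingHom ⊥
  have hq : q.asIdeal.comap (algebraMap A P.Ring) = m := by
    ext a
    rw [Ideal.mem_comap]
    change (P.lift _ hPκ) (algebraMap A P.Ring a) ∈ (⊥ : PrimeSpectrum κ).asIdeal ↔ a ∈ m
    rw [AlgHom.commutes]
    change algebraMap A κ a ∈ (⊥ : Ideal κ) ↔ a ∈ m
    rw [Ideal.mem_bot]
    exact Ideal.algebraMap_residueField_eq_zero
  obtain ⟨ψ⟩ := exists_algHom_localization h m q hq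
  have hψ := StandardEtalePair.HasMap.map (StandardEtalePair.hasMap_X (P := P)) ψ
  let x : R := ψ P.X
  change P.HasMap x at hψ
  have hx0 : (f.scaleRoots s).eval x = 0 := by
    rw [← hFmap, eval_map, ← aeval_def]; exact hψ.1
  let si : R := ↑(hs.unit⁻¹)
  have hsi : s * si = 1 := hs.mul_val_inv
  have hxs : x = s * (si * x) := by rw [← mul_assoc, hsi, one_mul]
  refine ⟨si * x, ?_, ?_⟩
  · rw [hxs, scaleRoots_eval_mul] at hx0
    exact ((hs.pow _).mul_right_eq_zero).mp hx0
  · have hxb : IsLocalRing.residue R x = sb * a₀ := by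
      have hψκ := StandardEtalePair.HasMap.map hψ (IsScalarTower.toAlgHom A R κ)
      apply hder
      · have := hψκ.1
        simpa [P, Fb, aeval_def, eval_map] using! this
      · have := hψκ.2.ne_zero
        rw [← hH]
        simpa [P, Fb, aeval_def, eval_map, derivative_map] using! this
    have : sb * IsLocalRing.residue R (si * x) = sb * a₀ := by
      rw [← hxb, ← map_mul, ← hxs]
    exact mul_left_cancel₀ hsb this

/-- Stacks 097V. -/
theorem strictlyHenselian_localization {A : Type u} [CommRing A]
    (h : ProEtW.HasEtaleRetractions A) (m : Ideal A) [m.IsMaximal] :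
    EtCoh.IsStrictlyHenselianLocalRing (Localization.AtPrime m) := by
  have hκ : ProEtW.HasEtaleRetractions m.ResidueField :=
    hasEtaleRetractions_of_surjective m.algebraMap_residueField_surjective h
  exact ⟨henselianLocalRing_localization h m, isSepClosed_of_hasEtaleRetractions _ hκ⟩

end Groth.Agent.Proet.Retract
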