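import Mathlib.RingTheory.Localization.AtPrime.Basic
import Mathlib.RingTheory.FinitePresentation
import Mathlib.RingTheory.Ideal.Quotient.Operations
import Mathlib.RingTheory.Localization.Away.Basic

/-!
# Maps from finitely presented algebras to localizations
-/

universe u

namespace Groth.Agent.Proet.FpAway

variable {A : Type u} [CommRing A]

/-- The canonical map `A[1/b] → L` when `b` becomes a unit in `L`. -/
noncomputable def awayTo (b : A) (L : Type u) [CommRing L] [Algebra A L]
    (hb : IsUnit (algebraMap A L b)) : Localization.Away b →ₐ[A] L :=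
  IsLocalization.liftAlgHom (M := Submonoid.powers b)
    (f := Algebra.ofId A L) (by
      rintro ⟨_, n, rfl⟩
      change IsUnit (algebraMap A L (b ^ n))
      rw [map_pow]
      exact hb.pow n)

theorem algHom_ext_away (b : A) {L : Type u} [CommRing L] [Algebra A L]
    (f g : Localization.Away b →ₐ[A] L) : f = g := by
  apply IsLocalization.algHom_ext (Submonoid.powers b)
  ext

theorem isUnit_of_dvd {b c : A} {L : Type u} [CommRing L] [Algebra A L]
    (hb : IsUnit (algebraMap A L b)) (h : c ∣ b) : IsUnit (algebraMap A L c) :=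
  isUnit_of_dvd_unit (map_dvd _ h) hb

/-- An `A`-algebra map from a finitely presented algebra to a localization `M⁻¹A` factors through
`A[1/b]` for some `b ∈ M`. -/
theorem exists_factor (M : Submonoid A) (L : Type u) [CommRing L] [Algebra A L]
    [IsLocalization M L] (Z : Type u) [CommRing Z] [Algebra A Z] [Algebra.FinitePresentation A Z]
    (g : Z →ₐ[A] L) : ∃ (b : M) (h : Z →ₐ[A] Localization.Away (b : A)),
      (awayTo (b : A) L (IsLocalization.map_units L b)).comp h = g := by
  classical
  obtain ⟨n, π, hπ, T, hT⟩ := (inferInstance : Algebra.FinitePresentation A Z).out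
  obtain ⟨b0, hb0⟩ := IsLocalization.exist_integer_multiples_of_finset M
    (Finset.univ.image fun i : Fin n => g (π (MvPolynomial.X i)))
  have hb0' : ∀ i : Fin n, ∃ a : A, algebraMap A L a =
      algebraMap A L (b0 : A) * g (π (MvPolynomial.X i)) := by
    intro i
    obtain ⟨a, ha⟩ := hb0 _ (Finset.mem_image_of_mem _ (Finset.mem_univ i))
    exact ⟨a, by rw [ha, Algebra.smul_def]⟩
  choose a ha using hb0'
  have hu0 : IsUnit (algebraMap A L (b0 : A)) := IsLocalization.map_units L b0
  let h0 : MvPolynomial (Fin n) A →ₐ[A] Localization.Away (b0 : A) := MvPolynomial.aeval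
    fun i => IsLocalization.mk' (Localization.Away (b0 : A)) (a i)
      (⟨(b0 : A) ^ 1, 1, rfl⟩ : Submonoid.powers (b0 : A))
  have hb1 : ∀ (L' : Type u) [CommRing L'] [Algebra A L'] (f : Localization.Away (b0 : A) →ₐ[A] L')
      (i : Fin n), algebraMap A L' b0 * f (h0 (MvPolynomial.X i)) = algebraMap A L' (a i) := by
    intro L' _ _ f i
    simp only [h0, MvPolynomial.aeval_X]
    rw [← f.commutes (b0 : A), ← map_mul, ← f.commutes (a i)]
    congr 1
    have h1 := IsLocalization.mk'_spec' (Localization.Away (b0 : A)) (a i)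
      (⟨(b0 : A) ^ 1, 1, rfl⟩ : Submonoid.powers (b0 : A))
    have h2 : ((⟨(b0 : A) ^ 1, 1, rfl⟩ : Submonoid.powers (b0 : A)) : A) = b0 := pow_one _
    rwa [h2] at h1
  have key : (awayTo (b0 : A) L hu0).comp h0 = g.comp π := by
    refine MvPolynomial.algHom_ext fun i => ?_
    have h1 := hb1 L (awayTo (b0 : A) L hu0) i
    rw [ha i] at h1
    exact hu0.mul_left_cancel h1
  -- elements killing the relations
  have hc : ∀ r : MvPolynomial (Fin n) A, π r = 0 → ∃ c : M,
      algebraMap A (Localization.Away (b0 : A)) c * h0 r = 0 := by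
    intro r hr
    obtain ⟨y, ⟨_, m, rfl⟩, hy⟩ := IsLocalization.exists_mk'_eq (Submonoid.powers (b0 : A)) (h0 r)
    have h1 : awayTo (b0 : A) L hu0 (h0 r) = 0 := by
      have := DFunLike.congr_fun key r
      rw [AlgHom.comp_apply, AlgHom.comp_apply, hr, map_zero] at this
      exact this
    have h2 : algebraMap A L y = 0 := by
      have h3 := IsLocalization.mk'_spec' (Localization.Away (b0 : A)) y
        (⟨(b0 : A) ^ m, m, rfl⟩ : Submonoid.powers (b0 : A))
      have h4 := congrArg (awayTo (b0 : A) L hu0) h3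
      rw [map_mul, AlgHom.commutes, AlgHom.commutes] at h4
      have h5 : awayTo (b0 : A) L hu0 (IsLocalization.mk' (Localization.Away (b0 : A)) y
        (⟨(b0 : A) ^ m, m, rfl⟩ : Submonoid.powers (b0 : A))) = 0 := by
        rw [← h1, ← hy]
      rw [← h4, h5, mul_zero]
    rw [IsLocalization.map_eq_zero_iff M] at h2
    obtain ⟨c, hc⟩ := h2
    refine ⟨c, ?_⟩
    rw [← hy, ← IsLocalization.mk'_one (M := Submonoid.powers (b0 : A))
      (Localization.Away (b0 : A)) (c : A), ← IsLocalization.mk'_mul, hc, IsLocalization.mk'_zero]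
  choose! c hc' using hc
  have hTk : ∀ r ∈ T, π r = 0 := by
    intro r hr
    have : r ∈ RingHom.ker π.toRingHom := by
      rw [← hT]
      exact Ideal.subset_span hr
    exact this
  let c0 : M := ∏ r ∈ T, c r
  let b1 : M := b0 * c0
  have hc0 : ∀ r ∈ T, ((c r : M) : A) ∣ (b1 : A) := by
    intro r hr
    have h1 : ((c0 : M) : A) = ∏ r ∈ T, ((c r : M) : A) := by
      simp only [c0, Submonoid.coe_finsetProd]
    have h2 : ((b1 : M) : A) = (b0 : A) * (c0 : A) := rfl
    rw [h2, h1]
    exact (Finset.dvd_prod_of_mem (fun r => ((c r : M) : A)) hr).trans (dvd_mul_left _ _)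
  have hub : IsUnit (algebraMap A (Localization.Away (b1 : A)) (b0 : A)) :=
    isUnit_of_dvd (IsLocalization.Away.algebraMap_isUnit (b1 : A)) (Dvd.intro _ rfl)
  let j : Localization.Away (b0 : A) →ₐ[A] Localization.Away (b1 : A) :=
    awayTo (b0 : A) _ hub
  have hj : RingHom.ker π.toRingHom ≤ RingHom.ker (j.comp h0).toRingHom := by
    rw [← hT, Ideal.span_le]
    intro r hr
    change j (h0 r) = 0
    have h1 := congrArg j (hc' r (hTk r hr))
    rw [map_mul, map_zero, AlgHom.commutes] at h1
    have h2 : IsUnit (algebraMap A (Localization.Away (b1 : A)) (c r : A)) :=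
      isUnit_of_dvd (IsLocalization.Away.algebraMap_isUnit (b1 : A)) (hc0 r hr)
    exact (h2.mul_right_eq_zero).1 h1
  refine ⟨b1, AlgHom.liftOfSurjective π hπ (j.comp h0) hj, ?_⟩
  refine AlgHom.ext fun z => ?_
  obtain ⟨r, rfl⟩ := hπ z
  rw [AlgHom.comp_apply, AlgHom.liftOfSurjective_apply π hπ (j.comp h0) hj r]
  have h4 : awayTo (b0 : A) L hu0 = (awayTo (b1 : A) L (IsLocalization.map_units L b1)).comp j :=
    algHom_ext_away _ _ _
  have h5 := DFunLike.congr_fun key r
  rw [h4] at h5
  exact h5

end Groth.Agent.Proet.FpAway
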