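import Groth.Agent.Proet.WLocIdem
import Groth.Agent.Proet.FpAway
import Mathlib.RingTheory.LocalIso

/-!
# Algebras with w-local spectrum identifying local rings at maximal ideals have the local
isomorphism factorization property
-/

universe u

namespace Groth.Agent.Proet.IdFac

open Groth.Agent.Proet.WLoc Groth.Agent.Proet.WLocIdem Groth.Agent.Proet.FpAway

variable {A B : Type u} [CommRing A] [CommRing B] [Algebra A B]

/-- Local data at a maximal ideal. -/
theorem exists_local (Z : Type u) [CommRing Z] [Algebra A Z] [Algebra.FinitePresentation A Z]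
    (g : Z →ₐ[A] B) (m : MaximalSpectrum B) (hm : Function.Bijective (locMap (A := A) m)) :
    ∃ (b : A) (h : Z →ₐ[A] Localization.Away b) (s : B), s ∉ m.asIdeal ∧ algebraMap A B b ∣ s ∧
      ∀ (L : Type u) [CommRing L] [Algebra A L] (w : B →ₐ[A] L) (hw : IsUnit (w s))
        (hb : IsUnit (algebraMap A L b)), (awayTo b L hb).comp h = w.comp g := by
  classical
  let e : Localization.AtPrime (bel (A := A) B m).asIdeal ≃+* Localization.AtPrime m.asIdeal :=
    RingEquiv.ofBijective (locMap m) hm
  let g0 : Z →ₐ[A] Localization.AtPrime (bel (A := A) B m).asIdeal :=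
    { (e.symm : _ →+* _).comp ((algebraMap B (Localization.AtPrime m.asIdeal)).comp
        (g : Z →+* B)) with
      commutes' := by
        intro a
        change e.symm (algebraMap B (Localization.AtPrime m.asIdeal) (g (algebraMap A Z a))) = _
        rw [g.commutes, ← locMap_algebraMap]
        exact e.symm_apply_apply _ }
  have hg0 : ∀ z, locMap m (g0 z) = algebraMap B (Localization.AtPrime m.asIdeal) (g z) := fun z =>
    e.apply_symm_apply _
  obtain ⟨b, h, hbh⟩ := exists_factor (bel (A := A) B m).asIdeal.primeCompl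
    (Localization.AtPrime (bel (A := A) B m).asIdeal) Z g0
  obtain ⟨S, hS⟩ := (inferInstance : Algebra.FiniteType A Z).out
  have hz : ∀ z : Z, ∃ (n : ℕ) (a : A) (c : m.asIdeal.primeCompl),
      algebraMap A (Localization.Away (b : A)) ((b : A) ^ n) * h z = algebraMap A _ a ∧
      (c : B) * (algebraMap A B (b : A) ^ n * g z) = c * algebraMap A B a := by
    intro z
    obtain ⟨a, ⟨_, n, rfl⟩, hy⟩ := IsLocalization.exists_mk'_eq (Submonoid.powers (b : A)) (h z)
    have h1 : algebraMap A (Localization.Away (b : A)) ((b : A) ^ n) * h z =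
        algebraMap A _ a := by
      rw [← hy]
      exact IsLocalization.mk'_spec' (Localization.Away (b : A)) a
        (⟨(b : A) ^ n, n, rfl⟩ : Submonoid.powers (b : A))
    have h2 : algebraMap B (Localization.AtPrime m.asIdeal) (algebraMap A B (b : A) ^ n * g z) =
        algebraMap B (Localization.AtPrime m.asIdeal) (algebraMap A B a) := by
      have h3 := congrArg (awayTo (b : A) (Localization.AtPrime (bel (A := A) B m).asIdeal)
        (IsLocalization.map_units _ b)) h1
      rw [map_mul, AlgHom.commutes, AlgHom.commutes] at h3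
      have h4 := DFunLike.congr_fun hbh z
      rw [AlgHom.comp_apply] at h4
      rw [h4] at h3
      have h5 := congrArg (locMap m) h3
      rw [map_mul, hg0, locMap_algebraMap, locMap_algebraMap] at h5
      rw [map_mul, ← map_pow]
      exact h5
    obtain ⟨c, hc⟩ := (IsLocalization.eq_iff_exists m.asIdeal.primeCompl _).1 h2
    exact ⟨n, a, c, h1, hc⟩
  choose n a c hz1 hz2 using hz
  refine ⟨b, h, algebraMap A B (b : A) * ∏ z ∈ S, (c z : B), ?_, Dvd.intro _ rfl, ?_⟩
  · intro hmem
    rcases m.isMaximal.isPrime.mem_or_mem hmem with h1 | h1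
    · exact b.2 h1
    · obtain ⟨z, hz, hz'⟩ := (m.isMaximal.isPrime.prod_mem_iff).1 h1
      exact (c z).2 hz'
  · intro L _ _ w hw hb
    refine AlgHom.ext_of_adjoin_eq_top hS fun z hz => ?_
    rw [AlgHom.comp_apply, AlgHom.comp_apply]
    have h1 := congrArg (awayTo (b : A) L hb) (hz1 z)
    rw [map_mul, AlgHom.commutes, AlgHom.commutes] at h1
    have h2 := congrArg w (hz2 z)
    rw [map_mul, map_mul, map_mul, map_pow, AlgHom.commutes, AlgHom.commutes] at h2
    have hcu : IsUnit (w (c z)) := by
      refine isUnit_of_dvd_unit (map_dvd w ?_) hw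
      exact (Finset.dvd_prod_of_mem (fun z => (c z : B)) hz).trans (dvd_mul_left _ _)
    have h3 := hcu.mul_left_cancel h2
    rw [← h3, ← map_pow] at h1
    have hbu : IsUnit (algebraMap A L ((b : A) ^ n z)) := by
      rw [map_pow]
      exact hb.pow _
    exact hbu.mul_left_cancel h1

theorem factor (hB : ProEtW.IsWLocal (PrimeSpectrum B))
    (hm : ∀ m : MaximalSpectrum B, Function.Bijective (locMap (A := A) m))
    (Z : Type u) [CommRing Z] [Algebra A Z] [Algebra.FinitePresentation A Z]
    (g : Z →ₐ[A] B) : ∃ (n : ℕ) (b : Fin n → A)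
      (u : Z →ₐ[A] ∀ k, Localization.Away (b k)) (v : (∀ k, Localization.Away (b k)) →ₐ[A] B),
      v.comp u = g := by
  choose b h s hs hbs hL using fun m => exists_local Z g m (hm m)
  obtain ⟨n, x, e, he, hse⟩ := exists_orthogonal hB s hs
  let Q : Fin n → Type u := fun i => B ⧸ Ideal.span {1 - e i}
  let q : ∀ i, B →ₐ[A] Q i := fun i => Ideal.Quotient.mkₐ A _
  have hqe : ∀ i, q i (e i) = 1 := by
    intro i
    have : q i (1 - e i) = 0 := Ideal.Quotient.eq_zero_iff_mem.2 (Ideal.mem_span_singleton_self _)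
    rw [map_sub, map_one, sub_eq_zero] at this
    exact this.symm
  have hqs : ∀ i, IsUnit (q i (s (x i))) := fun i =>
    isUnit_of_dvd_unit (map_dvd (q i) (hse i)) (by rw [hqe]; exact isUnit_one)
  have hqb : ∀ i, IsUnit (algebraMap A (Q i) (b (x i))) := fun i => by
    rw [← (q i).commutes]
    exact isUnit_of_dvd_unit (map_dvd (q i) (hbs (x i))) (hqs i)
  let Φ : B ≃ₐ[A] (∀ i, Q i) := AlgEquiv.ofBijective (AlgHom.pi q) he.bijective_pi
  let v0 : (∀ k : Fin n, Localization.Away (b (x k))) →ₐ[A] ∀ i, Q i :=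
    AlgHom.pi fun i => (awayTo (b (x i)) (Q i) (hqb i)).comp
      (Pi.evalAlgHom A (fun k : Fin n => Localization.Away (b (x k))) i)
  refine ⟨n, fun k => b (x k), AlgHom.pi fun k => h (x k), (Φ.symm : _ →ₐ[A] B).comp v0, ?_⟩
  refine AlgHom.ext fun z => ?_
  change Φ.symm (v0 (AlgHom.pi (fun k => h (x k)) z)) = g z
  rw [AlgEquiv.symm_apply_eq]
  funext i
  exact DFunLike.congr_fun (hL (x i) (Q i) (q i) (hqs i) (hqb i)) z

theorem factor_isLocalIso (hB : ProEtW.IsWLocal (PrimeSpectrum B))
    (hm : ∀ m : MaximalSpectrum B, Function.Bijective (locMap (A := A) m))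
    (Z : Type u) [CommRing Z] [Algebra A Z] [Algebra.FinitePresentation A Z] (g : Z →ₐ[A] B) :
    ∃ (W : Type u) (_ : CommRing W) (_ : Algebra A W) (u : Z →ₐ[A] W) (v : W →ₐ[A] B),
      Algebra.IsLocalIso A W ∧ v.comp u = g := by
  obtain ⟨n, b, u, v, huv⟩ := factor hB hm Z g
  have : ∀ k, Algebra.IsStandardOpenImmersion A (Localization.Away (b k)) := fun k =>
    ⟨⟨b k, inferInstance⟩⟩
  exact ⟨∀ k, Localization.Away (b k), inferInstance, inferInstance, u, v,
    Algebra.IsLocalIso.pi_of_finite A _, huv⟩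

end Groth.Agent.Proet.IdFac
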