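import Groth.Agent.Proet.WLoc5
import Groth.Agent.Proet.IdFac
import Groth.Agent.Proet.IndZariski

/-!
# The w-localization: summary statements
-/

universe u

namespace Groth.Agent.Proet.WLocFinal

open Groth.Agent.Proet.WLoc

variable (A : Type u) [CommRing A]

theorem isIndZariski_Aw : EtPBC.IsIndZariski A (Aw A) := by
  rw [Groth.Agent.Proet.IndZariski.isIndZariski_iff_factor]
  intro Z _ _ hZ g
  exact WLoc.factor_isLocalIso Z g

theorem faithfullyFlat_Aw : Module.FaithfullyFlat A (Aw A) := by
  have := Groth.Agent.Proet.IndZariski.flat_of_isIndZariski A (Aw A) (isIndZariski_Aw A)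
  exact Module.FaithfullyFlat.of_comap_surjective comap_surjective

/-- If `Spec B` is w-local and `A → B` induces bijections on local rings at the maximal ideals
of `B`, then `B` is ind-Zariski over `A`. -/
theorem isIndZariski_of_bijective (B : Type u) [CommRing B] [Algebra A B]
    (hB : ProEtW.IsWLocal (PrimeSpectrum B))
    (hm : ∀ m : MaximalSpectrum B, Function.Bijective (locMap (A := A) m)) :
    EtPBC.IsIndZariski A B := by
  rw [Groth.Agent.Proet.IndZariski.isIndZariski_iff_factor]
  intro Z _ _ hZ g
  exact IdFac.factor_isLocalIso hB hm Z g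

end Groth.Agent.Proet.WLocFinal
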