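import Groth.Agent.Proet.Fac
import Groth.Prelude.Def_PBC
import Mathlib.Algebra.Category.Ring.FinitePresentation
import Mathlib.RingTheory.Finiteness.FinitePresentationLocal

/-!
# Filtered colimits and the factorization property

`IsInd A P B` (a filtered colimit, under `A`, of `P`-algebras) is equivalent to `Fac A P B`.
-/

set_option autoImplicit false
universe u
open CategoryTheory Limits

namespace Groth.Agent.Proet.FacInd

open FacM

variable {A : Type u} [CommRing A]

/-- `B` is a filtered colimit, under `A`, of `A`-algebras satisfying `P`. -/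
def IsInd (A : Type u) [CommRing A] (P : ∀ (W : Type u) [CommRing W] [Algebra A W], Prop)
    (B : Type u) [CommRing B] [Algebra A B] : Prop :=
  ∃ (J : Type u) (_ : SmallCategory J) (_ : IsFiltered J) (D : J ⥤ Under (CommRingCat.of A))
    (c : Cocone D) (_ : IsColimit c),
    (∀ j, letI := (D.obj j).hom.hom.toAlgebra; P (D.obj j).right) ∧
    Nonempty (c.pt ≅ Under.mk (CommRingCat.ofHom (algebraMap A B)))

lemma isIndEtale_iff_isInd (B : Type u) [CommRing B] [Algebra A B] :
    EtPBC.IsIndEtale A B ↔ IsInd A (Et A) B := Iff.rfl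

lemma isIndZariski_iff_isInd (B : Type u) [CommRing B] [Algebra A B] :
    EtPBC.IsIndZariski A B ↔ IsInd A (LocIso A) B := Iff.rfl

/-- A filtered colimit of `P`-algebras has the factorization property. -/
theorem IsInd.fac {P : ∀ (W : Type u) [CommRing W] [Algebra A W], Prop}
    {B : Type u} [CommRing B] [Algebra A B] (h : IsInd A P B) : Fac A P B := by
  obtain ⟨J, _, _, D, c, hc, hP, ⟨e⟩⟩ := h
  intro Z _ _ hZ g
  let ZU : Under (CommRingCat.of A) := Under.mk (CommRingCat.ofHom (algebraMap A Z))
  have hZU : ZU.hom.hom.FinitePresentation := by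
    show (algebraMap A Z).FinitePresentation
    rw [RingHom.finitePresentation_algebraMap]
    exact hZ
  have := CommRingCat.isFinitelyPresentable_under (CommRingCat.of A) ZU hZU
  let gU : ZU ⟶ Under.mk (CommRingCat.ofHom (algebraMap A B)) :=
    Under.homMk (CommRingCat.ofHom g.toRingHom) (by
      ext a
      exact g.commutes a)
  obtain ⟨j, q, hq⟩ := IsFinitelyPresentable.exists_hom_of_isColimit hc (gU ≫ e.inv)
  let := (D.obj j).hom.hom.toAlgebra
  have hqA : ∀ a : A, q.right.hom (algebraMap A Z a) = algebraMap A (D.obj j).right a := by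
    intro a
    exact congrArg (fun f => f.hom a) (Under.w q)
  have hcA : ∀ a : A, ((c.ι.app j) ≫ e.hom).right.hom (algebraMap A (D.obj j).right a) =
      algebraMap A B a := by
    intro a
    exact congrArg (fun f => f.hom a) (Under.w ((c.ι.app j) ≫ e.hom))
  refine ⟨(D.obj j).right, inferInstance, inferInstance,
    { q.right.hom with commutes' := hqA }, { ((c.ι.app j) ≫ e.hom).right.hom with
      commutes' := hcA }, hP j, ?_⟩
  have h2 : q ≫ (c.ι.app j) ≫ e.hom = gU := by
    rw [← Category.assoc, hq, Category.assoc, e.inv_hom_id, Category.comp_id]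
  ext z
  exact congrArg (fun f => f.right.hom z) h2

/-! ### The converse -/

section converse

variable (A) (P : ∀ (W : Type u) [CommRing W] [Algebra A W], Prop)
    (B : Type u) [CommRing B] [Algebra A B]

/-- Index category: quotients of polynomial rings satisfying `P`, with a map to `B`. -/
structure Idx : Type u where
  /-- number of variables -/
  n : ℕ
  /-- ideal of relations -/
  I : Ideal (MvPolynomial (Fin n) A)
  /-- the algebra satisfies `P` -/
  prop : P (MvPolynomial (Fin n) A ⧸ I)
  /-- the map to `B` -/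
  f : (MvPolynomial (Fin n) A ⧸ I) →ₐ[A] B

variable {A P B}

/-- the underlying ring -/
abbrev Idx.ring (X : Idx A P B) : Type u := MvPolynomial (Fin X.n) A ⧸ X.I

noncomputable instance : Category (Idx A P B) where
  Hom X Y := {φ : X.ring →ₐ[A] Y.ring // Y.f.comp φ = X.f}
  id X := ⟨AlgHom.id A _, by ext; rfl⟩
  comp {X Y Z} φ ψ := ⟨ψ.1.comp φ.1, by rw [← AlgHom.comp_assoc, ψ.2, φ.2]⟩

@[simp] lemma id_val (X : Idx A P B) : (𝟙 X : X ⟶ X).1 = AlgHom.id A _ := rfl
@[simp] lemma comp_val {X Y Z : Idx A P B} (φ : X ⟶ Y) (ψ : Y ⟶ Z) :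
    (φ ≫ ψ).1 = ψ.1.comp φ.1 := rfl

lemma hom_ext {X Y : Idx A P B} {φ ψ : X ⟶ Y} (h : ∀ x, φ.1 x = ψ.1 x) : φ = ψ :=
  Subtype.ext (AlgHom.ext h)

/-- `P` is good: invariant under isomorphism and implies finite presentation. -/
structure Good (P : ∀ (W : Type u) [CommRing W] [Algebra A W], Prop) : Prop where
  iso : ∀ (W W' : Type u) [CommRing W] [Algebra A W] [CommRing W'] [Algebra A W'],
    (W ≃ₐ[A] W') → P W → P W'
  fp : ∀ (W : Type u) [CommRing W] [Algebra A W], P W → Algebra.FinitePresentation A W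

/-- The key step: every map from a f.p. algebra factors through an object of the index category. -/
lemma exists_idx (hP : Good P) (h : Fac A P B) (Z : Type u) [CommRing Z] [Algebra A Z]
    [Algebra.FinitePresentation A Z] (g : Z →ₐ[A] B) :
    ∃ (X : Idx A P B) (a : Z →ₐ[A] X.ring), X.f.comp a = g := by
  obtain ⟨W, _, _, a, b, hW, hab⟩ := h Z g
  have := hP.fp W hW
  obtain ⟨n, φ, hφ, -⟩ := this.out
  let e : (MvPolynomial (Fin n) A ⧸ RingHom.ker φ) ≃ₐ[A] W :=
    Ideal.quotientKerAlgEquivOfSurjective hφ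
  refine ⟨⟨n, RingHom.ker φ, hP.iso _ _ e.symm hW, b.comp e.toAlgHom⟩,
    e.symm.toAlgHom.comp a, ?_⟩
  rw [← hab]
  ext z
  simp

lemma Idx.fp (hP : Good P) (X : Idx A P B) : Algebra.FinitePresentation A X.ring :=
  hP.fp _ X.prop

open TensorProduct in
lemma exists_cocone_objs (hP : Good P) (h : Fac A P B) (X Y : Idx A P B) :
    ∃ (Z : Idx A P B) (_ : X ⟶ Z) (_ : Y ⟶ Z), True := by
  have := X.fp hP
  have := Y.fp hP
  have : Algebra.FinitePresentation A (X.ring ⊗[A] Y.ring) :=
    Algebra.FinitePresentation.trans A X.ring (X.ring ⊗[A] Y.ring)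
  obtain ⟨Z, a, ha⟩ := exists_idx hP h (X.ring ⊗[A] Y.ring)
    (Algebra.TensorProduct.lift X.f Y.f (fun _ _ => Commute.all _ _))
  refine ⟨Z, ⟨a.comp Algebra.TensorProduct.includeLeft, ?_⟩,
    ⟨a.comp Algebra.TensorProduct.includeRight, ?_⟩, trivial⟩
  · rw [← AlgHom.comp_assoc, ha]; ext; simp
  · rw [← AlgHom.comp_assoc, ha]; ext; simp

/-- quotient out finitely many elements dying in `B` -/
lemma exists_kill (hP : Good P) (h : Fac A P B) (X : Idx A P B) (s : Finset X.ring)
    (hs : ∀ x ∈ s, X.f x = 0) :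
    ∃ (Z : Idx A P B) (φ : X ⟶ Z), ∀ x ∈ s, φ.1 x = 0 := by
  have := X.fp hP
  have : Algebra.FinitePresentation A (X.ring ⧸ Ideal.span (s : Set X.ring)) :=
    .quotient ⟨s, rfl⟩
  have hker : ∀ a ∈ Ideal.span (s : Set X.ring), X.f a = 0 := by
    intro a ha
    have : Ideal.span (s : Set X.ring) ≤ RingHom.ker X.f := by
      rw [Ideal.span_le]
      exact hs
    exact this ha
  obtain ⟨Z, a, ha⟩ := exists_idx hP h (X.ring ⧸ Ideal.span (s : Set X.ring))
    (Ideal.Quotient.liftₐ _ X.f hker)
  refine ⟨Z, ⟨a.comp (Ideal.Quotient.mkₐ A _), ?_⟩, ?_⟩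
  · rw [← AlgHom.comp_assoc, ha]; exact AlgHom.ext fun x => rfl
  · intro x hx
    show a (Ideal.Quotient.mk _ x) = 0
    rw [Ideal.Quotient.eq_zero_iff_mem.2 (Ideal.subset_span hx), map_zero]

lemma exists_cocone_maps (hP : Good P) (h : Fac A P B) {X Y : Idx A P B} (φ ψ : X ⟶ Y) :
    ∃ (Z : Idx A P B) (χ : Y ⟶ Z), φ ≫ χ = ψ ≫ χ := by
  classical
  have := X.fp hP
  have hft : Algebra.FiniteType A X.ring := inferInstance
  obtain ⟨s, hs⟩ := hft.out
  obtain ⟨Z, χ, hχ⟩ := exists_kill hP h Y (s.image (fun x => φ.1 x - ψ.1 x)) (by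
    intro y hy
    obtain ⟨x, -, rfl⟩ := Finset.mem_image.1 hy
    rw [map_sub, sub_eq_zero]
    have h1 := DFunLike.congr_fun φ.2 x
    have h2 := DFunLike.congr_fun ψ.2 x
    exact h1.trans h2.symm)
  refine ⟨Z, χ, Subtype.ext ?_⟩
  have key : Set.EqOn (χ.1.comp φ.1) (χ.1.comp ψ.1) (s : Set X.ring) := by
    intro x hx
    have := hχ _ (Finset.mem_image_of_mem (fun x => φ.1 x - ψ.1 x) hx)
    rw [map_sub, sub_eq_zero] at this
    exact this
  exact AlgHom.ext_of_adjoin_eq_top hs key

lemma isFiltered (hP : Good P) (h : Fac A P B) : IsFiltered (Idx A P B) :=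
  { cocone_objs := exists_cocone_objs hP h
    cocone_maps := fun _ _ φ ψ => exists_cocone_maps hP h φ ψ
    nonempty := by
      obtain ⟨Z, -, -⟩ := exists_idx hP h A (Algebra.ofId A B)
      exact ⟨Z⟩ }

/-- the diagram -/
noncomputable def diag (A : Type u) [CommRing A] (P : ∀ (W : Type u) [CommRing W] [Algebra A W], Prop)
    (B : Type u) [CommRing B] [Algebra A B] : Idx A P B ⥤ Under (CommRingCat.of A) where
  obj X := Under.mk (CommRingCat.ofHom (algebraMap A X.ring))
  map φ := Under.homMk (CommRingCat.ofHom φ.1.toRingHom) (by ext a; exact φ.1.commutes a)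

/-- the cocone -/
noncomputable def cocone (A : Type u) [CommRing A] (P : ∀ (W : Type u) [CommRing W] [Algebra A W], Prop)
    (B : Type u) [CommRing B] [Algebra A B] : Cocone (diag A P B) where
  pt := Under.mk (CommRingCat.ofHom (algebraMap A B))
  ι :=
    { app := fun X => Under.homMk (CommRingCat.ofHom X.f.toRingHom)
        (by ext a; exact X.f.commutes a)
      naturality := fun X Y φ => by
        apply Under.UnderMorphism.ext
        ext x
        exact DFunLike.congr_fun φ.2 x }

section desc

variable (hP : Good P) (h : Fac A P B) (s : Cocone (diag A P B))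

/-- component -/
noncomputable abbrev comp' (X : Idx A P B) : X.ring →+* s.pt.right := (s.ι.app X).right.hom

lemma comp'_comp {X Y : Idx A P B} (φ : X ⟶ Y) (x : X.ring) :
    comp' s Y (φ.1 x) = comp' s X x := by
  have := s.w φ
  exact congrArg (fun f => f.right.hom x) this

include hP h in
lemma exists_rep (b : B) : ∃ (X : Idx A P B) (x : X.ring), X.f x = b := by
  obtain ⟨X, a, ha⟩ := exists_idx hP h (MvPolynomial PUnit.{u+1} A)
    (MvPolynomial.aeval (fun _ => b))
  refine ⟨X, a (MvPolynomial.X PUnit.unit), ?_⟩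
  have := DFunLike.congr_fun ha (MvPolynomial.X PUnit.unit)
  rw [AlgHom.comp_apply] at this
  rw [this, MvPolynomial.aeval_X]

include hP h in
lemma comp'_eq {X Y : Idx A P B} {x : X.ring} {y : Y.ring} (hxy : X.f x = Y.f y) :
    comp' s X x = comp' s Y y := by
  obtain ⟨Z, φ, ψ, -⟩ := exists_cocone_objs hP h X Y
  obtain ⟨W, χ, hχ⟩ := exists_kill hP h Z {φ.1 x - ψ.1 y} (by
    intro z hz
    rw [Finset.mem_singleton] at hz
    rw [hz, map_sub, sub_eq_zero]
    have h1 := DFunLike.congr_fun φ.2 x
    have h2 := DFunLike.congr_fun ψ.2 y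
    exact h1.trans (hxy.trans h2.symm))
  have h3 := hχ _ (Finset.mem_singleton_self _)
  rw [map_sub, sub_eq_zero] at h3
  rw [← comp'_comp s φ, ← comp'_comp s ψ, ← comp'_comp s χ, ← comp'_comp s χ, h3]

/-- the descended function -/
noncomputable def desc (b : B) : s.pt.right :=
  comp' s (exists_rep hP h b).choose (exists_rep hP h b).choose_spec.choose

lemma desc_eq (X : Idx A P B) (x : X.ring) : desc hP h s (X.f x) = comp' s X x :=
  comp'_eq hP h s (exists_rep hP h (X.f x)).choose_spec.choose_spec

/-- the descended ring homomorphism -/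
noncomputable def descHom : B →+* s.pt.right where
  toFun := desc hP h s
  map_one' := by
    obtain ⟨X, x, hx⟩ := exists_rep hP h (1 : B)
    rw [← map_one X.f, desc_eq, map_one]
  map_zero' := by
    obtain ⟨X, x, hx⟩ := exists_rep hP h (1 : B)
    rw [← map_zero X.f, desc_eq, map_zero]
  map_mul' b b' := by
    obtain ⟨X, x, rfl⟩ := exists_rep hP h b
    obtain ⟨Y, y, rfl⟩ := exists_rep hP h b'
    obtain ⟨Z, φ, ψ, -⟩ := exists_cocone_objs hP h X Y
    have h1 : Z.f (φ.1 x) = X.f x := DFunLike.congr_fun φ.2 x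
    have h2 : Z.f (ψ.1 y) = Y.f y := DFunLike.congr_fun ψ.2 y
    rw [← h1, ← h2, ← map_mul, desc_eq, desc_eq, desc_eq, map_mul]
  map_add' b b' := by
    obtain ⟨X, x, rfl⟩ := exists_rep hP h b
    obtain ⟨Y, y, rfl⟩ := exists_rep hP h b'
    obtain ⟨Z, φ, ψ, -⟩ := exists_cocone_objs hP h X Y
    have h1 : Z.f (φ.1 x) = X.f x := DFunLike.congr_fun φ.2 x
    have h2 : Z.f (ψ.1 y) = Y.f y := DFunLike.congr_fun ψ.2 y
    rw [← h1, ← h2, ← map_add, desc_eq, desc_eq, desc_eq, map_add]

end desc

/-- the cocone is a colimit -/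
noncomputable def isColimit (hP : Good P) (h : Fac A P B) : IsColimit (cocone A P B) where
  desc s := Under.homMk (CommRingCat.ofHom (descHom hP h s)) (by
    ext a
    obtain ⟨X, x, hx⟩ := exists_rep hP h (1 : B)
    show desc hP h s (algebraMap A B a) = s.pt.hom.hom a
    rw [← X.f.commutes a, desc_eq]
    exact congrArg (fun f => f.hom a) (Under.w (s.ι.app X)))
  fac s X := by
    apply Under.UnderMorphism.ext
    ext x
    exact desc_eq hP h s X x
  uniq s m hm := by
    apply Under.UnderMorphism.ext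
    ext b
    obtain ⟨X, x, rfl⟩ := exists_rep hP h b
    show m.right.hom (X.f x) = desc hP h s (X.f x)
    rw [desc_eq]
    exact congrArg (fun f => f.right.hom x) (hm X)

/-- The factorization property implies being a filtered colimit. -/
theorem _root_.Groth.Agent.Proet.FacM.Fac.isInd (hP : Good P) (h : Fac A P B) : IsInd A P B :=
  ⟨Idx A P B, inferInstance, isFiltered hP h, diag A P B, cocone A P B, isColimit hP h,
    fun X => by
      have : (algebraMap A X.ring).toAlgebra = (inferInstance : Algebra A X.ring) :=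
        Algebra.algebra_ext _ _ (fun _ => rfl)
      show @P X.ring _ (algebraMap A X.ring).toAlgebra
      rw [this]
      exact X.prop,
    ⟨Iso.refl _⟩⟩

end converse

/-- Local isomorphisms are finitely presented. -/
lemma finitePresentation_of_isLocalIso (W : Type u) [CommRing W] [Algebra A W]
    [Algebra.IsLocalIso A W] : Algebra.FinitePresentation A W := by
  refine Algebra.FinitePresentation.of_span_eq_top_target
    {g : W | Algebra.IsStandardOpenImmersion A (Localization.Away g)}
    (Algebra.IsLocalIso.span_isStandardOpenImmersion_eq_top A W) ?_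
  intro g hg
  have : Algebra.IsStandardOpenImmersion A (Localization.Away g) := hg
  obtain ⟨r, hr⟩ := Algebra.IsStandardOpenImmersion.exists_away A (Localization.Away g)
  exact IsLocalization.Away.finitePresentation r

lemma good_locIso : Good (LocIso A) where
  iso W W' _ _ _ _ e h := by
    have : Algebra.IsLocalIso A W := h
    exact Algebra.IsLocalIso.of_algEquiv e
  fp W _ _ h := by
    have : Algebra.IsLocalIso A W := h
    exact finitePresentation_of_isLocalIso W

lemma good_et : Good (Et A) where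
  iso W W' _ _ _ _ e h := by
    have : Algebra.Etale A W := h
    exact Algebra.Etale.of_equiv e
  fp W _ _ h := by
    have : Algebra.Etale A W := h
    exact inferInstance

theorem isIndZariski_iff_fac (B : Type u) [CommRing B] [Algebra A B] :
    EtPBC.IsIndZariski A B ↔ Fac A (LocIso A) B :=
  ⟨fun h => IsInd.fac h, fun h => Fac.isInd good_locIso h⟩

theorem isIndEtale_iff_fac (B : Type u) [CommRing B] [Algebra A B] :
    EtPBC.IsIndEtale A B ↔ Fac A (Et A) B :=
  ⟨fun h => IsInd.fac h, fun h => Fac.isInd good_et h⟩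

end Groth.Agent.Proet.FacInd
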