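import Mathlib.RingTheory.FinitePresentation
import Mathlib.RingTheory.LocalIso
import Mathlib.RingTheory.Etale.Basic
import Mathlib.Topology.LocallyConstant.Algebra
import Mathlib.Topology.DiscreteQuotient

/-!
# The factorization property

`Fac P A B`: every `A`-algebra map from a finitely presented `A`-algebra to `B` factors through an
`A`-algebra satisfying `P`.
-/

set_option autoImplicit false
set_option linter.style.longLine false
universe u

namespace Groth.Agent.Proet.FacM

/-- Every `A`-algebra map from a finitely presented `A`-algebra to `B` factors through an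
`A`-algebra satisfying `P`. -/
def Fac (A : Type u) [CommRing A] (P : ∀ (W : Type u) [CommRing W] [Algebra A W], Prop)
    (B : Type u) [CommRing B] [Algebra A B] : Prop :=
  ∀ (Z : Type u) [CommRing Z] [Algebra A Z] [Algebra.FinitePresentation A Z] (g : Z →ₐ[A] B),
    ∃ (W : Type u) (_ : CommRing W) (_ : Algebra A W) (a : Z →ₐ[A] W) (b : W →ₐ[A] B),
      P W ∧ b.comp a = g

/-- local isomorphisms as a predicate on algebras -/
abbrev LocIso (A : Type u) [CommRing A] : ∀ (W : Type u) [CommRing W] [Algebra A W], Prop :=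
  fun W _ _ => Algebra.IsLocalIso A W

/-- etale algebras as a predicate on algebras -/
abbrev Et (A : Type u) [CommRing A] : ∀ (W : Type u) [CommRing W] [Algebra A W], Prop :=
  fun W _ _ => Algebra.Etale A W

variable {A : Type u} [CommRing A]

lemma Fac.of_algEquiv {P : ∀ (W : Type u) [CommRing W] [Algebra A W], Prop}
    {B C : Type u} [CommRing B] [CommRing C] [Algebra A B] [Algebra A C]
    (h : Fac A P B) (e : B ≃ₐ[A] C) : Fac A P C := by
  intro Z _ _ _ g
  obtain ⟨W, _, _, a, b, hW, hab⟩ := h Z (e.symm.toAlgHom.comp g)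
  refine ⟨W, _, _, a, e.toAlgHom.comp b, hW, ?_⟩
  rw [AlgHom.comp_assoc, hab]
  ext z; simp

lemma Fac.of_self {P : ∀ (W : Type u) [CommRing W] [Algebra A W], Prop}
    {B : Type u} [CommRing B] [Algebra A B] (h : P B) : Fac A P B := fun Z _ _ _ g =>
  ⟨B, _, _, g, AlgHom.id A B, h, by ext; rfl⟩

lemma Fac.mono {P Q : ∀ (W : Type u) [CommRing W] [Algebra A W], Prop}
    (hPQ : ∀ (W : Type u) [CommRing W] [Algebra A W], P W → Q W)
    {B : Type u} [CommRing B] [Algebra A B] (h : Fac A P B) : Fac A Q B := fun Z _ _ _ g => by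
  obtain ⟨W, _, _, a, b, hW, hab⟩ := h Z g
  exact ⟨W, _, _, a, b, hPQ W hW, hab⟩

open MvPolynomial in
/-- The factorization property passes to localizations. -/
theorem Fac.localization {P : ∀ (W : Type u) [CommRing W] [Algebra A W], Prop}
    (hP : ∀ (W : Type u) [CommRing W] [Algebra A W] (w : W), P W → P (Localization.Away w))
    {R : Type u} [CommRing R] [Algebra A R] (h : Fac A P R) (S : Submonoid R)
    (B : Type u) [CommRing B] [Algebra R B] [IsLocalization S B] [Algebra A B]
    [IsScalarTower A R B] : Fac A P B := by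
  classical
  intro Z _ _ hZ g
  obtain ⟨n, φ, hφ, hker⟩ := hZ.out
  -- common denominator
  obtain ⟨s, hs⟩ := IsLocalization.exist_integer_multiples_of_finite S
    (fun k : Fin n => g (φ (X k)))
  choose r hr using hs
  -- the polynomial ring
  let Z' := MvPolynomial (Option (Fin n)) A
  let y : Z' := X none
  let L := Localization.Away y
  let ψ : MvPolynomial (Fin n) A →ₐ[A] L :=
    aeval (fun k => algebraMap Z' L (X (some k)) * IsLocalization.Away.invSelf y)
  let ρ : Z' →ₐ[A] R := aeval (fun o : Option (Fin n) => o.elim (s : R) r)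
  have hρy : ρ y = s := by
    show (aeval (fun o : Option (Fin n) => o.elim (s : R) r)) (X none : MvPolynomial _ A) = s
    rw [aeval_X]; rfl
  have hρx : ∀ k, ρ (X (some k)) = r k := by
    intro k
    show (aeval (fun o : Option (Fin n) => o.elim (s : R) r)) (X (some k) : MvPolynomial _ A) = _
    rw [aeval_X]; rfl
  -- B receives L
  have hsu : IsUnit (algebraMap R B s) := IsLocalization.map_units B s
  have hu1 : ∀ m : Submonoid.powers y,
      IsUnit (((IsScalarTower.toAlgHom A R B).comp ρ) (m : Z')) := by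
    rintro ⟨_, m, rfl⟩
    simp only [map_pow]
    refine IsUnit.pow _ ?_
    simpa [hρy] using hsu
  let ρL : L →ₐ[A] B := IsLocalization.liftAlgHom (M := Submonoid.powers y)
    (f := (IsScalarTower.toAlgHom A R B).comp ρ) hu1
  have hρL : ∀ z : Z', ρL (algebraMap Z' L z) = algebraMap R B (ρ z) := by
    intro z
    simp [ρL]
  have hinv : algebraMap Z' L y * IsLocalization.Away.invSelf y = 1 :=
    IsLocalization.Away.mul_invSelf y
  have hρψ : ρL.comp ψ = g.comp φ := by
    apply MvPolynomial.algHom_ext
    intro k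
    have h1 : ρL (algebraMap Z' L (X (some k))) = algebraMap R B (r k) := by rw [hρL, hρx]
    have h2 : algebraMap R B s * ρL (IsLocalization.Away.invSelf y) = 1 := by
      rw [← hρy, ← hρL, ← map_mul, hinv, map_one]
    have h3 : algebraMap R B (r k) = algebraMap R B s * g (φ (X k)) := by
      rw [hr k, Algebra.smul_def]
    simp only [AlgHom.comp_apply, ψ, aeval_X, map_mul]
    rw [h1, h3, mul_right_comm, h2, one_mul]
  -- numerators of the relations
  have hz : ∀ f : MvPolynomial (Fin n) A, ∃ (z : Z') (N : ℕ),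
      ψ f * algebraMap Z' L (y ^ N) = algebraMap Z' L z := by
    intro f
    obtain ⟨N, z, hz⟩ := IsLocalization.Away.surj y (ψ f)
    exact ⟨z, N, by rw [map_pow]; exact hz⟩
  choose z N hzN using hz
  obtain ⟨F, hF⟩ := hker
  have hF0 : ∀ f ∈ F, ∃ s' : S, (s' : R) * ρ (z f) = 0 := by
    intro f hf
    have h1 : φ f = 0 := by
      have : f ∈ RingHom.ker φ.toRingHom := by rw [← hF]; exact Ideal.subset_span hf
      exact this
    have h2 : ρL (ψ f) = 0 := by
      rw [← AlgHom.comp_apply, hρψ, AlgHom.comp_apply, h1, map_zero]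
    have h3 : algebraMap R B (ρ (z f)) = 0 := by
      rw [← hρL, ← hzN, map_mul, h2, zero_mul]
    obtain ⟨c, hc⟩ := (IsLocalization.map_eq_zero_iff S B _).1 h3
    exact ⟨c, hc⟩
  choose! s' hs' using hF0
  let t : R := ∏ f ∈ F, (s' f : R)
  have htS : t ∈ S := S.prod_mem fun f _ => (s' f).2
  have ht : ∀ f ∈ F, t * ρ (z f) = 0 := by
    intro f hf
    simp only [t]
    rw [← Finset.mul_prod_erase F (fun f => (s' f : R)) hf, mul_right_comm, hs' f hf, zero_mul]
  -- the finitely presented algebra
  let J : Ideal (Polynomial Z') := Ideal.span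
    ((fun f => Polynomial.X * Polynomial.C (z f)) '' (F : Set (MvPolynomial (Fin n) A)))
  have hJ : J.FG := ⟨F.image (fun f => Polynomial.X * Polynomial.C (z f)), by simp [J]⟩
  have : Algebra.FinitePresentation A (Polynomial Z') := inferInstance
  have : Algebra.FinitePresentation A (Polynomial Z' ⧸ J) := .quotient hJ
  let σ0 : Polynomial Z' →ₐ[A] R := Polynomial.eval₂AlgHom ρ t (fun a => Commute.all _ _)
  have hσ0X : σ0 Polynomial.X = t := Polynomial.eval₂_X (ρ : Z' →+* R) t
  have hσ0C : ∀ z : Z', σ0 (Polynomial.C z) = ρ z := fun z => Polynomial.eval₂_C (ρ : Z' →+* R) t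
  have hσ0 : ∀ a ∈ J, σ0 a = 0 := by
    intro a ha
    have : J ≤ RingHom.ker σ0.toRingHom := by
      rw [Ideal.span_le]
      rintro _ ⟨f, hf, rfl⟩
      show σ0 _ = 0
      rw [map_mul, hσ0X, hσ0C, ht f hf]
    exact this ha
  let σ : (Polynomial Z' ⧸ J) →ₐ[A] R := Ideal.Quotient.liftₐ J σ0 hσ0
  obtain ⟨W, _, _, a, b, hW, hab⟩ := h (Polynomial Z' ⧸ J) σ
  let a' : Z' →ₐ[A] W := (a.comp (Ideal.Quotient.mkₐ A J)).comp
    ((Polynomial.CAlgHom (R := A) (A := Z')))
  let tw : W := a (Ideal.Quotient.mk J Polynomial.X)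
  have hba' : ∀ z : Z', b (a' z) = ρ z := by
    intro z
    have : b (a' z) = (b.comp a) (Ideal.Quotient.mk J (Polynomial.C z)) := rfl
    rw [this, hab]
    show σ0 (Polynomial.C z) = ρ z
    exact hσ0C z
  have hbt : b tw = t := by
    have : b tw = (b.comp a) (Ideal.Quotient.mk J Polynomial.X) := rfl
    rw [this, hab]
    exact hσ0X
  have hrel : ∀ f ∈ F, tw * a' (z f) = 0 := by
    intro f hf
    have h0 : (Ideal.Quotient.mk J (Polynomial.X * Polynomial.C (z f))) = 0 :=
      Ideal.Quotient.eq_zero_iff_mem.2 (Ideal.subset_span ⟨f, hf, rfl⟩)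
    have : tw * a' (z f) = a (Ideal.Quotient.mk J (Polynomial.X * Polynomial.C (z f))) := by
      rw [map_mul, map_mul]; rfl
    rw [this, h0, map_zero]
  let w : W := a' y * tw
  let W' := Localization.Away w
  have hwu : IsUnit (algebraMap W W' w) := IsLocalization.Away.algebraMap_isUnit w
  have hwu' : IsUnit (algebraMap W W' (a' y) * algebraMap W W' tw) := by
    rw [← map_mul]; exact hwu
  have hyu : IsUnit (algebraMap W W' (a' y)) := isUnit_of_mul_isUnit_left hwu'
  have htu : IsUnit (algebraMap W W' tw) := isUnit_of_mul_isUnit_right hwu'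
  -- W' → B
  have hu2 : ∀ m : Submonoid.powers w,
      IsUnit (((IsScalarTower.toAlgHom A R B).comp b) (m : W)) := by
    rintro ⟨_, m, rfl⟩
    simp only [map_pow]
    refine IsUnit.pow _ ?_
    have : ((IsScalarTower.toAlgHom A R B).comp b) w = algebraMap R B s * algebraMap R B t := by
      show algebraMap R B (b (a' y * tw)) = _
      rw [map_mul, hba', hbt, map_mul, hρy]
    rw [this]
    exact hsu.mul (IsLocalization.map_units B ⟨t, htS⟩)
  let b' : W' →ₐ[A] B := IsLocalization.liftAlgHom (M := Submonoid.powers w)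
    (f := (IsScalarTower.toAlgHom A R B).comp b) hu2
  have hb' : ∀ x : W, b' (algebraMap W W' x) = algebraMap R B (b x) := by
    intro x; simp [b']
  -- L → W'
  have hu3 : ∀ m : Submonoid.powers y,
      IsUnit (((IsScalarTower.toAlgHom A W W').comp a') (m : Z')) := by
    rintro ⟨_, m, rfl⟩
    simp only [map_pow]
    exact IsUnit.pow _ hyu
  let α : L →ₐ[A] W' := IsLocalization.liftAlgHom (M := Submonoid.powers y)
    (f := (IsScalarTower.toAlgHom A W W').comp a') hu3
  have hα : ∀ x : Z', α (algebraMap Z' L x) = algebraMap W W' (a' x) := by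
    intro x; simp [α]
  -- kills the relations
  have hkill : ∀ f ∈ F, (α.comp ψ) f = 0 := by
    intro f hf
    have h1 : algebraMap W W' (a' (z f)) = 0 := by
      have := congrArg (algebraMap W W') (hrel f hf)
      rw [map_mul, map_zero] at this
      exact (htu.mul_right_eq_zero).1 this
    have h2 : (α.comp ψ) f * (algebraMap W W' (a' y)) ^ (N f) = 0 := by
      have := congrArg α (hzN f)
      rw [map_mul, hα, hα, h1, map_pow, map_pow] at this
      exact this
    exact ((hyu.pow (N f)).mul_left_eq_zero).1 h2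
  have hker' : RingHom.ker φ.toRingHom ≤ RingHom.ker (α.comp ψ).toRingHom := by
    rw [← hF, Ideal.span_le]
    intro f hf
    exact hkill f hf
  let β : Z →ₐ[A] W' := AlgHom.liftOfSurjective φ hφ (α.comp ψ) hker'
  have hβ : β.comp φ = α.comp ψ := AlgHom.liftOfSurjective_comp φ hφ (α.comp ψ) hker'
  refine ⟨W', inferInstance, inferInstance, β, b', hP W w hW, ?_⟩
  have hb'α : b'.comp α = ρL := by
    apply IsLocalization.algHom_ext (Submonoid.powers y)
    ext x
    show b' (α (algebraMap Z' L (X x))) = ρL (algebraMap Z' L (X x))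
    rw [hα, hb', hba', hρL]
  have : (b'.comp β).comp φ = g.comp φ := by
    rw [AlgHom.comp_assoc, hβ, ← AlgHom.comp_assoc, hb'α, hρψ]
  ext x
  obtain ⟨x, rfl⟩ := hφ x
  exact DFunLike.congr_fun this x


section LC

variable {R : Type u} [CommRing R] [Algebra A R] {T : Type u} [TopologicalSpace T]

/-- functions on a discrete quotient are locally constant functions -/
def ofQuot (D : DiscreteQuotient T) : (D → R) →ₐ[A] LocallyConstant T R where
  toFun f := ⟨f ∘ D.proj, D.proj_isLocallyConstant.comp f⟩
  map_one' := rfl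
  map_mul' _ _ := rfl
  map_zero' := rfl
  map_add' _ _ := rfl
  commutes' _ := rfl

lemma mem_range_ofQuot_of_le {D E : DiscreteQuotient T} (h : D ≤ E) {f : LocallyConstant T R}
    (hf : f ∈ (ofQuot (A := A) (R := R) E).range) : f ∈ (ofQuot (A := A) (R := R) D).range := by
  obtain ⟨g, rfl⟩ := hf
  exact ⟨g ∘ DiscreteQuotient.ofLE h, by ext t; rfl⟩

lemma mem_range_ofQuot (f : LocallyConstant T R) :
    f ∈ (ofQuot (A := A) (R := R) f.discreteQuotient).range :=
  ⟨f.lift, by ext t; rfl⟩

lemma exists_quot (s : Finset (LocallyConstant T R)) :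
    ∃ D : DiscreteQuotient T, ∀ f ∈ s, f ∈ (ofQuot (A := A) (R := R) D).range := by
  classical
  induction s using Finset.induction_on with
  | empty => exact ⟨⊤, by simp⟩
  | insert a s ha ih =>
    obtain ⟨D, hD⟩ := ih
    refine ⟨D ⊓ a.discreteQuotient, fun f hf => ?_⟩
    rcases Finset.mem_insert.1 hf with rfl | hf
    · exact mem_range_ofQuot_of_le inf_le_right (mem_range_ofQuot f)
    · exact mem_range_ofQuot_of_le inf_le_left (hD f hf)

lemma ofQuot_injective (D : DiscreteQuotient T) :
    Function.Injective (ofQuot (A := A) (R := R) D) := by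
  intro f g h
  ext x
  obtain ⟨t, rfl⟩ := D.proj_surjective x
  exact congrArg (fun F : LocallyConstant T R => F t) h

/-- If `R` has the factorization property over `A` then so does `LocallyConstant T R`, for `P`
stable under finite products. -/
theorem Fac.locallyConstant {P : ∀ (W : Type u) [CommRing W] [Algebra A W], Prop}
    (hP : ∀ (ι : Type u) [Finite ι] (W : ι → Type u) [∀ i, CommRing (W i)]
      [∀ i, Algebra A (W i)], (∀ i, P (W i)) → P (∀ i, W i))
    [CompactSpace T] (h : Fac A P R) : Fac A P (LocallyConstant T R) := by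
  classical
  intro Z _ _ hZ g
  have hft : Algebra.FiniteType A Z := inferInstance
  obtain ⟨s, hs⟩ := hft.out
  obtain ⟨D, hD⟩ := exists_quot (A := A) (s.image g)
  have hrange : ∀ z, g z ∈ (ofQuot (A := A) (R := R) D).range := by
    intro z
    have hz : z ∈ Algebra.adjoin A (s : Set Z) := by rw [hs]; trivial
    have : Algebra.adjoin A (s : Set Z) ≤ (ofQuot (A := A) (R := R) D).range.comap g := by
      rw [Algebra.adjoin_le_iff]
      intro x hx
      exact hD _ (Finset.mem_image_of_mem g hx)
    exact this hz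
  let e := AlgEquiv.ofInjective (ofQuot (A := A) (R := R) D) (ofQuot_injective D)
  let g' : Z →ₐ[A] (D → R) := e.symm.toAlgHom.comp (g.codRestrict _ hrange)
  have hg' : (ofQuot (A := A) (R := R) D).comp g' = g := by
    ext1 z
    have : e (g' z) = ⟨g z, hrange z⟩ := by
      show e (e.symm _) = _
      rw [AlgEquiv.apply_symm_apply]; rfl
    exact congrArg Subtype.val this
  choose W i1 i2 a b hW hab using fun d : D => h Z ((Pi.evalAlgHom A (fun _ : D => R) d).comp g')
  have : Finite D := inferInstance
  refine ⟨∀ d, W d, inferInstance, inferInstance, AlgHom.pi a,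
    (ofQuot D).comp (AlgHom.pi (fun d => (b d).comp (Pi.evalAlgHom A W d))), hP D W hW, ?_⟩
  rw [AlgHom.comp_assoc]
  have : (AlgHom.pi (fun d => (b d).comp (Pi.evalAlgHom A W d))).comp (AlgHom.pi a) = g' := by
    ext z d
    exact DFunLike.congr_fun (hab d) z
  rw [this, hg']

end LC

lemma locIso_away {A : Type u} [CommRing A] (W : Type u) [CommRing W] [Algebra A W] (w : W)
    (h : LocIso A W) : LocIso A (Localization.Away w) :=
  have : Algebra.IsLocalIso A W := h
  Algebra.IsLocalIso.trans A W (Localization.Away w)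

lemma et_away {A : Type u} [CommRing A] (W : Type u) [CommRing W] [Algebra A W] (w : W)
    (h : Et A W) : Et A (Localization.Away w) :=
  have : Algebra.Etale A W := h
  have : Algebra.Etale W (Localization.Away w) := Algebra.Etale.of_isLocalizationAway w
  Algebra.Etale.comp A W (Localization.Away w)

lemma locIso_pi {A : Type u} [CommRing A] (ι : Type u) [Finite ι] (W : ι → Type u)
    [∀ i, CommRing (W i)] [∀ i, Algebra A (W i)] (h : ∀ i, LocIso A (W i)) :
    LocIso A (∀ i, W i) :=
  have : ∀ i, Algebra.IsLocalIso A (W i) := h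
  Algebra.IsLocalIso.pi_of_finite A W

lemma locIso_self {A : Type u} [CommRing A] : LocIso A A := inferInstance

end Groth.Agent.Proet.FacM
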