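import Mathlib.Topology.LocallyConstant.Algebra
import Mathlib.RingTheory.Spectrum.Prime.Topology
import Mathlib.Topology.Separation.Profinite

/-!
# The spectrum of the ring of locally constant functions `T → A` on a profinite space

`Spec (LocallyConstant T A) ≃ₜ Spec A × T` for `T` compact, Hausdorff and totally disconnected.
-/

set_option autoImplicit false
universe u v
open Topology

namespace Groth.Agent.Proet.LocConst

variable {A : Type u} [CommRing A] {T : Type v} [TopologicalSpace T]

/-- The indicator function of a clopen set. -/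
noncomputable abbrev ind (A : Type u) [CommRing A] {U : Set T} (hU : IsClopen U) :
    LocallyConstant T A :=
  LocallyConstant.charFn A hU

lemma ind_apply_mem {U : Set T} (hU : IsClopen U) {t : T} (ht : t ∈ U) :
    ind A hU t = 1 := by
  simp [ind, LocallyConstant.coe_charFn, ht]

lemma ind_apply_notMem {U : Set T} (hU : IsClopen U) {t : T} (ht : t ∉ U) :
    ind A hU t = 0 := by
  simp [ind, LocallyConstant.coe_charFn, ht]

lemma ind_mul_ind {U V : Set T} (hU : IsClopen U) (hV : IsClopen V) :
    ind A hU * ind A hV = ind A (hU.inter hV) := by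
  ext t
  by_cases h1 : t ∈ U <;> by_cases h2 : t ∈ V <;>
    simp [ind, LocallyConstant.coe_charFn, h1, h2]

lemma ind_idem {U : Set T} (hU : IsClopen U) : IsIdempotentElem (ind A hU) := by
  ext t
  by_cases h1 : t ∈ U <;> simp [ind, LocallyConstant.coe_charFn, h1]

lemma ind_compl {U : Set T} (hU : IsClopen U) : ind A hU.compl = 1 - ind A hU := by
  ext t
  by_cases h1 : t ∈ U <;> simp [ind, LocallyConstant.coe_charFn, h1, LocallyConstant.sub_apply]

/-- The prime of `LocallyConstant T A` attached to a prime of `A` and a point of `T`. -/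
def pt (p : PrimeSpectrum A) (t : T) : PrimeSpectrum (LocallyConstant T A) :=
  PrimeSpectrum.comap (LocallyConstant.evalRingHom t) p

lemma mem_pt {p : PrimeSpectrum A} {t : T} {f : LocallyConstant T A} :
    f ∈ (pt p t).asIdeal ↔ f t ∈ p.asIdeal := Iff.rfl

/-- `t` is the point of `T` below the prime `q`. -/
def IsPt (q : PrimeSpectrum (LocallyConstant T A)) (t : T) : Prop :=
  ∀ (U : Set T) (hU : IsClopen U), t ∈ U ↔ ind A hU ∉ q.asIdeal

lemma isPt_pt (p : PrimeSpectrum A) (t : T) : IsPt (pt p t) t := by
  intro U hU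
  rw [mem_pt]
  constructor
  · intro h
    rw [ind_apply_mem hU h]
    exact p.asIdeal.one_notMem
  · intro h
    by_contra h'
    rw [ind_apply_notMem hU h'] at h
    exact h (zero_mem _)

lemma IsPt.unique [CompactSpace T] [T2Space T] [TotallyDisconnectedSpace T]
    {q : PrimeSpectrum (LocallyConstant T A)} {t t' : T}
    (h : IsPt q t) (h' : IsPt q t') : t = t' := by
  by_contra hne
  obtain ⟨U, hU, ht, ht'⟩ := exists_isClopen_of_totally_separated hne
  exact ht' ((h' U hU).2 ((h U hU).1 ht))

lemma exists_isPt [CompactSpace T] (q : PrimeSpectrum (LocallyConstant T A)) :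
    ∃ t : T, IsPt q t := by
  classical
  by_contra hcon
  push Not at hcon
  -- every point has a clopen neighbourhood whose indicator lies in `q`
  have key : ∀ t : T, ∃ (U : Set T) (hU : IsClopen U), t ∈ U ∧ ind A hU ∈ q.asIdeal := by
    intro t
    by_contra h
    push Not at h
    apply hcon t
    intro U hU
    refine ⟨fun ht => h U hU ht, fun hq => ?_⟩
    by_contra ht
    have h1 := h Uᶜ hU.compl ht
    have h2 : ind A hU * ind A hU.compl ∈ q.asIdeal := by
      have : ind A hU * ind A hU.compl = 0 := by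
        rw [ind_compl hU, mul_sub, mul_one, (ind_idem hU).eq, sub_self]
      rw [this]; exact zero_mem _
    rcases q.2.mem_or_mem h2 with h3 | h3
    · exact hq h3
    · exact h1 h3
  choose U hU htU hqU using key
  obtain ⟨s, hs⟩ := isCompact_univ.elim_finite_subcover U (fun t => (hU t).2)
    (fun t _ => Set.mem_iUnion.2 ⟨t, htU t⟩)
  have h1 : (∏ t ∈ s, (1 - ind A (hU t))) = 0 := by
    ext x
    obtain ⟨i, hi, hx⟩ : ∃ i ∈ s, x ∈ U i := by
      have := hs (Set.mem_univ x)
      simpa using this
    have h2 : (∏ t ∈ s, (1 - ind A (hU t))) = (1 - ind A (hU i)) *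
        ∏ t ∈ s.erase i, (1 - ind A (hU t)) := by
      rw [Finset.mul_prod_erase s (fun t => (1 - ind A (hU t))) hi]
    rw [h2, LocallyConstant.mul_apply, LocallyConstant.sub_apply, ind_apply_mem (hU i) hx]
    simp
  have h2 : (∏ t ∈ s, (1 - ind A (hU t))) ∈ q.asIdeal := by rw [h1]; exact zero_mem _
  rw [q.2.prod_mem_iff] at h2
  obtain ⟨t, -, ht⟩ := h2
  apply q.2.ne_top
  rw [Ideal.eq_top_iff_one]
  have := add_mem ht (hqU t)
  simpa using this

/-- The constant function with value `a`. -/
lemma mul_ind_fiber (f : LocallyConstant T A) (t : T) :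
    f * ind A (f.isLocallyConstant.isClopen_fiber (f t)) =
      algebraMap A (LocallyConstant T A) (f t) *
        ind A (f.isLocallyConstant.isClopen_fiber (f t)) := by
  ext x
  rw [LocallyConstant.mul_apply, LocallyConstant.mul_apply]
  by_cases h : x ∈ {x | f x = f t}
  · rw [ind_apply_mem _ h]
    have h' : f x = f t := h
    simp [h', LocallyConstant.coe_algebraMap]
  · rw [ind_apply_notMem _ h]
    simp

lemma IsPt.mem_iff {q : PrimeSpectrum (LocallyConstant T A)} {t : T} (h : IsPt q t)
    (f : LocallyConstant T A) :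
    f ∈ q.asIdeal ↔ f t ∈ (PrimeSpectrum.comap (algebraMap A (LocallyConstant T A)) q).asIdeal := by
  have h0 : ind A (f.isLocallyConstant.isClopen_fiber (f t)) ∉ q.asIdeal :=
    (h _ _).1 rfl
  rw [PrimeSpectrum.comap_asIdeal, Ideal.mem_comap]
  constructor
  · intro hf
    have : f * ind A (f.isLocallyConstant.isClopen_fiber (f t)) ∈ q.asIdeal :=
      Ideal.mul_mem_right _ _ hf
    rw [mul_ind_fiber] at this
    exact (q.2.mem_or_mem this).resolve_right h0
  · intro hf
    have : algebraMap A (LocallyConstant T A) (f t) *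
        ind A (f.isLocallyConstant.isClopen_fiber (f t)) ∈ q.asIdeal :=
      Ideal.mul_mem_right _ _ hf
    rw [← mul_ind_fiber] at this
    exact (q.2.mem_or_mem this).resolve_right h0

lemma IsPt.eq_pt {q : PrimeSpectrum (LocallyConstant T A)} {t : T} (h : IsPt q t) :
    pt (PrimeSpectrum.comap (algebraMap A (LocallyConstant T A)) q) t = q := by
  ext f
  rw [mem_pt, h.mem_iff]

lemma comap_pt (p : PrimeSpectrum A) (t : T) :
    PrimeSpectrum.comap (algebraMap A (LocallyConstant T A)) (pt p t) = p := by
  ext a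
  rw [PrimeSpectrum.comap_asIdeal, Ideal.mem_comap, mem_pt]
  simp [LocallyConstant.coe_algebraMap]

variable [CompactSpace T]

/-- The point of `T` below a prime of `LocallyConstant T A`. -/
noncomputable def toT (q : PrimeSpectrum (LocallyConstant T A)) : T := (exists_isPt q).choose

lemma isPt_toT (q : PrimeSpectrum (LocallyConstant T A)) : IsPt q (toT q) :=
  (exists_isPt q).choose_spec

lemma toT_mem_iff (q : PrimeSpectrum (LocallyConstant T A)) {U : Set T} (hU : IsClopen U) :
    toT q ∈ U ↔ ind A hU ∉ q.asIdeal := isPt_toT q U hU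

variable [T2Space T] [TotallyDisconnectedSpace T]

@[simp] lemma toT_pt (p : PrimeSpectrum A) (t : T) : toT (pt p t) = t :=
  (isPt_toT _).unique (isPt_pt p t)

lemma continuous_toT : Continuous (toT : PrimeSpectrum (LocallyConstant T A) → T) := by
  rw [continuous_def]
  intro V hV
  rw [isOpen_iff_forall_mem_open]
  intro q hq
  obtain ⟨U, hU, hxU, hUV⟩ := compact_exists_isClopen_in_isOpen hV hq
  refine ⟨PrimeSpectrum.basicOpen (ind A hU), ?_, (PrimeSpectrum.basicOpen _).2, ?_⟩
  · intro q' hq'
    exact hUV ((toT_mem_iff q' hU).2 hq')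
  · exact (toT_mem_iff q hU).1 hxU

omit [CompactSpace T] [T2Space T] [TotallyDisconnectedSpace T] in
lemma continuous_pt :
    Continuous (fun x : PrimeSpectrum A × T => (pt x.1 x.2 : PrimeSpectrum (LocallyConstant T A))) := by
  rw [PrimeSpectrum.isTopologicalBasis_basic_opens.continuous_iff]
  rintro _ ⟨f, rfl⟩
  rw [isOpen_iff_forall_mem_open]
  rintro ⟨p, t⟩ hpt
  have hpt' : f t ∉ p.asIdeal := hpt
  refine ⟨(PrimeSpectrum.basicOpen (f t) : Set (PrimeSpectrum A)) ×ˢ {x | f x = f t}, ?_, ?_, ?_⟩
  · rintro ⟨p', t'⟩ ⟨h1, h2⟩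
    have h2' : f t' = f t := h2
    show f t' ∉ p'.asIdeal
    rw [h2']
    exact h1
  · exact (PrimeSpectrum.basicOpen (f t)).2.prod (f.isLocallyConstant.isOpen_fiber _)
  · exact ⟨hpt', rfl⟩

/-- `Spec (LocallyConstant T A) ≃ₜ Spec A × T`. -/
noncomputable def homeo : PrimeSpectrum (LocallyConstant T A) ≃ₜ PrimeSpectrum A × T where
  toFun q := (PrimeSpectrum.comap (algebraMap A (LocallyConstant T A)) q, toT q)
  invFun x := pt x.1 x.2
  left_inv q := (isPt_toT q).eq_pt
  right_inv x := by
    ext : 1
    · exact comap_pt x.1 x.2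
    · exact toT_pt x.1 x.2
  continuous_toFun := (PrimeSpectrum.continuous_comap _).prodMk continuous_toT
  continuous_invFun := continuous_pt

lemma homeo_apply (q : PrimeSpectrum (LocallyConstant T A)) :
    homeo q = (PrimeSpectrum.comap (algebraMap A (LocallyConstant T A)) q, toT q) := rfl

lemma homeo_symm_apply (x : PrimeSpectrum A × T) :
    (homeo (A := A) (T := T)).symm x = pt x.1 x.2 := rfl

end Groth.Agent.Proet.LocConst
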