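import Groth.Agent.Proet.Pi0Ring
import Groth.Agent.Proet.LocConst
import Groth.Agent.Proet.Fac

/-!
# The ring realizing a profinite space over `π₀(Spec A)` (Stacks 097D)

For a ring `A`, a profinite space `T` and a continuous map `g : T → π₀(Spec A)` we define an
`A`-algebra `PR g`, a localization of `LocallyConstant T A` at idempotents, with
`Spec (PR g) = Spec A ×_{π₀(Spec A)} T`.
-/

set_option autoImplicit false
universe u
open Topology PrimeSpectrum

namespace Groth.Agent.Proet.ProfRing

open LocConst Pi0Ring FacM

variable {A : Type u} [CommRing A] {T : Type u}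
    [TopologicalSpace T] [CompactSpace T] [T2Space T] [TotallyDisconnectedSpace T]
    (g : C(T, ConnectedComponents (PrimeSpectrum A)))

/-- The points of `Spec (LocallyConstant T A) = Spec A × T` lying in the fibre product. -/
def locus : Set (PrimeSpectrum (LocallyConstant T A)) :=
  {q | ConnectedComponents.mk (comap (algebraMap A (LocallyConstant T A)) q) = g (toT q)}

/-- The ring realizing `g`. -/
abbrev PR : Type u := Localization (idemSub (LocallyConstant T A) (locus g))

lemma mem_locus_iff (q : PrimeSpectrum (LocallyConstant T A)) :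
    q ∈ locus g ↔ ∀ e ∈ idemSub (LocallyConstant T A) (locus g), e ∉ q.asIdeal := by
  constructor
  · intro hq e he
    exact he.2 hq
  · intro h
    by_contra hq
    have hq' : ConnectedComponents.mk (comap (algebraMap A (LocallyConstant T A)) q) ≠
      g (toT q) := hq
    obtain ⟨y, hy⟩ := ConnectedComponents.surjective_coe (g (toT q))
    rw [← hy] at hq'
    obtain ⟨U, hU, hpU, hyU⟩ := SpectralPi0.exists_isClopen_of_mk_ne hq'
    have hVc : IsClopen (g ⁻¹' (ConnectedComponents.mk '' U)) :=
      (SpectralPi0.isClopen_image_mk hU).preimage g.continuous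
    have hP : IsClopen (comap (algebraMap A (LocallyConstant T A)) ⁻¹' U) :=
      hU.preimage (PrimeSpectrum.continuous_comap _)
    have hQ : IsClopen ((toT : PrimeSpectrum (LocallyConstant T A) → T) ⁻¹'
      (g ⁻¹' (ConnectedComponents.mk '' U))) := hVc.preimage continuous_toT
    have hW := (hP.inter hQ).union (hP.compl.inter hQ.compl)
    obtain ⟨e, he, heW⟩ := PrimeSpectrum.isClopen_iff.1 hW
    have hmemU : ∀ x : PrimeSpectrum A,
        ConnectedComponents.mk x ∈ ConnectedComponents.mk '' U ↔ x ∈ U := by
      intro x
      conv_rhs => rw [← SpectralPi0.preimage_image_mk hU]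
      rfl
    have hemem : e ∈ idemSub (LocallyConstant T A) (locus g) := by
      refine ⟨he, ?_⟩
      rw [← heW]
      intro q' hq'
      have hq'' : ConnectedComponents.mk (comap (algebraMap A (LocallyConstant T A)) q') =
        g (toT q') := hq'
      by_cases hx : comap (algebraMap A (LocallyConstant T A)) q' ∈ U
      · left
        refine ⟨hx, ?_⟩
        show g (toT q') ∈ ConnectedComponents.mk '' U
        rw [← hq'', hmemU]
        exact hx
      · right
        refine ⟨hx, ?_⟩
        show g (toT q') ∉ ConnectedComponents.mk '' U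
        rw [← hq'', hmemU]
        exact hx
    have h1 : q ∈ (basicOpen e : Set (PrimeSpectrum (LocallyConstant T A))) := h e hemem
    rw [← heW] at h1
    rcases h1 with h1 | h1
    · have h2 : g (toT q) ∈ ConnectedComponents.mk '' U := h1.2
      rw [← hy, hmemU] at h2
      exact hyU h2
    · exact h1.1 hpU

/-- The map from the spectrum of `PR g` to the product. -/
noncomputable def Phi (y : PrimeSpectrum (PR g)) : PrimeSpectrum A × T :=
  (comap (algebraMap A (PR g)) y,
    toT (comap (algebraMap (LocallyConstant T A) (PR g)) y))

lemma Phi_eq : Phi g = (homeo (A := A) (T := T)) ∘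
    comap (algebraMap (LocallyConstant T A) (PR g)) := by
  ext y : 2
  · simp only [Phi, Function.comp_apply, homeo_apply]
    rw [← PrimeSpectrum.comap_comp_apply, ← IsScalarTower.algebraMap_eq]
  · rfl

lemma isEmbedding_Phi : IsEmbedding (Phi g) := by
  rw [Phi_eq]
  exact (homeo (A := A) (T := T)).isEmbedding.comp
    (PrimeSpectrum.localization_comap_isEmbedding _ (idemSub (LocallyConstant T A) (locus g)))

lemma range_comap : Set.range (comap (algebraMap (LocallyConstant T A) (PR g))) = locus g := by
  rw [PrimeSpectrum.localization_comap_range _ (idemSub (LocallyConstant T A) (locus g))]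
  ext q
  rw [mem_locus_iff]
  simp only [Set.mem_ofPred_eq, Set.disjoint_left]
  rfl

lemma range_Phi : Set.range (Phi g) =
    {p : PrimeSpectrum A × T | ConnectedComponents.mk p.1 = g p.2} := by
  rw [Phi_eq, Set.range_comp, range_comap]
  ext ⟨x, t⟩
  constructor
  · rintro ⟨q, hq, h⟩
    have hq' : ConnectedComponents.mk (comap (algebraMap A (LocallyConstant T A)) q) =
        g (toT q) := hq
    rw [homeo_apply, Prod.mk.injEq] at h
    rw [h.1, h.2] at hq'
    exact hq'
  · intro h
    refine ⟨pt x t, ?_, ?_⟩
    · show ConnectedComponents.mk (comap (algebraMap A (LocallyConstant T A)) (pt x t)) =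
        g (toT (pt x t))
      rw [comap_pt, toT_pt]
      exact h
    · rw [homeo_apply, comap_pt, toT_pt]

lemma mk_eq (y : PrimeSpectrum (PR g)) :
    ConnectedComponents.mk (Phi g y).1 = g (Phi g y).2 := by
  have : Phi g y ∈ Set.range (Phi g) := ⟨y, rfl⟩
  rw [range_Phi] at this
  exact this

lemma continuous_snd_Phi : Continuous (fun y => (Phi g y).2) :=
  continuous_snd.comp (isEmbedding_Phi g).continuous

lemma mk_eq_mk_of_snd_eq {y y' : PrimeSpectrum (PR g)} (h : (Phi g y).2 = (Phi g y').2) :
    ConnectedComponents.mk y = ConnectedComponents.mk y' := by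
  have key : IsPreconnected {z : PrimeSpectrum (PR g) | (Phi g z).2 = (Phi g y').2} := by
    rw [← (isEmbedding_Phi g).isInducing.isPreconnected_image]
    have : Phi g '' {z : PrimeSpectrum (PR g) | (Phi g z).2 = (Phi g y').2} =
        (connectedComponent (Phi g y').1) ×ˢ ({(Phi g y').2} : Set T) := by
      ext ⟨x, t⟩
      constructor
      · rintro ⟨z, hz, hzx⟩
        have hz' : (Phi g z).2 = (Phi g y').2 := hz
        have h1 := mk_eq g z
        have h2 := mk_eq g y'
        rw [hz', ← h2, hzx] at h1
        refine ⟨?_, ?_⟩
        · exact ConnectedComponents.coe_eq_coe'.1 h1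
        · rw [← hz', hzx]; rfl
      · rintro ⟨h1, h2⟩
        have h1' : ConnectedComponents.mk x = ConnectedComponents.mk (Phi g y').1 :=
          ConnectedComponents.coe_eq_coe'.2 h1
        have h2' : t = (Phi g y').2 := h2
        have : (x, t) ∈ Set.range (Phi g) := by
          rw [range_Phi]
          show ConnectedComponents.mk x = g t
          rw [h1', h2', mk_eq]
        obtain ⟨z, hz⟩ := this
        refine ⟨z, ?_, hz⟩
        show (Phi g z).2 = _
        rw [hz]; exact h2'
    rw [this]
    exact isPreconnected_connectedComponent.prod isPreconnected_singleton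
  apply ConnectedComponents.coe_eq_coe'.2
  exact key.subset_connectedComponent (show (Phi g y').2 = (Phi g y').2 from rfl) h

lemma exists_Phi_eq {x : PrimeSpectrum A} {t : T} (h : ConnectedComponents.mk x = g t) :
    ∃ y, Phi g y = (x, t) := by
  have : (x, t) ∈ Set.range (Phi g) := by rw [range_Phi]; exact h
  exact this

/-- `π₀(Spec (PR g)) ≃ₜ T`. -/
noncomputable def pi0Homeo : ConnectedComponents (PrimeSpectrum (PR g)) ≃ₜ T :=
  Continuous.homeoOfEquivCompactToT2
    (f := Equiv.ofBijective ((continuous_snd_Phi g).connectedComponentsLift) (by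
      constructor
      · intro a b hab
        obtain ⟨y, rfl⟩ := ConnectedComponents.surjective_coe a
        obtain ⟨y', rfl⟩ := ConnectedComponents.surjective_coe b
        rw [Continuous.connectedComponentsLift_apply_coe,
          Continuous.connectedComponentsLift_apply_coe] at hab
        exact mk_eq_mk_of_snd_eq g hab
      · intro t
        obtain ⟨x, hx⟩ := ConnectedComponents.surjective_coe (g t)
        obtain ⟨y, hy⟩ := exists_Phi_eq g hx
        refine ⟨ConnectedComponents.mk y, ?_⟩
        rw [Continuous.connectedComponentsLift_apply_coe, hy]))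
    (continuous_snd_Phi g).connectedComponentsLift_continuous

lemma pi0Homeo_mk (y : PrimeSpectrum (PR g)) :
    pi0Homeo g (ConnectedComponents.mk y) = (Phi g y).2 :=
  (continuous_snd_Phi g).connectedComponentsLift_apply_coe y

/-- The homeomorphism with the fibre product. -/
noncomputable def specHomeo : PrimeSpectrum (PR g) ≃ₜ
    {p : PrimeSpectrum A × T // ConnectedComponents.mk p.1 = g p.2} :=
  (isEmbedding_Phi g).toHomeomorph.trans (Homeomorph.setCongr (range_Phi g))

lemma specHomeo_coe (y : PrimeSpectrum (PR g)) : (specHomeo g y : PrimeSpectrum A × T) = Phi g y :=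
  rfl

/-- `PR g` has the factorization property with respect to local isomorphisms. -/
lemma fac_PR {A₀ : Type u} [CommRing A₀] [Algebra A₀ A] (h : Fac A₀ (LocIso A₀) A) :
    Fac A₀ (LocIso A₀) (PR g) :=
  Fac.localization locIso_away
    (Fac.locallyConstant locIso_pi h) (idemSub (LocallyConstant T A) (locus g)) (PR g)

lemma fac_PR_self : Fac A (LocIso A) (PR g) := fac_PR g (Fac.of_self locIso_self)

/-- Surjectivity on spectra if `g` is surjective. -/
lemma comap_surjective (hg : Function.Surjective g) :
    Function.Surjective (comap (algebraMap A (PR g))) := by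
  intro x
  obtain ⟨t, ht⟩ := hg (ConnectedComponents.mk x)
  obtain ⟨y, hy⟩ := exists_Phi_eq g ht.symm
  exact ⟨y, congrArg Prod.fst hy⟩

end Groth.Agent.Proet.ProfRing
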