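import Groth.Agent.Proet.WRetract
import Groth.Agent.Proet.IndEtale
import Groth.Agent.S0427
import Groth.Agent.S0675
import Groth.Agent.S0678
import Groth.Agent.S0736

/-!
# Characterization of w-contractible rings (Stacks 0982)
-/

set_option autoImplicit false
universe u

namespace Groth.Agent.Proet.WContr

/-- Local rings of a weakly etale algebra at primes over a strictly henselian point. -/
theorem bijective_localRingHom_of_strictlyHenselian (A B : Type u) [CommRing A] [CommRing B]
    [Algebra A B] [Algebra.WeaklyEtale A B] (m : Ideal A) [m.IsPrime] (n : Ideal B) [n.IsPrime]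
    (hm : m = n.comap (algebraMap A B))
    (h : EtCoh.IsStrictlyHenselianLocalRing (Localization.AtPrime m)) :
    Function.Bijective (Localization.localRingHom m n (algebraMap A B) hm) := by
  obtain ⟨h1, h2⟩ := h
  have : n.LiesOver m := ⟨hm⟩
  let := Localization.AtPrime.algebraOfLiesOver m n
  have : Algebra.WeaklyEtale A (Localization.AtPrime m) :=
    WEtale2.weaklyEtale_of_isLocalization (Localization.AtPrime m) m.primeCompl
  have : Algebra.WeaklyEtale B (Localization.AtPrime n) :=
    WEtale2.weaklyEtale_of_isLocalization (Localization.AtPrime n) n.primeCompl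
  have : Algebra.WeaklyEtale A (Localization.AtPrime n) := .trans A B _
  have : Algebra.WeaklyEtale (Localization.AtPrime m) (Localization.AtPrime n) :=
    WEtale2.weaklyEtale_of_weaklyEtale_comp A _ _
  have : IsLocalHom (algebraMap (Localization.AtPrime m) (Localization.AtPrime n)) :=
    Localization.isLocalHom_localRingHom _ _ _ _
  exact Groth.Agent.S0427.result (A := Localization.AtPrime m) (B := Localization.AtPrime n)

/-- 0982 (3) ⟹ (1). -/
theorem isWContractible_of_wLocal (A : Type u) [CommRing A]
    (h1 : ProEtW.IsWLocal (PrimeSpectrum A))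
    (h2 : ExtremallyDisconnected (ConnectedComponents (PrimeSpectrum A)))
    (h3 : ∀ (m : Ideal A) [m.IsMaximal], EtCoh.IsStrictlyHenselianLocalRing (Localization.AtPrime m)) :
    EtPBC.IsWContractible A := by
  intro B _ _ hff hwe
  refine WRetract.exists_retraction PrimeSpectrum.comap_surjective_of_faithfullyFlat h1 h2
    (LocalRings.algebraicResidueExtensions_of_weaklyEtale A B) ?_
  intro n hn
  exact bijective_localRingHom_of_strictlyHenselian A B _ n.asIdeal rfl (h3 _)

theorem hasIndEtaleRetractions_of_isWContractible (A : Type u) [CommRing A]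
    (h : EtPBC.IsWContractible A) : ProEtW.HasIndEtaleRetractions A := by
  intro B _ _ hff hie
  exact h B hff (Groth.Agent.S0736.result A B hie)

/-- 0982 (2) ⟹ (3). -/
theorem wLocal_of_hasIndEtaleRetractions (A : Type u) [CommRing A]
    (h : ProEtW.HasIndEtaleRetractions A) :
    (ProEtW.IsWLocal (PrimeSpectrum A) ∧
        ExtremallyDisconnected (ConnectedComponents (PrimeSpectrum A)) ∧
        ∀ (m : Ideal A) [m.IsMaximal],
          EtCoh.IsStrictlyHenselianLocalRing (Localization.AtPrime m)) := by
  have h1 : ProEtW.HasIndZariskiRetractions A := fun B _ _ hff hiz =>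
    h B hff (EtpbcB.IdLoc.isIndEtale_of_isIndZariski A B hiz)
  have h2 : ProEtW.HasEtaleRetractions A := fun B _ _ hff het =>
    h B hff (IndEtale.isIndEtale_of_etale A B)
  obtain ⟨h3, h4⟩ := (Groth.Agent.S0678.result A).1 h1
  exact ⟨h3, h4, fun m _ => Groth.Agent.S0675.result A h2 m⟩

end Groth.Agent.Proet.WContr
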