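import Groth.Agent.S0755
import Groth.Agent.S0778
import Groth.Agent.S0707
import Groth.Agent.S0706
import Groth.Agent.Proet.IndZariski
import Groth.Agent.Proet.WCExist

/-!
# Quotients of w-contractible rings by ideals in the radical, and by finitely generated ideals
up to radical
-/

set_option autoImplicit false
universe u

namespace Groth.Agent.Proet.WCQuot

open Groth.Agent.Proet

/-- Quotients of w-contractible rings by ideals contained in the Jacobson radical are
w-contractible. -/
theorem isWContractible_quotient (B : Type u) [CommRing B] (J : Ideal B)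
    (hJ : ∀ m : Ideal B, m.IsMaximal → J ≤ m) (h : EtPBC.IsWContractible B) :
    EtPBC.IsWContractible (B ⧸ J) := by
  rw [Groth.Agent.S0778.result] at h ⊢
  intro Cb _ _ hff hind
  obtain ⟨C, _, _, hC, ⟨e⟩⟩ := Groth.Agent.S0755.result B J Cb hind
  have hflat : Module.Flat B C := IndZariski.flat_of_isIndEtale B C hC
  let q : C →+* Cb := (e : _ →+* Cb).comp (Ideal.Quotient.mk (J.map (algebraMap B C)))
  have hq : q.comp (algebraMap B C) = (algebraMap (B ⧸ J) Cb).comp (Ideal.Quotient.mk J) := by
    ext b
    exact e.commutes (Ideal.Quotient.mk J b)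
  have hffC : Module.FaithfullyFlat B C := by
    refine ⟨fun {m} hm htop => ?_⟩
    have h1 : (m.map (algebraMap B C)) = ⊤ := by
      rw [Ideal.smul_top_eq_map] at htop
      rw [Ideal.eq_top_iff_one]
      have : (1 : C) ∈ (⊤ : Submodule B C) := trivial
      rw [← htop] at this
      exact this
    have h2 : ((m.map (Ideal.Quotient.mk J)).map (algebraMap (B ⧸ J) Cb)) = ⊤ := by
      rw [Ideal.map_map, ← hq, ← Ideal.map_map, h1, Ideal.map_top]
    have h3 : m.map (Ideal.Quotient.mk J) = ⊤ := by
      rw [← Ideal.comap_map_eq_self_of_faithfullyFlat (B := Cb) (m.map (Ideal.Quotient.mk J)), h2,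
        Ideal.comap_top]
    have h4 : m = ⊤ := by
      have h5 := Ideal.comap_map_of_surjective (Ideal.Quotient.mk J) Ideal.Quotient.mk_surjective m
      rw [h3, Ideal.comap_top, ← RingHom.ker_eq_comap_bot, Ideal.mk_ker,
        sup_eq_left.2 (hJ m hm)] at h5
      exact h5.symm
    exact hm.ne_top h4
  obtain ⟨r⟩ := h C hffC hC
  -- the induced retraction
  let r0 : (C ⧸ J.map (algebraMap B C)) →+* (B ⧸ J) :=
    Ideal.Quotient.lift _ ((Ideal.Quotient.mk J).comp (r : C →+* B)) (by
      intro c hc
      have : J.map (algebraMap B C) ≤ RingHom.ker ((Ideal.Quotient.mk J).comp (r : C →+* B)) := by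
        rw [Ideal.map_le_iff_le_comap]
        intro b hb
        change Ideal.Quotient.mk J (r (algebraMap B C b)) = 0
        rw [r.commutes]
        exact Ideal.Quotient.eq_zero_iff_mem.2 hb
      exact this hc)
  refine ⟨{ r0.comp (e.symm : Cb →+* _) with commutes' := ?_ }⟩
  intro b
  obtain ⟨b, rfl⟩ := Ideal.Quotient.mk_surjective b
  change r0 (e.symm (algebraMap (B ⧸ J) Cb (Ideal.Quotient.mk J b))) = Ideal.Quotient.mk J b
  rw [e.symm.commutes]
  change Ideal.Quotient.mk J (r (algebraMap B C b)) = _
  rw [r.commutes]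
  rfl

/-- If `R → Q` is surjective with `R` w-contractible, and the image of `Spec Q` is cut out by
finitely many elements, then `Q` is w-contractible. -/
theorem isWContractible_of_surjective (R Q : Type u) [CommRing R] [CommRing Q] (f : R →+* Q)
    (hf : Function.Surjective f) (E : Finset R)
    (hE : PrimeSpectrum.zeroLocus (E : Set R) = PrimeSpectrum.zeroLocus (RingHom.ker f : Set R))
    (h : EtPBC.IsWContractible R) : EtPBC.IsWContractible Q := by
  let I : Ideal R := RingHom.ker f
  obtain ⟨S, hS⟩ := Groth.Agent.S0706.result R 1 I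
  let B := Localization S
  have hS' : Set.range (PrimeSpectrum.comap (algebraMap R B)) =
      {x | ∃ z : PrimeSpectrum R, z ∈ PrimeSpectrum.zeroLocus (R := R) E ∧ x ⤳ z} := by
    rw [hS, hE]
    ext x
    simp [I]
  have hB : EtPBC.IsWContractible B := Groth.Agent.S0707.result R B S E hS' h
  have hu : ∀ s : S, IsUnit (f s) := by
    intro s
    by_contra hs
    obtain ⟨m, hm, hsm⟩ := exists_max_ideal_of_mem_nonunits hs
    have h1 : PrimeSpectrum.comap f ⟨m, hm.isPrime⟩ ∈
        PrimeSpectrum.zeroLocus (R := R) (E : Set R) := by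
      rw [hE, PrimeSpectrum.mem_zeroLocus]
      intro x hx
      change f x ∈ m
      rw [(hx : f x = 0)]
      exact zero_mem _
    have h2 : PrimeSpectrum.comap f ⟨m, hm.isPrime⟩ ∈
        Set.range (PrimeSpectrum.comap (algebraMap R B)) := by
      rw [hS']
      exact ⟨_, h1, specializes_rfl⟩
    obtain ⟨n, hn⟩ := h2
    have h3 : algebraMap R B s ∈ n.asIdeal := by
      have : (s : R) ∈ (PrimeSpectrum.comap f ⟨m, hm.isPrime⟩).asIdeal := hsm
      rw [← hn] at this
      exact this
    exact n.isPrime.ne_top (Ideal.eq_top_of_isUnit_mem _ h3 (IsLocalization.map_units B s))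
  let ψ : B →+* Q := IsLocalization.lift (M := S) hu
  have hψ : ψ.comp (algebraMap R B) = f := IsLocalization.lift_comp hu
  have hψs : Function.Surjective ψ := by
    intro x
    obtain ⟨y, rfl⟩ := hf x
    exact ⟨algebraMap R B y, RingHom.congr_fun hψ y⟩
  have hJ : ∀ m : Ideal B, m.IsMaximal → RingHom.ker ψ ≤ m := by
    intro m hm
    let M : PrimeSpectrum B := ⟨m, hm.isPrime⟩
    have h1 : PrimeSpectrum.comap (algebraMap R B) M ∈
        Set.range (PrimeSpectrum.comap (algebraMap R B)) := ⟨M, rfl⟩
    rw [hS'] at h1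
    obtain ⟨z, hz, hMz⟩ := h1
    have h2 : z ∈ Set.range (PrimeSpectrum.comap (algebraMap R B)) := by
      rw [hS']
      exact ⟨z, hz, specializes_rfl⟩
    obtain ⟨N, rfl⟩ := h2
    have h3 : M ≤ N := by
      rw [← PrimeSpectrum.le_iff_specializes] at hMz
      intro x hx
      obtain ⟨r, s, rfl⟩ := IsLocalization.exists_mk'_eq S x
      rw [IsLocalization.mk'_mem_iff] at hx ⊢
      exact hMz hx
    have h4 : M = N := PrimeSpectrum.ext (hm.eq_of_le N.isPrime.ne_top h3)
    rw [hE, ← h4, PrimeSpectrum.mem_zeroLocus] at hz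
    intro x hx
    obtain ⟨r, s, rfl⟩ := IsLocalization.exists_mk'_eq S x
    rw [IsLocalization.mk'_mem_iff]
    apply hz
    change f r = 0
    rw [RingHom.mem_ker, IsLocalization.lift_mk'_spec, mul_zero] at hx
    exact hx
  have h5 := isWContractible_quotient B (RingHom.ker ψ) hJ hB
  exact WCExist.isWContractible_of_ringEquiv (RingHom.quotientKerEquivOfSurjective hψs) h5

end Groth.Agent.Proet.WCQuot
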