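import Groth.Agent.Proet.ClosedImm
import Groth.Agent.Proet.WCQuot
import Groth.Agent.Proet.WCExist

/-!
# Closed immersions and the small pro-etale site: existence of good objects
-/

set_option autoImplicit false
universe u

open CategoryTheory CategoryTheory.Limits AlgebraicGeometry Opposite

namespace Groth.Agent.Proet.ClosedImm

variable {Z X : Scheme.{u}} {i : Z ⟶ X}

set_option backward.isDefEq.respectTransparency.types false in
/-- The base change of a good object is weakly contractible. -/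
theorem isWC_bcP [IsClosedImmersion i] {V : X.ProEt} (hV : goodP i V) :
    ProEtS.IsWC ((ProEtS.bcP i).obj V) := by
  obtain ⟨haff, hwc, hloc⟩ := hV
  have hci : IsClosedImmersion (jV i V) := (inferInstance : IsClosedImmersion (pullback.fst V.hom i))
  obtain ⟨haffW, hsurj⟩ := IsClosedImmersion.isAffine_surjective_of_isAffine (jV i V)
  have hker := WCScheme.ker_appTop_le_jacobson (jV i V) hloc.exists_jV
  have haff' : IsAffine ((ProEtS.bcP i).obj V).left := haffW
  rw [← WC.isWContractible_iff_isWC]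
  have h1 := WCQuot.isWContractible_quotient _ (RingHom.ker (jV i V).appTop.hom) (by
    intro m hm
    refine hker.trans ?_
    rw [Ring.jacobson_eq_sInf_isMaximal]
    exact sInf_le hm) hwc
  exact WCExist.isWContractible_of_ringEquiv (RingHom.quotientKerEquivOfSurjective hsurj) h1

/-- The morphism `Spec E ⟶ X` for an algebra over the global sections. -/
noncomputable def specHom (X : Scheme.{u}) [IsAffine X] (E : Type u) [CommRing E]
    [Algebra Γ(X, ⊤) E] : Spec (CommRingCat.of E) ⟶ X :=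
  Spec.map (CommRingCat.ofHom (algebraMap Γ(X, ⊤) E)) ≫ X.isoSpec.inv

set_option backward.isDefEq.respectTransparency.types false in
theorem appTop_specHom (X : Scheme.{u}) [IsAffine X] (E : Type u) [CommRing E]
    [Algebra Γ(X, ⊤) E] : (specHom X E).appTop =
      CommRingCat.ofHom (algebraMap Γ(X, ⊤) E) ≫ (Scheme.ΓSpecIso (CommRingCat.of E)).inv := by
  have h : X.isoSpec.inv.appTop ≫ (Scheme.ΓSpecIso Γ(X, ⊤)).hom = 𝟙 _ := by
    rw [← Scheme.toSpecΓ_appTop, ← Scheme.Hom.comp_appTop, Scheme.toSpecΓ_isoSpec_inv]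
    rfl
  have h2 : X.isoSpec.inv.appTop = (Scheme.ΓSpecIso Γ(X, ⊤)).inv := by
    rw [← cancel_mono (Scheme.ΓSpecIso Γ(X, ⊤)).hom, h, Iso.inv_hom_id]
  rw [specHom, Scheme.Hom.comp_appTop, h2, Scheme.ΓSpecIso_inv_naturality]
  rfl

set_option backward.isDefEq.respectTransparency.types false in
theorem specHom_comp {X Y : Scheme.{u}} [IsAffine X] [IsAffine Y] (f : X ⟶ Y) (E : Type u)
    [CommRing E] [Algebra Γ(X, ⊤) E] : specHom X E ≫ f =
      Spec.map (f.appTop ≫ CommRingCat.ofHom (algebraMap Γ(X, ⊤) E)) ≫ Y.isoSpec.inv := by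
  rw [specHom, Category.assoc, ← Scheme.isoSpec_inv_naturality, Spec.map_comp_assoc]

set_option backward.isDefEq.respectTransparency.types false in
/-- Factorization through a closed subscheme of an affine scheme. -/
theorem exists_factor_Spec {E D : Type u} [CommRing E] [CommRing D] (π : E →+* D)
    (hπ : Function.Surjective π) {P : Scheme.{u}} (p : P ⟶ Spec (CommRingCat.of E))
    (hp : RingHom.ker π ≤ RingHom.ker
      ((Scheme.ΓSpecIso (CommRingCat.of E)).inv ≫ p.appTop).hom) :
    ∃ h : P ⟶ Spec (CommRingCat.of D), h ≫ Spec.map (CommRingCat.ofHom π) = p := by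
  let φ : D →+* Γ(P, ⊤) := π.liftOfSurjective hπ
    ⟨((Scheme.ΓSpecIso (CommRingCat.of E)).inv ≫ p.appTop).hom, hp⟩
  have hφ : φ.comp π = ((Scheme.ΓSpecIso (CommRingCat.of E)).inv ≫ p.appTop).hom :=
    RingHom.liftOfRightInverse_comp _ _ _ _
  refine ⟨P.toSpecΓ ≫ Spec.map (CommRingCat.ofHom φ), ?_⟩
  rw [Category.assoc, ← Spec.map_comp]
  have h2 : CommRingCat.ofHom π ≫ CommRingCat.ofHom φ =
      (Scheme.ΓSpecIso (CommRingCat.of E)).inv ≫ p.appTop := by
    ext x
    exact congrArg (fun f => f x) hφ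
  rw [h2, Spec.map_comp]
  rw [← Category.assoc, ← Scheme.toSpecΓ_naturality, Category.assoc]
  rw [toSpecΓ_SpecMap_ΓSpecIso_inv, Category.comp_id]


set_option backward.isDefEq.respectTransparency.types false in
/-- The scheme theoretic form of lifting covers: let `X''` be affine and `a : X'' ⟶ X` a weakly
etale monomorphism, `Z'' = X'' ×_X Z`, and let `W` be affine and weakly etale over `Z''`. If `E` is a
w-contractible weakly etale `Γ(X'')`-algebra and `D = E ⊗ Γ(Z'')` is faithfully flat over `Γ(W)` and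
`E → D` is surjective with kernel in the Jacobson radical, then we get a good object. -/
theorem exists_goodP_of_alg [IsClosedImmersion i] {X'' Z'' W : Scheme.{u}} [IsAffine X'']
    [IsAffine Z''] [IsAffine W] (a : X'' ⟶ X) [WeaklyEtale a] [Mono a] (z : Z'' ⟶ Z)
    (i'' : Z'' ⟶ X'') (hpb : IsPullback i'' z a i) (w : W ⟶ Z'')
    (hw : WeaklyEtale (w ≫ z))
    (D E : Type u) [CommRing D] [CommRing E] [Algebra Γ(W, ⊤) D] [Algebra Γ(X'', ⊤) E]
    (hD : Module.FaithfullyFlat Γ(W, ⊤) D) (hE : Algebra.WeaklyEtale Γ(X'', ⊤) E)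
    (hE2 : EtPBC.IsWContractible E)
    (π : E →+* D) (hπ : Function.Surjective π)
    (hcomp : π.comp (algebraMap Γ(X'', ⊤) E) =
      ((algebraMap Γ(W, ⊤) D).comp w.appTop.hom).comp i''.appTop.hom)
    (hker : RingHom.ker π = (RingHom.ker i''.appTop.hom).map (algebraMap Γ(X'', ⊤) E))
    (hjac : RingHom.ker π ≤ Ring.jacobson E) :
    ∃ (V : X.ProEt) (g : (ProEtS.bcP i).obj V ⟶ Scheme.ProEt.mk (w ≫ z)),
      goodP i V ∧ IsAffine ((ProEtS.bcP i).obj V).left ∧ Surjective g.left := by
  have hpE : WeaklyEtale (specHom X'' E) := by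
    have h1 : WeaklyEtale (Spec.map (CommRingCat.ofHom (algebraMap Γ(X'', ⊤) E))) :=
      (WCBasic.weaklyEtale_Spec_iff _ _).2 hE
    rw [specHom]
    infer_instance
  have hpEa : WeaklyEtale (specHom X'' E ≫ a) := inferInstance
  let V : X.ProEt := Scheme.ProEt.mk (specHom X'' E ≫ a)
  have hcomm : Spec.map (CommRingCat.ofHom π) ≫ specHom X'' E = specHom W D ≫ w ≫ i'' := by
    rw [specHom_comp, specHom, ← Spec.map_comp_assoc]
    congr 2
    rw [Scheme.Hom.comp_appTop]
    ext x
    exact congrArg (fun f => f x) hcomp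
  let P := pullback (specHom X'' E ≫ a) i
  let p₁ : P ⟶ Spec (CommRingCat.of E) := pullback.fst (specHom X'' E ≫ a) i
  let p₂ : P ⟶ Z := pullback.snd (specHom X'' E ≫ a) i
  have hcond : p₁ ≫ specHom X'' E ≫ a = p₂ ≫ i := pullback.condition
  have hp₁ : IsClosedImmersion p₁ := inferInstance
  have hP : IsAffine P := isAffine_of_isAffineHom p₁
  let k : Spec (CommRingCat.of D) ⟶ P :=
    pullback.lift (Spec.map (CommRingCat.ofHom π)) (specHom W D ≫ w ≫ z) (by
      rw [← Category.assoc, hcomm]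
      simp only [Category.assoc]
      rw [hpb.w])
  have hk₁ : k ≫ p₁ = Spec.map (CommRingCat.ofHom π) := pullback.lift_fst _ _ _
  have hk₂ : k ≫ p₂ = specHom W D ≫ w ≫ z := pullback.lift_snd _ _ _
  let q : P ⟶ Z'' := hpb.lift (p₁ ≫ specHom X'' E) p₂ (by rw [Category.assoc, hcond])
  have hq : q ≫ i'' = p₁ ≫ specHom X'' E := hpb.lift_fst _ _ _
  obtain ⟨h, hh⟩ := exists_factor_Spec π hπ p₁ (by
    rw [hker, Ideal.map_le_iff_le_comap]
    intro x hx
    rw [Ideal.mem_comap, RingHom.mem_ker]
    have h1 : (q ≫ i'').appTop.hom x = (p₁ ≫ specHom X'' E).appTop.hom x := by rw [hq]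
    rw [Scheme.Hom.comp_appTop, Scheme.Hom.comp_appTop, appTop_specHom] at h1
    rw [RingHom.mem_ker] at hx
    have h2 : (i''.appTop ≫ q.appTop).hom x = 0 := by
      rw [CommRingCat.hom_comp, RingHom.comp_apply, hx, map_zero]
    rw [h2] at h1
    exact h1.symm)
  have hmono : Mono (Spec.map (CommRingCat.ofHom π)) := by
    have : IsClosedImmersion (Spec.map (CommRingCat.ofHom π)) :=
      IsClosedImmersion.spec_of_surjective _ hπ
    infer_instance
  have hkh : k ≫ h = 𝟙 _ := by
    rw [← cancel_mono (Spec.map (CommRingCat.ofHom π)), Category.assoc, hh, hk₁, Category.id_comp]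
  have hhs : Surjective h := by
    refine ⟨fun x => ⟨k x, ?_⟩⟩
    rw [← Scheme.Hom.comp_apply, hkh]
    rfl
  have hDs : Surjective (specHom W D) := by
    have : Surjective (Spec.map (CommRingCat.ofHom (algebraMap Γ(W, ⊤) D))) :=
      WCBasic.surjective_of_faithfullyFlat _ _
    rw [specHom]
    infer_instance
  have hgcond : (h ≫ specHom W D) ≫ w ≫ z = p₂ := by
    rw [← cancel_mono i]
    simp only [Category.assoc]
    rw [← hpb.w, ← reassoc_of% hcomm, ← hcond, reassoc_of% hh]
  refine ⟨V, MorphismProperty.Over.homMk (h ≫ specHom W D) hgcond, ⟨?_, ?_, ?_⟩, hP, ?_⟩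
  · exact inferInstanceAs (IsAffine (Spec (CommRingCat.of E)))
  · exact WCExist.isWContractible_of_ringEquiv
      (Scheme.ΓSpecIso (CommRingCat.of E)).symm.commRingCatIsoToRingEquiv hE2
  · intro v
    let v' : PrimeSpectrum E := v
    obtain ⟨m, hm, hvm⟩ := v'.asIdeal.exists_le_maximal v'.isPrime.ne_top
    have h1 : RingHom.ker π ≤ m := by
      refine hjac.trans ?_
      rw [Ring.jacobson_eq_sInf_isMaximal]
      exact sInf_le hm
    let m' : PrimeSpectrum E := ⟨m, hm.isPrime⟩
    have h2 : m' ∈ Set.range (PrimeSpectrum.comap π) := by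
      rw [range_comap_of_surjective _ _ hπ]
      exact h1
    obtain ⟨d, hd⟩ := h2
    refine ⟨m', ?_, ?_⟩
    · let d' : Spec (CommRingCat.of D) := d
      refine ⟨(specHom W D ≫ w ≫ z) d', ?_⟩
      have h3 : m' = Spec.map (CommRingCat.ofHom π) d' := hd.symm
      change _ = (specHom X'' E ≫ a) m'
      rw [h3, ← Scheme.Hom.comp_apply, ← Scheme.Hom.comp_apply, reassoc_of% hcomm]
      simp only [Category.assoc]
      rw [hpb.w]
    · exact (PrimeSpectrum.le_iff_specializes v' m').1 hvm
  · exact (inferInstance : Surjective (h ≫ specHom W D))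

end Groth.Agent.Proet.ClosedImm
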