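import Groth.Agent.Proet.IndEtaleLift

/-!
# Universal property of the coreflection for all ind-`P` algebras

`existsUnique_of_isInd`: if `π : C → B` has unique lifting for maps from `P`-algebras then it has unique lifting for
maps from ind-`P` algebras.
-/

set_option autoImplicit false
universe u
open TensorProduct CategoryTheory CategoryTheory.Limits

namespace Groth.Agent.Proet.CorefUniv

open Groth.Agent.Proet.FacM Groth.Agent.Proet.EtaleCoref

variable {A : Type u} [CommRing A] {P : ∀ (W : Type u) [CommRing W] [Algebra A W], Prop}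

theorem existsUnique_of_isInd {B C : Type u} [CommRing B] [Algebra A B] [CommRing C] [Algebra A C]
    (π : C →ₐ[A] B)
    (hπ : ∀ (W : Type u) [CommRing W] [Algebra A W], P W → ∀ g : W →ₐ[A] B, ∃! h : W →ₐ[A] C, π.comp h = g)
    (D : Type u) [CommRing D] [Algebra A D] (hD : IsInd P D) (g : D →ₐ[A] B) :
    ∃! h : D →ₐ[A] C, π.comp h = g := by
  obtain ⟨J, _, _, F, c, hc, hF, ⟨i⟩⟩ := hD
  let inst : ∀ j, Algebra A (F.obj j).right := fun j => (F.obj j).hom.hom.toAlgebra
  let UD : Under (CommRingCat.of A) := Under.mk (CommRingCat.ofHom (algebraMap A D))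
  -- the maps `F_j → D`
  let κ : ∀ j, (F.obj j).right →ₐ[A] D := fun j => mkAH (c.ι.app j ≫ i.hom).right.hom (by
    have := Under.w (c.ι.app j ≫ i.hom)
    exact congrArg (fun f => f.hom) this)
  choose hj hj1 hj2 using fun j => hπ (F.obj j).right (hF j) (g.comp (κ j))
  simp only at hj1 hj2
  let tr : ∀ {j k : J} (_ : j ⟶ k), (F.obj j).right →ₐ[A] (F.obj k).right := fun {j k} f =>
    mkAH (F.map f).right.hom (by
      have := Under.w (F.map f)
      exact congrArg (fun f => f.hom) this)
  have hκ : ∀ {j k : J} (f : j ⟶ k), (κ k).comp (tr f) = κ j := by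
    intro j k f
    have h : F.map f ≫ c.ι.app k ≫ i.hom = c.ι.app j ≫ i.hom := by
      rw [← Category.assoc, c.w f]
    apply AlgHom.ext
    intro x
    exact congrArg (fun f => f.right.hom x) h
  have hcompat : ∀ {j k : J} (f : j ⟶ k), (hj k).comp (tr f) = hj j := by
    intro j k f
    apply hj2
    rw [← AlgHom.comp_assoc, hj1, AlgHom.comp_assoc, hκ]
  let toU : ∀ {Z : Under (CommRingCat.of A)} {T : Type u} [CommRing T] [Algebra A T]
      (f : Z.right →+* T) (_ : f.comp Z.hom.hom = algebraMap A T),
      (Z ⟶ Under.mk (CommRingCat.ofHom (algebraMap A T))) := fun {Z T} _ _ f hf =>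
    Under.homMk (CommRingCat.ofHom f) (by
      apply CommRingCat.hom_ext
      exact hf)
  let cC : Cocone F :=
    { pt := Under.mk (CommRingCat.ofHom (algebraMap A C))
      ι :=
        { app := fun j => toU (hj j).toRingHom (hj j).comp_algebraMap
          naturality := fun j k f => by
            have := hcompat f
            apply Under.UnderMorphism.ext
            apply CommRingCat.hom_ext
            apply RingHom.ext
            intro x
            exact congrArg (fun (g : (F.obj j).right →ₐ[A] C) => g x) this } }
  let hU : UD ⟶ cC.pt := i.inv ≫ hc.desc cC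
  let h : D →ₐ[A] C := mkAH hU.right.hom (by
    have := Under.w hU
    exact congrArg (fun f => f.hom) this)
  have hhκ : ∀ j, h.comp (κ j) = hj j := by
    intro j
    have h1 : (c.ι.app j ≫ i.hom) ≫ hU = cC.ι.app j := by
      simp only [hU, Category.assoc, Iso.hom_inv_id_assoc]
      exact hc.fac cC j
    apply AlgHom.ext
    intro x
    exact congrArg (fun f => f.right.hom x) h1
  -- joint surjectivity in the form of extensionality
  have hext : ∀ (T : Type u) [CommRing T] [Algebra A T] (f f' : D →ₐ[A] T),
      (∀ j, f.comp (κ j) = f'.comp (κ j)) → f = f' := by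
    intro T _ _ f f' hff
    have h1 : i.hom ≫ (toU (Z := UD) f.toRingHom f.comp_algebraMap) =
        i.hom ≫ (toU (Z := UD) f'.toRingHom f'.comp_algebraMap) := by
      apply hc.hom_ext
      intro j
      apply Under.UnderMorphism.ext
      apply CommRingCat.hom_ext
      apply RingHom.ext
      intro x
      exact congrArg (fun (g : (F.obj j).right →ₐ[A] T) => g x) (hff j)
    have h2 := (cancel_epi i.hom).mp h1
    apply AlgHom.ext
    intro x
    exact congrArg (fun f => f.right.hom x) h2
  refine ⟨h, ?_, ?_⟩
  · apply hext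
    intro j
    change (π.comp h).comp (κ j) = _
    rw [AlgHom.comp_assoc, hhκ, hj1]
  · intro h' hh'
    apply hext
    intro j
    rw [hhκ]
    apply hj2
    rw [← AlgHom.comp_assoc, hh']

end Groth.Agent.Proet.CorefUniv
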