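import Groth.Prelude.Def_ProEtW
import Groth.Agent.Proet.WEtale2
import Mathlib.RingTheory.LocalRing.ResidueField.Instances

/-!
# Local rings of weakly etale / ind-Zariski algebras

* `bijective_localRingHom_of_le`: if `A_m → B_n` is bijective then so is `A_p → B_q` for `q ≤ n`.
* `identifiesLocalRings_of_maximal`.
* `algebraicResidueExtensions_of_weaklyEtale`.
-/

set_option autoImplicit false
universe u v w

namespace Groth.Agent.Proet.LocalRings

/-- If `A_m → B_n` is bijective and `q ≤ n` then `A_p → B_q` is bijective. -/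
theorem bijective_localRingHom_of_le {A : Type u} {B : Type v} [CommRing A] [CommRing B] (f : A →+* B)
    (p m : Ideal A) [p.IsPrime] [m.IsPrime] (q n : Ideal B) [q.IsPrime] [n.IsPrime]
    (hp : p = q.comap f) (hm : m = n.comap f) (hqn : q ≤ n)
    (h : Function.Bijective (Localization.localRingHom m n f hm)) :
    Function.Bijective (Localization.localRingHom p q f hp) := by
  have hpm : p ≤ m := by rw [hp, hm]; exact Ideal.comap_mono hqn
  -- key: every element of `B` is, up to elements outside `n`, a fraction from `A`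
  have key : ∀ t : B, ∃ c : A, ∃ u ∉ m, ∃ w ∉ n, w * (t * f u) = w * f c := by
    intro t
    obtain ⟨x, hx⟩ := h.2 (algebraMap B _ t)
    obtain ⟨c, ⟨u, hu⟩, rfl⟩ := IsLocalization.exists_mk'_eq m.primeCompl x
    rw [Localization.localRingHom_mk', IsLocalization.mk'_eq_iff_eq_mul, ← map_mul,
      IsLocalization.eq_iff_exists n.primeCompl] at hx
    obtain ⟨⟨w, hw⟩, hx⟩ := hx
    exact ⟨c, u, hu, w, hw, hx.symm⟩
  have hnu : ∀ u, u ∉ m → f u ∉ q := by
    intro u hu h'
    apply hu
    rw [hm]
    exact hqn h'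
  have hnu' : ∀ u, u ∉ m → u ∉ p := fun u hu h' => hu (hpm h')
  constructor
  · rw [injective_iff_map_eq_zero]
    intro x hx
    obtain ⟨a, ⟨s, hs⟩, rfl⟩ := IsLocalization.exists_mk'_eq p.primeCompl x
    rw [Localization.localRingHom_mk', IsLocalization.mk'_eq_zero_iff] at hx
    obtain ⟨⟨t, ht⟩, hx⟩ := hx
    simp only at hx
    obtain ⟨c, u, hu, w, hw, hc⟩ := key t
    have hcp : c ∉ p := by
      intro hcp
      have : w * (t * f u) ∈ q := by
        rw [hc]
        refine q.mul_mem_left _ ?_
        rw [hp] at hcp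
        exact hcp
      rcases Ideal.IsPrime.mem_or_mem inferInstance this with h1 | h1
      · exact hw (hqn h1)
      · rcases Ideal.IsPrime.mem_or_mem inferInstance h1 with h2 | h2
        · exact ht h2
        · exact hnu u hu h2
    have h0 : w * f (c * a) = 0 := by
      rw [map_mul, ← mul_assoc, ← hc]
      calc w * (t * f u) * f a = w * f u * (t * f a) := by ring
        _ = 0 := by rw [hx, mul_zero]
    have h1 : Localization.localRingHom m n f hm (algebraMap A _ (c * a)) = 0 := by
      rw [Localization.localRingHom_to_map]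
      exact (IsLocalization.map_eq_zero_iff n.primeCompl _ _).2 ⟨⟨w, hw⟩, h0⟩
    have h2 := (injective_iff_map_eq_zero _).1 h.1 _ h1
    obtain ⟨⟨v, hv⟩, h3⟩ := (IsLocalization.map_eq_zero_iff m.primeCompl _ _).1 h2
    rw [IsLocalization.mk'_eq_zero_iff]
    refine ⟨⟨v * c, ?_⟩, ?_⟩
    · exact Ideal.IsPrime.mul_notMem inferInstance (hnu' v hv) hcp
    · simpa [mul_assoc] using h3
  · intro y
    obtain ⟨b, ⟨t, ht⟩, rfl⟩ := IsLocalization.exists_mk'_eq q.primeCompl y
    obtain ⟨c₁, u₁, hu₁, w₁, hw₁, hc₁⟩ := key b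
    obtain ⟨c₂, u₂, hu₂, w₂, hw₂, hc₂⟩ := key t
    have hc₂p : c₂ ∉ p := by
      intro hcp
      have : w₂ * (t * f u₂) ∈ q := by
        rw [hc₂]
        refine q.mul_mem_left _ ?_
        rw [hp] at hcp
        exact hcp
      rcases Ideal.IsPrime.mem_or_mem inferInstance this with h1 | h1
      · exact hw₂ (hqn h1)
      · rcases Ideal.IsPrime.mem_or_mem inferInstance h1 with h2 | h2
        · exact ht h2
        · exact hnu u₂ hu₂ h2
    refine ⟨IsLocalization.mk' _ (c₁ * u₂)
      (⟨u₁ * c₂, Ideal.IsPrime.mul_notMem inferInstance (hnu' _ hu₁) hc₂p⟩ : p.primeCompl), ?_⟩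
    rw [Localization.localRingHom_mk', IsLocalization.mk'_eq_iff_eq,
      IsLocalization.eq_iff_exists q.primeCompl]
    refine ⟨⟨w₁ * w₂, Ideal.IsPrime.mul_notMem inferInstance (fun h => hw₁ (hqn h))
      (fun h => hw₂ (hqn h))⟩, ?_⟩
    simp only [map_mul]
    calc w₁ * w₂ * (t * (f c₁ * f u₂)) = (w₁ * f c₁) * (w₂ * (t * f u₂)) := by ring
      _ = w₁ * (b * f u₁) * (w₂ * f c₂) := by rw [hc₁, hc₂]
      _ = w₁ * w₂ * (f u₁ * f c₂ * b) := by ring

/-- It suffices to check `EtPBC.IdentifiesLocalRings` at a family of primes above all primes. -/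
theorem identifiesLocalRings_of_exists_ge (A B : Type u) [CommRing A] [CommRing B] [Algebra A B]
    (h : ∀ q : PrimeSpectrum B, ∃ n : PrimeSpectrum B, q.asIdeal ≤ n.asIdeal ∧
      Function.Bijective (Localization.localRingHom (n.asIdeal.comap (algebraMap A B)) n.asIdeal
        (algebraMap A B) rfl)) :
    EtPBC.IdentifiesLocalRings A B := by
  intro q
  obtain ⟨n, hn, h⟩ := h q
  exact bijective_localRingHom_of_le (algebraMap A B) _ _ q.asIdeal n.asIdeal rfl rfl hn h

/-- Weakly etale algebras have algebraic residue field extensions. -/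
theorem algebraicResidueExtensions_of_weaklyEtale (A B : Type u) [CommRing A] [CommRing B]
    [Algebra A B] [Algebra.WeaklyEtale A B] : ProEtW.AlgebraicResidueExtensions A B := by
  intro q hq
  set p := q.comap (algebraMap A B) with hp
  have : q.LiesOver p := ⟨rfl⟩
  let := Localization.AtPrime.algebraOfLiesOver p q
  have h1 : Algebra.IsSeparable p.ResidueField q.ResidueField :=
    WEtale2.isSeparable_residueField A B p q
  have h2 : Algebra.IsAlgebraic p.ResidueField q.ResidueField := inferInstance
  let := ((algebraMap (B ⧸ q) q.ResidueField).comp (algebraMap (A ⧸ p) (B ⧸ q))).toAlgebra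
  have : IsScalarTower (A ⧸ p) (B ⧸ q) q.ResidueField := .of_algebraMap_eq' rfl
  have : IsScalarTower (A ⧸ p) p.ResidueField q.ResidueField := by
    refine .of_algebraMap_eq fun x ↦ ?_
    obtain ⟨x, rfl⟩ := Ideal.Quotient.mk_surjective x
    rw [← Ideal.Quotient.algebraMap_eq, ← IsScalarTower.algebraMap_apply A (A ⧸ p) p.ResidueField,
      ← IsScalarTower.algebraMap_apply A p.ResidueField q.ResidueField]
    exact (IsScalarTower.algebraMap_apply A B q.ResidueField x).symm
  have h3 : Algebra.IsAlgebraic (A ⧸ p) q.ResidueField := .trans _ p.ResidueField _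
  exact Algebra.IsAlgebraic.of_injective (IsScalarTower.toAlgHom (A ⧸ p) (B ⧸ q) q.ResidueField)
    (Ideal.injective_algebraMap_quotient_residueField q)

end Groth.Agent.Proet.LocalRings
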