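import Groth.Agent.Proet.Spectral
import Mathlib.Topology.Constructible
import Mathlib.Topology.Separation.Profinite

/-!
# Connected components of spectral spaces, products, fibre products along profinite spaces
-/

set_option autoImplicit false
universe u v w
open Topology TopologicalSpace Set

namespace Groth.Agent.Proet.SpectralPi0
open Groth.Agent.Proet.Spectral

section qc

variable {X : Type u} [TopologicalSpace X] [CompactSpace X] [PrespectralSpace X]
  [QuasiSeparatedSpace X]

/-- If the intersection of all clopen neighbourhoods of `x` does not meet the compact set `K` then some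
clopen neighbourhood of `x` does not meet `K`. -/
theorem exists_isClopen_disjoint {X : Type u} [TopologicalSpace X] {x : X} {K : Set X}
    (hK : IsCompact K)
    (h : (⋂ s : { s : Set X // IsClopen s ∧ x ∈ s }, s.1) ∩ K = ∅) :
    ∃ s : Set X, IsClopen s ∧ x ∈ s ∧ s ∩ K = ∅ := by
  have H1 := hK.inter_iInter_nonempty
      (fun s : { s : Set X // IsClopen s ∧ x ∈ s } => s.1) fun s => s.2.1.1
  rw [← not_disjoint_iff_nonempty_inter, imp_not_comm, not_forall] at H1
  obtain ⟨si, H2⟩ := H1 (by rw [disjoint_iff_inter_eq_empty, inter_comm]; exact h)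
  refine ⟨⋂ U ∈ si, Subtype.val U, ?_, ?_, ?_⟩
  · exact isClopen_biInter_finset fun s _ => s.2.1
  · exact mem_iInter₂.2 fun s _ => s.2.2
  · rw [inter_comm]
    rwa [← not_nonempty_iff_eq_empty]

/-- In a compact prespectral quasi-separated space the connected component of a point equals the
intersection of all its clopen neighbourhoods. -/
theorem connectedComponent_eq_iInter_isClopen (x : X) :
    connectedComponent x = ⋂ s : { s : Set X // IsClopen s ∧ x ∈ s }, s.1 := by
  apply Subset.antisymm connectedComponent_subset_iInter_isClopen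
  refine IsPreconnected.subset_connectedComponent ?_ (mem_iInter.2 fun s => s.2.2)
  have hs : @IsClosed X _ (⋂ s : { s : Set X // IsClopen s ∧ x ∈ s }, s.1) :=
    isClosed_iInter fun s => s.2.1.1
  rw [isPreconnected_iff_subset_of_fully_disjoint_closed hs]
  intro a b ha hb hab ab_disj
  set Q : Set X := ⋂ s : { s : Set X // IsClopen s ∧ x ∈ s }, s.1 with hQ
  have hxQ : x ∈ Q := mem_iInter.2 fun s => s.2.2
  obtain ⟨U, hUc, hUo, hQU, hUb⟩ := PrespectralSpace.exists_isCompact_and_isOpen_between
    (K := Q ∩ a) (U := bᶜ) (hs.inter ha).isCompact hb.isOpen_compl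
    (fun y hy hyb => Set.disjoint_left.1 ab_disj hy.2 hyb)
  obtain ⟨V, hVc, hVo, hQV, hVa⟩ := PrespectralSpace.exists_isCompact_and_isOpen_between
    (K := Q ∩ b) (U := aᶜ) (hs.inter hb).isCompact ha.isOpen_compl
    (fun y hy hya => Set.disjoint_left.1 ab_disj hya hy.2)
  obtain ⟨s, hs1, hs2, hs3⟩ := exists_isClopen_disjoint (x := x) (K := (U ∩ V) ∪ (U ∪ V)ᶜ)
    ((QuasiSeparatedSpace.inter_isCompact _ _ hUo hUc hVo hVc).union
      (hUo.union hVo).isClosed_compl.isCompact) (by
      ext y
      simp only [mem_inter_iff, mem_empty_iff_false, iff_false, not_and]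
      intro hyQ hy
      change y ∈ Q at hyQ
      rcases hy with hy | hy
      · rcases hab hyQ with h | h
        · exact hVa hy.2 h
        · exact hUb hy.1 h
      · rcases hab hyQ with h | h
        · exact hy (Or.inl (hQU ⟨hyQ, h⟩))
        · exact hy (Or.inr (hQV ⟨hyQ, h⟩)))
  have hdisj : ∀ y ∈ s, y ∈ U → y ∉ V := fun y hy hU hV => by
    have : y ∈ s ∩ ((U ∩ V) ∪ (U ∪ V)ᶜ) := ⟨hy, Or.inl ⟨hU, hV⟩⟩
    rw [hs3] at this
    exact this
  have hcov : ∀ y ∈ s, y ∈ U ∨ y ∈ V := fun y hy => by
    by_contra hcon
    have : y ∈ s ∩ ((U ∩ V) ∪ (U ∪ V)ᶜ) := ⟨hy, Or.inr hcon⟩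
    rw [hs3] at this
    exact this
  have hsU : IsClopen (s ∩ U) := by
    refine ⟨?_, hs1.isOpen.inter hUo⟩
    have : s ∩ U = s ∩ Vᶜ := by
      ext y
      constructor
      · exact fun h => ⟨h.1, hdisj y h.1 h.2⟩
      · exact fun h => ⟨h.1, (hcov y h.1).resolve_right h.2⟩
    rw [this]
    exact hs1.isClosed.inter hVo.isClosed_compl
  have hsV : IsClopen (s ∩ V) := by
    refine ⟨?_, hs1.isOpen.inter hVo⟩
    have : s ∩ V = s ∩ Uᶜ := by
      ext y
      constructor
      · exact fun h => ⟨h.1, fun hU => hdisj y h.1 hU h.2⟩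
      · exact fun h => ⟨h.1, (hcov y h.1).resolve_left h.2⟩
    rw [this]
    exact hs1.isClosed.inter hUo.isClosed_compl
  rcases hcov x hs2 with hxU | hxV
  · left
    have hQs : Q ⊆ s ∩ U :=
      iInter_subset (fun s : { s : Set X // IsClopen s ∧ x ∈ s } => s.1) ⟨s ∩ U, hsU, hs2, hxU⟩
    intro y hy
    rcases hab hy with h | h
    · exact h
    · exact absurd h (hUb (hQs hy).2)
  · right
    have hQs : Q ⊆ s ∩ V :=
      iInter_subset (fun s : { s : Set X // IsClopen s ∧ x ∈ s } => s.1) ⟨s ∩ V, hsV, hs2, hxV⟩
    intro y hy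
    rcases hab hy with h | h
    · exact absurd h (hVa (hQs hy).2)
    · exact h

omit [CompactSpace X] [PrespectralSpace X] [QuasiSeparatedSpace X] in
theorem preimage_image_mk {U : Set X} (hU : IsClopen U) :
    ConnectedComponents.mk ⁻¹' (ConnectedComponents.mk '' U) = U := by
  have := connectedComponents_preimage_image U
  exact this.trans hU.biUnion_connectedComponent_eq

omit [CompactSpace X] [PrespectralSpace X] [QuasiSeparatedSpace X] in
theorem isClopen_image_mk {U : Set X} (hU : IsClopen U) :
    IsClopen (ConnectedComponents.mk '' U : Set (ConnectedComponents X)) := by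
  rw [← ConnectedComponents.isQuotientMap_coe.isClopen_preimage]
  have := preimage_image_mk hU
  exact this.symm ▸ hU

/-- Two points in distinct components are separated by a clopen subset. -/
theorem exists_isClopen_of_mk_ne {x y : X}
    (h : ConnectedComponents.mk x ≠ ConnectedComponents.mk y) :
    ∃ U : Set X, IsClopen U ∧ x ∈ U ∧ y ∉ U := by
  by_contra! hcon
  apply h
  have : y ∈ connectedComponent x := by
    rw [connectedComponent_eq_iInter_isClopen x, mem_iInter]
    exact fun s => hcon s.1 s.2.1 s.2.2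
  exact (ConnectedComponents.coe_eq_coe.2 (connectedComponent_eq this)).symm ▸ rfl

theorem mk_eq_iff {x y : X} :
    ConnectedComponents.mk x = ConnectedComponents.mk y ↔
      ∀ U : Set X, IsClopen U → (x ∈ U ↔ y ∈ U) := by
  constructor
  · intro h U hU
    rw [← preimage_image_mk hU, Set.mem_preimage, Set.mem_preimage, h]
  · intro h
    by_contra hcon
    obtain ⟨U, hU, hx, hy⟩ := exists_isClopen_of_mk_ne hcon
    exact hy ((h U hU).1 hx)

/-- `π₀(X)` is Hausdorff. -/
theorem t2Space_connectedComponents : T2Space (ConnectedComponents X) := by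
  refine ⟨ConnectedComponents.surjective_coe.forall₂.2 fun a b ne => ?_⟩
  obtain ⟨U, hU, ha, hb⟩ := exists_isClopen_of_mk_ne ne
  refine ⟨ConnectedComponents.mk '' U, (ConnectedComponents.mk '' U)ᶜ,
    (isClopen_image_mk hU).isOpen, (isClopen_image_mk hU).compl.isOpen, ⟨a, ha, rfl⟩, ?_,
    disjoint_compl_right⟩
  intro h
  have h' : b ∈ ConnectedComponents.mk ⁻¹' (ConnectedComponents.mk '' U) := h
  rw [preimage_image_mk hU] at h'
  exact hb h'

end qc

/-- specializations stay in the same component -/
theorem mk_eq_of_specializes {X : Type u} [TopologicalSpace X] {x y : X} (h : x ⤳ y) :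
    ConnectedComponents.mk x = ConnectedComponents.mk y := by
  apply ConnectedComponents.coe_eq_coe'.2
  have : IsPreconnected (closure ({x} : Set X)) := isPreconnected_singleton.closure
  exact this.subset_connectedComponent (h.mem_closed isClosed_closure (subset_closure rfl))
    (subset_closure rfl)

section prod

variable {X : Type u} {Y : Type v} [TopologicalSpace X] [TopologicalSpace Y]

/-- a closed subspace of a spectral space is spectral. -/
theorem spectralSpace_of_isClosedEmbedding [SpectralSpace Y]
    {f : X → Y} (hf : IsClosedEmbedding f) : SpectralSpace X := by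
  have : T0Space X := hf.isEmbedding.t0Space
  have : CompactSpace X := hf.compactSpace
  have : QuasiSober X := hf.quasiSober
  have : PrespectralSpace X := .of_isClosedEmbedding _ hf
  have hb : TopologicalSpace.IsTopologicalBasis
      (Set.range fun U : {U : Set Y // IsOpen U ∧ IsCompact U} => (f ⁻¹' U.1 : Set X)) := by
    have := (PrespectralSpace.isTopologicalBasis (X := Y)).isInducing hf.isInducing
    convert this using 1
    ext s
    simp
  have : QuasiSeparatedSpace X := by
    refine QuasiSeparatedSpace.of_isTopologicalBasis hb ?_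
    intro U V
    rw [← Set.preimage_inter]
    exact hf.isCompact_preimage
      (QuasiSeparatedSpace.inter_isCompact _ _ U.2.1 U.2.2 V.2.1 V.2.2)
  exact {}

theorem spectralSpace_of_isClosed [SpectralSpace X] {s : Set X} (hs : IsClosed s) :
    SpectralSpace s :=
  spectralSpace_of_isClosedEmbedding hs.isClosedEmbedding_subtypeVal

theorem isTopologicalBasis_prod [PrespectralSpace X] [PrespectralSpace Y] :
    IsTopologicalBasis (Set.range fun U : {U : Set X // IsOpen U ∧ IsCompact U} ×
      {U : Set Y // IsOpen U ∧ IsCompact U} => U.1.1 ×ˢ U.2.1) := by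
  have := (PrespectralSpace.isTopologicalBasis (X := X)).prod
    (PrespectralSpace.isTopologicalBasis (X := Y))
  convert this using 1
  ext s
  simp only [mem_range, Prod.exists, Subtype.exists, mem_image2, mem_ofPred_eq]
  aesop

theorem prespectralSpace_prod [PrespectralSpace X] [PrespectralSpace Y] :
    PrespectralSpace (X × Y) :=
  .of_isTopologicalBasis' isTopologicalBasis_prod fun i => i.1.2.2.prod i.2.2.2

theorem quasiSeparatedSpace_prod [PrespectralSpace X] [PrespectralSpace Y]
    [QuasiSeparatedSpace X] [QuasiSeparatedSpace Y] :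
    QuasiSeparatedSpace (X × Y) := by
  refine QuasiSeparatedSpace.of_isTopologicalBasis isTopologicalBasis_prod ?_
  intro U V
  rw [Set.prod_inter_prod]
  exact (QuasiSeparatedSpace.inter_isCompact _ _ U.1.2.1 U.1.2.2 V.1.2.1 V.1.2.2).prod
    (QuasiSeparatedSpace.inter_isCompact _ _ U.2.2.1 U.2.2.2 V.2.2.1 V.2.2.2)

theorem quasiSober_prod [QuasiSober X] [QuasiSober Y] : QuasiSober (X × Y) := by
  refine ⟨fun {S} hS hSc => ?_⟩
  have h1 : IsIrreducible (Prod.fst '' S) := hS.image _ continuous_fst.continuousOn
  have h2 : IsIrreducible (Prod.snd '' S) := hS.image _ continuous_snd.continuousOn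
  refine ⟨(h1.genericPoint, h2.genericPoint), ?_⟩
  unfold IsGenericPoint
  rw [← Set.singleton_prod_singleton, closure_prod_eq, h1.genericPoint_closure_eq,
    h2.genericPoint_closure_eq]
  apply Set.Subset.antisymm
  · rintro ⟨a, b⟩ ⟨ha, hb⟩
    rw [← hSc.closure_eq, mem_closure_iff]
    intro O hO hab
    obtain ⟨U, V, hU, hV, haU, hbV, hUV⟩ := isOpen_prod_iff.1 hO a b hab
    obtain ⟨_, hx1, ⟨x, hx, rfl⟩⟩ := mem_closure_iff.1 ha U hU haU
    obtain ⟨_, hy1, ⟨y, hy, rfl⟩⟩ := mem_closure_iff.1 hb V hV hbV
    obtain ⟨z, hz, hz1, hz2⟩ := hS.2 (Prod.fst ⁻¹' U) (Prod.snd ⁻¹' V)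
      (hU.preimage continuous_fst) (hV.preimage continuous_snd) ⟨x, hx, hx1⟩ ⟨y, hy, hy1⟩
    exact ⟨z, hUV ⟨hz1, hz2⟩, hz⟩
  · rintro ⟨a, b⟩ hab
    exact ⟨subset_closure ⟨_, hab, rfl⟩, subset_closure ⟨_, hab, rfl⟩⟩

/-- The product of two spectral spaces is spectral. -/
theorem spectralSpace_prod [SpectralSpace X] [SpectralSpace Y] : SpectralSpace (X × Y) := by
  have := prespectralSpace_prod (X := X) (Y := Y)
  have := quasiSeparatedSpace_prod (X := X) (Y := Y)
  have := quasiSober_prod (X := X) (Y := Y)
  exact {}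

/-- A profinite space is spectral. -/
theorem spectralSpace_of_profinite [CompactSpace X] [T2Space X] [TotallyDisconnectedSpace X] :
    SpectralSpace X := by
  have : PrespectralSpace X := by
    refine .of_isTopologicalBasis (isTopologicalBasis_isClopen (X := X)) ?_
    exact fun U hU => hU.isClosed.isCompact
  exact {}

theorem spectralSpace_congr [SpectralSpace Y] (e : X ≃ₜ Y) : SpectralSpace X :=
  spectralSpace_of_isClosedEmbedding e.isClosedEmbedding

end prod

end Groth.Agent.Proet.SpectralPi0
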