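import Groth.Prelude.Def_ProEtW
import Groth.Agent.Proet.SpectralPi0
import Mathlib.Topology.ExtremallyDisconnected

/-!
# Topology of w-local spaces

For `hX : ProEtW.IsWLocal X`:
* `t2Space_closedPoints`, `compactSpace_closedPoints`, `totallyDisconnected_closedPoints`;
* `mk_injOn`: distinct closed points lie in distinct connected components;
* `homeo hX : closedPoints X ≃ₜ ConnectedComponents X`;
* `specializes_of_mk_eq`: a point specializes to the closed point of its component;
* w-local maps and bijectivity on connected components.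
-/

set_option autoImplicit false
universe u v
open Topology TopologicalSpace Set
open Groth.Agent.Proet.Spectral Groth.Agent.Proet.SpectralPi0

namespace Groth.Agent.Proet.WLocalMap

variable {X : Type u} [TopologicalSpace X]

theorem isClosed_closedPoints (hX : ProEtW.IsWLocal X) : IsClosed (ProEtW.closedPoints X) := hX.2.1

theorem compactSpace_closedPoints (hX : ProEtW.IsWLocal X) :
    CompactSpace (ProEtW.closedPoints X) := by
  have := hX.1
  exact isCompact_iff_compactSpace.1 hX.2.1.isCompact

theorem spectralSpace_closedPoints (hX : ProEtW.IsWLocal X) :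
    SpectralSpace (ProEtW.closedPoints X) := by
  have := hX.1
  exact spectralSpace_of_isClosed hX.2.1

theorem t1Space_closedPoints (X : Type u) [TopologicalSpace X] :
    T1Space (ProEtW.closedPoints X) := by
  refine ⟨fun x => ?_⟩
  have h : IsClosed ({x.1} : Set X) := x.2
  have h2 := h.preimage (continuous_subtype_val (p := fun x => x ∈ ProEtW.closedPoints X))
  convert h2 using 1
  ext y
  simp [Subtype.ext_iff]

theorem t2Space_closedPoints (hX : ProEtW.IsWLocal X) : T2Space (ProEtW.closedPoints X) := by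
  have := spectralSpace_closedPoints hX
  have := t1Space_closedPoints X
  exact t2Space_of_t1Space

theorem totallyDisconnected_closedPoints (hX : ProEtW.IsWLocal X) :
    TotallyDisconnectedSpace (ProEtW.closedPoints X) := by
  have := spectralSpace_closedPoints hX
  have := t2Space_closedPoints hX
  infer_instance

/-- the generizations of a clopen subset of the set of closed points form a clopen subset -/
theorem isClopen_generizations (hX : ProEtW.IsWLocal X) {U : Set (ProEtW.closedPoints X)}
    (hU : IsClopen U) : IsClopen {x : X | ∃ e ∈ (Subtype.val '' U : Set X), x ⤳ e} := by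
  have := hX.1
  have key : ∀ V : Set (ProEtW.closedPoints X), IsClosed V →
      IsClosed {x : X | ∃ e ∈ (Subtype.val '' V : Set X), x ⤳ e} := by
    intro V hV
    have hVc : IsClosed (Subtype.val '' V : Set X) := hX.2.1.isClosedMap_subtype_val _ hV
    refine isClosed_of_isProCons (isProCons_generizations hVc.isCompact) ?_
    rintro x y hxy ⟨e, ⟨e', he', rfl⟩, he⟩
    obtain ⟨z, ⟨hz1, hz2⟩, -⟩ := hX.2.2 y
    have hz : z = e'.1 := (hX.2.2 x).unique ⟨hz1, hxy.trans hz2⟩ ⟨e'.2, he⟩
    exact ⟨e'.1, ⟨e', he', rfl⟩, hz ▸ hz2⟩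
  refine ⟨key U hU.1, ?_⟩
  rw [← isClosed_compl_iff]
  convert key Uᶜ hU.compl.1 using 1
  ext x
  simp only [mem_compl_iff, mem_ofPred_eq, not_exists, not_and]
  constructor
  · intro h
    obtain ⟨z, ⟨hz1, hz2⟩, -⟩ := hX.2.2 x
    refine ⟨z, ⟨⟨z, hz1⟩, ?_, rfl⟩, hz2⟩
    intro hz
    exact h z ⟨⟨z, hz1⟩, hz, rfl⟩ hz2
  · rintro ⟨e, ⟨e', he', rfl⟩, he⟩ f ⟨f', hf', rfl⟩ hf
    have : f' = e' := Subtype.ext ((hX.2.2 x).unique ⟨f'.2, hf⟩ ⟨e'.2, he⟩)
    exact he' (this ▸ hf')

theorem mk_closedPoint_injective (hX : ProEtW.IsWLocal X) :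
    Function.Injective (fun c : ProEtW.closedPoints X => ConnectedComponents.mk c.1) := by
  intro c c' h
  by_contra hne
  have := compactSpace_closedPoints hX
  have := t2Space_closedPoints hX
  have := totallyDisconnected_closedPoints hX
  obtain ⟨U, hU, hc, hc'⟩ := exists_isClopen_of_totally_separated hne
  have h1 := isClopen_generizations hX hU
  have h2 := (SpectralPi0.mk_eq_of_specializes (specializes_refl c.1))
  have hcU : c.1 ∈ {x : X | ∃ e ∈ (Subtype.val '' U : Set X), x ⤳ e} :=
    ⟨c.1, ⟨c, hc, rfl⟩, specializes_rfl⟩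
  have hcU' : c'.1 ∉ {x : X | ∃ e ∈ (Subtype.val '' U : Set X), x ⤳ e} := by
    rintro ⟨e, ⟨e', he', rfl⟩, he⟩
    have : e' = c' := Subtype.ext ((hX.2.2 c'.1).unique ⟨e'.2, he⟩ ⟨c'.2, specializes_rfl⟩)
    exact hc' (this ▸ he')
  have h3 : c'.1 ∈ connectedComponent c.1 := (ConnectedComponents.coe_eq_coe.1 h.symm) ▸
    mem_connectedComponent
  exact hcU' (h1.connectedComponent_subset hcU h3)

theorem mk_closedPoint_surjective (hX : ProEtW.IsWLocal X) :
    Function.Surjective (fun c : ProEtW.closedPoints X => ConnectedComponents.mk c.1) := by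
  intro y
  obtain ⟨x, rfl⟩ := ConnectedComponents.surjective_coe y
  obtain ⟨z, ⟨hz1, hz2⟩, -⟩ := hX.2.2 x
  exact ⟨⟨z, hz1⟩, (mk_eq_of_specializes hz2).symm⟩

theorem mk_closedPoint_bijective (hX : ProEtW.IsWLocal X) :
    Function.Bijective (fun c : ProEtW.closedPoints X => ConnectedComponents.mk c.1) :=
  ⟨mk_closedPoint_injective hX, mk_closedPoint_surjective hX⟩

/-- For a w-local space, the closed points are homeomorphic to the connected components. -/
noncomputable def homeo (hX : ProEtW.IsWLocal X) :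
    ProEtW.closedPoints X ≃ₜ ConnectedComponents X :=
  haveI := hX.1
  haveI := compactSpace_closedPoints hX
  haveI : T2Space (ConnectedComponents X) := t2Space_connectedComponents
  Continuous.homeoOfEquivCompactToT2 (f := Equiv.ofBijective _ (mk_closedPoint_bijective hX))
    (ConnectedComponents.continuous_coe.comp continuous_subtype_val)

@[simp]
theorem homeo_apply (hX : ProEtW.IsWLocal X) (c : ProEtW.closedPoints X) :
    homeo hX c = ConnectedComponents.mk c.1 := rfl

/-- Two points in the same component of a w-local space have the same closed specialization. -/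
theorem specializes_of_mk_eq (hX : ProEtW.IsWLocal X) {x c : X} (hc : IsClosed ({c} : Set X))
    (h : ConnectedComponents.mk x = ConnectedComponents.mk c) : x ⤳ c := by
  obtain ⟨z, ⟨hz1, hz2⟩, -⟩ := hX.2.2 x
  have h1 : ConnectedComponents.mk z = ConnectedComponents.mk c :=
    (mk_eq_of_specializes hz2).symm.trans h
  have h2 : (⟨z, hz1⟩ : ProEtW.closedPoints X) = ⟨c, hc⟩ := mk_closedPoint_injective hX h1
  have h3 : z = c := congrArg Subtype.val h2
  exact h3 ▸ hz2

theorem mk_eq_iff_of_isClosed (hX : ProEtW.IsWLocal X) {c d : X} (hc : IsClosed ({c} : Set X))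
    (hd : IsClosed ({d} : Set X)) :
    ConnectedComponents.mk c = ConnectedComponents.mk d ↔ c = d :=
  ⟨fun h => congrArg Subtype.val (@mk_closedPoint_injective X _ hX ⟨c, hc⟩ ⟨d, hd⟩ h),
    fun h => by rw [h]⟩

variable {Y : Type u} [TopologicalSpace Y]

/-- For a w-local map `f : X → Y` between w-local spaces, bijectivity on closed points implies
bijectivity on connected components. -/
theorem bijective_connectedComponentsMap (hX : ProEtW.IsWLocal X) (hY : ProEtW.IsWLocal Y)
    {f : X → Y} (hf : Continuous f) (hfc : ∀ x : X, IsClosed ({x} : Set X) → IsClosed ({f x} : Set Y))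
    (hb : Set.BijOn f (ProEtW.closedPoints X) (ProEtW.closedPoints Y)) :
    Function.Bijective hf.connectedComponentsMap := by
  constructor
  · intro a b hab
    obtain ⟨⟨x, hx⟩, rfl⟩ := mk_closedPoint_surjective hX a
    obtain ⟨⟨y, hy⟩, rfl⟩ := mk_closedPoint_surjective hX b
    have h1 : ConnectedComponents.mk (f x) = ConnectedComponents.mk (f y) := hab
    rw [mk_eq_iff_of_isClosed hY (hfc x hx) (hfc y hy)] at h1
    have := hb.injOn hx hy h1
    subst this
    rfl
  · intro b
    obtain ⟨⟨y, hy⟩, rfl⟩ := mk_closedPoint_surjective hY b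
    obtain ⟨x, hx, rfl⟩ := hb.surjOn hy
    exact ⟨ConnectedComponents.mk x, rfl⟩

/-- A w-local surjection onto a w-local space with extremally disconnected `π₀` has a section on
closed points; the image is cut out by a closed set of components. -/
theorem exists_section (hY : ProEtW.IsWLocal Y) (hX : ProEtW.IsWLocal X)
    (hED : ExtremallyDisconnected (ConnectedComponents X)) {f : Y → X} (hf : Continuous f)
    (hfc : ∀ y : Y, IsClosed ({y} : Set Y) → IsClosed ({f y} : Set X))
    (hs : Set.SurjOn f (ProEtW.closedPoints Y) (ProEtW.closedPoints X)) :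
    ∃ T : Set (ConnectedComponents Y), IsClosed T ∧
      Set.BijOn f (ProEtW.closedPoints Y ∩ ConnectedComponents.mk ⁻¹' T) (ProEtW.closedPoints X) := by
  have := hY.1
  have := hX.1
  have := compactSpace_closedPoints hX
  have := t2Space_closedPoints hX
  have := compactSpace_closedPoints hY
  have := t2Space_closedPoints hY
  have : T2Space (ConnectedComponents Y) := t2Space_connectedComponents
  have hED' : ExtremallyDisconnected (ProEtW.closedPoints X) := by
    refine ⟨fun U hU => ?_⟩
    have h1 := hED.open_closure _ ((homeo hX).isOpenMap U hU)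
    rw [← (homeo hX).image_closure] at h1
    have h2 := h1.preimage (homeo hX).continuous
    rwa [(homeo hX).injective.preimage_image] at h2
  let g : ProEtW.closedPoints Y → ProEtW.closedPoints X := fun y => ⟨f y.1, hfc y.1 y.2⟩
  have hg : Continuous g := (hf.comp continuous_subtype_val).subtype_mk _
  have hgs : Function.Surjective g := by
    rintro ⟨x, hx⟩
    obtain ⟨y, hy, rfl⟩ := hs hx
    exact ⟨⟨y, hy⟩, rfl⟩
  obtain ⟨s, hs1, hs2⟩ := CompactT2.ExtremallyDisconnected.projective
    (A := ProEtW.closedPoints X) (continuous_id) hg hgs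
  refine ⟨ConnectedComponents.mk '' (Subtype.val '' Set.range s), ?_, ?_⟩
  · exact (((isCompact_range hs1).image continuous_subtype_val).image
      ConnectedComponents.continuous_coe).isClosed
  · have hset : ProEtW.closedPoints Y ∩ ConnectedComponents.mk ⁻¹'
        (ConnectedComponents.mk '' (Subtype.val '' Set.range s)) = Subtype.val '' Set.range s := by
      ext y
      constructor
      · rintro ⟨hy, ⟨z, hz, hz'⟩⟩
        obtain ⟨w, ⟨x, rfl⟩, rfl⟩ := hz
        have := (mk_eq_iff_of_isClosed hY (s x).2 hy).1 hz'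
        exact ⟨s x, ⟨x, rfl⟩, this⟩
      · rintro ⟨w, ⟨x, rfl⟩, rfl⟩
        exact ⟨(s x).2, ⟨_, ⟨_, ⟨x, rfl⟩, rfl⟩, rfl⟩⟩
    rw [hset]
    have hfs : ∀ x, f (s x).1 = x.1 := fun x => congrArg Subtype.val (congrFun hs2 x)
    refine ⟨?_, ?_, ?_⟩
    · rintro _ ⟨_, ⟨x, rfl⟩, rfl⟩
      exact hfc _ (s x).2
    · rintro _ ⟨_, ⟨x, rfl⟩, rfl⟩ _ ⟨_, ⟨x', rfl⟩, rfl⟩ h
      rw [hfs, hfs] at h
      rw [Subtype.ext h]
    · intro x hx
      exact ⟨(s ⟨x, hx⟩).1, ⟨_, ⟨_, rfl⟩, rfl⟩, hfs _⟩

/-- transport of w-locality along a homeomorphism -/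
theorem isWLocal_of_homeo (hY : ProEtW.IsWLocal Y) (e : X ≃ₜ Y) : ProEtW.IsWLocal X := by
  have := hY.1
  have hcl : ∀ x : X, IsClosed ({x} : Set X) ↔ IsClosed ({e x} : Set Y) := by
    intro x
    rw [← e.isClosed_image, Set.image_singleton]
  refine ⟨spectralSpace_congr e, ?_, ?_⟩
  · have : {x : X | IsClosed ({x} : Set X)} = e ⁻¹' {y : Y | IsClosed ({y} : Set Y)} := by
      ext x; exact hcl x
    rw [this]
    exact hY.2.1.preimage e.continuous
  · intro x
    obtain ⟨y, ⟨hy1, hy2⟩, hy3⟩ := hY.2.2 (e x)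
    refine ⟨e.symm y, ⟨?_, ?_⟩, ?_⟩
    · rw [hcl]; simpa using hy1
    · have := hy2.map e.symm.continuous
      simpa using this
    · rintro z ⟨hz1, hz2⟩
      rw [← hy3 (e z) ⟨(hcl z).1 hz1, hz2.map e.continuous⟩]
      simp

end Groth.Agent.Proet.WLocalMap
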