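import Groth.Prelude.Def_ProEtW
import Mathlib.RingTheory.Algebraic.Integral
import Mathlib.RingTheory.TensorProduct.Basic
import Mathlib.RingTheory.Spectrum.Prime.TensorProduct
import Mathlib.RingTheory.LocalRing.ResidueField.Ideal
import Mathlib.RingTheory.Flat.FaithfullyFlat.Basic

/-!
# Algebraic residue extensions: base change; primes in tensor products
-/

set_option autoImplicit false
universe u v w

open TensorProduct Polynomial

namespace Groth.Agent.Proet.ResExt

theorem isAlgebraic_map {R S R' T : Type*} [CommRing R] [CommRing S] [CommRing R'] [CommRing T]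
    [Algebra R S] [Algebra R' T] (g : R →+* R') (hg : Function.Injective g) (i : S →+* T)
    (h : ∀ r, i (algebraMap R S r) = algebraMap R' T (g r)) {x : S} (hx : IsAlgebraic R x) :
    IsAlgebraic R' (i x) := by
  obtain ⟨p, hp, hpx⟩ := hx
  refine ⟨p.map g, (Polynomial.map_ne_zero_iff hg).2 hp, ?_⟩
  have h2 : i.comp (algebraMap R S) = (algebraMap R' T).comp g := RingHom.ext h
  rw [aeval_def, eval₂_map, ← h2, ← hom_eval₂, ← aeval_def, hpx, map_zero]

/-- Algebraic residue extensions are stable under base change. -/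
theorem algebraicResidueExtensions_baseChange (A B C : Type u) [CommRing A] [CommRing B]
    [CommRing C] [Algebra A B] [Algebra A C] (h : ProEtW.AlgebraicResidueExtensions A B) :
    letI : Algebra C (B ⊗[A] C) := Algebra.TensorProduct.rightAlgebra
    ProEtW.AlgebraicResidueExtensions C (B ⊗[A] C) := by
  let : Algebra C (B ⊗[A] C) := Algebra.TensorProduct.rightAlgebra
  intro q hq
  constructor
  intro x
  obtain ⟨y, rfl⟩ := Ideal.Quotient.mk_surjective x
  induction y with
  | zero => rw [map_zero]; exact isAlgebraic_zero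
  | add y z hy hz => rw [map_add]; exact hy.add hz
  | tmul b c =>
    have h1 : b ⊗ₜ[A] c = (b ⊗ₜ[A] (1 : C)) * ((1 : B) ⊗ₜ[A] c) := by
      rw [Algebra.TensorProduct.tmul_mul_tmul, mul_one, one_mul]
    rw [h1, map_mul]
    refine IsAlgebraic.mul ?_ ?_
    · let qB : Ideal B := q.comap (algebraMap B (B ⊗[A] C))
      have hqB : qB.IsPrime := inferInstance
      have h2 := (h qB).isAlgebraic (Ideal.Quotient.mk qB b)
      let g : (A ⧸ qB.comap (algebraMap A B)) →+* (C ⧸ q.comap (algebraMap C (B ⊗[A] C))) :=
        Ideal.quotientMap _ (algebraMap A C) (by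
          intro a ha
          simp only [qB, Ideal.mem_comap] at ha ⊢
          have e : algebraMap C (B ⊗[A] C) (algebraMap A C a) =
              algebraMap B (B ⊗[A] C) (algebraMap A B a) := by
            change (1 : B) ⊗ₜ[A] (algebraMap A C a) = (algebraMap A B a) ⊗ₜ[A] (1 : C)
            rw [Algebra.algebraMap_eq_smul_one, Algebra.algebraMap_eq_smul_one,
              TensorProduct.smul_tmul]
          rw [e]; exact ha)
      let i : (B ⧸ qB) →+* (B ⊗[A] C) ⧸ q := Ideal.quotientMap q (algebraMap B (B ⊗[A] C)) le_rfl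
      refine isAlgebraic_map g ?_ i ?_ h2
      · apply Ideal.quotientMap_injective'
        intro a ha
        simp only [qB, Ideal.mem_comap] at ha ⊢
        have e : algebraMap C (B ⊗[A] C) (algebraMap A C a) =
            algebraMap B (B ⊗[A] C) (algebraMap A B a) := by
          change (1 : B) ⊗ₜ[A] (algebraMap A C a) = (algebraMap A B a) ⊗ₜ[A] (1 : C)
          rw [Algebra.algebraMap_eq_smul_one, Algebra.algebraMap_eq_smul_one,
            TensorProduct.smul_tmul]
        rwa [e] at ha
      · intro r
        obtain ⟨r, rfl⟩ := Ideal.Quotient.mk_surjective r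
        have e : algebraMap C (B ⊗[A] C) (algebraMap A C r) =
            algebraMap B (B ⊗[A] C) (algebraMap A B r) := by
          change (1 : B) ⊗ₜ[A] (algebraMap A C r) = (algebraMap A B r) ⊗ₜ[A] (1 : C)
          rw [Algebra.algebraMap_eq_smul_one, Algebra.algebraMap_eq_smul_one,
            TensorProduct.smul_tmul]
        change Ideal.Quotient.mk q (algebraMap B (B ⊗[A] C) (algebraMap A B r)) =
          Ideal.Quotient.mk q (algebraMap C (B ⊗[A] C) (algebraMap A C r))
        rw [e]
    · exact isAlgebraic_algebraMap (R := C ⧸ q.comap (algebraMap C (B ⊗[A] C)))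
        (A := (B ⊗[A] C) ⧸ q) (Ideal.Quotient.mk _ c)

/-- A pair of primes over the same prime comes from a prime of the tensor product. -/
theorem exists_prime_tensor {R S T : Type u} [CommRing R] [CommRing S] [CommRing T] [Algebra R S]
    [Algebra R T] (q₁ : Ideal S) (q₂ : Ideal T) [q₁.IsPrime] [q₂.IsPrime]
    (h : q₁.comap (algebraMap R S) = q₂.comap (algebraMap R T)) :
    ∃ Q : Ideal (S ⊗[R] T), Q.IsPrime ∧
      Q.comap (Algebra.TensorProduct.includeLeft (R := R) (S := R) (A := S) (B := T)) = q₁ ∧
      Q.comap (Algebra.TensorProduct.includeRight (R := R) (A := S) (B := T)) = q₂ := by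
  let q : Ideal R := q₁.comap (algebraMap R S)
  have : q₁.LiesOver q := ⟨rfl⟩
  have : q₂.LiesOver q := ⟨h⟩
  let _ := Localization.AtPrime.algebraOfLiesOver q q₁
  let _ := Localization.AtPrime.algebraOfLiesOver q q₂
  let L := q₁.ResidueField ⊗[q.ResidueField] q₂.ResidueField
  have : Nontrivial L := inferInstance
  obtain ⟨m, hm⟩ := Ideal.exists_maximal L
  let i₁ : q₁.ResidueField →ₐ[R] L :=
    (Algebra.TensorProduct.includeLeft (R := q.ResidueField) (S := q.ResidueField)).restrictScalars R
  let i₂ : q₂.ResidueField →ₐ[R] L :=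
    (Algebra.TensorProduct.includeRight (R := q.ResidueField)).restrictScalars R
  let f : S ⊗[R] T →ₐ[R] L := Algebra.TensorProduct.lift
    (i₁.comp (IsScalarTower.toAlgHom R S q₁.ResidueField))
    (i₂.comp (IsScalarTower.toAlgHom R T q₂.ResidueField)) fun _ _ ↦ .all _ _
  have h1 : m.comap i₁ = ⊥ := Ideal.eq_bot_of_prime _
  have h2 : m.comap i₂ = ⊥ := Ideal.eq_bot_of_prime _
  refine ⟨m.comap f, inferInstance, ?_, ?_⟩
  · ext x
    have : f (Algebra.TensorProduct.includeLeft (R := R) (S := R) (A := S) (B := T) x) =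
        i₁ (algebraMap S q₁.ResidueField x) := by simp [f]
    rw [Ideal.mem_comap, Ideal.mem_comap, this, ← Ideal.mem_comap, h1, Ideal.mem_bot,
      Ideal.algebraMap_residueField_eq_zero]
  · ext x
    have : f (Algebra.TensorProduct.includeRight (R := R) (A := S) (B := T) x) =
        i₂ (algebraMap T q₂.ResidueField x) := by simp [f]
    rw [Ideal.mem_comap, Ideal.mem_comap, this, ← Ideal.mem_comap, h2, Ideal.mem_bot,
      Ideal.algebraMap_residueField_eq_zero]

end Groth.Agent.Proet.ResExt
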