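import Groth.Prelude.Def_EtBase
import Mathlib.RingTheory.LocalRing.ResidueField.Basic

/-!
# Strictly henselian local rings are invariant under ring isomorphisms
-/

set_option autoImplicit false
universe u

open Polynomial

namespace Groth.Agent.Proet.SHEquiv

theorem henselianLocalRing_of_ringEquiv {R S : Type*} [CommRing R] [CommRing S] (e : R ≃+* S)
    [HenselianLocalRing R] : HenselianLocalRing S := by
  have : IsLocalRing S := e.isLocalRing
  have hmem : ∀ x : S, x ∈ IsLocalRing.maximalIdeal S ↔ e.symm x ∈ IsLocalRing.maximalIdeal R := by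
    intro x
    simp only [IsLocalRing.mem_maximalIdeal, mem_nonunits_iff, MulEquiv.isUnit_map]
  have heval : ∀ (f : S[X]) (a : S), e.symm (f.eval a) = (f.map (e.symm : S →+* R)).eval (e.symm a) := by
    intro f a
    have h : (e.symm : S →+* R) (f.eval a) =
        (f.map (e.symm : S →+* R)).eval ((e.symm : S →+* R) a) := by
      rw [eval_map, Polynomial.eval₂_at_apply]
    exact h
  constructor
  intro f hf a₀ h1 h2
  obtain ⟨a, ha, ha'⟩ := HenselianLocalRing.is_henselian (f.map (e.symm : S →+* R)) (hf.map _) (e.symm a₀)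
    (by rw [← heval]; exact (hmem _).1 h1) (by
      rw [derivative_map, ← heval]
      exact h2.map e.symm)
  refine ⟨e a, ?_, ?_⟩
  · have := heval f (e a)
    rw [e.symm_apply_apply] at this
    rw [IsRoot.def] at ha ⊢
    rw [ha] at this
    simpa using this
  · rw [hmem, map_sub, e.symm_apply_apply]
    exact ha'

theorem isSepClosed_of_ringEquiv {K L : Type*} [Field K] [Field L] (e : K ≃+* L) [IsSepClosed K] :
    IsSepClosed L := by
  apply IsSepClosed.of_exists_root
  intro p _ hirr hsep
  have hsep' : (p.map (e.symm : L →+* K)).Separable := hsep.map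
  have hdeg : (p.map (e.symm : L →+* K)).degree ≠ 0 := by
    rw [degree_map]
    exact (degree_pos_of_irreducible hirr).ne'
  obtain ⟨x, hx⟩ := IsSepClosed.exists_root _ hdeg hsep'
  refine ⟨e x, ?_⟩
  have h1 : e.symm (p.eval (e x)) = 0 := by
    have h2 := hx
    rw [IsRoot, eval_map, eval₂_eq_eval_map] at h2
    have h3 : (e.symm : L →+* K) (p.eval (e x)) =
        (p.map (e.symm : L →+* K)).eval ((e.symm : L →+* K) (e x)) := by
      rw [eval_map, Polynomial.eval₂_at_apply]
    have h4 : (e.symm : L →+* K) (e x) = x := e.symm_apply_apply x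
    rw [h4, h2] at h3
    exact h3
  exact (map_eq_zero_iff _ e.symm.injective).mp h1

theorem isStrictlyHenselian_of_ringEquiv {R S : Type u} [CommRing R] [CommRing S] (e : R ≃+* S)
    (h : EtCoh.IsStrictlyHenselianLocalRing R) : EtCoh.IsStrictlyHenselianLocalRing S := by
  obtain ⟨h1, h2⟩ := h
  refine ⟨henselianLocalRing_of_ringEquiv e, ?_⟩
  have : HenselianLocalRing S := henselianLocalRing_of_ringEquiv e
  exact isSepClosed_of_ringEquiv (IsLocalRing.ResidueField.mapEquiv e)

end Groth.Agent.Proet.SHEquiv
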