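import Groth.Agent.Proet.SpectralPi0
import Mathlib.RingTheory.Spectrum.Prime.Topology
import Mathlib.RingTheory.Localization.Basic

/-!
# The localization of a ring attached to a closed subset of `π₀(Spec A)` (Stacks 097C)
-/

set_option autoImplicit false
universe u
open Topology PrimeSpectrum

namespace Groth.Agent.Proet.Pi0Ring

variable (A : Type u) [CommRing A]

/-- The idempotents of `A` which do not vanish at any point of `Y`. -/
def idemSub (Y : Set (PrimeSpectrum A)) : Submonoid A where
  carrier := {e | IsIdempotentElem e ∧ Y ⊆ (basicOpen e : Set (PrimeSpectrum A))}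
  one_mem' := ⟨IsIdempotentElem.one, by simp⟩
  mul_mem' {a b} ha hb := ⟨ha.1.mul hb.1, fun y hy => by
    have h1 := ha.2 hy
    have h2 := hb.2 hy
    rw [basicOpen_mul]
    exact ⟨h1, h2⟩⟩

variable {A}

lemma mem_idemSub {Y : Set (PrimeSpectrum A)} {e : A} :
    e ∈ idemSub A Y ↔ IsIdempotentElem e ∧ Y ⊆ (basicOpen e : Set (PrimeSpectrum A)) := Iff.rfl

/-- Localizing at a submonoid of idempotents gives a quotient. -/
lemma surjective_of_idem (S : Submonoid A) (hS : ∀ e ∈ S, IsIdempotentElem e)
    (B : Type u) [CommRing B] [Algebra A B] [IsLocalization S B] :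
    Function.Surjective (algebraMap A B) := by
  intro b
  obtain ⟨a, e, rfl⟩ := IsLocalization.exists_mk'_eq S b
  refine ⟨a, ?_⟩
  rw [IsLocalization.eq_mk'_iff_mul_eq, ← map_mul]
  have hu : IsUnit (algebraMap A B (e : A)) := IsLocalization.map_units B e
  have h1 : algebraMap A B (e : A) = 1 := by
    have h2 : algebraMap A B (e : A) * algebraMap A B (e : A) = algebraMap A B (e : A) * 1 := by
      rw [← map_mul, hS e e.2, mul_one]
    exact hu.mul_left_cancel h2
  rw [map_mul, h1, mul_one]

/-- The set cut out by the idempotents containing the preimage of a closed subset of `π₀`. -/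
lemma mem_preimage_iff (T : Set (ConnectedComponents (PrimeSpectrum A))) (hT : IsClosed T)
    (p : PrimeSpectrum A) :
    ConnectedComponents.mk p ∈ T ↔
      ∀ e ∈ idemSub A (ConnectedComponents.mk ⁻¹' T), e ∉ p.asIdeal := by
  constructor
  · intro hp e he
    exact he.2 hp
  · intro h
    by_contra hp
    have hY : IsCompact (ConnectedComponents.mk ⁻¹' T : Set (PrimeSpectrum A)) :=
      (hT.preimage ConnectedComponents.continuous_coe).isCompact
    have key : ∀ y : PrimeSpectrum A, ConnectedComponents.mk y ∈ T →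
        ∃ U : Set (PrimeSpectrum A), IsClopen U ∧ y ∈ U ∧ p ∉ U := by
      intro y hy
      apply SpectralPi0.exists_isClopen_of_mk_ne
      intro heq
      exact hp (heq ▸ hy)
    choose! U hU hyU hpU using key
    obtain ⟨s, hs⟩ := hY.elim_finite_subcover
      (fun y : {y : PrimeSpectrum A // ConnectedComponents.mk y ∈ T} => U y.1)
      (fun y => (hU y.1 y.2).isOpen) (fun y hy => Set.mem_iUnion.2 ⟨⟨y, hy⟩, hyU y hy⟩)
    have hV : IsClopen (⋃ y ∈ s, U y.1) := s.finite_toSet.isClopen_biUnion fun y _ => hU y.1 y.2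
    obtain ⟨e, he, heV⟩ := PrimeSpectrum.isClopen_iff.1 hV
    have hemem : e ∈ idemSub A (ConnectedComponents.mk ⁻¹' T) := ⟨he, by rw [← heV]; exact hs⟩
    have h1 : p ∈ (basicOpen e : Set (PrimeSpectrum A)) := h e hemem
    rw [← heV] at h1
    simp only [Set.mem_iUnion] at h1
    obtain ⟨y, -, hy⟩ := h1
    exact hpU y.1 y.2 hy

lemma range_comap (T : Set (ConnectedComponents (PrimeSpectrum A))) (hT : IsClosed T)
    (B : Type u) [CommRing B] [Algebra A B]
    [IsLocalization (idemSub A (ConnectedComponents.mk ⁻¹' T)) B] :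
    Set.range (PrimeSpectrum.comap (algebraMap A B)) = ConnectedComponents.mk ⁻¹' T := by
  rw [PrimeSpectrum.localization_comap_range B (idemSub A (ConnectedComponents.mk ⁻¹' T))]
  ext p
  rw [Set.mem_preimage, mem_preimage_iff T hT p]
  simp only [Set.mem_ofPred_eq, Set.disjoint_left]
  rfl

end Groth.Agent.Proet.Pi0Ring
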