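import Groth.Prelude.Def_ProEtW
import Groth.Agent.Proet.SpectralPi0

/-!
# Topology of w-local spaces

For a w-local space `X` (`hX : ProEtW.IsWLocal X`):
* `retr hX : X → X` sends a point to the unique closed point it specializes to; it is continuous
  (`continuous_retr`) and constant exactly on connected components (`mk_eq_mk_iff`).
* `ProEtW.closedPoints X` is profinite, `closedPointsHomeo : ProEtW.closedPoints X ≃ₜ ConnectedComponents X`.
* the component of a closed point `c` is the set of generizations of `c` (`mk_eq_iff_specializes`).
* naturality for w-local maps (`map_retr`).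
-/

set_option autoImplicit false
universe u v w
open Topology TopologicalSpace Set
open ProEtW (IsWLocal IsWLocalMap IsProfinite)

namespace Groth.Agent.Proet.WLocalTop
open Groth.Agent.Proet.Spectral Groth.Agent.Proet.SpectralPi0

variable {X : Type u} [TopologicalSpace X]

theorem spectralSpace (hX : IsWLocal X) : SpectralSpace X := hX.1

theorem isClosed_closedPoints (hX : IsWLocal X) : IsClosed (ProEtW.closedPoints X) := hX.2.1

/-- the unique closed point to which `x` specializes. -/
noncomputable def retr (hX : IsWLocal X) (x : X) : X := (hX.2.2 x).choose

variable (hX : IsWLocal X)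

theorem isClosed_retr (x : X) : IsClosed ({retr hX x} : Set X) := (hX.2.2 x).choose_spec.1.1

theorem retr_mem (x : X) : retr hX x ∈ ProEtW.closedPoints X := isClosed_retr hX x

theorem specializes_retr (x : X) : x ⤳ retr hX x := (hX.2.2 x).choose_spec.1.2

theorem retr_unique {x y : X} (hy : IsClosed ({y} : Set X)) (hxy : x ⤳ y) : retr hX x = y :=
  ((hX.2.2 x).choose_spec.2 y ⟨hy, hxy⟩).symm

theorem retr_of_isClosed {x : X} (hx : IsClosed ({x} : Set X)) : retr hX x = x :=
  retr_unique hX hx specializes_rfl

theorem retr_retr (x : X) : retr hX (retr hX x) = retr hX x :=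
  retr_of_isClosed hX (isClosed_retr hX x)

theorem retr_eq_of_specializes {x y : X} (h : x ⤳ y) : retr hX x = retr hX y :=
  retr_unique hX (isClosed_retr hX y) (h.trans (specializes_retr hX y))

theorem retr_eq_iff {x c : X} (hc : IsClosed ({c} : Set X)) : retr hX x = c ↔ x ⤳ c :=
  ⟨fun h => h ▸ specializes_retr hX x, retr_unique hX hc⟩

theorem retr_preimage (U : Set X) (hU : U ⊆ ProEtW.closedPoints X) :
    retr hX ⁻¹' U = {x | ∃ e ∈ U, x ⤳ e} := by
  ext x
  constructor
  · intro h
    exact ⟨retr hX x, h, specializes_retr hX x⟩
  · rintro ⟨e, he, hxe⟩
    have : retr hX x = e := retr_unique hX (hU he) hxe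
    change retr hX x ∈ U
    rwa [this]

/-- Preimages under the retraction of closed sets of closed points are closed. -/
theorem isClosed_retr_preimage {U : Set X} (hU : IsClosed U) (hUX : U ⊆ ProEtW.closedPoints X) :
    IsClosed (retr hX ⁻¹' U) := by
  have := spectralSpace hX
  apply isClosed_of_isProCons
  · rw [retr_preimage hX U hUX]
    exact isProCons_generizations hU.isCompact
  · intro x y hxy hx
    change retr hX y ∈ U
    rw [← retr_eq_of_specializes hX hxy]
    exact hx

omit hX in
theorem t1Space_closedPoints : T1Space (ProEtW.closedPoints X) := by
  refine ⟨fun x => ?_⟩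
  have : ({x} : Set (ProEtW.closedPoints X)) = Subtype.val ⁻¹' ({x.1} : Set X) := by
    ext y
    simp [Subtype.ext_iff]
  rw [this]
  exact (show IsClosed ({x.1} : Set X) from x.2).preimage continuous_subtype_val

include hX in
theorem spectralSpace_closedPoints : SpectralSpace (ProEtW.closedPoints X) := by
  have := spectralSpace hX
  exact spectralSpace_of_isClosed (isClosed_closedPoints hX)

include hX in
theorem t2Space_closedPoints : T2Space (ProEtW.closedPoints X) := by
  have := spectralSpace_closedPoints hX
  have : T1Space (ProEtW.closedPoints X) := t1Space_closedPoints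
  exact t2Space_of_t1Space

include hX in
theorem compactSpace_closedPoints : CompactSpace (ProEtW.closedPoints X) := by
  have := spectralSpace_closedPoints hX
  infer_instance

include hX in
theorem totallyDisconnectedSpace_closedPoints : TotallyDisconnectedSpace (ProEtW.closedPoints X) := by
  have := spectralSpace_closedPoints hX
  have := t2Space_closedPoints hX
  infer_instance

include hX in
/-- The set of closed points of a w-local space is profinite. -/
theorem isProfinite_closedPoints : IsProfinite (ProEtW.closedPoints X) :=
  ⟨compactSpace_closedPoints hX, t2Space_closedPoints hX, totallyDisconnectedSpace_closedPoints hX⟩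

/-- The retraction as a map to the subspace of closed points. -/
noncomputable def retr' (x : X) : ProEtW.closedPoints X := ⟨retr hX x, retr_mem hX x⟩

/-- The retraction onto the closed points is continuous. -/
theorem continuous_retr' : Continuous (retr' hX) := by
  rw [continuous_iff_isClosed]
  intro W hW
  have e1 : retr' hX ⁻¹' W = retr hX ⁻¹' (Subtype.val '' W) := by
    ext x
    simp only [mem_preimage, mem_image, Subtype.exists, exists_and_right, exists_eq_right]
    constructor
    · intro h
      exact ⟨retr_mem hX x, h⟩
    · rintro ⟨_, h⟩
      exact h
  rw [e1]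
  refine isClosed_retr_preimage hX
    ((isClosed_closedPoints hX).isClosedMap_subtype_val _ hW) ?_
  rintro _ ⟨c, _, rfl⟩
  exact c.2

theorem continuous_retr : Continuous (retr hX) :=
  continuous_subtype_val.comp (continuous_retr' hX)

theorem retr'_coe (c : ProEtW.closedPoints X) : retr' hX c.1 = c :=
  Subtype.ext (retr_of_isClosed hX c.2)

/-- Two points lie in the same connected component iff they specialize to the same closed point. -/
theorem mk_eq_mk_iff {x y : X} :
    ConnectedComponents.mk x = ConnectedComponents.mk y ↔ retr hX x = retr hX y := by
  constructor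
  · intro h
    have h3 := totallyDisconnectedSpace_closedPoints hX
    have hc := (continuous_retr' hX).connectedComponentsLift_continuous
    have h4 : (continuous_retr' hX).connectedComponentsLift (ConnectedComponents.mk x) =
      (continuous_retr' hX).connectedComponentsLift (ConnectedComponents.mk y) := by rw [h]
    exact congrArg Subtype.val h4
  · intro h
    rw [mk_eq_of_specializes (specializes_retr hX x), mk_eq_of_specializes (specializes_retr hX y), h]

include hX in
/-- The connected component of a closed point `c` consists of the generizations of `c`. -/
theorem mk_eq_iff_specializes {x c : X} (hc : IsClosed ({c} : Set X)) :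
    ConnectedComponents.mk x = ConnectedComponents.mk c ↔ x ⤳ c := by
  rw [mk_eq_mk_iff hX, retr_of_isClosed hX hc, retr_eq_iff hX hc]

include hX in
theorem connectedComponent_eq {c : X} (hc : IsClosed ({c} : Set X)) :
    connectedComponent c = {x | x ⤳ c} := by
  ext x
  rw [← ConnectedComponents.coe_eq_coe']
  exact mk_eq_iff_specializes hX hc

theorem mk_retr (x : X) : ConnectedComponents.mk (retr hX x) = ConnectedComponents.mk x :=
  (mk_eq_of_specializes (specializes_retr hX x)).symm

/-- The closed points of a w-local space are homeomorphic to the space of components. -/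
noncomputable def closedPointsHomeo : ProEtW.closedPoints X ≃ₜ ConnectedComponents X :=
  have h1 := compactSpace_closedPoints hX
  have h0 := spectralSpace hX
  have h2 : T2Space (ConnectedComponents X) := t2Space_connectedComponents
  Continuous.homeoOfEquivCompactToT2
    (f := Equiv.ofBijective (fun c : ProEtW.closedPoints X => ConnectedComponents.mk c.1)
      ⟨fun c d h => Subtype.ext (by
        have := (mk_eq_mk_iff hX).1 h
        rwa [retr_of_isClosed hX c.2, retr_of_isClosed hX d.2] at this),
      ConnectedComponents.surjective_coe.forall.2 fun x =>
        ⟨retr' hX x, mk_retr hX x⟩⟩)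
    (ConnectedComponents.continuous_coe.comp continuous_subtype_val)

@[simp]
theorem closedPointsHomeo_apply (c : ProEtW.closedPoints X) :
    closedPointsHomeo hX c = ConnectedComponents.mk c.1 := rfl

@[simp]
theorem closedPointsHomeo_symm_mk (x : X) :
    (closedPointsHomeo hX).symm (ConnectedComponents.mk x) = retr' hX x := by
  rw [Homeomorph.symm_apply_eq, closedPointsHomeo_apply]
  exact (mk_retr hX x).symm

include hX in
theorem bijective_mk_closedPoints :
    Function.Bijective (fun c : ProEtW.closedPoints X => ConnectedComponents.mk c.1) :=
  (closedPointsHomeo hX).bijective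

section map

variable {Y : Type u} [TopologicalSpace Y] (hY : IsWLocal Y) {f : X → Y}

/-- Naturality of the retraction for continuous maps sending closed points to closed points. -/
theorem map_retr (hf : Continuous f)
    (hf' : ∀ x : X, IsClosed ({x} : Set X) → IsClosed ({f x} : Set Y)) (x : X) :
    retr hY (f x) = f (retr hX x) :=
  retr_unique hY (hf' _ (isClosed_retr hX x)) ((specializes_retr hX x).map hf)

theorem map_retr_of_isWLocalMap (hf : IsWLocalMap f) (x : X) :
    retr hY (f x) = f (retr hX x) :=
  map_retr hX hY hf.1.continuous hf.2 x

/-- The map induced on components by a w-local map corresponds to the map on closed points. -/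
theorem connectedComponentsMap_closedPointsHomeo (hf : IsWLocalMap f) (c : ProEtW.closedPoints X) :
    hf.1.continuous.connectedComponentsMap (closedPointsHomeo hX c) =
      closedPointsHomeo hY ⟨f c.1, hf.2 c.1 c.2⟩ := rfl

include hX hY in
/-- A w-local map is bijective on components iff it is so on closed points. -/
theorem bijOn_closedPoints_iff (hf : IsWLocalMap f) :
    Function.Bijective hf.1.continuous.connectedComponentsMap ↔
      Function.Bijective (fun c : ProEtW.closedPoints X => (⟨f c.1, hf.2 c.1 c.2⟩ : ProEtW.closedPoints Y)) := by
  have h : hf.1.continuous.connectedComponentsMap ∘ (closedPointsHomeo hX) =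
      (closedPointsHomeo hY) ∘
        (fun c : ProEtW.closedPoints X => (⟨f c.1, hf.2 c.1 c.2⟩ : ProEtW.closedPoints Y)) := rfl
  rw [← Function.Bijective.of_comp_iff _ (closedPointsHomeo hX).bijective, h,
    Function.Bijective.of_comp_iff' (closedPointsHomeo hY).bijective]

end map

include hX in
/-- An open subset containing all closed points is everything. -/
theorem eq_univ_of_closedPoints_subset {U : Set X} (hU : IsOpen U) (h : ProEtW.closedPoints X ⊆ U) :
    U = univ := by
  exact eq_univ_of_forall fun x => (specializes_retr hX x).mem_open hU (h (retr_mem hX x))

end Groth.Agent.Proet.WLocalTop
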