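import Groth.Agent.Proet.ModIdeal
import Groth.Agent.Proet.FacInd
import Groth.Agent.Proet.Pi0Ring
import Groth.Agent.Proet.WLocalTop
import Groth.Agent.Proet.WLocalMap
import Groth.Agent.S0738

/-!
# w-local algebras along a profinite closed subset (Stacks 0979), from the w-localization
-/

set_option autoImplicit false
universe u v
open Groth.Agent.EtpbcB.IdLoc PrimeSpectrum Topology

namespace Groth.Agent.Proet.WLocAlong

/-- Comparable primes with the same contraction agree if local rings are identified. -/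
theorem eq_of_le_of_comap_eq {A B : Type*} [CommRing A] [CommRing B] {f : A →+* B}
    (hf : IdLoc f) {q n : Ideal B} [hq : q.IsPrime] [hn : n.IsPrime] (h : q ≤ n)
    (hc : q.comap f = n.comap f) : q = n := by
  apply le_antisymm h
  intro b hb
  obtain ⟨a, s, hs, t, ht, he⟩ := (hf.exists_of n).2 b
  have h1 : f a ∈ n := by
    have : t * f a ∈ n := by
      rw [← he]
      exact n.mul_mem_left _ (n.mul_mem_left _ hb)
    exact (hn.mem_or_mem this).resolve_left ht
  have h2 : f a ∈ q := by
    have : a ∈ n.comap f := h1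
    rw [← hc] at this
    exact this
  have h3 : t * (f s * b) ∈ q := by
    rw [he]
    exact q.mul_mem_left _ h2
  have htq : t ∉ q := fun h' => ht (h h')
  have hsq : f s ∉ q := fun h' => hs (h h')
  exact (hq.mem_or_mem ((hq.mem_or_mem h3).resolve_left htq)).resolve_left hsq

/-- Stacks 0979, deduced from a w-localization `Aw` of `A`. -/
theorem exists_along (A : Type u) [CommRing A] (I : Ideal A)
    (hI : ProEtW.IsProfinite (PrimeSpectrum.zeroLocus (R := A) I))
    (Aw : Type u) [CommRing Aw] [Algebra A Aw] (hZ : EtPBC.IsIndZariski A Aw)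
    (hw : ProEtW.IsWLocal (PrimeSpectrum Aw))
    (hbij : Set.BijOn (PrimeSpectrum.comap (algebraMap A Aw))
      (ProEtW.closedPoints (PrimeSpectrum Aw)) Set.univ) :
    ∃ (B : Type u) (_ : CommRing B) (_ : Algebra A B),
      EtPBC.IsIndZariski A B ∧ ProEtW.IsWLocal (PrimeSpectrum B) ∧
      ProEtW.closedPoints (PrimeSpectrum B) = PrimeSpectrum.zeroLocus (I.map (algebraMap A B)) ∧
      Function.Bijective (Ideal.quotientMap (I.map (algebraMap A B)) (algebraMap A B)
        Ideal.le_comap_map) := by
  have hfac : FacM.Fac A (FacM.LocIso A) Aw := (FacInd.isIndZariski_iff_fac _).1 hZ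
  have hT2 : T2Space (PrimeSpectrum.zeroLocus (R := A) I) := hI.2.1
  -- specializations inside `V(I)` are equalities
  have hspec : ∀ x y : PrimeSpectrum A, x ∈ PrimeSpectrum.zeroLocus (R := A) I →
      y ∈ PrimeSpectrum.zeroLocus (R := A) I → x ⤳ y → x = y := by
    intro x y hx hy hxy
    have : (⟨x, hx⟩ : PrimeSpectrum.zeroLocus (R := A) I) ⤳ ⟨y, hy⟩ :=
      Topology.IsInducing.subtypeVal.specializes_iff.1 hxy
    exact congrArg Subtype.val this.eq
  -- the closed set of closed points over `V(I)`
  let Z0 : Set (PrimeSpectrum Aw) := ProEtW.closedPoints (PrimeSpectrum Aw) ∩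
    PrimeSpectrum.comap (algebraMap A Aw) ⁻¹' PrimeSpectrum.zeroLocus (R := A) I
  have hZ0 : IsClosed Z0 := hw.2.1.inter
    ((PrimeSpectrum.isClosed_zeroLocus _).preimage (PrimeSpectrum.continuous_comap _))
  let T : Set (ConnectedComponents (PrimeSpectrum Aw)) := ConnectedComponents.mk '' Z0
  have hT2' : T2Space (ConnectedComponents (PrimeSpectrum Aw)) :=
    SpectralPi0.t2Space_connectedComponents
  have hT : IsClosed T := (hZ0.isCompact.image ConnectedComponents.continuous_coe).isClosed
  let S : Submonoid Aw := Pi0Ring.idemSub Aw (ConnectedComponents.mk ⁻¹' T)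
  let B : Type u := Localization S
  have hrange : Set.range (PrimeSpectrum.comap (algebraMap Aw B)) = ConnectedComponents.mk ⁻¹' T :=
    Pi0Ring.range_comap T hT B
  have hemb : IsEmbedding (PrimeSpectrum.comap (algebraMap Aw B)) :=
    PrimeSpectrum.localization_comap_isEmbedding _ S
  have hclr : IsClosed (Set.range (PrimeSpectrum.comap (algebraMap Aw B))) := by
    rw [hrange]
    exact hT.preimage ConnectedComponents.continuous_coe
  have hcemb : IsClosedEmbedding (PrimeSpectrum.comap (algebraMap Aw B)) := ⟨hemb, hclr⟩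
  have hBw : ProEtW.IsWLocal (PrimeSpectrum B) :=
    WLocalMap.isWLocal_of_homeo
      (Groth.Agent.S0738.result (PrimeSpectrum Aw) hw _ hclr) hemb.toHomeomorph
  have hZB : EtPBC.IsIndZariski A B := (FacInd.isIndZariski_iff_fac _).2
    (FacM.Fac.localization FacM.locIso_away hfac S B)
  have hid : IdLoc (algebraMap A B) :=
    (identifiesLocalRings_iff A B).1 (identifiesLocalRings_of_isIndZariski A B hZB)
  have hidw : IdLoc (algebraMap A Aw) :=
    (identifiesLocalRings_iff A Aw).1 (identifiesLocalRings_of_isIndZariski A Aw hZ)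
  have hcl : ∀ y : PrimeSpectrum B, y ∈ ProEtW.closedPoints (PrimeSpectrum B) ↔
      PrimeSpectrum.comap (algebraMap Aw B) y ∈ ProEtW.closedPoints (PrimeSpectrum Aw) := by
    intro y
    show IsClosed _ ↔ IsClosed _
    rw [hcemb.isClosed_iff_image_isClosed, Set.image_singleton]
  have hcomp : ∀ y : PrimeSpectrum B, PrimeSpectrum.comap (algebraMap A Aw)
      (PrimeSpectrum.comap (algebraMap Aw B) y) = PrimeSpectrum.comap (algebraMap A B) y := by
    intro y
    rw [← PrimeSpectrum.comap_comp_apply, ← IsScalarTower.algebraMap_eq]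
  have hmemV : ∀ y : PrimeSpectrum B,
      y ∈ PrimeSpectrum.zeroLocus (R := B) (I.map (algebraMap A B)) ↔
      PrimeSpectrum.comap (algebraMap A B) y ∈ PrimeSpectrum.zeroLocus (R := A) I := by
    intro y
    rw [PrimeSpectrum.mem_zeroLocus, PrimeSpectrum.mem_zeroLocus, SetLike.coe_subset_coe,
      SetLike.coe_subset_coe, Ideal.map_le_iff_le_comap]
    rfl
  -- the closed point of a component in `T` lies in `Z0`
  have hret : ∀ y : PrimeSpectrum B,
      WLocalTop.retr hw (PrimeSpectrum.comap (algebraMap Aw B) y) ∈ Z0 := by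
    intro y
    have h1 : PrimeSpectrum.comap (algebraMap Aw B) y ∈ ConnectedComponents.mk ⁻¹' T := by
      rw [← hrange]; exact ⟨y, rfl⟩
    obtain ⟨z, hz, hzy⟩ := h1
    rw [WLocalTop.mk_eq_mk_iff hw, WLocalTop.retr_of_isClosed hw hz.1] at hzy
    rw [← hzy]; exact hz
  have hclV : ProEtW.closedPoints (PrimeSpectrum B) =
      PrimeSpectrum.zeroLocus (I.map (algebraMap A B)) := by
    ext y
    rw [hmemV, hcl]
    constructor
    · intro hy
      have h1 := hret y
      rw [WLocalTop.retr_of_isClosed hw hy] at h1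
      rw [← hcomp]
      exact h1.2
    · intro hy
      have h1 := hret y
      have h2 := WLocalTop.specializes_retr hw (PrimeSpectrum.comap (algebraMap Aw B) y)
      have h3 := h2.map (PrimeSpectrum.continuous_comap (algebraMap A Aw))
      have h4 := hspec _ _ (by rw [hcomp]; exact hy) h1.2 h3
      have h5 : PrimeSpectrum.comap (algebraMap Aw B) y =
          WLocalTop.retr hw (PrimeSpectrum.comap (algebraMap Aw B) y) := by
        apply PrimeSpectrum.ext
        refine eq_of_le_of_comap_eq hidw ?_ (congrArg PrimeSpectrum.asIdeal h4)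
        exact (PrimeSpectrum.le_iff_specializes _ _).2 h2
      rw [h5]
      exact h1.1
  refine ⟨B, inferInstance, inferInstance, hZB, hBw, hclV, ?_⟩
  apply ModIdeal.quotientMap_bijective (algebraMap A B) I hid
  intro m hm hIm
  obtain ⟨z, hz, hzm⟩ := hbij.surjOn (Set.mem_univ (⟨m, hm.isPrime⟩ : PrimeSpectrum A))
  have hmV : (⟨m, hm.isPrime⟩ : PrimeSpectrum A) ∈ PrimeSpectrum.zeroLocus (R := A) I := hIm
  have hzZ : z ∈ Z0 := ⟨hz, by rw [Set.mem_preimage, hzm]; exact hmV⟩
  have hzr : z ∈ Set.range (PrimeSpectrum.comap (algebraMap Aw B)) := by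
    rw [hrange]; exact ⟨z, hzZ, rfl⟩
  obtain ⟨y, hy⟩ := hzr
  refine ⟨y.asIdeal, y.2, ?_, ?_⟩
  · have : PrimeSpectrum.comap (algebraMap A B) y = ⟨m, hm.isPrime⟩ := by
      rw [← hcomp, hy, hzm]
    exact congrArg PrimeSpectrum.asIdeal this
  · intro q hq hIq hqm
    have hqV : (⟨q, hq⟩ : PrimeSpectrum B) ∈
        PrimeSpectrum.zeroLocus (R := B) (I.map (algebraMap A B)) := hIq
    have hqc : (⟨q, hq⟩ : PrimeSpectrum B) ∈ ProEtW.closedPoints (PrimeSpectrum B) := by
      rw [hclV]; exact hqV
    rw [hmemV] at hqV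
    rw [hcl] at hqc
    have h1 : PrimeSpectrum.comap (algebraMap A B) ⟨q, hq⟩ = ⟨m, hm.isPrime⟩ :=
      hspec _ _ hqV hmV ((PrimeSpectrum.le_iff_specializes _ _).1 hqm)
    rw [← hcomp] at h1
    have h2 := hbij.injOn hqc hz (h1.trans hzm.symm)
    rw [← hy] at h2
    have h3 := hemb.injective h2
    exact le_of_eq (congrArg PrimeSpectrum.asIdeal h3)

end Groth.Agent.Proet.WLocAlong
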