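import Groth.Agent.Proet.WRetract
import Groth.Agent.Proet.IndEtale
import Groth.Agent.Proet.ResExt
import Groth.Agent.Proet.SHEquiv
import Groth.Agent.S0675
import Groth.Agent.S0693
import Groth.Agent.S0694
import Groth.Agent.S0736
import Groth.Agent.S0737

/-!
# The square of Stacks 097X
-/

set_option autoImplicit false
universe u

open TensorProduct

namespace Groth.Agent.Proet.WSquare

/-- the radical ideal of the closed points of a w-local spectrum -/
theorem exists_ideal_closedPoints (A : Type u) [CommRing A] (hA : ProEtW.IsWLocal (PrimeSpectrum A)) :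
    ∃ I : Ideal A, I.IsRadical ∧
      PrimeSpectrum.zeroLocus (R := A) I = ProEtW.closedPoints (PrimeSpectrum A) := by
  refine ⟨PrimeSpectrum.vanishingIdeal (ProEtW.closedPoints (PrimeSpectrum A)),
    PrimeSpectrum.isRadical_vanishingIdeal _, ?_⟩
  rw [PrimeSpectrum.zeroLocus_vanishingIdeal_eq_closure]
  exact hA.2.1.closure_eq

/-- In the situation of 097A, every prime of `B` over a closed point of `A` lifts to a closed
point of `C`. -/
theorem exists_closedPoint_lift {A B C : Type u} [CommRing A] [CommRing B] [CommRing C]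
    [Algebra A B] [Algebra B C] [Algebra A C] [IsScalarTower A B C] {I : Ideal A}
    (hI0 : PrimeSpectrum.zeroLocus (R := A) I = ProEtW.closedPoints (PrimeSpectrum A))
    (hbij : Function.Bijective (Ideal.quotientMap ((I.map (algebraMap A B)).map (algebraMap B C))
        (algebraMap B C) Ideal.le_comap_map))
    (hcl : ProEtW.closedPoints (PrimeSpectrum C) =
        PrimeSpectrum.comap (algebraMap A C) ⁻¹' ProEtW.closedPoints (PrimeSpectrum A))
    (q : PrimeSpectrum B)
    (hq : PrimeSpectrum.comap (algebraMap A B) q ∈ ProEtW.closedPoints (PrimeSpectrum A)) :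
    ∃ r : PrimeSpectrum C, r ∈ ProEtW.closedPoints (PrimeSpectrum C) ∧
      PrimeSpectrum.comap (algebraMap B C) r = q := by
  have hIq : I.map (algebraMap A B) ≤ q.asIdeal := by
    rw [Ideal.map_le_iff_le_comap, ← PrimeSpectrum.comap_asIdeal]
    rw [← hI0] at hq
    exact hq
  obtain ⟨r, hr⟩ := WRetract.exists_lift_of_bijective _ hbij q hIq
  refine ⟨r, ?_, hr⟩
  rw [hcl, Set.mem_preimage, IsScalarTower.algebraMap_eq A B C, PrimeSpectrum.comap_comp_apply, hr]
  exact hq

/-- First half of 097X. -/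
theorem exists_strictlyHenselian_wLocal (A : Type u) [CommRing A] :
    ∃ (C : Type u) (_ : CommRing C) (_ : Algebra A C),
      EtPBC.IsIndEtale A C ∧ ProEtW.IsWLocal (PrimeSpectrum C) ∧
      PrimeSpectrum.comap (algebraMap A C) '' ProEtW.closedPoints (PrimeSpectrum C) = Set.univ ∧
      ∀ (m : Ideal C) [m.IsMaximal],
        EtCoh.IsStrictlyHenselianLocalRing (Localization.AtPrime m) := by
  obtain ⟨Aw, _, _, hff, hiz, hw, hbij⟩ := Groth.Agent.S0694.result A
  obtain ⟨C', _, _, hff', hie', hret⟩ := Groth.Agent.S0693.result Aw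
  obtain ⟨I, hIr, hI0⟩ := exists_ideal_closedPoints Aw hw
  have hwe : Algebra.WeaklyEtale Aw C' := Groth.Agent.S0736.result Aw C' hie'
  obtain ⟨hc1, C, _, _, _, _, hC1, hC2, hC3, hC4, hC5⟩ := Groth.Agent.S0737.result Aw C' hw I hIr hI0
    (LocalRings.algebraicResidueExtensions_of_weaklyEtale Aw C')
  let : Algebra A C' := ((algebraMap Aw C').comp (algebraMap A Aw)).toAlgebra
  have : IsScalarTower A Aw C' := .of_algebraMap_eq' rfl
  let : Algebra A C := ((algebraMap Aw C).comp (algebraMap A Aw)).toAlgebra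
  have : IsScalarTower A Aw C := .of_algebraMap_eq' rfl
  refine ⟨C, inferInstance, inferInstance, ?_, hC3, ?_, ?_⟩
  · have h1 : EtPBC.IsIndEtale Aw C := IndEtale.isIndEtale_trans Aw C' C hie'
      (EtpbcB.IdLoc.isIndEtale_of_isIndZariski _ _ hC1)
    exact IndEtale.isIndEtale_trans A Aw C (EtpbcB.IdLoc.isIndEtale_of_isIndZariski _ _ hiz) h1
  · rw [Set.eq_univ_iff_forall]
    intro p
    obtain ⟨m, hm, rfl⟩ := hbij.surjOn (Set.mem_univ p)
    obtain ⟨q, hq⟩ := (PrimeSpectrum.comap_surjective_of_faithfullyFlat (A := Aw) (B := C')) m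
    obtain ⟨r, hr1, hr2⟩ := exists_closedPoint_lift hI0 hC2 hC5 q (hq ▸ hm)
    refine ⟨r, hr1, ?_⟩
    rw [IsScalarTower.algebraMap_eq A Aw C, PrimeSpectrum.comap_comp_apply,
      IsScalarTower.algebraMap_eq Aw C' C, PrimeSpectrum.comap_comp_apply, hr2, hq]
  · intro m hm
    let mp : PrimeSpectrum C := ⟨m, hm.isPrime⟩
    have hmc : mp ∈ ProEtW.closedPoints (PrimeSpectrum C) :=
      (PrimeSpectrum.isClosed_singleton_iff_isMaximal mp).2 hm
    have h1 : PrimeSpectrum.comap (algebraMap C' C) mp ∈ ProEtW.closedPoints (PrimeSpectrum C') := by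
      apply hc1
      rw [hC5, Set.mem_preimage, ← hI0] at hmc
      rw [PrimeSpectrum.mem_zeroLocus] at hmc ⊢
      rw [SetLike.coe_subset_coe, Ideal.map_le_iff_le_comap]
      intro x hx
      have := hmc hx
      rw [IsScalarTower.algebraMap_eq Aw C' C] at this
      exact this
    have h2 : (PrimeSpectrum.comap (algebraMap C' C) mp).asIdeal.IsMaximal :=
      (PrimeSpectrum.isClosed_singleton_iff_isMaximal _).1 h1
    have h3 := Groth.Agent.S0675.result C' hret (PrimeSpectrum.comap (algebraMap C' C) mp).asIdeal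
    have h4 := EtpbcB.IdLoc.identifiesLocalRings_of_isIndZariski _ _ hC1 mp
    exact SHEquiv.isStrictlyHenselian_of_ringEquiv (RingEquiv.ofBijective _ h4) h3

end Groth.Agent.Proet.WSquare
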