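import Groth.Agent.S0176
import Groth.Agent.S0177
import Groth.Agent.S0736
import Groth.Agent.Proet.CorefUniv
import Groth.Agent.Proet.IndEtale

/-!
# Ind-étale lifts of weakly étale covers to w-contractible rings
-/

set_option autoImplicit false
universe u
open TensorProduct

namespace Groth.Agent.Proet.LiftWC

open Groth.Agent.Proet.FacM Groth.Agent.Proet.IndEtale

/-- Uniqueness/existence package: `π : E → D` has unique lifting for étale `A`-algebras. -/
theorem ker_le_jacobson {A D E : Type u} [CommRing A] [CommRing D] [Algebra A D] [CommRing E] [Algebra A E]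
    (π : E →ₐ[A] D) (hE : EtPBC.IsIndEtale A E)
    (hπ : ∀ (W : Type u) [CommRing W] [Algebra A W], Algebra.Etale A W → ∀ g : W →ₐ[A] D,
      ∃! h : W →ₐ[A] E, π.comp h = g) : RingHom.ker π ≤ Ring.jacobson E := by
  intro x hx
  rw [← Ideal.jacobson_bot, Ideal.mem_jacobson_bot]
  intro y
  set g : E := x * y + 1 with hg
  have hx' : π x = 0 := hx
  have hπg : IsUnit (π g) := by
    rw [hg, map_add, map_mul, hx', zero_mul, zero_add, map_one]
    exact isUnit_one
  let W := Localization.Away g
  have hW : EtPBC.IsIndEtale A W := by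
    have : Algebra.Etale E W := Algebra.Etale.of_isLocalizationAway g
    exact isIndEtale_trans A E W hE (isIndEtale_of_etale E W)
  let q : W →ₐ[A] D := IsLocalization.liftAlgHom (M := Submonoid.powers g) (f := π) (by
    rintro ⟨_, n, rfl⟩
    simpa using hπg.pow n)
  obtain ⟨h, hh, -⟩ := CorefUniv.existsUnique_of_isInd (P := fun W _ _ => Algebra.Etale A W) π
    (fun W _ _ hW g => hπ W hW g) W hW q
  obtain ⟨h0, -, hu⟩ := CorefUniv.existsUnique_of_isInd (P := fun W _ _ => Algebra.Etale A W) π
    (fun W _ _ hW g => hπ W hW g) E hE π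
  have h1 : h.comp (IsScalarTower.toAlgHom A E W) = AlgHom.id A E := by
    rw [hu (h.comp (IsScalarTower.toAlgHom A E W)), hu (AlgHom.id A E)]
    · exact AlgHom.comp_id π
    · change π.comp (h.comp (IsScalarTower.toAlgHom A E W)) = π
      rw [← AlgHom.comp_assoc]
      have : π.comp h = q := hh
      rw [this]
      ext e
      change q (algebraMap E W e) = π e
      exact IsLocalization.lift_eq _ e
  have h2 : IsUnit (algebraMap E W g) := IsLocalization.Away.algebraMap_isUnit g
  have h3 : h (algebraMap E W g) = g := DFunLike.congr_fun h1 g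
  have h4 := h2.map h
  rwa [h3] at h4

theorem isWContractible_of_lift {A D E : Type u} [CommRing A] [CommRing D] [Algebra A D] [CommRing E] [Algebra A E]
    (π : E →ₐ[A] D) (hE : EtPBC.IsIndEtale A E) (hD : EtPBC.IsWContractible D)
    (hπ : ∀ (W : Type u) [CommRing W] [Algebra A W], Algebra.Etale A W → ∀ g : W →ₐ[A] D,
      ∃! h : W →ₐ[A] E, π.comp h = g) : EtPBC.IsWContractible E := by
  intro F _ _ hF hFw
  obtain ⟨F', _, _, _, _, hff, -, hEF'⟩ := Groth.Agent.S0176.result E F
  let : Algebra E D := π.toRingHom.toAlgebra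
  let : Algebra A F' := ((algebraMap E F').comp (algebraMap A E)).toAlgebra
  have : IsScalarTower A E F' := IsScalarTower.of_algebraMap_eq' rfl
  have hAF' : EtPBC.IsIndEtale A F' := isIndEtale_trans A E F' hE hEF'
  have hffE : Module.FaithfullyFlat E F' := Module.FaithfullyFlat.trans E F F'
  have hwe : Algebra.WeaklyEtale D (D ⊗[E] F') :=
    Groth.Agent.S0736.result D (D ⊗[E] F') (isIndEtale_baseChange E F' D hEF')
  have hffD : Module.FaithfullyFlat D (D ⊗[E] F') := inferInstance
  obtain ⟨r⟩ := hD (D ⊗[E] F') hffD hwe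
  let ρ : F' →+* D := r.toRingHom.comp (Algebra.TensorProduct.includeRight (R := E) (A := D) (B := F')).toRingHom
  have hρ : ∀ e : E, ρ (algebraMap E F' e) = π e := fun e => by
    change r (Algebra.TensorProduct.includeRight (R := E) (A := D) (B := F') (algebraMap E F' e)) = π e
    rw [AlgHom.commutes, IsScalarTower.algebraMap_apply E D (D ⊗[E] F'), AlgHom.commutes]
    rfl
  let ρA : F' →ₐ[A] D := EtaleCoref.mkAH ρ (by
    ext a
    change ρ (algebraMap E F' (algebraMap A E a)) = _
    rw [hρ, AlgHom.commutes])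
  obtain ⟨h, hh, -⟩ := CorefUniv.existsUnique_of_isInd (P := fun W _ _ => Algebra.Etale A W) π
    (fun W _ _ hW g => hπ W hW g) F' hAF' ρA
  obtain ⟨h0, -, hu⟩ := CorefUniv.existsUnique_of_isInd (P := fun W _ _ => Algebra.Etale A W) π
    (fun W _ _ hW g => hπ W hW g) E hE π
  have hh' : π.comp h = ρA := hh
  have h1 : h.comp (IsScalarTower.toAlgHom A E F') = AlgHom.id A E := by
    rw [hu (h.comp (IsScalarTower.toAlgHom A E F')), hu (AlgHom.id A E)]
    · exact AlgHom.comp_id π
    · change π.comp (h.comp (IsScalarTower.toAlgHom A E F')) = π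
      rw [← AlgHom.comp_assoc, hh']
      ext e
      exact hρ e
  have h2 : ∀ e : E, h (algebraMap E F' e) = e := fun e => DFunLike.congr_fun h1 e
  refine ⟨{ toRingHom := h.toRingHom.comp (algebraMap F F'), commutes' := fun e => ?_ }⟩
  change h (algebraMap F F' (algebraMap E F e)) = e
  rw [← IsScalarTower.algebraMap_apply E F F', h2]

theorem exists_wc_lift {A R : Type u} [CommRing A] [CommRing R] [Algebra A R]
    (hs : Function.Surjective (algebraMap A R)) (B : Type u) [CommRing B] [Algebra R B]
    [Algebra.WeaklyEtale R B] :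
    ∃ (D : Type u) (_ : CommRing D) (_ : Algebra B D) (_ : Algebra R D) (_ : IsScalarTower R B D)
      (_ : Algebra A D) (_ : IsScalarTower A R D) (E : Type u) (_ : CommRing E) (_ : Algebra A E)
      (π : E →ₐ[A] D), Module.FaithfullyFlat B D ∧ EtPBC.IsIndEtale R D ∧ EtPBC.IsIndEtale A E ∧
      EtPBC.IsWContractible E ∧ Function.Surjective π ∧
      RingHom.ker π = (RingHom.ker (algebraMap A R)).map (algebraMap A E) ∧
      RingHom.ker π ≤ Ring.jacobson E := by
  obtain ⟨B', _, _, _, _, hffB, -, hRB'⟩ := Groth.Agent.S0176.result R B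
  obtain ⟨D, _, _, hffD, hiD, hwc⟩ := Groth.Agent.S0177.result B'
  let : Algebra R D := ((algebraMap B' D).comp (algebraMap R B')).toAlgebra
  have : IsScalarTower R B' D := IsScalarTower.of_algebraMap_eq' rfl
  let : Algebra B D := ((algebraMap B' D).comp (algebraMap B B')).toAlgebra
  have : IsScalarTower B B' D := IsScalarTower.of_algebraMap_eq' rfl
  have : IsScalarTower R B D := IsScalarTower.of_algebraMap_eq' (by
    ext r
    change algebraMap B' D (algebraMap R B' r) = algebraMap B' D (algebraMap B B' (algebraMap R B r))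
    rw [← IsScalarTower.algebraMap_apply R B B'])
  let : Algebra A D := ((algebraMap R D).comp (algebraMap A R)).toAlgebra
  have : IsScalarTower A R D := IsScalarTower.of_algebraMap_eq' rfl
  have hRD : EtPBC.IsIndEtale R D := isIndEtale_trans R B' D hRB' hiD
  obtain ⟨E, _, _, π, hE, hπs, hk, hπ⟩ := IndEtaleLift.exists_indEtale_lift (A := A) (R := R) hs hRD
  exact ⟨D, _, _, _, ‹_›, _, ‹_›, E, _, _, π, Module.FaithfullyFlat.trans B B' D, hRD, hE,
    isWContractible_of_lift π hE hwc hπ, hπs, hk, ker_le_jacobson π hE hπ⟩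

end Groth.Agent.Proet.LiftWC
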