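import Groth.Agent.Proet.ClosedImm2
import Groth.Agent.Proet.LiftWC
import Groth.Agent.Proet.IndFlat

/-!
# Closed immersions and the small pro-etale site: good objects are dense
-/

set_option autoImplicit false
universe u

open CategoryTheory CategoryTheory.Limits AlgebraicGeometry Opposite

namespace Groth.Agent.Proet.ClosedImm

variable {Z X : Scheme.{u}} (i : Z ⟶ X)

set_option backward.isDefEq.respectTransparency.types false in
/-- Affine objects over an affine open of `X` are covered by base changes of good objects. -/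
theorem exists_goodP_of_affine [IsClosedImmersion i] {X'' Z'' W : Scheme.{u}} [IsAffine X'']
    [IsAffine W] (a : X'' ⟶ X) [WeaklyEtale a] [Mono a] (z : Z'' ⟶ Z)
    (i'' : Z'' ⟶ X'') (hpb : IsPullback i'' z a i) (w : W ⟶ Z'')
    (hw : WeaklyEtale (w ≫ z)) :
    ∃ (V : X.ProEt) (g : (ProEtS.bcP i).obj V ⟶ Scheme.ProEt.mk (w ≫ z)),
      goodP i V ∧ IsAffine ((ProEtS.bcP i).obj V).left ∧ Surjective g.left := by
  have hi'' : IsClosedImmersion i'' :=
    MorphismProperty.of_isPullback (P := @IsClosedImmersion) hpb.flip inferInstance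
  obtain ⟨hZ'', hs⟩ := IsClosedImmersion.isAffine_surjective_of_isAffine i''
  have hz : WeaklyEtale z :=
    MorphismProperty.of_isPullback (P := @WeaklyEtale) hpb inferInstance
  have hw' : WeaklyEtale w := WeaklyEtale.of_comp w z
  have hwB := WCScheme.weaklyEtale_appTop w
  let _ : Algebra Γ(Z'', ⊤) Γ(W, ⊤) := w.appTop.hom.toAlgebra
  let _ : Algebra Γ(X'', ⊤) Γ(Z'', ⊤) := i''.appTop.hom.toAlgebra
  obtain ⟨D, _, _, _, hRBD, _, hARD, E, _, _, π, h1, h2, h3, h4, h5, h6, h7⟩ :=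
    LiftWC.exists_wc_lift (A := Γ(X'', ⊤)) (R := Γ(Z'', ⊤)) hs Γ(W, ⊤)
  refine exists_goodP_of_alg a z i'' hpb w hw D E h1
    (IndFlat.weaklyEtale_of_isIndEtale _ _ h3) h4 π.toRingHom h5 ?_ h6 h7
  ext x
  change π (algebraMap _ E x) = algebraMap Γ(W, ⊤) D (algebraMap Γ(Z'', ⊤) Γ(W, ⊤)
    (algebraMap Γ(X'', ⊤) Γ(Z'', ⊤) x))
  rw [π.commutes, ← IsScalarTower.algebraMap_apply Γ(Z'', ⊤) Γ(W, ⊤) D,
    ← IsScalarTower.algebraMap_apply Γ(X'', ⊤) Γ(Z'', ⊤) D]

set_option backward.isDefEq.respectTransparency.types false in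
theorem coverByImage_mem [IsClosedImmersion i] (W : Z.ProEt) :
    Sieve.coverByImage ((goodP i).ι ⋙ ProEtS.bcP i) W ∈ Scheme.ProEt.topology Z W := by
  have key : ∀ x : W.left, ∃ (W' : Z.ProEt) (o : W' ⟶ W) (V : X.ProEt)
      (g : (ProEtS.bcP i).obj V ⟶ W'), IsOpenImmersion o.left ∧ x ∈ Set.range o.left ∧
      goodP i V ∧ IsAffine ((ProEtS.bcP i).obj V).left ∧ IsAffine W'.left ∧
      Surjective g.left := by
    intro x
    obtain ⟨U, hU, hxU, -⟩ := exists_isAffineOpen_mem_and_subset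
      (x := (W.hom ≫ i) x) (U := ⊤) trivial
    have hxT : x ∈ (W.hom ≫ i) ⁻¹ᵁ U := hxU
    obtain ⟨T, hT, hxT', hTU⟩ := exists_isAffineOpen_mem_and_subset hxT
    have hr : Set.range (T.ι ≫ W.hom) ⊆ Set.range (i ⁻¹ᵁ U).ι := by
      rintro _ ⟨y, rfl⟩
      rw [Scheme.Opens.range_ι]
      exact hTU y.2
    let w : (T : Scheme.{u}) ⟶ (i ⁻¹ᵁ U : Scheme.{u}) :=
      IsOpenImmersion.lift (i ⁻¹ᵁ U).ι (T.ι ≫ W.hom) hr
    have hw : w ≫ (i ⁻¹ᵁ U).ι = T.ι ≫ W.hom := IsOpenImmersion.lift_fac _ _ _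
    have hwe : WeaklyEtale (w ≫ (i ⁻¹ᵁ U).ι) := by rw [hw]; infer_instance
    have : IsAffine (U : Scheme.{u}) := hU
    have : IsAffine (T : Scheme.{u}) := hT
    obtain ⟨V, g, h1, h2, h3⟩ := exists_goodP_of_affine i U.ι (i ⁻¹ᵁ U).ι (i ∣_ U)
      (isPullback_morphismRestrict i U) w hwe
    refine ⟨Scheme.ProEt.mk (w ≫ (i ⁻¹ᵁ U).ι), MorphismProperty.Over.homMk T.ι hw.symm, V, g,
      (inferInstance : IsOpenImmersion T.ι), ⟨⟨x, hxT'⟩, rfl⟩, h1, h2,
      inferInstanceAs (IsAffine (T : Scheme.{u})), h3⟩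
  choose W' o V g ho hx hV hVa hWa hg using key
  have h1 : Sieve.generate (Presieve.ofArrows W' o) ∈ Scheme.ProEt.topology Z W :=
    WCBasic.ofArrows_openImmersion_mem o ho fun x => ⟨x, hx x⟩
  refine (Scheme.ProEt.topology Z).transitive h1 _ ?_
  rintro Y f ⟨_, k, _, ⟨x⟩, rfl⟩
  rw [Sieve.pullback_comp]
  apply (Scheme.ProEt.topology Z).pullback_stable
  have := hVa x
  have := hWa x
  have := hg x
  refine (Scheme.ProEt.topology Z).superset_covering ?_ (WCBasic.generate_singleton_mem (g x))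
  rw [Sieve.generate_le_iff]
  rintro _ _ ⟨⟩
  exact Presieve.in_coverByImage ((goodP i).ι ⋙ ProEtS.bcP i) (Y := ⟨V x, hV x⟩) (g x ≫ o x)


set_option backward.isDefEq.respectTransparency.types false in
theorem coverPreserving_bcP {Z X : Scheme.{u}} (i : Z ⟶ X) :
    CoverPreserving (Scheme.ProEt.topology X) (Scheme.ProEt.topology Z) (ProEtS.bcP i) := by
  constructor
  intro U S hS
  obtain ⟨R, hR, hle⟩ := (Cont.mem_topology_iff S).1 hS
  have hR' := Cont.precoverage_le_comap_bcP i U hR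
  rw [Precoverage.mem_comap_iff] at hR'
  refine (Scheme.ProEt.topology Z).superset_covering ?_
    (Precoverage.generate_mem_toGrothendieck hR')
  rw [Sieve.generate_map_eq_functorPushforward]
  apply Sieve.functorPushforward_monotone
  rw [Sieve.generate_le_iff]
  exact hle

set_option backward.isDefEq.respectTransparency.types false in
/-- The good objects form a good class for the base change functor along a closed immersion. -/
theorem good_bcP [IsClosedImmersion i] : PartialAdj.Good (Scheme.ProEt.topology X)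
    (Scheme.ProEt.topology Z) (ProEtS.bcP i) (goodP i) where
  coverPreserving := coverPreserving_bcP i
  bij _ hV U := map_bijective hV U
  dense W := coverByImage_mem i W
  decomp _ hV _ hS := exists_decomp hV (isWC_bcP hV) hS

end Groth.Agent.Proet.ClosedImm
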