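import Groth.Agent.Proet.WCProj

/-!
# Sections of constant sheaves of modules on affine weakly contractible objects
-/

set_option autoImplicit false
universe u v w v' u'

open CategoryTheory CategoryTheory.Limits AlgebraicGeometry Opposite

namespace Groth.Agent.Proet.ConstSec

open WCBasic WC WCClopen WCExist WCExact WCSheafify

variable {X : Scheme.{u}} {Λ : Type (u + 1)} [CommRing Λ]

variable (X) in
/-- The constant sheaf of modules. -/
noncomputable abbrev cst (N : ModuleCat.{u + 1} Λ) : EtModW.ModP Λ X :=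
  (constantSheaf (Scheme.ProEt.topology X) (ModuleCat.{u + 1} Λ)).obj N

variable (X) in
noncomputable abbrev cstMap {N M : ModuleCat.{u + 1} Λ} (φ : N ⟶ M) : cst X N ⟶ cst X M :=
  (constantSheaf (Scheme.ProEt.topology X) (ModuleCat.{u + 1} Λ)).map φ

/-- The constant section. -/
noncomputable def eta (N : ModuleCat.{u + 1} Λ) (V : X.ProEt) : N →ₗ[Λ] (cst X N).obj.obj (op V) :=
  ((toSheafify (Scheme.ProEt.topology X) ((Functor.const _).obj N)).app (op V)).hom

theorem eta_map (N : ModuleCat.{u + 1} Λ) {V W : X.ProEt} (g : W ⟶ V) (n : N) :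
    (cst X N).obj.map g.op (eta N V n) = eta N W n := by
  have h := (toSheafify (Scheme.ProEt.topology X) ((Functor.const _).obj N)).naturality g.op
  exact (ConcreteCategory.congr_hom h n).symm

theorem eta_natural {N M : ModuleCat.{u + 1} Λ} (φ : N ⟶ M) (V : X.ProEt) (n : N) :
    (cstMap X φ).hom.app (op V) (eta N V n) = eta M V (φ n) := by
  have h := toSheafify_naturality (Scheme.ProEt.topology X) ((Functor.const X.ProEtᵒᵖ).map φ)
  have h' := congrArg (fun t => t.app (op V)) h
  exact (ConcreteCategory.congr_hom h' n).symm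

theorem eta_locally_surjective (N : ModuleCat.{u + 1} Λ) (V : X.ProEt)
    (x : (cst X N).obj.obj (op V)) :
    ∃ R ∈ Scheme.ProEt.topology X V, ∀ (W : X.ProEt) (g : W ⟶ V), R g →
      ∃ n : N, (cst X N).obj.map g.op x = eta N W n := by
  refine ⟨_, Presheaf.imageSieve_mem (Scheme.ProEt.topology X)
    (toSheafify (Scheme.ProEt.topology X) ((Functor.const _).obj N)) (U := op V) x, ?_⟩
  rintro W g ⟨n, hn⟩
  exact ⟨n, hn.symm⟩

/-- A covering sieve of a nonempty object is nonempty. -/
theorem exists_of_mem_topology {V : X.ProEt} [Nonempty V.left] {S : Sieve V}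
    (hS : S ∈ Scheme.ProEt.topology X V) : ∃ (W : X.ProEt) (g : W ⟶ V), S g := by
  obtain ⟨R, hR, hle⟩ := (Cont.mem_topology_iff S).1 hS
  obtain ⟨ι, W, g, rfl⟩ := R.exists_eq_ofArrows
  rw [Cont.ofArrows_mem_precoverage_iff] at hR
  obtain ⟨x⟩ := ‹Nonempty V.left›
  obtain ⟨i, -⟩ := ((Scheme.ofArrows_mem_precoverage_iff _).1 hR.2).1 x
  exact ⟨W i, g i, hle _ _ ⟨i⟩⟩

theorem eta_injective (N : ModuleCat.{u + 1} Λ) (V : X.ProEt) [Nonempty V.left] {n : N}
    (h : eta N V n = 0) : n = 0 := by
  have h1 := Presheaf.equalizerSieve_mem (Scheme.ProEt.topology X)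
    (toSheafify (Scheme.ProEt.topology X) ((Functor.const _).obj N)) (X := op V) n 0
    (by
      rw [map_zero]
      exact h)
  obtain ⟨W, g, hg⟩ := exists_of_mem_topology h1
  have h2 : ((Functor.const X.ProEtᵒᵖ).obj N).map g.op n =
    ((Functor.const X.ProEtᵒᵖ).obj N).map g.op 0 := hg
  rw [map_zero] at h2
  exact h2

/-- Sections of a sheaf of modules over a disjoint union. -/
theorem bijective_of_disjoint_mod {ι : Type v} {V : X.ProEt} {W : ι → X.ProEt}
    (g : ∀ i, W i ⟶ V) (hg : ∀ i, IsOpenImmersion (g i).left)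
    (hcov : ∀ x : V.left, ∃ i, x ∈ Set.range (g i).left)
    (hdisj : Pairwise fun i j => Disjoint (Set.range (g i).left) (Set.range (g j).left))
    (F : EtModW.ModP Λ X) :
    Function.Bijective (fun (s : F.obj.obj (op V)) (i : ι) => F.obj.map (g i).op s) := by
  have hF : Presieve.IsSheaf (Scheme.ProEt.topology X)
      ((sheafCompose (Scheme.ProEt.topology X) (forget (ModuleCat.{u + 1} Λ))).obj F).obj :=
    (isSheaf_iff_isSheaf_of_type _ _).1
      ((sheafCompose (Scheme.ProEt.topology X) (forget (ModuleCat.{u + 1} Λ))).obj F).property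
  exact bijective_of_disjoint g hg hcov hdisj hF

theorem exists_common_sieve {ι : Type v} [Finite ι] {V : X.ProEt} (S : ι → Sieve V)
    (hS : ∀ i, S i ∈ Scheme.ProEt.topology X V) :
    ∃ R ∈ Scheme.ProEt.topology X V, ∀ i, R ≤ S i := by
  induction ι using Finite.induction_empty_option with
  | of_equiv e ih =>
    obtain ⟨R, hR, h⟩ := ih (fun i => S (e i)) (fun i => hS (e i))
    exact ⟨R, hR, fun i => by simpa using h (e.symm i)⟩
  | h_empty => exact ⟨⊤, (Scheme.ProEt.topology X).top_mem V, fun i => i.elim⟩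
  | h_option ih =>
    obtain ⟨R, hR, h⟩ := ih (fun i => S (some i)) (fun i => hS (some i))
    refine ⟨R ⊓ S none, (Scheme.ProEt.topology X).intersection_covering hR (hS none), ?_⟩
    rintro (_ | i)
    · exact inf_le_right
    · exact inf_le_left.trans (h i)

/-- Finitely many sections of constant sheaves over an affine weakly contractible object are
constant on the pieces of a finite decomposition. -/
theorem exists_decomp {V : X.ProEt} [IsAffine V.left] (hV : ProEtS.IsWC V) {ι : Type v} [Finite ι]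
    {N : ι → ModuleCat.{u + 1} Λ} (x : ∀ i, (cst X (N i)).obj.obj (op V)) :
    ∃ (n : ℕ) (W : Fin n → X.ProEt) (g : ∀ k, W k ⟶ V),
      (∀ k, IsOpenImmersion (g k).left) ∧ (∀ x : V.left, ∃ i, x ∈ Set.range (g i).left) ∧
      (Pairwise fun i j => Disjoint (Set.range (g i).left) (Set.range (g j).left)) ∧
      ∀ i k, ∃ m : N i, (cst X (N i)).obj.map (g k).op (x i) = eta (N i) (W k) m := by
  choose S hS hS' using fun i => eta_locally_surjective (N i) V (x i)
  obtain ⟨R, hR, hRS⟩ := exists_common_sieve S hS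
  obtain ⟨n, W, -, hdisj, hcov, hW⟩ := exists_clopen_of_isWC hV hR
  obtain ⟨h1, h2, h3⟩ := openHom_props W hdisj hcov
  exact ⟨n, _, _, h1, h2, h3, fun i k => hS' i _ _ (hRS i _ (hW k))⟩

/-- The coefficient module. -/
abbrev Lam (Λ : Type (u + 1)) [CommRing Λ] : ModuleCat.{u + 1} Λ := ModuleCat.of Λ Λ

/-- The section which is `1` on one piece and `0` on the others. -/
theorem exists_indicator {n : ℕ} {V : X.ProEt} {W : Fin n → X.ProEt}
    (g : ∀ i, W i ⟶ V) (hg : ∀ i, IsOpenImmersion (g i).left)
    (hcov : ∀ x : V.left, ∃ i, x ∈ Set.range (g i).left)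
    (hdisj : Pairwise fun i j => Disjoint (Set.range (g i).left) (Set.range (g j).left)) :
    ∃ y : Fin n → (cst X (Lam Λ)).obj.obj (op V), ∀ k l, (cst X (Lam Λ)).obj.map (g l).op (y k) =
      if k = l then eta (Lam Λ) (W l) (1 : Λ) else 0 := by
  choose y hy using fun k => (bijective_of_disjoint_mod g hg hcov hdisj (cst X (Lam Λ))).2
    (fun l => if k = l then eta (Lam Λ) (W l) (1 : Λ) else 0)
  exact ⟨y, fun k l => congrFun (hy k) l⟩

theorem eq_sum_indicator {n : ℕ} {V : X.ProEt} {W : Fin n → X.ProEt}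
    (g : ∀ i, W i ⟶ V) (hg : ∀ i, IsOpenImmersion (g i).left)
    (hcov : ∀ x : V.left, ∃ i, x ∈ Set.range (g i).left)
    (hdisj : Pairwise fun i j => Disjoint (Set.range (g i).left) (Set.range (g j).left))
    {y : Fin n → (cst X (Lam Λ)).obj.obj (op V)}
    (hy : ∀ k l, (cst X (Lam Λ)).obj.map (g l).op (y k) =
      if k = l then eta (Lam Λ) (W l) (1 : Λ) else 0)
    (x : (cst X (Lam Λ)).obj.obj (op V)) (c : Fin n → Λ)
    (hx : ∀ k, (cst X (Lam Λ)).obj.map (g k).op x = eta (Lam Λ) (W k) (c k)) :
    x = ∑ k, c k • y k := by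
  apply (bijective_of_disjoint_mod g hg hcov hdisj (cst X (Lam Λ))).1
  funext l
  simp only [hx, map_sum, map_smul, hy]
  rw [Finset.sum_eq_single l]
  · rw [if_pos rfl, ← map_smul]
    congr 1
    exact (mul_one (c l)).symm
  · intro k _ hk
    rw [if_neg hk, smul_zero]
  · intro h
    exact absurd (Finset.mem_univ _) h

/-- Sections of the constant sheaf `Λ` over an affine weakly contractible object are flat. -/
theorem flat_sections {V : X.ProEt} [IsAffine V.left] (hV : ProEtS.IsWC V) :
    Module.Flat Λ ((cst X (Lam Λ)).obj.obj (op V)) := by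
  rw [Module.Flat.iff_forall_isTrivialRelation]
  intro l f x hfx
  obtain ⟨n, W, g, h1, h2, h3, h4⟩ := exists_decomp hV (ι := Fin l) (N := fun _ => Lam Λ) x
  choose a ha using h4
  obtain ⟨y, hy⟩ := exists_indicator (Λ := Λ) g h1 h2 h3
  classical
  let a' : Fin l → Fin n → Λ := fun i k => if Nonempty (W k).left then a i k else 0
  have ha' : ∀ i k, (cst X (Lam Λ)).obj.map (g k).op (x i) = eta (Lam Λ) (W k) (a' i k) := by
    intro i k
    by_cases hk : Nonempty (W k).left
    · simp only [a', if_pos hk]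
      exact ha i k
    · rw [not_nonempty_iff] at hk
      have hF : Presieve.IsSheaf (Scheme.ProEt.topology X)
          ((sheafCompose (Scheme.ProEt.topology X) (forget (ModuleCat.{u + 1} Λ))).obj
            (cst X (Lam Λ))).obj :=
        (isSheaf_iff_isSheaf_of_type _ _).1
          ((sheafCompose (Scheme.ProEt.topology X) (forget (ModuleCat.{u + 1} Λ))).obj
            (cst X (Lam Λ))).property
      have := subsingleton_of_isEmpty hF (W k)
      exact this.elim _ _
  refine ⟨n, a', y, fun i => ?_, fun k => ?_⟩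
  · exact eq_sum_indicator g h1 h2 h3 hy (x i) (a' i) (ha' i)
  · by_cases hk : Nonempty (W k).left
    · apply eta_injective (Lam Λ) (W k)
      have h5 := congrArg (fun t => (cst X (Lam Λ)).obj.map (g k).op t) hfx
      simp only [map_sum, map_smul, ha', map_zero] at h5
      rw [← h5]
      simp only [← map_smul, ← map_sum]
      rfl
    · simp only [a', if_neg hk, mul_zero, Finset.sum_const_zero]

/-- The kernel of `Λ(V) → (Λ / I)(V)`. -/
theorem mem_of_cstMap_eq_zero {V : X.ProEt} [IsAffine V.left] (hV : ProEtS.IsWC V)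
    (I : Ideal Λ) {M : ModuleCat.{u + 1} Λ} (q : Lam Λ ⟶ M) (hq : ∀ a : Λ, q a = 0 → a ∈ I)
    (x : (cst X (Lam Λ)).obj.obj (op V)) (hx : (cstMap X q).hom.app (op V) x = 0) :
    x ∈ I • (⊤ : Submodule Λ ((cst X (Lam Λ)).obj.obj (op V))) := by
  obtain ⟨n, W, g, h1, h2, h3, h4⟩ := exists_decomp hV (ι := Unit) (N := fun _ => Lam Λ)
    (fun _ => x)
  choose a ha using h4 ()
  obtain ⟨y, hy⟩ := exists_indicator (Λ := Λ) g h1 h2 h3
  classical
  let a' : Fin n → Λ := fun k => if Nonempty (W k).left then a k else 0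
  have ha' : ∀ k, (cst X (Lam Λ)).obj.map (g k).op x = eta (Lam Λ) (W k) (a' k) := by
    intro k
    by_cases hk : Nonempty (W k).left
    · simp only [a', if_pos hk]
      exact ha k
    · rw [not_nonempty_iff] at hk
      have hF : Presieve.IsSheaf (Scheme.ProEt.topology X)
          ((sheafCompose (Scheme.ProEt.topology X) (forget (ModuleCat.{u + 1} Λ))).obj
            (cst X (Lam Λ))).obj :=
        (isSheaf_iff_isSheaf_of_type _ _).1
          ((sheafCompose (Scheme.ProEt.topology X) (forget (ModuleCat.{u + 1} Λ))).obj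
            (cst X (Lam Λ))).property
      have := subsingleton_of_isEmpty hF (W k)
      exact this.elim _ _
  rw [eq_sum_indicator g h1 h2 h3 hy x a' ha']
  refine Submodule.sum_mem _ fun k _ => Submodule.smul_mem_smul ?_ trivial
  by_cases hk : Nonempty (W k).left
  · apply hq
    apply eta_injective M (W k)
    have h5 := congrArg (fun t => (cst X M).obj.map (g k).op t) hx
    dsimp only at h5
    rw [map_zero, ← NatTrans.naturality_apply, ha' k] at h5
    rw [← h5]
    exact (eta_natural q (W k) (a' k)).symm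
  · simp only [a', if_neg hk]
    exact I.zero_mem

end Groth.Agent.Proet.ConstSec
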