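import Mathlib.CategoryTheory.Limits.Constructions.Filtered
import Mathlib.CategoryTheory.Limits.Preserves.Finite
import Mathlib.CategoryTheory.Limits.Preserves.Shapes.Products

/-!
# Preservation of coproducts from finite coproducts and filtered colimits
-/

set_option autoImplicit false
universe w v₁ u₁ v₂ u₂

open CategoryTheory Limits

namespace Groth.Agent.Proet.CoprodFilt

/-- A functor preserving finite coproducts and colimits of shape `Finset (Discrete α)` preserves
coproducts indexed by `α`. -/
theorem preservesColimitsOfShape_discrete {C : Type u₁} [Category.{v₁} C] {D : Type u₂}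
    [Category.{v₂} D] [HasFiniteCoproducts C] (H : C ⥤ D) [PreservesFiniteCoproducts H]
    {α : Type w} [HasColimitsOfShape (Discrete α) C] [HasColimitsOfShape (Finset (Discrete α)) C]
    [PreservesColimitsOfShape (Finset (Discrete α)) H] :
    PreservesColimitsOfShape (Discrete α) H := by
  classical
  have key (f : α → C) : PreservesColimit (Discrete.functor f) H := by
    have hcol := isColimitOfPreserves H
      (CoproductsFromFiniteFiltered.isColimitFiniteSubproductsCocone f)
    have hS (S : Finset (Discrete α)) : IsColimit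
        (H.mapCocone (colimit.cocone (Discrete.functor fun x : S => f x.1.as))) :=
      isColimitOfPreserves H (colimit.isColimit _)
    refine preservesColimit_of_preserves_colimit_cocone
      (colimit.isColimit (Discrete.functor f)) ?_
    refine IsColimit.ofExistsUnique fun s => ?_
    let dS (S : Finset (Discrete α)) : H.obj (∐ fun x : S => f x.1.as) ⟶ s.pt :=
      (hS S).desc ⟨s.pt, Discrete.natTrans fun x => s.ι.app x.as.1⟩
    have hdS (S : Finset (Discrete α)) (x : S) :
        H.map (Sigma.ι (fun x : S => f x.1.as) x) ≫ dS S = s.ι.app x.1 :=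
      (hS S).fac ⟨s.pt, Discrete.natTrans fun x => s.ι.app x.as.1⟩ ⟨x⟩
    have hdS' (S : Finset (Discrete α)) {Z : D} {a b : H.obj (∐ fun x : S => f x.1.as) ⟶ Z}
        (h : ∀ x : S, H.map (Sigma.ι (fun x : S => f x.1.as) x) ≫ a =
          H.map (Sigma.ι (fun x : S => f x.1.as) x) ≫ b) : a = b :=
      (hS S).hom_ext fun x => h x.as
    let m : H.obj (∐ f) ⟶ s.pt := hcol.desc ⟨s.pt,
      { app := fun S => dS S
        naturality := by
          intro S T g
          let tr : (∐ fun x : S => f x.1.as) ⟶ (∐ fun x : T => f x.1.as) :=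
            Sigma.desc fun y => Sigma.ι (fun x : T => f x.1.as) ⟨y.1, g.down.down y.2⟩
          change H.map tr ≫ dS T = dS S ≫ 𝟙 _
          apply hdS' S
          intro x
          have : Sigma.ι (fun x : S => f x.1.as) x ≫ tr =
              Sigma.ι (fun x : T => f x.1.as) ⟨x.1, g.down.down x.2⟩ := by
            rw [Sigma.ι_desc]
          rw [Category.comp_id, hdS, ← Category.assoc, ← H.map_comp, this, hdS] }⟩
    have hm (S : Finset (Discrete α)) : H.map (Sigma.desc fun s : S => Sigma.ι f s.1.as) ≫ m = dS S :=
      hcol.fac _ S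
    have hι (S : Finset (Discrete α)) (x : S) : Sigma.ι (fun x : S => f x.1.as) x ≫
        Sigma.desc (fun s : S => Sigma.ι f s.1.as) = Sigma.ι f x.1.as := by
      rw [Sigma.ι_desc]
    refine ⟨m, ?_, ?_⟩
    · rintro ⟨j⟩
      change H.map (Sigma.ι f j) ≫ m = s.ι.app ⟨j⟩
      rw [← hι {⟨j⟩} ⟨⟨j⟩, Finset.mem_singleton_self _⟩, H.map_comp, Category.assoc, hm, hdS]
    · intro m' hm'
      refine hcol.hom_ext fun S => ?_
      change H.map (Sigma.desc fun s : S => Sigma.ι f s.1.as) ≫ m' =
        H.map (Sigma.desc fun s : S => Sigma.ι f s.1.as) ≫ m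
      rw [hm]
      apply hdS' S
      intro x
      rw [← Category.assoc, ← H.map_comp, hι, hdS]
      exact hm' x.1
  exact preservesColimitsOfShape_of_discrete H
end Groth.Agent.Proet.CoprodFilt
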