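import Groth.Agent.Proet.BZero
import Groth.Agent.Proet.IndFlat
import Groth.Agent.S0176

/-!
# Refining coverings of objects of `B0` by members of `Cov0`
-/

set_option autoImplicit false
universe u

open CategoryTheory CategoryTheory.Limits AlgebraicGeometry Opposite

namespace Groth.Agent.Proet.CovRef

open EpsPre EpsLim CechLim CechEt CechEl PullLim IndPres EtStep EtDesc IndAlg BZero

theorem indEtMP_iff {R S : CommRingCat.{u}} (φ : R ⟶ S) :
    indEtMP φ ↔ (letI := φ.hom.toAlgebra; EtPBC.IsIndEtale R S) := by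
  let := φ.hom.toAlgebra
  exact (indAlg_iff_mp (fun R S => Algebra.Etale R S) R S).symm

theorem isIso_appTop {A B : Scheme.{u}} (f : A ⟶ B) (h : IsIso f) : IsIso f.appTop := by
  have : IsIso (Scheme.Γ.map f.op) := inferInstance
  exact this

theorem indEtMP_appTop_spec {V : Scheme.{u}} [IsAffine V] {T : CommRingCat.{u}}
    (φ : Γ(V, ⊤) ⟶ T) (h : indEtMP φ) : indEtMP (Spec.map φ ≫ V.isoSpec.inv).appTop := by
  rw [Scheme.Hom.comp_appTop]
  have e : (Spec.map φ).appTop =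
      (Scheme.ΓSpecIso Γ(V, ⊤)).hom ≫ φ ≫ (Scheme.ΓSpecIso T).inv := by
    rw [← Category.assoc, Iso.eq_comp_inv]
    exact Scheme.ΓSpecIso_naturality φ
  have h1 : IsIso V.isoSpec.inv.appTop := isIso_appTop _ inferInstance
  rw [e]
  exact (MorphismProperty.cancel_left_of_respectsIso indEtMP _ _).2
    ((MorphismProperty.cancel_left_of_respectsIso indEtMP _ _).2
      ((MorphismProperty.cancel_right_of_respectsIso indEtMP _ _).2 h))

/-- Weakly etale maps of affine schemes can be refined to ind-etale maps. -/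
theorem exists_indEtale_cover {Z V : Scheme.{u}} [IsAffine Z] [IsAffine V] (z : Z ⟶ V)
    [WeaklyEtale z] : ∃ (T : CommRingCat.{u}) (ψ : Γ(Z, ⊤) ⟶ T),
      Function.Surjective (Spec.map ψ) ∧ WeaklyEtale (Spec.map ψ) ∧ indEtMP (z.appTop ≫ ψ) := by
  let := z.appTop.hom.toAlgebra
  have h1 : WeaklyEtale (Spec.map z.appTop) := by
    have e : Spec.map z.appTop = Z.isoSpec.inv ≫ z ≫ V.isoSpec.hom := by
      rw [← Scheme.isoSpec_hom_naturality z, Iso.inv_hom_id_assoc]
    rw [e]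
    infer_instance
  have h2 : Algebra.WeaklyEtale Γ(V, ⊤) Γ(Z, ⊤) :=
    (WCBasic.weaklyEtale_Spec_iff Γ(V, ⊤) Γ(Z, ⊤)).1 h1
  obtain ⟨B', _, _, _, _, hff, hind, hind'⟩ := Groth.Agent.S0176.result Γ(V, ⊤) Γ(Z, ⊤)
  refine ⟨CommRingCat.of B', CommRingCat.ofHom (algebraMap Γ(Z, ⊤) B'), ?_, ?_, ?_⟩
  · exact (WCBasic.surjective_of_faithfullyFlat Γ(Z, ⊤) B').surj
  · have := IndFlat.weaklyEtale_of_isIndEtale _ _ hind
    exact (WCBasic.weaklyEtale_Spec_iff Γ(Z, ⊤) B').2 this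
  · have := (indAlg_iff_mp (fun R S => Algebra.Etale R S) Γ(V, ⊤) B').1 hind'
    have e : z.appTop ≫ CommRingCat.ofHom (algebraMap Γ(Z, ⊤) B') =
        CommRingCat.ofHom (algebraMap Γ(V, ⊤) B') := by
      ext x
      exact (IsScalarTower.algebraMap_apply Γ(V, ⊤) Γ(Z, ⊤) B' x).symm
    rw [e]
    exact this

variable {X : Scheme.{u}}

theorem weaklyEtale_comp3 {A B C D : Scheme.{u}} (a : A ⟶ B) (b : B ⟶ C) (c : C ⟶ D)
    (ha : WeaklyEtale a) (hb : IsIso b) (hc : WeaklyEtale c) : WeaklyEtale (a ≫ b ≫ c) := by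
  infer_instance

theorem surjective_comp3 {A B C D : Scheme.{u}} (a : A ⟶ B) (b : B ⟶ C) (c : C ⟶ D)
    (ha : Function.Surjective a) (hb : IsIso b) (hc : Function.Surjective c) :
    Function.Surjective ((a ≫ b) ≫ c) := by
  have : Surjective a := ⟨ha⟩
  have : Surjective c := ⟨hc⟩
  have : Surjective ((a ≫ b) ≫ c) := inferInstance
  exact this.surj

set_option backward.isDefEq.respectTransparency.types false in
/-- Weakly etale surjections onto objects of `B0` from affine objects are refined by `Cov0`. -/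
theorem exists_cov0_of_affine {V Z : X.ProEt} (hV : B0 V) (hZ : IsAffine ((sch X).obj Z))
    (z : Z ⟶ V) (hz : Function.Surjective ((sch X).map z)) :
    ∃ (W : X.ProEt) (g : W ⟶ Z), Cov0 (g ≫ z) := by
  have hV' : IsAffine V.left := hV.affine
  have hZ' : IsAffine Z.left := hZ
  have := WCBasic.weaklyEtale_left z
  obtain ⟨T, ψ, hs, hw, hi⟩ := exists_indEtale_cover z.left
  have : WeaklyEtale (Spec.map ψ ≫ Z.left.isoSpec.inv ≫ Z.hom) :=
    weaklyEtale_comp3 _ _ _ hw inferInstance inferInstance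
  let W : X.ProEt := Scheme.ProEt.mk (Spec.map ψ ≫ Z.left.isoSpec.inv ≫ Z.hom)
  let g : W ⟶ Z := MorphismProperty.Over.homMk (Spec.map ψ ≫ Z.left.isoSpec.inv)
    (Category.assoc _ _ _) trivial
  have hg : (sch X).map (g ≫ z) = Spec.map (z.left.appTop ≫ ψ) ≫ V.left.isoSpec.inv := by
    change (Spec.map ψ ≫ Z.left.isoSpec.inv) ≫ z.left = _
    rw [Spec.map_comp, Category.assoc, Category.assoc, Scheme.isoSpec_inv_naturality z.left]
  refine ⟨W, g, hV, ⟨inferInstanceAs (IsAffine (Spec T)), hV', ?_⟩, ?_⟩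
  · have h1 := indEtMP_appTop_spec (V := V.left) (z.left.appTop ≫ ψ) hi
    rw [← hg] at h1
    exact h1
  · have e : (sch X).map (g ≫ z) = (Spec.map ψ ≫ Z.left.isoSpec.inv) ≫ z.left := rfl
    rw [e]
    exact surjective_comp3 _ _ _ hs inferInstance hz

/-- Covering sieves of objects of `B0`. -/
theorem exists_cov0 {V : X.ProEt} (hV : B0 V) {S : Sieve V}
    (hS : S ∈ Scheme.ProEt.topology X V) :
    ∃ (n : ℕ) (T : Fin n → X.ProEt) (t : ∀ i, T i ⟶ V) (W : X.ProEt)
      (g : W ⟶ WCBasic.sigmaObj T), (∀ i, S (t i)) ∧ (∀ i, IsAffine (T i).left) ∧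
        Cov0 (g ≫ WCBasic.sigmaDesc T t) := by
  have hV' : IsAffine V.left := hV.affine
  obtain ⟨n, T, t, hT, hSt, hcov⟩ := WCBasic.exists_finite_affine hS
  obtain ⟨W, g, hg⟩ := exists_cov0_of_affine (Z := WCBasic.sigmaObj T) hV
    (WCBasic.isAffine_sigmaObj T hT)
    (WCBasic.sigmaDesc T t) (WCBasic.surjective_sigmaDesc T t hcov).surj
  exact ⟨n, T, t, W, g, hSt, hT, hg⟩

end Groth.Agent.Proet.CovRef
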