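import Mathlib.Algebra.Homology.DerivedCategory.Fractions
import Mathlib.Algebra.Homology.DerivedCategory.KProjective
import Mathlib.Algebra.Homology.DerivedCategory.HomologySequence

/-!
# Vanishing of morphisms in the derived category via an exact functor

`hom_eq_zero`: let `P` be an exact endofunctor of an abelian category with natural transformations
`p : P ⟶ 𝟭` and `v : P ⟶ P`, let `M` be an object with `δ : M ⟶ P M` such that `δ ≫ p = 𝟙` and
`δ ≫ v = 0`.  If `v` is an isomorphism on all cohomology objects of `K`, then there is no nonzero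
morphism `M ⟶ K` in the derived category.
-/

set_option autoImplicit false
universe w v u

open CategoryTheory CategoryTheory.Limits

namespace Groth.Agent.Proet.DCAbs

variable {A : Type u} [Category.{v} A] [Abelian A]

section Roof

variable (P : A ⥤ A) [P.Additive] [P.PreservesHomology]

/-- Naturality of homology for natural transformations of homology preserving functors. -/
theorem quasiIso_mapNatTrans {P G : A ⥤ A} [P.PreservesZeroMorphisms] [P.PreservesHomology]
    [G.PreservesZeroMorphisms] [G.PreservesHomology] (v : P ⟶ G)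
    (K : CochainComplex A ℤ) (hK : ∀ n, IsIso (v.app (K.homology n))) :
    QuasiIso ((NatTrans.mapHomologicalComplex v (ComplexShape.up ℤ)).app K) := by
  rw [quasiIso_iff]
  intro n
  rw [quasiIsoAt_iff]
  let γ := ShortComplex.HomologyMapData.natTransApp (K.sc n).homologyData v
  have h := hK n
  have e : ShortComplex.QuasiIso ((K.sc n).mapNatTrans v) ↔ IsIso γ.left.φH :=
    γ.left.quasiIso_iff
  refine e.2 ?_
  exact h

open DerivedCategory

variable [HasDerivedCategory.{w} A]

/-- The vanishing criterion (for complexes). -/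
theorem hom_eq_zero (p : P ⟶ 𝟭 A) (v : P ⟶ P) (L K : CochainComplex A ℤ)
    (δ : L ⟶ (P.mapHomologicalComplex _).obj L)
    (h1 : δ ≫ (NatTrans.mapHomologicalComplex v (ComplexShape.up ℤ)).app L = 0)
    (h2 : ∀ n, δ.f n ≫ p.app (L.X n) = 𝟙 _)
    (hK : ∀ n, IsIso (v.app (K.homology n))) (a : Q.obj L ⟶ Q.obj K) : a = 0 := by
  obtain ⟨L', s, hs, g, rfl⟩ := right_fac a
  rw [isIso_Q_map_iff_quasiIso] at hs
  have hPs : QuasiIso ((P.mapHomologicalComplex (ComplexShape.up ℤ)).map s) := inferInstance
  have hv := quasiIso_mapNatTrans v K hK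
  let PC := P.mapHomologicalComplex (ComplexShape.up ℤ)
  let vC : PC ⟶ PC := NatTrans.mapHomologicalComplex v (ComplexShape.up ℤ)
  let pC (N : CochainComplex A ℤ) : PC.obj N ⟶ N :=
    { f := fun i => p.app (N.X i)
      comm' := fun i j _ => (p.naturality (N.d i j)).symm }
  have pCnat {N N' : CochainComplex A ℤ} (f : N ⟶ N') : PC.map f ≫ pC N' = pC N ≫ f := by
    ext i
    exact p.naturality (f.f i)
  have h3 : δ ≫ pC L = 𝟙 _ := by
    ext i
    exact h2 i
  -- the morphism to `P K`
  let b : Q.obj L ⟶ Q.obj (PC.obj K) := Q.map δ ≫ inv (Q.map (PC.map s)) ≫ Q.map (PC.map g)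
  have hb : b ≫ Q.map (vC.app K) = 0 := by
    have e1 : PC.map g ≫ vC.app K = vC.app L' ≫ PC.map g := vC.naturality g
    have e2 : PC.map s ≫ vC.app L = vC.app L' ≫ PC.map s := vC.naturality s
    have e3 : Q.map (vC.app L) ≫ inv (Q.map (PC.map s)) =
        inv (Q.map (PC.map s)) ≫ Q.map (vC.app L') := by
      rw [IsIso.comp_inv_eq, Category.assoc, ← Q.map_comp, ← e2, Q.map_comp,
        IsIso.inv_hom_id_assoc]
    simp only [b, Category.assoc]
    rw [← Q.map_comp, e1, Q.map_comp, ← reassoc_of% e3, ← Category.assoc, ← Q.map_comp, h1,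
      Q.map_zero, zero_comp]
  have hb' : b = 0 := by
    have : IsIso (Q.map (vC.app K)) := by
      rw [isIso_Q_map_iff_quasiIso]
      exact hv
    rw [← cancel_mono (Q.map (vC.app K)), hb, zero_comp]
  have hb2 : b ≫ Q.map (pC K) = inv (Q.map s) ≫ Q.map g := by
    have e3 : inv (Q.map (PC.map s)) ≫ Q.map (pC L') = Q.map (pC L) ≫ inv (Q.map s) := by
      rw [IsIso.eq_comp_inv, Category.assoc, ← Q.map_comp, ← pCnat, Q.map_comp,
        IsIso.inv_hom_id_assoc]
    simp only [b, Category.assoc]
    rw [← Q.map_comp, pCnat, Q.map_comp, reassoc_of% e3, ← Category.assoc, ← Q.map_comp, h3,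
      Q.map_id, Category.id_comp]
  rw [← hb2, hb', zero_comp]

end Roof

end Groth.Agent.Proet.DCAbs
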