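import Groth.Agent.Proet.DCSheaf
import Mathlib.CategoryTheory.Sites.ConstantSheaf
import Mathlib.CategoryTheory.Limits.FunctorCategory.EpiMono
import Mathlib.CategoryTheory.Adjunction.Evaluation
import Mathlib.Algebra.Category.ModuleCat.AB

/-!
# The left adjoint of sections over an object of the pro-etale site
-/

set_option autoImplicit false
universe u

open CategoryTheory CategoryTheory.Limits AlgebraicGeometry Opposite

namespace Groth.Agent.Proet.DCAdj

open DCSect DCProd DCSheaf

section Mates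

/-- Natural endomorphisms along an adjunction. -/
theorem cen_left {A B : Type*} [Category A] [Category B] {L : B ⥤ A} {R : A ⥤ B} (adj : L ⊣ R)
    (θ : Cen A) (ρ : Cen B) (h : ∀ F, R.map (θ.app F) = ρ.app (R.obj F)) (M : B) :
    θ.app (L.obj M) = L.map (ρ.app M) := by
  apply (adj.homEquiv _ _).injective
  rw [Adjunction.homEquiv_unit, Adjunction.homEquiv_unit, h]
  have h1 : adj.unit.app M ≫ ρ.app (R.obj (L.obj M)) = ρ.app M ≫ adj.unit.app M := ρ.nat _
  rw [h1]
  exact adj.unit.naturality (ρ.app M)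

end Mates

variable {X : Scheme.{u}} {Λ : Type (u + 1)} [CommRing Λ]

/-- Multiplication by `f` on modules. -/
noncomputable def cenMod {Λ : Type (u + 1)} [CommRing Λ] (f : Λ) :
    Cen (ModuleCat.{u + 1} Λ) where
  app M := ModuleCat.ofHom (f • LinearMap.id)
  nat {M N} g := by
    ext x
    exact (g.hom.map_smul f x).symm

/-- Sections over `U`. -/
noncomputable abbrev RU (Λ : Type (u + 1)) [CommRing Λ] (U : X.ProEt) :
    EtModW.ModP Λ X ⥤ ModuleCat.{u + 1} Λ :=
  (sheafSections (Scheme.ProEt.topology X) (ModuleCat.{u + 1} Λ)).obj (op U)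

/-- The left adjoint of sections over `U`. -/
noncomputable def LU (Λ : Type (u + 1)) [CommRing Λ] (U : X.ProEt) :
    ModuleCat.{u + 1} Λ ⥤ EtModW.ModP Λ X :=
  constantSheaf ((Scheme.ProEt.topology X).over U) (ModuleCat.{u + 1} Λ) ⋙
    ProEtDC.extZeroModP Λ U

theorem LU_obj (U : X.ProEt) (M : Type (u + 1)) [AddCommGroup M] [Module Λ M] :
    (LU Λ U).obj (ModuleCat.of Λ M) = (ProEtDC.extZeroModP Λ U).obj (ProEtDC.constOverP Λ U M) :=
  rfl

/-- The adjunction. -/
noncomputable def adjU (Λ : Type (u + 1)) [CommRing Λ] (U : X.ProEt) : LU Λ U ⊣ RU Λ U :=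
  ((constantSheafAdj ((Scheme.ProEt.topology X).over U) (ModuleCat.{u + 1} Λ)
    Over.mkIdTerminal).comp ((Over.forget U).sheafAdjunctionContinuous (ModuleCat.{u + 1} Λ)
      ((Scheme.ProEt.topology X).over U) (Scheme.ProEt.topology X))).ofNatIsoRight
    (NatIso.ofComponents (fun F => Iso.refl _) (fun g => by
      simp only [Iso.refl_hom]
      rfl))

theorem cen_LU (f : Λ) (U : X.ProEt) (M : ModuleCat.{u + 1} Λ) :
    (cen X f).app ((LU Λ U).obj M) = (LU Λ U).map ((cenMod f).app M) :=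
  cen_left (adjU Λ U) _ _ (fun _ => rfl) M

/-- Coproducts of monomorphisms of modules are monomorphisms. -/
theorem mono_sigma {ι : Type u} {M N : ModuleCat.{u + 1} Λ} (g : M ⟶ N) [Mono g]
    [HasColimitsOfShape (Discrete ι) (ModuleCat.{u + 1} Λ)] :
    Mono (Sigma.desc (fun h : ι => g ≫ Sigma.ι (fun _ : ι => N) h) :
      (∐ fun _ : ι => M) ⟶ ∐ fun _ : ι => N) := by
  have h1 : HasCoproducts.{u} (ModuleCat.{u + 1} Λ) := hasCoproducts_shrink.{u, u + 1}
  have h2 : AB4OfSize.{u} (ModuleCat.{u + 1} Λ) := AB4OfSize_shrink.{u, u + 1} _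
  have h3 : HasExactColimitsOfShape (Discrete ι) (ModuleCat.{u + 1} Λ) := h2.ofShape ι
  have h4 : PreservesFiniteLimits (colim (J := Discrete ι) (C := ModuleCat.{u + 1} Λ)) :=
    h3.preservesFiniteLimits
  let τ : Discrete.functor (fun _ : ι => M) ⟶ Discrete.functor (fun _ : ι => N) :=
    Discrete.natTrans (fun _ => g)
  have h5 : Mono τ := by
    have : ∀ c, Mono (τ.app c) := fun c => inferInstanceAs (Mono g)
    exact NatTrans.mono_of_mono_app _
  have h6 : Mono (colim.map τ) := inferInstance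
  have h7 : (Sigma.desc (fun h : ι => g ≫ Sigma.ι (fun _ : ι => N) h) :
      (∐ fun _ : ι => M) ⟶ ∐ fun _ : ι => N) = colim.map τ := by
    apply Sigma.hom_ext
    intro i
    rw [Sigma.ι_desc]
    exact (ι_colimMap τ ⟨i⟩).symm
  rw [h7]
  exact h6

/-- `LU` preserves monomorphisms. -/
instance (U : X.ProEt) : (LU Λ U).PreservesMonomorphisms := by
  have h1 : HasCoproducts.{u} (ModuleCat.{u + 1} Λ) := hasCoproducts_shrink.{u, u + 1}
  have hc (a b : X.ProEtᵒᵖ) : HasCoproductsOfShape (a ⟶ b) (ModuleCat.{u + 1} Λ) := h1 _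
  let G : ModuleCat.{u + 1} Λ ⥤ EtModW.ModP Λ X :=
    evaluationLeftAdjoint (ModuleCat.{u + 1} Λ) (op U) ⋙
      presheafToSheaf (Scheme.ProEt.topology X) (ModuleCat.{u + 1} Λ)
  let adjG : G ⊣ RU Λ U :=
    (evaluationAdjunctionRight (ModuleCat.{u + 1} Λ) (op U)).comp (sheafificationAdjunction _ _)
  let e : LU Λ U ≅ G := (adjU Λ U).leftAdjointUniq adjG
  have : (evaluationLeftAdjoint (ModuleCat.{u + 1} Λ) (op U)).PreservesMonomorphisms := by
    constructor
    intro M N g hg
    have h (t : X.ProEtᵒᵖ) :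
        Mono (((evaluationLeftAdjoint (ModuleCat.{u + 1} Λ) (op U)).map g).app t) :=
      mono_sigma g
    exact NatTrans.mono_of_mono_app _
  have : G.PreservesMonomorphisms := inferInstance
  exact Functor.PreservesMonomorphisms.of_iso e.symm

end Groth.Agent.Proet.DCAdj
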