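import Mathlib.RingTheory.MvPolynomial.Ideal
import Mathlib.Algebra.Order.Antidiag.Finsupp
import Mathlib.RingTheory.Filtration
import Mathlib.RingTheory.Flat.EquationalCriterion
import Mathlib.Data.Finsupp.Fin
import Mathlib.RingTheory.Polynomial.Basic

/-!
# Derived complete modules: elementary algebra

`IsDC f M` : the telescope map `(x_n) ↦ (x_n - f x_{n+1})` on `ℕ → M` is bijective.
-/

set_option autoImplicit false
universe u v w

namespace Groth.Agent.Proet.DCAlg

variable {Λ : Type u} [CommRing Λ]

section One

variable (f : Λ) (M : Type v) [AddCommGroup M] [Module Λ M]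

/-- The telescope map `(x_n) ↦ (x_n - f x_{n+1})`. -/
def tel : (ℕ → M) →ₗ[Λ] (ℕ → M) where
  toFun x n := x n - f • x (n + 1)
  map_add' x y := by
    funext n
    simp only [Pi.add_apply, smul_add]
    abel
  map_smul' a x := by
    funext n
    simp only [Pi.smul_apply, RingHom.id_apply, smul_sub, smul_comm f a]

@[simp] theorem tel_apply (x : ℕ → M) (n : ℕ) : tel f M x n = x n - f • x (n + 1) := rfl

/-- Derived completeness of a module with respect to a single element. -/
def IsDC : Prop := Function.Bijective (tel f M)

variable {f M}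

theorem IsDC.eq_zero (h : IsDC f M) {x : ℕ → M} (hx : ∀ n, x n = f • x (n + 1)) : x = 0 := by
  apply h.1
  funext n
  rw [tel_apply, hx n, sub_self, map_zero]
  rfl

/-- The infinite sum `∑ f^n m_n`. -/
noncomputable def IsDC.sum (h : IsDC f M) : (ℕ → M) →ₗ[Λ] M :=
  (LinearMap.proj 0).comp (LinearEquiv.ofBijective (tel f M) h).symm.toLinearMap

theorem IsDC.sum_eq (h : IsDC f M) {m x : ℕ → M} (hx : ∀ n, x n - f • x (n + 1) = m n) :
    h.sum m = x 0 := by
  have h1 : (LinearEquiv.ofBijective (tel f M) h).symm m = x := by
    rw [LinearEquiv.symm_apply_eq]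
    funext n
    exact (hx n).symm
  change (LinearEquiv.ofBijective (tel f M) h).symm m 0 = x 0
  rw [h1]

theorem IsDC.exists_eq (h : IsDC f M) (m : ℕ → M) : ∃ x : ℕ → M, (∀ n, x n - f • x (n + 1) = m n) ∧
    h.sum m = x 0 := by
  obtain ⟨x, hx⟩ := h.2 m
  have hx' : ∀ n, x n - f • x (n + 1) = m n := fun n => congrFun hx n
  exact ⟨x, hx', h.sum_eq hx'⟩

theorem IsDC.sum_zero_cons (h : IsDC f M) (m : ℕ → M) :
    h.sum (fun n => if n = 0 then 0 else m (n - 1)) = f • h.sum m := by
  obtain ⟨x, hx, e⟩ := h.exists_eq m
  rw [e]
  refine (h.sum_eq (x := fun n => if n = 0 then f • x 0 else x (n - 1)) fun n => ?_).trans ?_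
  · rcases n with _ | n
    · simp
    · simpa using hx n
  · simp

theorem IsDC.sum_single (h : IsDC f M) (y : M) :
    h.sum (fun n => if n = 0 then y else 0) = y := by
  refine (h.sum_eq (x := fun n => if n = 0 then y else 0) fun n => ?_).trans (by simp)
  simp

end One

/-! ### Several variables -/

section Multi

open Finsupp

variable {r : ℕ}

/-- Multiplication by the variable `x_i` on "power series" `(Fin r →₀ ℕ) → N`. -/
noncomputable def up {N : Type v} [Zero N] (i : Fin r) (b : (Fin r →₀ ℕ) → N) : (Fin r →₀ ℕ) → N :=
  fun α => if α i = 0 then 0 else b (α - single i 1)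

theorem cons_eq_zero_iff {r : ℕ} (n : ℕ) (α : Fin r →₀ ℕ) :
    Finsupp.cons n α = 0 ↔ n = 0 ∧ α = 0 := by
  constructor
  · intro h
    constructor
    · have := DFunLike.congr_fun h 0
      simpa using this
    · ext j
      have := DFunLike.congr_fun h j.succ
      simpa using this
  · rintro ⟨rfl, rfl⟩
    exact Finsupp.cons_zero_zero

theorem cons_sub_single_succ {r : ℕ} (n : ℕ) (α : Fin r →₀ ℕ) (j : Fin r) :
    Finsupp.cons n α - single j.succ 1 = Finsupp.cons n (α - single j 1) := by
  ext k
  refine Fin.cases ?_ (fun k => ?_) k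
  · simp
  · simp [Finsupp.single_apply]

theorem cons_sub_single_zero {r : ℕ} (n : ℕ) (α : Fin r →₀ ℕ) :
    Finsupp.cons n α - single 0 1 = Finsupp.cons (n - 1) α := by
  ext k
  refine Fin.cases ?_ (fun k => ?_) k
  · simp
  · simp

variable {M : Type v} [AddCommGroup M] [Module Λ M]

/-- The operator `(m_α) ↦ ∑ f^α m_α` on a derived complete module. -/
theorem exists_sum {r : ℕ} (f : Fin r → Λ) (h : ∀ i, IsDC (f i) M) :
    ∃ S : ((Fin r →₀ ℕ) → M) →ₗ[Λ] M, (∀ m : M, S (fun α => if α = 0 then m else 0) = m) ∧
      ∀ (i : Fin r) (b : (Fin r →₀ ℕ) → M), S (up i b) = f i • S b := by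
  induction r with
  | zero =>
    refine ⟨LinearMap.proj 0, fun m => by simp, fun i => i.elim0⟩
  | succ r ih =>
    obtain ⟨S, hS1, hS2⟩ := ih (fun i => f i.succ) (fun i => h i.succ)
    let C : ((Fin (r + 1) →₀ ℕ) → M) →ₗ[Λ] (ℕ → M) :=
      LinearMap.pi fun n => S.comp (LinearMap.funLeft Λ M (Finsupp.cons n))
    have hC : ∀ b n, C b n = S (fun α => b (Finsupp.cons n α)) := fun b n => rfl
    refine ⟨(h 0).sum.comp C, fun m => ?_, fun i b => ?_⟩
    · rw [LinearMap.comp_apply]
      have : C (fun α => if α = 0 then m else 0) = fun n => if n = 0 then m else 0 := by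
        funext n
        rw [hC]
        by_cases hn : n = 0
        · simp only [cons_eq_zero_iff, hn, true_and, if_true]
          exact hS1 m
        · simp only [cons_eq_zero_iff, hn, false_and, if_false]
          exact map_zero S
      rw [this, IsDC.sum_single]
    · rw [LinearMap.comp_apply, LinearMap.comp_apply]
      refine Fin.cases ?_ (fun j => ?_) i
      · rw [← IsDC.sum_zero_cons]
        congr 1
        funext n
        rw [hC]
        by_cases hn : n = 0
        · subst hn
          simp only [if_true]
          have : (fun α => up (0 : Fin (r + 1)) b (Finsupp.cons 0 α)) = 0 := by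
            funext α
            simp [up]
          rw [this, map_zero]
        · simp only [hn, if_false, hC]
          congr 1
          funext α
          simp [up, hn, cons_sub_single_zero]
      · rw [← map_smul]
        congr 1
        funext n
        rw [Pi.smul_apply, hC, hC, ← hS2]
        congr 1
        funext α
        simp [up, cons_sub_single_succ]

/-- Uniqueness: an additive map from "power series" to a derived complete module compatible with
the variables is determined by its values on constants. -/
theorem eq_zero_of_up {r : ℕ} {N : Type w} [AddCommGroup N] (f : Fin r → Λ)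
    (h : ∀ i, IsDC (f i) M) (D : ((Fin r →₀ ℕ) → N) →+ M)
    (h0 : ∀ m : N, D (fun α => if α = 0 then m else 0) = 0)
    (hup : ∀ (i : Fin r) (b : (Fin r →₀ ℕ) → N), D (up i b) = f i • D b) : D = 0 := by
  induction r with
  | zero =>
    refine AddMonoidHom.ext fun b => ?_
    have : b = fun α => if α = 0 then b 0 else 0 := by
      funext α
      have : α = 0 := Subsingleton.elim _ _
      simp [this]
    rw [this, h0]
    rfl
  | succ r ih =>
    -- extension by zero
    let E : ((Fin r →₀ ℕ) → N) →+ ((Fin (r + 1) →₀ ℕ) → N) :=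
      { toFun := fun b α => if α 0 = 0 then b (Finsupp.tail α) else 0
        map_zero' := by funext α; simp
        map_add' := fun b c => by
          funext α
          by_cases hα : α 0 = 0 <;> simp [hα] }
    have hE : ∀ b α, E b α = if α 0 = 0 then b (Finsupp.tail α) else 0 := fun _ _ => rfl
    have hD : D.comp E = 0 := by
      refine ih (fun i => f i.succ) (fun i => h i.succ) (D.comp E) (fun m => ?_) (fun i b => ?_)
      · rw [AddMonoidHom.comp_apply]
        have : E (fun α => if α = 0 then m else 0) = fun α => if α = 0 then m else 0 := by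
          funext α
          rw [hE]
          obtain ⟨n, β, rfl⟩ : ∃ n β, α = Finsupp.cons n β := ⟨_, _, (Finsupp.cons_tail α).symm⟩
          by_cases hn : n = 0
          · simp [hn, cons_eq_zero_iff]
          · simp [hn, cons_eq_zero_iff]
        rw [this, h0]
      · rw [AddMonoidHom.comp_apply, AddMonoidHom.comp_apply, ← hup]
        congr 1
        funext α
        obtain ⟨n, β, rfl⟩ : ∃ n β, α = Finsupp.cons n β := ⟨_, _, (Finsupp.cons_tail α).symm⟩
        by_cases hn : n = 0
        · simp [hE, up, hn, cons_sub_single_succ]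
        · simp [hE, up, hn, cons_sub_single_succ]
    refine AddMonoidHom.ext fun b => ?_
    let y : ℕ → ((Fin (r + 1) →₀ ℕ) → N) := fun n α => b (α + single 0 n)
    have hy : ∀ n, y n = E (fun β => y n (Finsupp.cons 0 β)) + up 0 (y (n + 1)) := by
      intro n
      funext α
      obtain ⟨k, β, rfl⟩ : ∃ k β, α = Finsupp.cons k β := ⟨_, _, (Finsupp.cons_tail α).symm⟩
      rw [Pi.add_apply, hE]
      by_cases hk : k = 0
      · simp [hk, up]
      · simp only [Finsupp.cons_zero, hk, if_false, zero_add, up]
        change b _ = b _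
        congr 1
        ext l
        refine Fin.cases ?_ (fun l => ?_) l
        · simp
          omega
        · simp
    have h1 : (fun n => D (y n)) = 0 := by
      refine (h 0).eq_zero fun n => ?_
      rw [hy n, map_add, hup]
      have : D (E (fun β => y n (Finsupp.cons 0 β))) = 0 := DFunLike.congr_fun hD _
      rw [this, zero_add]
    have h2 : y 0 = b := by
      funext α
      simp [y]
    rw [← h2]
    exact congrFun h1 0

end Multi

end Groth.Agent.Proet.DCAlg
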