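import Groth.Agent.Proet.DCAlg

/-!
# Artin-Rees for "power series" with coefficients in a flat module

If `A` is flat over the Noetherian ring `Λ` and `(b_α)` is a family whose partial sums
`∑_{|α| < n} f^α b_α` lie in `I^n A` for all `n`, `I = (f_1, …, f_r)`, then
`b = ∑_i (x_i - f_i) g_i`.
-/

set_option autoImplicit false
universe u v w

namespace Groth.Agent.Proet.DCAlg

open Finsupp

variable {Λ : Type u} [CommRing Λ] {r : ℕ}

/-- The monomial `f^α`. -/
noncomputable def mon (f : Fin r → Λ) (α : Fin r →₀ ℕ) : Λ := α.prod fun i k => f i ^ k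

/-- The finite set of exponents of degree `n`. -/
noncomputable def dg (r n : ℕ) : Finset (Fin r →₀ ℕ) := Finset.univ.finsuppAntidiag n

theorem mem_dg {n : ℕ} {α : Fin r →₀ ℕ} : α ∈ dg r n ↔ degree α = n := by
  simp [dg, Finsupp.degree_eq_sum]

theorem eval_monomial_one (f : Fin r → Λ) (α : Fin r →₀ ℕ) (a : Λ) :
    MvPolynomial.eval f (MvPolynomial.monomial α a) = mon f α * a := by
  rw [MvPolynomial.eval_monomial, mul_comm]
  rfl

open MvPolynomial in
theorem sub_C_eval_mem (f : Fin r → Λ) (P : MvPolynomial (Fin r) Λ) :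
    P - C (eval f P) ∈ Ideal.span (Set.range fun i : Fin r => (X i - C (f i) : MvPolynomial (Fin r) Λ)) := by
  induction P using MvPolynomial.induction_on with
  | C a => simp
  | add p q hp hq =>
    have : p + q - C (eval f (p + q)) = (p - C (eval f p)) + (q - C (eval f q)) := by
      simp only [map_add]; ring
    rw [this]
    exact Ideal.add_mem _ hp hq
  | mul_X p i hp =>
    have : p * X i - C (eval f (p * X i)) = X i * (p - C (eval f p)) +
        C (eval f p) * (X i - C (f i)) := by
      simp only [map_mul, eval_X]; ring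
    rw [this]
    exact Ideal.add_mem _ (Ideal.mul_mem_left _ _ hp)
      (Ideal.mul_mem_left _ _ (Ideal.subset_span ⟨i, rfl⟩))

open MvPolynomial in
/-- Artin-Rees for the ideal `(x_i - f_i)` of the polynomial ring. -/
theorem artin_rees [IsNoetherianRing Λ] (f : Fin r → Λ) :
    ∃ c : ℕ, ∀ (n : ℕ) (P : MvPolynomial (Fin r) Λ), (∀ α, degree α < n → coeff α P = 0) →
      eval f P = 0 → ∃ h : Fin r → MvPolynomial (Fin r) Λ,
        (∀ i α, degree α + c < n → coeff α (h i) = 0) ∧ P = ∑ i, h i * (X i - C (f i)) := by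
  let J : Ideal (MvPolynomial (Fin r) Λ) :=
    Ideal.span (Set.range fun i : Fin r => (X i - C (f i) : MvPolynomial (Fin r) Λ))
  obtain ⟨c, hc⟩ := Ideal.exists_pow_inf_eq_pow_smul (idealOfVars (Fin r) Λ)
    (J : Submodule (MvPolynomial (Fin r) Λ) (MvPolynomial (Fin r) Λ))
  have key : ∀ (n : ℕ) (P : MvPolynomial (Fin r) Λ), P ∈ idealOfVars (Fin r) Λ ^ n → P ∈ J →
      P ∈ idealOfVars (Fin r) Λ ^ (n - c) • (J : Submodule (MvPolynomial (Fin r) Λ)
        (MvPolynomial (Fin r) Λ)) := by
    intro n P hP hJ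
    by_cases hn : c ≤ n
    · have h1 : P ∈ idealOfVars (Fin r) Λ ^ n • (⊤ : Submodule (MvPolynomial (Fin r) Λ)
          (MvPolynomial (Fin r) Λ)) ⊓ J := by
        refine ⟨?_, hJ⟩
        rw [smul_eq_mul, Ideal.mul_top]
        exact hP
      rw [hc n hn] at h1
      have h2 : idealOfVars (Fin r) Λ ^ (n - c) • (idealOfVars (Fin r) Λ ^ c •
          (⊤ : Submodule (MvPolynomial (Fin r) Λ) (MvPolynomial (Fin r) Λ)) ⊓ J) ≤
          idealOfVars (Fin r) Λ ^ (n - c) • (J : Submodule (MvPolynomial (Fin r) Λ)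
            (MvPolynomial (Fin r) Λ)) := Submodule.smul_mono le_rfl inf_le_right
      exact h2 h1
    · have : n - c = 0 := by omega
      rw [this, pow_zero, smul_eq_mul, Ideal.one_eq_top, Ideal.top_mul]
      exact hJ
  refine ⟨c, fun n P hP hev => ?_⟩
  have h1 : P ∈ J := by
    have := sub_C_eval_mem f P
    rwa [hev, map_zero, sub_zero] at this
  have h2 := key n P ((mem_pow_idealOfVars_iff' n P).2 hP) h1
  obtain ⟨a, ha, hsum⟩ := (Submodule.mem_ideal_smul_span_iff_exists_sum _
    (fun i : Fin r => (X i - C (f i) : MvPolynomial (Fin r) Λ)) P).1 h2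
  refine ⟨fun i => a i, fun i α hα => ?_, ?_⟩
  · exact (mem_pow_idealOfVars_iff' _ _).1 (ha i) α (by omega)
  · rw [← hsum, Finsupp.sum_fintype _ _ (fun i => by simp)]
    rfl

variable {A : Type v} [AddCommGroup A] [Module Λ A]

open MvPolynomial in
/-- Artin-Rees for polynomials with coefficients in a flat module. -/
theorem artin_rees_flat [IsNoetherianRing Λ] [Module.Flat Λ A] (f : Fin r → Λ) :
    ∃ c : ℕ, ∀ (n : ℕ) (b : (Fin r →₀ ℕ) → A) (s : Finset (Fin r →₀ ℕ)),
      (∀ α ∈ s, n ≤ degree α) → (∀ α, α ∉ s → b α = 0) → ∑ α ∈ s, mon f α • b α = 0 →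
      ∃ g : Fin r → (Fin r →₀ ℕ) → A, (∀ i α, degree α + c < n → g i α = 0) ∧
        b = ∑ i, (up i (g i) - f i • g i) := by
  classical
  obtain ⟨c, hc⟩ := artin_rees f
  refine ⟨c, fun n b s hs hb hsum => ?_⟩
  have hsum' : ∑ α : s, mon f (α : Fin r →₀ ℕ) • b α = 0 := by
    rw [← hsum]
    exact Finset.sum_coe_sort s (fun α => mon f α • b α)
  obtain ⟨k, a, y, ha, hk⟩ := Module.Flat.isTrivialRelation_of_sum_smul_eq_zero hsum'
  let P : Fin k → MvPolynomial (Fin r) Λ := fun j =>
    ∑ α : s, monomial (α : Fin r →₀ ℕ) (a α j)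
  have hPc : ∀ j α, coeff α (P j) = if h : α ∈ s then a ⟨α, h⟩ j else 0 := by
    intro j α
    simp only [P, coeff_sum, coeff_monomial]
    by_cases h : α ∈ s
    · rw [Finset.sum_eq_single (⟨α, h⟩ : s)]
      · simp [h]
      · intro β _ hβ
        rw [if_neg]
        intro e
        exact hβ (Subtype.ext e)
      · intro h'
        exact absurd (Finset.mem_univ _) h'
    · rw [dif_neg h]
      refine Finset.sum_eq_zero fun β _ => ?_
      rw [if_neg]
      rintro rfl
      exact h β.2
  have hP0 : ∀ j α, degree α < n → coeff α (P j) = 0 := by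
    intro j α hα
    rw [hPc, dif_neg]
    intro h
    exact absurd (hs α h) (by omega)
  have hPe : ∀ j, eval f (P j) = 0 := by
    intro j
    simp only [P, map_sum, eval_monomial_one]
    exact hk j
  choose h hh0 hh using fun j => hc n (P j) (hP0 j) (hPe j)
  refine ⟨fun i α => ∑ j, coeff α (h j i) • y j, fun i α hα => ?_, ?_⟩
  · refine Finset.sum_eq_zero fun j _ => ?_
    rw [hh0 j i α hα, zero_smul]
  · funext α
    have h1 : b α = ∑ j, coeff α (P j) • y j := by
      by_cases hα : α ∈ s
      · simp only [hPc, dif_pos hα]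
        exact ha ⟨α, hα⟩
      · simp only [hPc, dif_neg hα, zero_smul, Finset.sum_const_zero]
        exact hb α hα
    have h2 : ∀ j i, coeff α (h j i * (X i - C (f i))) • y j =
        (if α i = 0 then 0 else coeff (α - single i 1) (h j i) • y j) -
          f i • coeff α (h j i) • y j := by
      intro j i
      rw [mul_sub, coeff_sub, mul_comm _ (X i), mul_comm _ (C (f i)), coeff_C_mul, coeff_X_mul',
        sub_smul, mul_smul]
      congr 1
      by_cases hi : α i = 0
      · simp [hi]
      · simp [hi]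
    rw [h1]
    have h3 : ∀ j, coeff α (P j) • y j = ∑ i, coeff α (h j i * (X i - C (f i))) • y j := by
      intro j
      conv_lhs => rw [hh j]
      rw [coeff_sum, Finset.sum_smul]
    simp only [h3, h2]
    rw [Finset.sum_comm, Finset.sum_apply]
    refine Finset.sum_congr rfl fun i _ => ?_
    rw [Finset.sum_sub_distrib, Pi.sub_apply, Pi.smul_apply, Finset.smul_sum]
    congr 1
    by_cases hi : α i = 0
    · simp [hi, up]
    · simp [hi, up]

/-- Elements of `I^n M` are combinations of the monomials of degree `n`. -/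
theorem exists_of_mem_pow_smul (f : Fin r → Λ) (n : ℕ) (x : A)
    (hx : x ∈ (Ideal.span (Set.range f)) ^ n • (⊤ : Submodule Λ A)) :
    ∃ e : (Fin r →₀ ℕ) → A, (∀ α, degree α ≠ n → e α = 0) ∧ x = ∑ α ∈ dg r n, mon f α • e α := by
  classical
  have hI : (Ideal.span (Set.range f)) ^ n = Ideal.span (mon f '' (dg r n : Set (Fin r →₀ ℕ))) := by
    have h1 : Ideal.span (Set.range f) =
        Ideal.map (MvPolynomial.eval f) (MvPolynomial.idealOfVars (Fin r) Λ) := by
      rw [MvPolynomial.idealOfVars, Ideal.map_span, ← Set.range_comp]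
      congr 2
      funext i
      simp
    rw [h1, ← Ideal.map_pow, MvPolynomial.pow_idealOfVars_eq_span, Ideal.map_span, Set.image_image]
    congr 1
    ext a
    simp only [Set.mem_image, Set.mem_preimage, Set.mem_singleton_iff, Finset.mem_coe, mem_dg,
      eval_monomial_one, mul_one]
  rw [hI] at hx
  refine Submodule.smul_induction_on hx ?_ ?_
  · intro a ha m _
    rw [Ideal.span, Submodule.mem_span_image_finset_iff_exists_fun'] at ha
    obtain ⟨c, rfl⟩ := ha
    refine ⟨fun α => if degree α = n then c α • m else 0, fun α hα => if_neg hα, ?_⟩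
    rw [Finset.sum_smul]
    refine Finset.sum_congr rfl fun α hα => ?_
    simp only [if_pos (mem_dg.1 hα)]
    rw [smul_eq_mul, mul_comm, mul_smul]
  · rintro x y ⟨e, he, rfl⟩ ⟨e', he', rfl⟩
    refine ⟨e + e', fun α hα => ?_, ?_⟩
    · rw [Pi.add_apply, he α hα, he' α hα, add_zero]
    · rw [← Finset.sum_add_distrib]
      simp

/-- The key telescoping lemma. -/
theorem exists_eq_sum_up [IsNoetherianRing Λ] [Module.Flat Λ A] (f : Fin r → Λ)
    (b : (Fin r →₀ ℕ) → A)
    (hb : ∀ n : ℕ, ∑ k ∈ Finset.range n, ∑ α ∈ dg r k, mon f α • b α ∈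
      (Ideal.span (Set.range f)) ^ n • (⊤ : Submodule Λ A)) :
    ∃ g : Fin r → (Fin r →₀ ℕ) → A, b = ∑ i, (up i (g i) - f i • g i) := by
  classical
  obtain ⟨c, hc⟩ := artin_rees_flat (A := A) f
  choose e he hes using fun n => exists_of_mem_pow_smul f n _ (hb n)
  have he0 : e 0 = 0 := by
    funext α
    by_cases hα : degree α = 0
    · have h1 : α = 0 := (Finsupp.degree_eq_zero_iff α).1 hα
      subst h1
      have h2 := hes 0
      have h3 : dg r 0 = {0} := by
        ext β
        rw [mem_dg, Finset.mem_singleton, Finsupp.degree_eq_zero_iff]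
      rw [Finset.range_zero, Finset.sum_empty, h3, Finset.sum_singleton] at h2
      rw [Pi.zero_apply]
      simpa [mon] using h2.symm
    · exact he 0 α hα
  -- the polynomials `P_n`
  let P : ℕ → (Fin r →₀ ℕ) → A := fun n α =>
    (if degree α = n then b α else 0) + e n α - e (n + 1) α
  have hdisj : ∀ n, Disjoint (dg r n) (dg r (n + 1)) := by
    intro n
    rw [Finset.disjoint_left]
    intro α h1 h2
    rw [mem_dg] at h1 h2
    omega
  have hPsum : ∀ n, ∑ α ∈ dg r n ∪ dg r (n + 1), mon f α • P n α = 0 := by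
    intro n
    rw [Finset.sum_union (hdisj n)]
    have h1 : ∑ α ∈ dg r n, mon f α • P n α =
        ∑ α ∈ dg r n, mon f α • b α + ∑ α ∈ dg r n, mon f α • e n α := by
      rw [← Finset.sum_add_distrib]
      refine Finset.sum_congr rfl fun α hα => ?_
      rw [mem_dg] at hα
      simp only [P, hα, if_true, he (n + 1) α (by omega), sub_zero, smul_add]
    have h2 : ∑ α ∈ dg r (n + 1), mon f α • P n α =
        - ∑ α ∈ dg r (n + 1), mon f α • e (n + 1) α := by
      rw [← Finset.sum_neg_distrib]
      refine Finset.sum_congr rfl fun α hα => ?_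
      rw [mem_dg] at hα
      have h3 : degree α ≠ n := by omega
      simp only [P, h3, if_false, he n α h3, add_zero, zero_sub, smul_neg]
    rw [h1, h2, ← hes n, ← hes (n + 1), Finset.sum_range_succ]
    abel
  have hP0 : ∀ n α, α ∉ dg r n ∪ dg r (n + 1) → P n α = 0 := by
    intro n α hα
    rw [Finset.mem_union, mem_dg, mem_dg, not_or] at hα
    simp only [P, hα.1, if_false, he n α hα.1, he (n + 1) α hα.2, add_zero, sub_zero]
  choose g hg0 hg using fun n => hc n (P n) (dg r n ∪ dg r (n + 1)) (by
    intro α hα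
    rw [Finset.mem_union, mem_dg, mem_dg] at hα
    omega) (hP0 n) (hPsum n)
  -- the sum of the `P_n`
  have htel : ∀ N α, ∑ n ∈ Finset.range N, P n α = (if degree α < N then b α else 0) - e N α := by
    intro N α
    induction N with
    | zero => simp [he0]
    | succ N ih =>
      rw [Finset.sum_range_succ, ih]
      simp only [P]
      by_cases h1 : degree α < N
      · rw [if_pos h1, if_neg (by omega), if_pos (by omega)]
        abel
      · by_cases h2 : degree α = N
        · rw [if_neg h1, if_pos h2, if_pos (by omega)]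
          abel
        · rw [if_neg h1, if_neg h2, if_neg (by omega)]
          abel
  let G : Fin r → (Fin r →₀ ℕ) → A := fun i α => ∑ n ∈ Finset.range (degree α + c + 1), g n i α
  have hG : ∀ i α N, degree α + c + 1 ≤ N → ∑ n ∈ Finset.range N, g n i α = G i α := by
    intro i α N hN
    symm
    refine Finset.sum_subset (Finset.range_subset_range.2 hN) fun n _ hn => ?_
    refine hg0 n i α ?_
    rw [Finset.mem_range] at hn
    omega
  refine ⟨G, ?_⟩
  funext α
  have hN := htel (degree α + c + 1) α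
  rw [if_pos (by omega), he _ α (by omega), sub_zero] at hN
  rw [← hN, Finset.sum_apply]
  have h4 : ∀ n, P n α = ∑ i, (up i (g n i) α - f i • g n i α) := by
    intro n
    conv_lhs => rw [hg n]
    rw [Finset.sum_apply]
    rfl
  simp only [h4]
  rw [Finset.sum_comm]
  refine Finset.sum_congr rfl fun i _ => ?_
  rw [Finset.sum_sub_distrib, ← Finset.smul_sum, hG i α _ le_rfl, Pi.sub_apply, Pi.smul_apply]
  congr 1
  by_cases hi : α i = 0
  · simp [up, hi]
  · simp only [up, hi, if_false]
    refine hG i _ _ ?_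
    have : degree (α - single i 1) ≤ degree α := by
      apply Finsupp.degree_mono
      exact tsub_le_self
    omega

theorem up_comp {N : Type v} {M : Type w} [AddCommGroup N] [AddCommGroup M] (σ : N →+ M) (i : Fin r)
    (b : (Fin r →₀ ℕ) → N) : (fun α => σ (up i b α)) = up i (fun α => σ (b α)) := by
  funext α
  by_cases hi : α i = 0
  · simp [up, hi]
  · simp [up, hi]

/-- The sum operator kills the kernel of `A[[x]] → lim A / I^n A`. -/
theorem sum_eq_zero [IsNoetherianRing Λ] [Module.Flat Λ A] {M : Type w} [AddCommGroup M]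
    [Module Λ M] (f : Fin r → Λ) (S : ((Fin r →₀ ℕ) → M) →ₗ[Λ] M)
    (hS : ∀ (i : Fin r) (b : (Fin r →₀ ℕ) → M), S (up i b) = f i • S b)
    (σ : A →ₗ[Λ] M) (b : (Fin r →₀ ℕ) → A)
    (hb : ∀ n : ℕ, ∑ k ∈ Finset.range n, ∑ α ∈ dg r k, mon f α • b α ∈
      (Ideal.span (Set.range f)) ^ n • (⊤ : Submodule Λ A)) :
    S (fun α => σ (b α)) = 0 := by
  obtain ⟨g, rfl⟩ := exists_eq_sum_up f b hb
  have h1 : (fun α => σ ((∑ i, (up i (g i) - f i • g i)) α)) =
      ∑ i, (up i (fun α => σ (g i α)) - f i • fun α => σ (g i α)) := by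
    funext α
    rw [Finset.sum_apply, Finset.sum_apply, map_sum]
    refine Finset.sum_congr rfl fun i _ => ?_
    rw [Pi.sub_apply, Pi.sub_apply, map_sub, Pi.smul_apply, Pi.smul_apply, map_smul]
    congr 1
    exact congrFun (up_comp σ.toAddMonoidHom i (g i)) α
  rw [h1, map_sum]
  refine Finset.sum_eq_zero fun i _ => ?_
  rw [map_sub, map_smul, hS, sub_self]

end Groth.Agent.Proet.DCAlg
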