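import Groth.Agent.Proet.DCProd
import Groth.Agent.Proet.DCAbs
import Mathlib.RingTheory.Nilpotent.Basic
import Mathlib.Algebra.Homology.ShortComplex.ShortExact

/-!
# Closure properties of `θ`-complete objects in an abelian category with exact countable products
-/

set_option autoImplicit false
universe w v u

open CategoryTheory CategoryTheory.Limits

namespace Groth.Agent.Proet.DCProd

theorem isIso_app_of_isColimit {A B J : Type*} [Category A] [Category B] [Category J]
    {P P' : A ⥤ B} (τ : P ⟶ P') {D : J ⥤ A} {c : Cocone D} (hc : IsColimit c)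
    [PreservesColimit D P] [PreservesColimit D P'] (h : ∀ j, IsIso (τ.app (D.obj j))) :
    IsIso (τ.app c.pt) := by
  have h' (j : J) : IsIso (τ.app (D.obj j)) := h j
  have h1 := isColimitOfPreserves P hc
  have h2 := isColimitOfPreserves P' hc
  let α : D ⋙ P ≅ D ⋙ P' := NatIso.ofComponents (fun j => asIso (τ.app (D.obj j)))
    (fun f => τ.naturality _)
  let e : P.obj c.pt ≅ P'.obj c.pt := IsColimit.coconePointsIsoOfNatIso h1 h2 α
  have : τ.app c.pt = e.hom := by
    apply h1.hom_ext
    intro j
    have e1 : (P.mapCocone c).ι.app j ≫ e.hom = α.hom.app j ≫ (P'.mapCocone c).ι.app j :=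
      IsColimit.comp_coconePointsIsoOfNatIso_hom h1 h2 α j
    rw [e1]
    exact τ.naturality (c.ι.app j)
  rw [this]
  infer_instance

variable {A : Type u} [Category.{v} A] [Abelian A] [HasLimitsOfShape (Discrete ℕ) A]

instance : (pow A).Additive where
  map_add {F G f g} := by
    apply hom_ext
    intro n
    simp only [map_proj, Preadditive.comp_add, Preadditive.add_comp]

instance : PreservesFiniteLimits (pow A) := by
  unfold pow
  have : PreservesFiniteLimits (Functor.const (Discrete ℕ) : A ⥤ _) := inferInstance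
  infer_instance

instance [HasExactLimitsOfShape (Discrete ℕ) A] : PreservesFiniteColimits (pow A) := by
  unfold pow
  have : PreservesFiniteColimits (Functor.const (Discrete ℕ) : A ⥤ _) := inferInstance
  infer_instance

instance [HasExactLimitsOfShape (Discrete ℕ) A] : (pow A).PreservesHomology := inferInstance

variable {θ : Cen A}

theorem FC.cokernel [HasExactLimitsOfShape (Discrete ℕ) A] {F G : A} (φ : F ⟶ G) (hF : FC θ F)
    (hG : FC θ G) : FC θ (cokernel φ) := by
  refine isIso_app_of_isColimit (telNat θ) (colimit.isColimit (parallelPair φ 0)) ?_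
  rintro (_ | _)
  · exact hF
  · exact hG

theorem FC.kernel {F G : A} (φ : F ⟶ G) (hF : FC θ F) (hG : FC θ G) : FC θ (kernel φ) := by
  refine FC.of_isLimit (limit.isLimit (parallelPair φ 0)) ?_
  rintro (_ | _)
  · exact hF
  · exact hG

theorem FC.ext [HasExactLimitsOfShape (Discrete ℕ) A] (S : ShortComplex A) (hS : S.ShortExact)
    (h1 : FC θ S.X₁) (h3 : FC θ S.X₃) : FC θ S.X₂ := by
  have h1' : IsIso (tel θ S.X₁) := h1
  have h3' : IsIso (tel θ S.X₃) := h3
  have hP := hS.map_of_exact (pow A)
  let φ : S.map (pow A) ⟶ S.map (pow A) :=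
    { τ₁ := tel θ S.X₁
      τ₂ := tel θ S.X₂
      τ₃ := tel θ S.X₃
      comm₁₂ := (tel_naturality θ S.f).symm
      comm₂₃ := (tel_naturality θ S.g).symm }
  have : IsIso φ.τ₁ := h1
  have : IsIso φ.τ₃ := h3
  exact ShortComplex.isIso₂_of_shortExact_of_isIso₁₃ φ hP hP

theorem FC.of_pow_eq_zero {F : A} (n : ℕ)
    (h : (show End F from θ.app F) ^ n = 0) : FC θ F := by
  let t : End F := θ.app F
  let T : End ((pow A).obj F) := lft (fun n => proj (n + 1) F ≫ θ.app F)
  have hT (m : ℕ) : T ^ m = lft (fun n => proj (n + m) F ≫ (t ^ m)) := by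
    induction m with
    | zero =>
      apply hom_ext
      intro n
      rw [lft_proj, pow_zero, pow_zero]
      exact (Category.id_comp _).trans (Category.comp_id _).symm
    | succ m ih =>
      have e1 : T ^ (m + 1) = T ≫ (T ^ m) := _root_.pow_succ T m
      have e2 : t ^ (m + 1) = t ≫ (t ^ m) := _root_.pow_succ t m
      rw [e1, e2, ih]
      apply hom_ext
      intro n
      rw [Category.assoc, lft_proj, lft_proj, ← Category.assoc]
      have e3 : T ≫ proj (n + m) F = proj (n + m + 1) F ≫ θ.app F := lft_proj _ _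
      rw [e3, Category.assoc]
      rfl
  have hT0 : T ^ n = 0 := by
    rw [hT]
    apply hom_ext
    intro k
    have h' : t ^ n = 0 := h
    rw [lft_proj, h']
    exact comp_zero.trans zero_comp.symm
  have h1 : IsUnit (1 - T) := IsNilpotent.isUnit_one_sub ⟨n, hT0⟩
  have h2 : 1 - T = tel θ F := by
    apply hom_ext
    intro n
    have e4 : T ≫ proj n F = proj (n + 1) F ≫ θ.app F := lft_proj _ _
    have e5 : (1 - T : End ((pow A).obj F)) ≫ proj n F = proj n F - T ≫ proj n F := by
      have : (1 - T : End ((pow A).obj F)) = 𝟙 _ - T := rfl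
      rw [this, Preadditive.sub_comp, Category.id_comp]
    rw [e5, e4, tel_proj]
  rw [h2, isUnit_iff_isIso] at h1
  exact h1

end Groth.Agent.Proet.DCProd
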