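import Groth.Agent.Proet.DCCrit2

/-!
# Constant sheaves killed by a power of `f` are `f`-complete
-/

set_option autoImplicit false
universe u

open CategoryTheory CategoryTheory.Limits AlgebraicGeometry Opposite

namespace Groth.Agent.Proet.DCConst

open DCSect DCProd DCSheaf DCAdj DCCrit

variable {X : Scheme.{u}} {Λ : Type (u + 1)} [CommRing Λ]

theorem isTerminal_topP (X : Scheme.{u}) : Nonempty (IsTerminal (ProEtS.topP X)) :=
  ⟨MorphismProperty.Over.mkIdTerminal (P := @WeaklyEtale) (X := X)⟩

theorem cen_const (f : Λ) (M : ModuleCat.{u + 1} Λ) :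
    (cen X f).app ((constantSheaf (Scheme.ProEt.topology X) (ModuleCat.{u + 1} Λ)).obj M) =
      (constantSheaf (Scheme.ProEt.topology X) (ModuleCat.{u + 1} Λ)).map ((cenMod f).app M) := by
  obtain ⟨hT⟩ := isTerminal_topP X
  exact cen_left (constantSheafAdj (Scheme.ProEt.topology X) (ModuleCat.{u + 1} Λ) hT)
    _ _ (fun _ => rfl) M

theorem fc_const (f : Λ) (M : ModuleCat.{u + 1} Λ) (n : ℕ) (h : ∀ m : M, f ^ n • m = 0) :
    FC (cen X f) ((constantSheaf (Scheme.ProEt.topology X) (ModuleCat.{u + 1} Λ)).obj M) := by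
  apply FC.of_pow_eq_zero n
  rw [cen_const]
  have h1 : (show End M from (cenMod f).app M) ^ n = 0 := by
    have h2 (k : ℕ) (m : M) : ((show End M from (cenMod f).app M) ^ k).hom m = f ^ k • m := by
      induction k with
      | zero => rw [pow_zero, pow_zero, one_smul]; rfl
      | succ k ih =>
        rw [_root_.pow_succ', _root_.pow_succ', mul_smul, ← ih]
        rfl
    apply ModuleCat.hom_ext
    ext m
    exact (h2 n m).trans (h m)
  have h3 := ((constantSheaf (Scheme.ProEt.topology X) (ModuleCat.{u + 1} Λ)).mapEnd M).map_pow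
    (show End M from (cenMod f).app M) n
  rw [h1] at h3
  refine h3.symm.trans ?_
  exact Functor.map_zero _ _ _

end Groth.Agent.Proet.DCConst
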