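import Groth.Agent.Proet.DCClosed

/-!
# No morphisms from `θ`-invertible objects to objects with `θ`-complete cohomology
-/

set_option autoImplicit false
universe w v u

open CategoryTheory CategoryTheory.Limits

namespace Groth.Agent.Proet.DCHom

open DCProd DCAbs DerivedCategory

variable {A : Type u} [Category.{v} A]

/-- Iterates of an endomorphism. -/
def iter {F : A} (g : F ⟶ F) : ℕ → (F ⟶ F)
  | 0 => 𝟙 F
  | (k + 1) => iter g k ≫ g

theorem iter_comm {F G : A} (g : F ⟶ F) (h : G ⟶ G) (d : F ⟶ G) (hd : g ≫ d = d ≫ h) (k : ℕ) :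
    iter g k ≫ d = d ≫ iter h k := by
  induction k with
  | zero => simp [iter]
  | succ k ih => rw [iter, iter, Category.assoc, hd, ← Category.assoc, ih, Category.assoc]

variable [Abelian A] [HasLimitsOfShape (Discrete ℕ) A] [HasExactLimitsOfShape (Discrete ℕ) A]
  [HasDerivedCategory.{w} A]

theorem hom_eq_zero (θ : Cen A) (L : CochainComplex A ℤ) (hL : ∀ i, IsIso (θ.app (L.X i)))
    (K : DerivedCategory A) (hK : ∀ n, FC θ ((homologyFunctor A n).obj K))
    (a : Q.obj L ⟶ K) : a = 0 := by
  obtain ⟨K', ⟨e⟩⟩ : ∃ K', Nonempty (Q.obj K' ≅ K) := ⟨_, ⟨Q.objObjPreimageIso K⟩⟩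
  have hK' (n : ℤ) : FC θ (K'.homology n) :=
    FC.of_iso θ ((homologyFunctor A n).mapIso e.symm ≪≫ (homologyFunctorFactors A n).app K') (hK n)
  have hd (i j : ℤ) : inv (θ.app (L.X i)) ≫ L.d i j = L.d i j ≫ inv (θ.app (L.X j)) := by
    rw [IsIso.inv_comp_eq, ← Category.assoc, IsIso.eq_comp_inv]
    exact θ.nat _
  let δ : L ⟶ ((pow A).mapHomologicalComplex _).obj L :=
    { f := fun i => lft (fun k => iter (inv (θ.app (L.X i))) k)
      comm' := by
        intro i j _
        have e2 : lft (fun k => iter (inv (θ.app (L.X i))) k) ≫ (pow A).map (L.d i j) =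
            L.d i j ≫ lft (fun k => iter (inv (θ.app (L.X j))) k) := by
          apply hom_ext
          intro k
          rw [Category.assoc, Category.assoc, map_proj, lft_proj_assoc, lft_proj]
          exact iter_comm _ _ _ (hd i j) k
        exact e2 }
  have h1 : δ ≫ (NatTrans.mapHomologicalComplex (telNat θ) (ComplexShape.up ℤ)).app L = 0 := by
    ext i
    apply hom_ext
    intro k
    have e1 : (δ ≫ (NatTrans.mapHomologicalComplex (telNat θ) (ComplexShape.up ℤ)).app L).f i =
      lft (fun k => iter (inv (θ.app (L.X i))) k) ≫ tel θ (L.X i) := rfl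
    rw [e1, Category.assoc, tel_proj, Preadditive.comp_sub, lft_proj, lft_proj_assoc, iter,
      Category.assoc, IsIso.inv_hom_id, Category.comp_id, sub_self]
    exact zero_comp.symm
  have h2 (n : ℤ) : δ.f n ≫ (projNat 0).app (L.X n) = 𝟙 _ := lft_proj _ _
  have h3 : a ≫ e.inv = 0 :=
    DCAbs.hom_eq_zero (pow A) (projNat 0) (telNat θ) L K' δ h1 h2 hK' _
  exact (cancel_mono e.inv).1 (h3.trans zero_comp.symm)

theorem single_hom_eq_zero (θ : Cen A) (M : A) (hM : IsIso (θ.app M))
    (K : DerivedCategory A) (hK : ∀ n, FC θ ((homologyFunctor A n).obj K))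
    (a : (singleFunctor A 0).obj M ⟶ K) : a = 0 := by
  refine hom_eq_zero θ ((HomologicalComplex.single A (ComplexShape.up ℤ) 0).obj M) ?_ K hK a
  intro i
  by_cases hi : i = 0
  · subst hi
    let e := HomologicalComplex.singleObjXSelf (ComplexShape.up ℤ) 0 M
    have h1 : θ.app (((HomologicalComplex.single A (ComplexShape.up ℤ) 0).obj M).X 0) =
        e.hom ≫ θ.app M ≫ e.inv := by
      rw [← Category.assoc, θ.nat e.hom, Category.assoc, e.hom_inv_id, Category.comp_id]
    rw [h1]
    infer_instance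
  · have h1 := HomologicalComplex.isZero_single_obj_X (ComplexShape.up ℤ) 0 M i hi
    exact ⟨0, h1.eq_of_src _ _, h1.eq_of_src _ _⟩

end Groth.Agent.Proet.DCHom
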