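import Mathlib.RingTheory.Localization.Away.AdjoinRoot
import Mathlib.Algebra.Category.ModuleCat.Abelian
import Mathlib.Algebra.Homology.ShortComplex.ModuleCat
import Mathlib.Algebra.Category.ModuleCat.Projective
import Mathlib.Algebra.Polynomial.Basis

/-!
# The two term free resolution `0 → Λ[T] → Λ[T] → Λ_f → 0`
-/

set_option autoImplicit false
universe u

open CategoryTheory CategoryTheory.Limits

namespace Groth.Agent.Proet.DCPoly

variable {Λ : Type u} [CommRing Λ] (f : Λ)

open Polynomial

/-- The polynomial `1 - f T`. -/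
noncomputable def pol : Λ[X] := 1 - C f * X

/-- Multiplication by `1 - f T`. -/
noncomputable def mulPol : Λ[X] →ₗ[Λ] Λ[X] := LinearMap.mulLeft Λ (pol f)

theorem mulPol_injective : Function.Injective (mulPol f) := by
  rw [← LinearMap.ker_eq_bot, LinearMap.ker_eq_bot']
  intro p hp
  have h : (1 - C f * X) * p = 0 := hp
  ext n
  rw [coeff_zero]
  induction n with
  | zero =>
    have h1 := congrArg (fun q => coeff q 0) h
    simp only [sub_mul, one_mul, mul_assoc, coeff_sub, coeff_C_mul, coeff_zero] at h1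
    rw [mul_comm X p, coeff_mul_X_zero, mul_zero, sub_zero] at h1
    exact h1
  | succ n ih =>
    have h1 := congrArg (fun q => coeff q (n + 1)) h
    simp only [sub_mul, one_mul, mul_assoc, coeff_sub, coeff_C_mul, coeff_zero] at h1
    rw [mul_comm X p, coeff_mul_X, ih, mul_zero, sub_zero] at h1
    exact h1

/-- The quotient map to the localization. -/
noncomputable def quo : Λ[X] →ₗ[Λ] Localization.Away f :=
  ((Localization.awayEquivAdjoin f).symm : _ →ₐ[Λ] _).toLinearMap ∘ₗ
    (AdjoinRoot.mkₐ (C f * X - 1)).toLinearMap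

theorem quo_surjective : Function.Surjective (quo f) :=
  (Localization.awayEquivAdjoin f).symm.surjective.comp AdjoinRoot.mk_surjective

theorem quo_eq_zero_iff (p : Λ[X]) : quo f p = 0 ↔ ∃ q, mulPol f q = p := by
  have h1 : quo f p = 0 ↔ AdjoinRoot.mk (C f * X - 1) p = 0 :=
    (Localization.awayEquivAdjoin f).symm.map_eq_zero_iff
  rw [h1, AdjoinRoot.mk_eq_zero]
  constructor
  · rintro ⟨q, rfl⟩
    refine ⟨-q, ?_⟩
    simp only [mulPol, pol, LinearMap.mulLeft_apply]
    ring
  · rintro ⟨q, rfl⟩
    refine ⟨-q, ?_⟩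
    simp only [mulPol, pol, LinearMap.mulLeft_apply]
    ring

/-- The two-term resolution as a short complex. -/
noncomputable def sc : ShortComplex (ModuleCat.{u} Λ) :=
  ShortComplex.mk (ModuleCat.ofHom (mulPol f)) (ModuleCat.ofHom (quo f)) (by
    ext x
    exact (quo_eq_zero_iff f _).2 ⟨_, rfl⟩)

theorem sc_shortExact : (sc f).ShortExact where
  exact := by
    rw [ShortComplex.moduleCat_exact_iff]
    intro x hx
    exact (quo_eq_zero_iff f x).1 hx
  mono_f := (ModuleCat.mono_iff_injective _).2 (mulPol_injective f)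
  epi_g := (ModuleCat.epi_iff_surjective _).2 (quo_surjective f)

/-- Linear maps from `Λ[T]` are sequences. -/
noncomputable def homEquiv (M : Type*) [AddCommGroup M] [Module Λ M] :
    (Λ[X] →ₗ[Λ] M) ≃ (ℕ → M) :=
  ((Polynomial.basisMonomials Λ).constr Λ).symm.toEquiv

theorem homEquiv_apply {M : Type*} [AddCommGroup M] [Module Λ M] (φ : Λ[X] →ₗ[Λ] M) (n : ℕ) :
    homEquiv M φ n = φ (X ^ n) := by
  simp [homEquiv, Polynomial.monomial_one_right_eq_X_pow]

theorem homEquiv_comp {M : Type*} [AddCommGroup M] [Module Λ M] (φ : Λ[X] →ₗ[Λ] M) (n : ℕ) :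
    homEquiv M (φ ∘ₗ mulPol f) n = homEquiv M φ n - f • homEquiv M φ (n + 1) := by
  rw [homEquiv_apply, homEquiv_apply, homEquiv_apply, ← map_smul, ← map_sub]
  simp only [LinearMap.comp_apply, mulPol, pol, LinearMap.mulLeft_apply]
  congr 1
  rw [smul_eq_C_mul]
  ring

instance : Projective (sc f).X₁ := by
  have : Module.Projective Λ Λ[X] := inferInstance
  exact inferInstanceAs (Projective (ModuleCat.of Λ Λ[X]))

end Groth.Agent.Proet.DCPoly
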