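import Groth.Agent.Proet.DCProj
import Mathlib.Algebra.Homology.DerivedCategory.SingleTriangle

/-!
# Morphisms out of a short exact sequence with projective terms
-/

set_option autoImplicit false
universe w v u

open CategoryTheory CategoryTheory.Limits

namespace Groth.Agent.Proet.DCTri

open DerivedCategory DCProj Pretriangulated

variable {A : Type u} [Category.{v} A] [Abelian A] [HasDerivedCategory.{w} A]

omit [Abelian A] [HasDerivedCategory.{w} A] in
theorem triangle_bijective [HasZeroObject A] [HasShift A ℤ] [Preadditive A]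
    [∀ n : ℤ, (shiftFunctor A n).Additive] [Pretriangulated A] (T : Triangle A)
    (hT : T ∈ distTriang A) (K : A)
    (h0 : ∀ a : T.obj₃ ⟶ K, a = 0) (h1 : ∀ a : T.obj₃ ⟶ K⟦(1 : ℤ)⟧, a = 0) :
    Function.Bijective (fun a : T.obj₂ ⟶ K => T.mor₁ ≫ a) := by
  constructor
  · intro a b hab
    rw [← sub_eq_zero]
    have h2 : T.mor₁ ≫ (a - b) = 0 := by
      rw [Preadditive.comp_sub, sub_eq_zero]
      exact hab
    obtain ⟨g, hg⟩ := Triangle.yoneda_exact₂ _ hT _ h2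
    rw [hg, h0 g, comp_zero]
  · intro y
    have h2 : T.mor₃ ≫ y⟦(1 : ℤ)⟧' = 0 := h1 _
    obtain ⟨g, hg⟩ : ∃ g : T.obj₂⟦(1 : ℤ)⟧ ⟶ K⟦(1 : ℤ)⟧, y⟦(1 : ℤ)⟧' = (- T.mor₁⟦(1 : ℤ)⟧') ≫ g :=
      Triangle.yoneda_exact₃ _ (rot_of_distTriang _ hT) (y⟦(1 : ℤ)⟧') h2
    obtain ⟨g', rfl⟩ := (shiftFunctor A (1 : ℤ)).map_surjective g
    refine ⟨-g', ?_⟩
    apply (shiftFunctor A (1 : ℤ)).map_injective
    dsimp only
    rw [hg]
    simp

theorem precomp_bijective {S : ShortComplex A} (hS : S.ShortExact) (K : DerivedCategory A)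
    (h0 : ∀ a : (singleFunctor A 0).obj S.X₃ ⟶ K, a = 0)
    (h1 : ∀ a : (singleFunctor A 0).obj S.X₃ ⟶ K⟦(1 : ℤ)⟧, a = 0) :
    Function.Bijective (fun a : (singleFunctor A 0).obj S.X₂ ⟶ K =>
      (singleFunctor A 0).map S.f ≫ a) :=
  triangle_bijective _ hS.singleTriangle_distinguished K h0 h1

/-- For projective terms: the induced map on `Hom(-, H^n K)` is bijective. -/
theorem precomp_homology_bijective {S : ShortComplex A} (hS : S.ShortExact)
    [Projective S.X₁] [Projective S.X₂] (K : DerivedCategory A)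
    (h : ∀ (n : ℤ) (a : (singleFunctor A 0).obj S.X₃ ⟶ K⟦n⟧), a = 0) (n : ℤ) :
    Function.Bijective (fun a : S.X₂ ⟶ (homologyFunctor A n).obj K => S.f ≫ a) := by
  have h1 : ∀ a : (singleFunctor A 0).obj S.X₃ ⟶ K⟦n⟧⟦(1 : ℤ)⟧, a = 0 := by
    intro a
    have h2 := h (n + 1) (a ≫ ((shiftFunctorAdd (DerivedCategory A) n 1).app K).inv)
    exact (cancel_mono _).1 (h2.trans zero_comp.symm)
  have h2 := precomp_bijective hS (K⟦n⟧) (h n) h1
  let e : (homologyFunctor A 0).obj (K⟦n⟧) ≅ (homologyFunctor A n).obj K :=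
    ((homologyFunctor A 0).shiftIso n 0 n (by simp)).app K
  have hb1 := hmap_bijective (R := S.X₁) (K⟦n⟧)
  have hb2 := hmap_bijective (R := S.X₂) (K⟦n⟧)
  constructor
  · intro a b hab
    obtain ⟨a', ha'⟩ := hb2.2 (a ≫ e.inv)
    obtain ⟨b', hb'⟩ := hb2.2 (b ≫ e.inv)
    have h3 : a' = b' := by
      apply h2.1
      apply hb1.1
      dsimp only at hab ⊢
      rw [hmap_comp, hmap_comp, ha', hb', ← Category.assoc, ← Category.assoc, hab]
    rw [← cancel_mono e.inv, ← ha', ← hb', h3]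
  · intro y
    obtain ⟨y', hy'⟩ := hb1.2 (y ≫ e.inv)
    obtain ⟨x', hx'⟩ := h2.2 y'
    refine ⟨hmap x' ≫ e.hom, ?_⟩
    dsimp only at hx' ⊢
    rw [← Category.assoc, ← hmap_comp, hx', hy', Category.assoc, e.inv_hom_id, Category.comp_id]

end Groth.Agent.Proet.DCTri
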