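import Groth.Agent.Proet.DCAdj
import Groth.Agent.Proet.DCHom
import Groth.Agent.Proet.DCTri
import Groth.Agent.Proet.DCPoly

/-!
# The criterion for derived completeness on the small pro-etale site

* `isDC_iff`: `K` is derived complete iff for all weakly contractible `U`, `f ∈ I` and `p` the map
  `(x_n) ↦ (x_n - f x_{n+1})` is bijective on sequences of sections of `H^p(K)` over `U`.
* `isDCSheaf_iff`: the same for a sheaf.
-/

set_option autoImplicit false
universe u

open CategoryTheory CategoryTheory.Limits AlgebraicGeometry Opposite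

namespace Groth.Agent.Proet.DCCrit

open DCSect DCProd DCSheaf DCAdj DCPoly

variable {X : Scheme.{u}} (Λ : Type (u + 1)) [CommRing Λ]

instance (U : X.ProEt) : (RU Λ U).Additive where

instance (U : X.ProEt) : (LU Λ U).Additive := (adjU Λ U).left_adjoint_additive

instance (U : X.ProEt) : (LU Λ U).PreservesHomology := by
  have : (LU Λ U).IsLeftAdjoint := (adjU Λ U).isLeftAdjoint
  have : PreservesFiniteColimits (LU Λ U) := inferInstance
  exact Functor.preservesHomology_of_preservesMonos_and_cokernels _

/-- The resolution of `j_{U!} Λ_f`. -/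
noncomputable abbrev scU (U : X.ProEt) (f : Λ) : ShortComplex (EtModW.ModP Λ X) :=
  (sc f).map (LU Λ U)

theorem scU_shortExact (U : X.ProEt) (f : Λ) : (scU Λ U f).ShortExact := by
  have : (LU Λ U).IsLeftAdjoint := (adjU Λ U).isLeftAdjoint
  have h := sc_shortExact f
  have := h.mono_f
  have := h.epi_g
  exact h.map (LU Λ U)

theorem projective_scU {U : X.ProEt} (hU : ProEtS.IsWC U) (f : Λ) :
    Projective (scU Λ U f).X₁ := by
  have : (RU Λ U).PreservesEpimorphisms := by
    constructor
    intro F G φ hφ
    exact (ModuleCat.epi_iff_surjective _).2 (surjective_of_epi hU φ)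
  exact (adjU Λ U).map_projective _ (inferInstance : Projective (sc f).X₁)

theorem bij_conj {α β : Type*} (e : α ≃ β) (g : α → α) (h : β → β)
    (h1 : ∀ a, e (g a) = h (e a)) : Function.Bijective g ↔ Function.Bijective h := by
  rw [← e.bijective.of_comp_iff', ← Function.Bijective.of_comp_iff h e.bijective]
  have h4 : ⇑e ∘ g = h ∘ e := funext h1
  rw [h4]

/-- Bijectivity on sequences of sections, in terms of `Hom(j_{U!} Λ[T], F)`. -/
theorem bijective_iff (U : X.ProEt) (f : Λ) (F : EtModW.ModP Λ X) :
    Function.Bijective (fun a : (scU Λ U f).X₂ ⟶ F => (scU Λ U f).f ≫ a) ↔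
      Function.Bijective (fun (x : ℕ → F.obj.obj (op U)) (n : ℕ) => x n - f • x (n + 1)) := by
  let e : ((scU Λ U f).X₂ ⟶ F) ≃ (ℕ → F.obj.obj (op U)) :=
    ((adjU Λ U).homEquiv (sc f).X₂ F).trans (ModuleCat.homEquiv.trans
      (DCPoly.homEquiv (F.obj.obj (op U))))
  have h1 (a) : e ((scU Λ U f).f ≫ a) =
      (fun (x : ℕ → F.obj.obj (op U)) (n : ℕ) => x n - f • x (n + 1)) (e a) := by
    have h2 : (adjU Λ U).homEquiv (sc f).X₁ F ((scU Λ U f).f ≫ a) =
        (sc f).f ≫ (adjU Λ U).homEquiv (sc f).X₂ F a :=
      (adjU Λ U).homEquiv_naturality_left _ _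
    funext n
    have h3 := homEquiv_comp f (((adjU Λ U).homEquiv (sc f).X₂ F) a).hom n
    dsimp only
    refine Eq.trans ?_ h3
    change (DCPoly.homEquiv (F.obj.obj (op U)))
      (((adjU Λ U).homEquiv (sc f).X₁ F ((scU Λ U f).f ≫ a)).hom) n = _
    rw [h2]
    rfl
  exact bij_conj e _ _ h1

/-- `f` acts invertibly on `j_{U!} Λ_f`. -/
theorem isIso_cen_locExt (U : X.ProEt) (f : Λ) : IsIso ((cen X f).app (ProEtDC.locExt Λ U f)) := by
  have h1 : (cen X f).app (ProEtDC.locExt Λ U f) =
      (LU Λ U).map ((cenMod f).app (ModuleCat.of Λ (Localization.Away f))) :=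
    cen_LU f U _
  have h2 : IsIso ((cenMod f).app (ModuleCat.of Λ (Localization.Away f))) := by
    rw [ConcreteCategory.isIso_iff_bijective]
    have h3 := (Module.End.isUnit_iff _).1
      (IsLocalizedModule.map_units (Algebra.linearMap Λ (Localization.Away f))
        (⟨f, Submonoid.mem_powers f⟩ : Submonoid.powers f))
    exact h3
  rw [h1]
  exact Functor.map_isIso (LU Λ U) _

section Derived

attribute [local instance] HasDerivedCategory.standard

open DerivedCategory

/-- The criterion for derived completeness of an object of the derived category. -/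
theorem isDC_iff (I : Ideal Λ) (K : ProEtDC.DP Λ X) :
    ProEtDC.IsDC Λ I K ↔ ∀ (p : ℤ) (U : X.ProEt), ProEtS.IsWC U → ∀ f ∈ I,
      Function.Bijective (fun (x : ℕ → (ProEtDC.HDP K p).obj.obj (op U)) (n : ℕ) =>
        x n - f • x (n + 1)) := by
  constructor
  · intro h p U hU f hf
    rw [← bijective_iff]
    have : Projective (scU Λ U f).X₁ := projective_scU Λ hU f
    have : Projective (scU Λ U f).X₂ := projective_scU Λ hU f
    exact DCTri.precomp_homology_bijective (scU_shortExact Λ U f) K
      (fun n a => (h U f hf n).elim _ _) p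
  · intro h U f hf n
    refine subsingleton_of_forall_eq 0 (fun a => ?_)
    refine DCHom.single_hom_eq_zero (cen X f) (ProEtDC.locExt Λ U f) (isIso_cen_locExt Λ U f)
      _ ?_ a
    intro q
    let e : (homologyFunctor (EtModW.ModP Λ X) q).obj ((shiftFunctor _ n).obj K) ≅
        (homologyFunctor (EtModW.ModP Λ X) (n + q)).obj K :=
      ((homologyFunctor (EtModW.ModP Λ X) 0).shiftIso n q (n + q) rfl).app K
    refine FC.of_iso _ e.symm ?_
    rw [fc_iff]
    intro V hV
    exact h _ V hV f hf

end Derived

end Groth.Agent.Proet.DCCrit
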