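import Groth.Agent.Proet.DCCrit
import Mathlib.Algebra.Homology.DerivedCategory.TStructure

/-!
# The criterion for derived completeness of a sheaf of modules on the small pro-etale site
-/

set_option autoImplicit false
universe u

open CategoryTheory CategoryTheory.Limits AlgebraicGeometry Opposite

namespace Groth.Agent.Proet.DCCrit

open DCSect DCProd DCSheaf DCAdj DCPoly

variable {X : Scheme.{u}} (Λ : Type (u + 1)) [CommRing Λ]

section Derived

attribute [local instance] HasDerivedCategory.standard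

open DerivedCategory

theorem isDC_single_of_isDCSheaf (I : Ideal Λ) (F : EtModW.ModP Λ X)
    (h : ProEtDC.IsDCSheaf Λ I F) :
    ProEtDC.IsDC Λ I ((singleFunctor (EtModW.ModP Λ X) 0).obj F) := by
  intro U f hf n
  refine subsingleton_of_forall_eq 0 (fun a => ?_)
  by_cases hn : 0 ≤ n
  · obtain ⟨m, rfl⟩ := Int.eq_ofNat_of_zero_le hn
    have h1 := h U f hf m
    have h2 : Subsingleton (ShiftedHom ((singleFunctor (EtModW.ModP Λ X) 0).obj
        (ProEtDC.locExt Λ U f)) ((singleFunctor (EtModW.ModP Λ X) 0).obj F) (m : ℤ)) :=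
      (Abelian.Ext.homEquiv).symm.subsingleton
    exact h2.elim _ _
  · have h1 := TStructure.t.isGE_shift ((singleFunctor (EtModW.ModP Λ X) 0).obj F) 0 n (-n)
      (by lia)
    exact TStructure.t.zero a 0 (-n) (by lia)

theorem fc_homology_single (θ : Cen (EtModW.ModP Λ X)) (F : EtModW.ModP Λ X) (hF : FC θ F)
    (n : ℤ) : FC θ ((homologyFunctor (EtModW.ModP Λ X) n).obj
      ((singleFunctor (EtModW.ModP Λ X) 0).obj F)) := by
  by_cases hn : n = 0
  · subst hn
    exact FC.of_iso θ ((singleFunctorCompHomologyFunctorIso (EtModW.ModP Λ X) 0).app F).symm hF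
  · have h1 : IsZero ((homologyFunctor (EtModW.ModP Λ X) n).obj
        ((singleFunctor (EtModW.ModP Λ X) 0).obj F)) := by
      rcases lt_or_gt_of_ne hn with h | h
      · exact isZero_of_isGE _ 0 n h
      · exact isZero_of_isLE _ 0 n h
    have h2 : IsZero ((pow (EtModW.ModP Λ X)).obj ((homologyFunctor (EtModW.ModP Λ X) n).obj
        ((singleFunctor (EtModW.ModP Λ X) 0).obj F))) := Functor.map_isZero _ h1
    exact ⟨0, h2.eq_of_src _ _, h2.eq_of_src _ _⟩

theorem isDCSheaf_of_fc (I : Ideal Λ) (F : EtModW.ModP Λ X) (h : ∀ f ∈ I, FC (cen X f) F) :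
    ProEtDC.IsDCSheaf Λ I F := by
  have h1 : ProEtDC.IsDC Λ I ((singleFunctor (EtModW.ModP Λ X) 0).obj F) := by
    rw [isDC_iff]
    intro p U hU f hf
    exact (fc_iff f _).1 (fc_homology_single Λ (cen X f) F (h f hf) p) U hU
  intro U f hf n
  have h2 : Subsingleton (ShiftedHom ((singleFunctor (EtModW.ModP Λ X) 0).obj
      (ProEtDC.locExt Λ U f)) ((singleFunctor (EtModW.ModP Λ X) 0).obj F) (n : ℤ)) :=
    h1 U f hf n
  exact (Abelian.Ext.homEquiv).subsingleton

theorem fc_of_isDCSheaf (I : Ideal Λ) (F : EtModW.ModP Λ X) (h : ProEtDC.IsDCSheaf Λ I F) :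
    ∀ f ∈ I, FC (cen X f) F := by
  intro f hf
  have h1 := (isDC_iff Λ I _).1 (isDC_single_of_isDCSheaf Λ I F h)
  have h2 : FC (cen X f) ((homologyFunctor (EtModW.ModP Λ X) 0).obj
      ((singleFunctor (EtModW.ModP Λ X) 0).obj F)) := by
    rw [fc_iff]
    exact fun U hU => h1 0 U hU f hf
  exact FC.of_iso _ ((singleFunctorCompHomologyFunctorIso (EtModW.ModP Λ X) 0).app F) h2

end Derived

/-- Derived completeness of a sheaf, in terms of the endomorphism `(x_n) ↦ (x_n - f x_{n+1})` of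
the countable power. -/
theorem isDCSheaf_iff_fc (I : Ideal Λ) (F : EtModW.ModP Λ X) :
    ProEtDC.IsDCSheaf Λ I F ↔ ∀ f ∈ I, FC (cen X f) F :=
  ⟨fc_of_isDCSheaf Λ I F, isDCSheaf_of_fc Λ I F⟩

/-- The criterion for derived completeness of a sheaf. -/
theorem isDCSheaf_iff (I : Ideal Λ) (F : EtModW.ModP Λ X) :
    ProEtDC.IsDCSheaf Λ I F ↔ ∀ (U : X.ProEt), ProEtS.IsWC U → ∀ f ∈ I,
      Function.Bijective (fun (x : ℕ → F.obj.obj (op U)) (n : ℕ) => x n - f • x (n + 1)) := by
  rw [isDCSheaf_iff_fc]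
  constructor
  · intro h U hU f hf
    exact (fc_iff f F).1 (h f hf) U hU
  · intro h f hf
    rw [fc_iff]
    exact fun U hU => h U hU f hf

end Groth.Agent.Proet.DCCrit
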