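import Mathlib.Algebra.Homology.ShortComplex.Limits
import Mathlib.Algebra.Homology.ShortComplex.HomologicalComplex
import Mathlib.Algebra.Homology.QuasiIso
import Mathlib.Algebra.Homology.ShortComplex.FunctorEquivalence
import Mathlib.Algebra.Homology.ShortComplex.PreservesHomology
import Mathlib.Algebra.Homology.HomologicalComplexLimits
import Mathlib.Algebra.Homology.HomologicalComplexAbelian
import Mathlib.CategoryTheory.Abelian.GrothendieckAxioms.Colim
import Mathlib.CategoryTheory.Abelian.FunctorCategory

/-!
# Homology commutes with exact limits (dual of `Groth.Agent.Dcoh.HomColim`)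

If `D` is abelian with exact limits of shape `J` (for instance products in an AB4* category), then
`ShortComplex.homologyFunctor D` and `HomologicalComplex.homologyFunctor D c n` preserve limits of
shape `J`.
-/

set_option autoImplicit false
set_option backward.defeqAttrib.useBackward true
set_option backward.isDefEq.respectTransparency false

universe w' w v u t

namespace Groth.Agent.Proet.HomLim

open CategoryTheory Category Limits

variable (J : Type w) [Category.{w'} J] (D : Type u) [Category.{v} D] [Abelian D]
  [HasLimitsOfShape J D] [HasExactLimitsOfShape J D]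

section

variable {J D} (S : J ⥤ ShortComplex D)

/-- The short complex of functors attached to a functor to short complexes. -/
abbrev X : ShortComplex (J ⥤ D) := (ShortComplex.FunctorEquivalence.inverse J D).obj S

/-- the natural transformation from the limit functor to evaluation at `j` -/
@[simps] noncomputable def tau (j : J) : (lim : (J ⥤ D) ⥤ D) ⟶ (evaluation J D).obj j where
  app F := limit.π F j

/-- A nice limit cone. -/
@[simps pt] noncomputable def cc : Cone S where
  pt := (X S).map (lim : (J ⥤ D) ⥤ D)
  π :=
    { app := fun j => (X S).mapNatTrans (tau j)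
      naturality := fun j k f => by
        ext
        · simpa [tau] using (limit.w (S ⋙ ShortComplex.π₁) f).symm
        · simpa [tau] using (limit.w (S ⋙ ShortComplex.π₂) f).symm
        · simpa [tau] using (limit.w (S ⋙ ShortComplex.π₃) f).symm }

noncomputable def isLimitCc : IsLimit (cc S) :=
  ShortComplex.isLimitOfIsLimitπ _
    (IsLimit.ofIsoLimit (limit.isLimit (S ⋙ ShortComplex.π₁))
      (Cone.ext (Iso.refl _) (fun j => by simp [cc, tau])))
    (IsLimit.ofIsoLimit (limit.isLimit (S ⋙ ShortComplex.π₂))
      (Cone.ext (Iso.refl _) (fun j => by simp [cc, tau])))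
    (IsLimit.ofIsoLimit (limit.isLimit (S ⋙ ShortComplex.π₃))
      (Cone.ext (Iso.refl _) (fun j => by simp [cc, tau])))

/-- The homology of `X S` evaluates to the homology of `S`. -/
noncomputable def homologyIso : (X S).homology ≅ S ⋙ ShortComplex.homologyFunctor D :=
  NatIso.ofComponents (fun j => ((X S).mapHomologyIso ((evaluation J D).obj j)).symm) (fun {j k} f => by
    have h := ShortComplex.homologyMap_mapNatTrans (X S) ((evaluation J D).map f)
    have h' : ShortComplex.homologyMap (S.map f) =
      ((X S).mapHomologyIso ((evaluation J D).obj j)).hom ≫ (X S).homology.map f ≫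
        ((X S).mapHomologyIso ((evaluation J D).obj k)).inv := h
    dsimp
    rw [h']
    simp)

/-- The homology of the nice limit cone is limit. -/
noncomputable def isLimitMapCc : IsLimit ((ShortComplex.homologyFunctor D).mapCone (cc S)) := by
  refine (IsLimit.postcomposeInvEquiv (homologyIso S) _).1 ?_
  refine IsLimit.ofIsoLimit (limit.isLimit (X S).homology)
    (Cone.ext ((X S).mapHomologyIso (lim : (J ⥤ D) ⥤ D)).symm (fun j => ?_))
  have h := ShortComplex.homologyMap_mapNatTrans (X S) (tau (D := D) j)
  have h' : (ShortComplex.homologyFunctor D).map ((cc S).π.app j) =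
      ((X S).mapHomologyIso (lim : (J ⥤ D) ⥤ D)).hom ≫ limit.π (X S).homology j ≫
        ((X S).mapHomologyIso ((evaluation J D).obj j)).inv := h
  dsimp [homologyIso] at h' ⊢
  rw [h']
  simp

end

instance preservesLimitsOfShape_shortComplex_homologyFunctor :
    PreservesLimitsOfShape J (ShortComplex.homologyFunctor D) where
  preservesLimit {S} := preservesLimit_of_preserves_limit_cone (isLimitCc S) (isLimitMapCc S)

section

variable {ι : Type t} (c : ComplexShape ι) (n : ι)

instance preservesLimitsOfShape_shortComplexFunctor :
    PreservesLimitsOfShape J (HomologicalComplex.shortComplexFunctor D c n) where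
  preservesLimit {K} := ⟨fun {cK} hcK => ⟨ShortComplex.isLimitOfIsLimitπ _
    (isLimitOfPreserves (HomologicalComplex.eval D c (c.prev n)) hcK)
    (isLimitOfPreserves (HomologicalComplex.eval D c n) hcK)
    (isLimitOfPreserves (HomologicalComplex.eval D c (c.next n)) hcK)⟩⟩

/-- Homology of complexes commutes with exact limits. -/
instance preservesLimitsOfShape_homologyFunctor :
    PreservesLimitsOfShape J (HomologicalComplex.homologyFunctor D c n) :=
  preservesLimitsOfShape_of_natIso
    (HomologicalComplex.homologyFunctorIso D c n).symm

end

end Groth.Agent.Proet.HomLim
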