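import Groth.Agent.CohtopA.DerProd
import Groth.Agent.Proet.HomLim
import Mathlib.Algebra.Homology.DerivedCategory.HomologySequence
import Mathlib.CategoryTheory.Limits.Preserves.Shapes.Products

/-!
# The product telescope and vanishing of morphisms in the derived category

For an endomorphism `e : Y ⟶ Y` put `phi e = 1 - e ∘ shift` on the countable power of `Y`.
If `η` is an endomorphism of the identity functor of an abelian category `A` with exact countable
products, `M` is a complex on which `η` is invertible and `L : D(A)` is such that `phi η` is an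
isomorphism on the countable powers of all the cohomology objects of `L`, then every morphism
`M ⟶ L` in `D(A)` is zero.
-/

set_option autoImplicit false

universe w' w v u v' u'

open CategoryTheory CategoryTheory.Limits

namespace Groth.Agent.Proet.TelKill

section Phi

variable {C : Type u} [Category.{v} C] [Preadditive C] [HasLimitsOfShape (Discrete ℕ) C]

/-- the countable power -/
noncomputable abbrev pw (Y : C) : C := ∏ᶜ fun _ : ℕ => Y

/-- `1 - e ∘ shift` on the countable power. -/
noncomputable def phi {Y : C} (e : Y ⟶ Y) : pw Y ⟶ pw Y :=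
  Pi.lift (fun n => Pi.π (fun _ : ℕ => Y) n - Pi.π (fun _ : ℕ => Y) (n + 1) ≫ e)

theorem phi_π {Y : C} (e : Y ⟶ Y) (n : ℕ) :
    phi e ≫ Pi.π (fun _ : ℕ => Y) n =
      Pi.π (fun _ : ℕ => Y) n - Pi.π (fun _ : ℕ => Y) (n + 1) ≫ e := by
  simp [phi]

/-- Naturality of `phi`. -/
theorem phi_naturality {Y Z : C} {e : Y ⟶ Y} {e' : Z ⟶ Z} (h : Y ⟶ Z) (hh : h ≫ e' = e ≫ h) :
    Limits.Pi.map (fun _ : ℕ => h) ≫ phi e' = phi e ≫ Limits.Pi.map (fun _ : ℕ => h) := by
  refine Limits.Pi.hom_ext _ _ (fun n => ?_)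
  rw [Category.assoc, phi_π, Preadditive.comp_sub, Category.assoc, Limits.Pi.map_π,
    Limits.Pi.map_π_assoc, hh, ← Category.assoc (phi e), phi_π,
    Preadditive.sub_comp, Category.assoc]

theorem isIso_phi_of_iso {Y Z : C} {e : Y ⟶ Y} {e' : Z ⟶ Z} (i : Y ≅ Z)
    (hh : i.hom ≫ e' = e ≫ i.hom) (h : IsIso (phi e)) : IsIso (phi e') := by
  have h1 : IsIso (Limits.Pi.map (fun _ : ℕ => i.hom)) := inferInstance
  have h2 : IsIso (Limits.Pi.map (fun _ : ℕ => i.hom) ≫ phi e') := by
    rw [phi_naturality i.hom hh]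
    infer_instance
  exact IsIso.of_isIso_comp_left (Limits.Pi.map (fun _ : ℕ => i.hom)) (phi e')

/-- If `e_M` is invertible then every `g : M ⟶ Y` commuting with the endomorphisms factors through
the kernel of `phi`. -/
theorem exists_kill {M Y : C} (eM : M ⟶ M) [IsIso eM] (e : Y ⟶ Y) (g : M ⟶ Y)
    (hg : g ≫ e = eM ≫ g) :
    ∃ y : M ⟶ pw Y, y ≫ Pi.π (fun _ : ℕ => Y) 0 = g ∧ y ≫ phi e = 0 := by
  let a : ℕ → (M ⟶ M) := fun n => Nat.rec (𝟙 M) (fun _ b => inv eM ≫ b) n
  have ha : ∀ n, a (n + 1) ≫ eM = a n := by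
    intro n
    induction n with
    | zero => simp [a]
    | succ n ih =>
      change (inv eM ≫ a (n + 1)) ≫ eM = _
      rw [Category.assoc, ih]
  refine ⟨Pi.lift (fun n => a n ≫ g), by simp [a], Limits.Pi.hom_ext _ _ (fun n => ?_)⟩
  rw [Category.assoc, phi_π, Preadditive.comp_sub, Limits.Pi.lift_π, ← Category.assoc,
    Limits.Pi.lift_π, Category.assoc, hg, ← Category.assoc, ha, sub_self, zero_comp]

variable {D : Type u'} [Category.{v'} D] [Preadditive D] [HasLimitsOfShape (Discrete ℕ) D]
  (F : C ⥤ D) [F.Additive]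

theorem map_phi {Y : C} (e : Y ⟶ Y) :
    F.map (phi e) ≫ piComparison F (fun _ : ℕ => Y) =
      piComparison F (fun _ : ℕ => Y) ≫ phi (F.map e) := by
  refine Limits.Pi.hom_ext _ _ (fun n => ?_)
  rw [Category.assoc, piComparison_comp_π, ← F.map_comp, phi_π, F.map_sub, F.map_comp,
    Category.assoc]
  have h := phi_π (F.map e) n
  refine Eq.trans ?_ (congrArg (fun t => piComparison F (fun _ : ℕ => Y) ≫ t) h).symm
  rw [Preadditive.comp_sub, ← Category.assoc]
  have h1 := piComparison_comp_π F (fun _ : ℕ => Y) n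
  have h2 := piComparison_comp_π F (fun _ : ℕ => Y) (n + 1)
  rw [← h1, ← h2]

theorem isIso_map_phi_iff [PreservesLimitsOfShape (Discrete ℕ) F] {Y : C} (e : Y ⟶ Y) :
    IsIso (F.map (phi e)) ↔ IsIso (phi (F.map e)) := by
  have h := map_phi F e
  constructor
  · intro h1
    have h2 : IsIso (piComparison F (fun _ : ℕ => Y) ≫ phi (F.map e)) := by
      rw [← h]; infer_instance
    exact IsIso.of_isIso_comp_left (piComparison F (fun _ : ℕ => Y)) _
  · intro h1
    have h2 : IsIso (F.map (phi e) ≫ piComparison F (fun _ : ℕ => Y)) := by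
      rw [h]; infer_instance
    exact IsIso.of_isIso_comp_right _ (piComparison F (fun _ : ℕ => Y))

end Phi

section Complex

variable {A : Type u} [Category.{v} A] [Abelian A] (η : 𝟭 A ⟶ 𝟭 A)

/-- the endomorphism of a complex induced by an endomorphism of the identity functor -/
noncomputable def endo (K : CochainComplex A ℤ) : K ⟶ K where
  f i := η.app (K.X i)
  comm' i j _ := (η.naturality (K.d i j)).symm

theorem endo_naturality {K L : CochainComplex A ℤ} (g : K ⟶ L) :
    g ≫ endo η L = endo η K ≫ g := by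
  ext i
  exact η.naturality (g.f i)

theorem cyclesMap_endo (K : CochainComplex A ℤ) (n : ℤ) :
    HomologicalComplex.cyclesMap (endo η K) n = η.app (K.cycles n) := by
  rw [← cancel_mono (K.iCycles n), HomologicalComplex.cyclesMap_i]
  exact η.naturality (K.iCycles n)

theorem homologyMap_endo (K : CochainComplex A ℤ) (n : ℤ) :
    HomologicalComplex.homologyMap (endo η K) n = η.app (K.homology n) := by
  rw [← cancel_epi (K.homologyπ n), HomologicalComplex.homologyπ_naturality, cyclesMap_endo]
  exact (η.naturality (K.homologyπ n)).symm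

theorem isIso_endo (K : CochainComplex A ℤ) (h : ∀ i, IsIso (η.app (K.X i))) :
    IsIso (endo η K) := by
  have : ∀ i, IsIso ((endo η K).f i) := h
  exact HomologicalComplex.Hom.isIso_of_components _

variable [HasLimitsOfShape (Discrete ℕ) A] [HasExactLimitsOfShape (Discrete ℕ) A]

theorem quasiIso_phi (K : CochainComplex A ℤ) (h : ∀ n, IsIso (phi (η.app (K.homology n)))) :
    QuasiIso (phi (endo η K)) := by
  refine ⟨fun n => ?_⟩
  rw [quasiIsoAt_iff_isIso_homologyMap]
  have h1 := (isIso_map_phi_iff (HomologicalComplex.homologyFunctor A (ComplexShape.up ℤ) n)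
    (endo η K)).2
  refine h1 ?_
  have h2 : (HomologicalComplex.homologyFunctor A (ComplexShape.up ℤ) n).map (endo η K) =
    η.app (K.homology n) := homologyMap_endo η K n
  rw [h2]
  exact h n

variable [HasDerivedCategory.{w'} A]

open DerivedCategory

theorem Q_map_eq_zero {M K : CochainComplex A ℤ} (hM : ∀ i, IsIso (η.app (M.X i)))
    (hK : ∀ n, IsIso (phi (η.app (K.homology n)))) (g : M ⟶ K) : Q.map g = 0 := by
  have := isIso_endo η M hM
  obtain ⟨y, hy, hy0⟩ := exists_kill (endo η M) (endo η K) g (endo_naturality η g)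
  have := quasiIso_phi η K hK
  have h1 : Q.map y ≫ Q.map (phi (endo η K)) = 0 := by
    rw [← Functor.map_comp, hy0, Functor.map_zero]
  have h2 : Q.map y = 0 := by
    rw [← cancel_mono (Q.map (phi (endo η K))), h1, zero_comp]
  rw [← hy, Functor.map_comp, h2, zero_comp]

theorem eq_zero [IsGrothendieckAbelian.{w} A] {M : CochainComplex A ℤ}
    (hM : ∀ i, IsIso (η.app (M.X i))) {L : DerivedCategory A}
    (hL : ∀ n, IsIso (phi (η.app ((homologyFunctor A n).obj L)))) (α : Q.obj M ⟶ L) : α = 0 := by
  obtain ⟨K, hK, ⟨e⟩⟩ := CohtopA.DerProd.exists_kInjective_iso.{w', w} L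
  obtain ⟨g, hg⟩ := CohtopA.DerProd.Q_map_surjective M K (α ≫ e.hom)
  have h1 : Q.map g = 0 := Q_map_eq_zero η hM (fun n => by
    let i : (homologyFunctor A n).obj L ≅ K.homology n :=
      (homologyFunctor A n).mapIso e ≪≫ (homologyFunctorFactors A n).app K
    exact isIso_phi_of_iso i (η.naturality i.hom) (hL n)) g
  rw [← cancel_mono e.hom, ← hg, h1, zero_comp]

end Complex

end Groth.Agent.Proet.TelKill
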