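import Groth.Agent.Proet.ProjSingle
import Mathlib.Algebra.Homology.DerivedCategory.SingleTriangle

/-!
# Precomposition with a monomorphism of projectives
-/

set_option autoImplicit false

universe w v u

open CategoryTheory CategoryTheory.Limits Pretriangulated DerivedCategory

namespace Groth.Agent.Proet.TriHom

section Tri

variable {D : Type u} [Category.{v} D] [HasZeroObject D] [HasShift D ℤ] [Preadditive D]
  [∀ n : ℤ, (shiftFunctor D n).Additive] [Pretriangulated D]

theorem bijective_precomp (T : Triangle D) (hT : T ∈ distTriang D) (L : D)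
    (h0 : Subsingleton (T.obj₃ ⟶ L)) (h1 : Subsingleton (T.obj₃ ⟶ L⟦(1 : ℤ)⟧)) :
    Function.Bijective (fun φ : T.obj₂ ⟶ L => T.mor₁ ≫ φ) := by
  constructor
  · intro φ ψ h
    have h2 : T.mor₁ ≫ (φ - ψ) = 0 := by
      rw [Preadditive.comp_sub]
      exact sub_eq_zero.2 h
    obtain ⟨g, hg⟩ := Triangle.yoneda_exact₂ T hT _ h2
    rw [Subsingleton.elim g 0, comp_zero] at hg
    exact sub_eq_zero.1 hg
  · intro φ
    obtain ⟨g, hg⟩ := Triangle.yoneda_exact₃ T.rotate (rot_of_distTriang _ hT)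
      (X := L⟦(1 : ℤ)⟧) (φ⟦(1 : ℤ)⟧') (Subsingleton.elim (α := T.obj₃ ⟶ L⟦(1 : ℤ)⟧) _ _)
    obtain ⟨g', hg'⟩ : ∃ g' : T.obj₂ ⟶ L, (shiftFunctor D (1 : ℤ)).map g' = g :=
      (shiftFunctor D (1 : ℤ)).map_surjective g
    have hg2 : (shiftFunctor D (1 : ℤ)).map φ =
      (-((shiftFunctor D (1 : ℤ)).map T.mor₁)) ≫ (shiftFunctor D (1 : ℤ)).map g' := by
      rw [hg']
      exact hg
    refine ⟨-g', ?_⟩
    apply (shiftFunctor D (1 : ℤ)).map_injective
    rw [hg2]
    change (shiftFunctor D (1 : ℤ)).map (T.mor₁ ≫ (-g')) = _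
    rw [Functor.map_comp, Functor.map_neg, Preadditive.comp_neg, Preadditive.neg_comp]

end Tri

variable {C : Type u} [Category.{v} C] [Abelian C] [HasDerivedCategory.{w} C]

theorem bijective_of_proj {S : ShortComplex C} (hS : S.ShortExact) [Projective S.X₁]
    [Projective S.X₂] (L : DerivedCategory C)
    (h0 : Subsingleton ((singleFunctor C 0).obj S.X₃ ⟶ L))
    (h1 : Subsingleton ((singleFunctor C 0).obj S.X₃ ⟶ L⟦(1 : ℤ)⟧)) :
    Function.Bijective (fun φ : S.X₂ ⟶ (homologyFunctor C 0).obj L => S.f ≫ φ) := by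
  have h2 := bijective_precomp hS.singleTriangle hS.singleTriangle_distinguished L h0 h1
  have h3 : (fun φ : (singleFunctor C 0).obj S.X₁ ⟶ L => ProjSingle.theta φ) ∘
      (fun φ : (singleFunctor C 0).obj S.X₂ ⟶ L => (singleFunctor C 0).map S.f ≫ φ) =
      (fun φ : S.X₂ ⟶ (homologyFunctor C 0).obj L => S.f ≫ φ) ∘
        (fun φ : (singleFunctor C 0).obj S.X₂ ⟶ L => ProjSingle.theta φ) := by
    funext φ
    exact ProjSingle.theta_comp S.f φ
  have h4 : Function.Bijective ((fun φ : (singleFunctor C 0).obj S.X₁ ⟶ L => ProjSingle.theta φ) ∘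
      (fun φ : (singleFunctor C 0).obj S.X₂ ⟶ L => (singleFunctor C 0).map S.f ≫ φ)) :=
    (ProjSingle.theta_bijective S.X₁ L).comp h2
  rw [h3] at h4
  exact (Function.Bijective.of_comp_iff _ (ProjSingle.theta_bijective S.X₂ L)).1 h4

end Groth.Agent.Proet.TriHom
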