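import Groth.Agent.Proet.DCTel
import Groth.Agent.Proet.TelKill
import Groth.Agent.Proet.TriHom

/-!
# Derived completeness and cohomology sheaves
-/

set_option autoImplicit false
universe u v

open CategoryTheory CategoryTheory.Limits AlgebraicGeometry Opposite

namespace Groth.Agent.Proet.DCDer

open WCExist WCExact WCProj DCNak LocTel LUExact DCZero DCTel TelKill ProjSingle

variable {X : Scheme.{u}} (Λ : Type (u + 1)) [CommRing Λ]

/-- Multiplication by `f` on sheaves of modules. -/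
noncomputable def eta (f : Λ) : 𝟭 (EtModW.ModP Λ X) ⟶ 𝟭 (EtModW.ModP Λ X) where
  app F := ProEtDC.smulHom Λ F f
  naturality F G φ := by
    apply Sheaf.hom_ext
    refine NatTrans.ext (funext fun U => ModuleCat.hom_ext (LinearMap.ext fun x => ?_))
    change f • (φ.hom.app U).hom x = (φ.hom.app U).hom (f • x)
    exact ((φ.hom.app U).hom.map_smul f x).symm

theorem eta_app (f : Λ) (F : EtModW.ModP Λ X) : (eta Λ f).app F = ProEtDC.smulHom Λ F f := rfl

/-- Multiplication by `f` on a module. -/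
noncomputable def smulM (N : ModuleCat.{u + 1} Λ) (f : Λ) : N ⟶ N :=
  ModuleCat.ofHom (f • LinearMap.id)

theorem eta_LU (f : Λ) (U : X.ProEt) (N : ModuleCat.{u + 1} Λ) :
    (eta Λ f).app ((LU Λ U).obj N) = (LU Λ U).map (smulM Λ N f) := by
  apply ((adjU Λ U).homEquiv _ _).injective
  rw [Adjunction.homEquiv_unit, Adjunction.homEquiv_unit]
  have h1 := (adjU Λ U).unit.naturality (smulM Λ N f)
  refine Eq.trans ?_ h1
  refine ModuleCat.hom_ext (LinearMap.ext fun x => ?_)
  change f • (((adjU Λ U).unit.app N).hom x) = ((adjU Λ U).unit.app N).hom (f • x)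
  exact (((adjU Λ U).unit.app N).hom.map_smul f x).symm

theorem isIso_smulM (f : Λ) : IsIso (smulM Λ (ModuleCat.of Λ (Localization.Away f)) f) := by
  rw [ConcreteCategory.isIso_iff_bijective]
  have hu : IsUnit (algebraMap Λ (Localization.Away f) f) :=
    IsLocalization.Away.algebraMap_isUnit f
  constructor
  · intro x y hxy
    have h1 : f • x = f • y := hxy
    rw [Algebra.smul_def, Algebra.smul_def] at h1
    exact hu.mul_right_injective h1
  · intro y
    obtain ⟨g, hg⟩ := hu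
    refine ⟨((g⁻¹ : (Localization.Away f)ˣ) : Localization.Away f) * y, ?_⟩
    change f • (((g⁻¹ : (Localization.Away f)ˣ) : Localization.Away f) * y) = y
    rw [Algebra.smul_def, ← hg, Units.mul_inv_cancel_left]

theorem isIso_eta_locExt (f : Λ) (U : X.ProEt) :
    IsIso ((eta Λ f).app (ProEtDC.locExt Λ U f)) := by
  have h := isIso_smulM Λ f
  have h1 := eta_LU Λ f U (ModuleCat.of Λ (Localization.Away f))
  have h2 : IsIso ((LU Λ U).map (smulM Λ (ModuleCat.of Λ (Localization.Away f)) f)) :=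
    inferInstance
  rw [← h1] at h2
  exact h2

theorem isIso_phi (hwc : HasWCCover.{u}) (f : Λ) (F : EtModW.ModP Λ X)
    (h : ∀ U : X.ProEt, IsAffine U.left → ProEtS.IsWC U → TB f (F.obj.obj (op U))) :
    IsIso (phi ((eta Λ f).app F)) := by
  refine isIso_of_bijective hwc _ fun U h1 h2 => ?_
  have hT := h U h1 h2
  let p : ∀ n : ℕ, (pw F) ⟶ F := fun n => Pi.π (fun _ : ℕ => F) n
  have hB := bijective_sections_of_isLimit (A := ModuleCat.{u + 1} Λ) p
    (productIsProduct (fun _ : ℕ => F)) U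
  let B : (pw F).obj.obj (op U) → (ℕ → F.obj.obj (op U)) := fun x n => (p n).hom.app (op U) x
  have hc : B ∘ ((phi ((eta Λ f).app F)).hom.app (op U)) =
      (fun (x : ℕ → F.obj.obj (op U)) (n : ℕ) => x n - f • x (n + 1)) ∘ B := by
    funext x n
    have h3 := congrArg (fun t => (t.hom.app (op U)).hom x) (phi_π ((eta Λ f).app F) n)
    exact h3
  have h4 : Function.Bijective (B ∘ ((phi ((eta Λ f).app F)).hom.app (op U))) := by
    rw [hc]
    exact hT.comp hB
  exact (Function.Bijective.of_comp_iff' hB _).1 h4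

theorem TB_of_surj_inj {f : Λ} {M N : ModuleCat.{u + 1} Λ} (e : M ≅ N) (h : TB f M) : TB f N := by
  have h1 : (fun (x : ℕ → M) (n : ℕ) => e.hom.hom (x n)) ∘
      (fun (x : ℕ → M) (n : ℕ) => x n - f • x (n + 1)) =
      (fun (x : ℕ → N) (n : ℕ) => x n - f • x (n + 1)) ∘
      (fun (x : ℕ → M) (n : ℕ) => e.hom.hom (x n)) := by
    funext x n
    simp
  have hb : Function.Bijective (fun (x : ℕ → M) (n : ℕ) => e.hom.hom (x n)) :=
    (Equiv.piCongrRight (fun _ : ℕ => e.toLinearEquiv.toEquiv)).bijective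
  have h2 := hb.comp h
  rw [h1] at h2
  exact (Function.Bijective.of_comp_iff _ hb).1 h2

theorem TB_of_iso {f : Λ} {F G : EtModW.ModP Λ X} (e : F ≅ G) (U : X.ProEt)
    (h : TB f (F.obj.obj (op U))) : TB f (G.obj.obj (op U)) :=
  TB_of_surj_inj Λ ((evU Λ U).mapIso e) h

theorem TB_of_isZero {f : Λ} {F : EtModW.ModP Λ X} (hF : IsZero F) (U : X.ProEt) :
    TB f (F.obj.obj (op U)) := by
  have h1 : IsZero ((evU Λ U).obj F) := (evU Λ U).map_isZero hF
  have h2 : Subsingleton ((evU Λ U).obj F) := ModuleCat.subsingleton_of_isZero h1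
  have h3 : Subsingleton (F.obj.obj (op U)) := h2
  exact ⟨fun x y _ => Subsingleton.elim _ _, fun y => ⟨y, Subsingleton.elim _ _⟩⟩

section Derived

attribute [local instance] HasDerivedCategory.standard

open DerivedCategory

theorem isIso_app_single {C : Type v} [Category.{u} C] [Abelian C] (η : 𝟭 C ⟶ 𝟭 C) (A : C)
    (h : IsIso (η.app A)) (i : ℤ) : IsIso (η.app ((sg A).X i)) := by
  by_cases hi : i = 0
  · subst hi
    let e : (sg A).X 0 ≅ A := HomologicalComplex.singleObjXSelf (ComplexShape.up ℤ) 0 A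
    have h1 : e.hom ≫ η.app A = η.app ((sg A).X 0) ≫ e.hom := η.naturality e.hom
    have h2 : IsIso (η.app ((sg A).X 0) ≫ e.hom) := by
      rw [← h1]; infer_instance
    exact IsIso.of_isIso_comp_right _ e.hom
  · have h1 : IsZero ((sg A).X i) := HomologicalComplex.isZero_single_obj_X _ _ _ _ hi
    exact ⟨0, h1.eq_of_src _ _, h1.eq_of_src _ _⟩

/-- The cohomology of a shift. -/
noncomputable def shiftHIso {C : Type v} [Category.{u} C] [Abelian C] (K : DerivedCategory C)
    (n a b : ℤ) (h : n + a = b) :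
    (homologyFunctor C a).obj ((shiftFunctor (DerivedCategory C) n).obj K) ≅
      (homologyFunctor C b).obj K :=
  ((homologyFunctor C 0).shiftIso n a b h).app K

theorem isDC_of_TB (hwc : HasWCCover.{u}) {I : Ideal Λ} {K : ProEtDC.DP Λ X}
    (h : ∀ (n : ℤ) (U : X.ProEt), IsAffine U.left → ProEtS.IsWC U → ∀ f ∈ I,
      TB f ((ProEtDC.HDP K n).obj.obj (op U))) : ProEtDC.IsDC Λ I K := by
  intro U f hf n
  have := hasExactLimitsOfShape_nat_modP (X := X) hwc Λ
  have key : ∀ α : (singleFunctor (EtModW.ModP Λ X) 0).obj (ProEtDC.locExt Λ U f) ⟶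
      (shiftFunctor (ProEtDC.DP Λ X) n).obj K, α = 0 := by
    intro α
    refine TelKill.eq_zero.{u + 2, u + 1} (eta Λ f) (M := sg (ProEtDC.locExt Λ U f))
      (isIso_app_single _ _ (isIso_eta_locExt Λ f U)) (fun m => ?_) α
    have h1 := isIso_phi Λ hwc f (ProEtDC.HDP K (n + m)) (fun V h2 h3 => h (n + m) V h2 h3 f hf)
    exact isIso_phi_of_iso (shiftHIso K n m (n + m) rfl).symm ((eta Λ f).naturality _) h1
  exact ⟨fun α β => by rw [key α, key β]⟩

theorem TB_of_isDC {I : Ideal Λ} {K : ProEtDC.DP Λ X} (h : ProEtDC.IsDC Λ I K) (n : ℤ)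
    {U : X.ProEt} (hU : ProEtS.IsWC U) {f : Λ} (hf : f ∈ I) :
    TB f ((ProEtDC.HDP K n).obj.obj (op U)) := by
  refine TB_of_iso Λ (shiftHIso K n 0 n (add_zero n)) U ?_
  rw [← bijective_LU_iff]
  have hP : Projective (freeN Λ) :=
    (IsProjective.iff_projective (R := Λ) (ℕ →₀ Λ)).1 inferInstance
  have : Projective ((telComplex f).map (LU Λ U)).X₁ := projective_LU Λ hU _ hP
  have : Projective ((telComplex f).map (LU Λ U)).X₂ := projective_LU Λ hU _ hP
  refine TriHom.bijective_of_proj (shortExact_tel Λ f U)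
    ((shiftFunctor (ProEtDC.DP Λ X) n).obj K) (h U f hf n) ?_
  have h1 := h U f hf (n + 1)
  have e : (shiftFunctor (ProEtDC.DP Λ X) (n + 1)).obj K ≅
      (shiftFunctor (ProEtDC.DP Λ X) (1 : ℤ)).obj ((shiftFunctor (ProEtDC.DP Λ X) n).obj K) :=
    (shiftFunctorAdd (ProEtDC.DP Λ X) n 1).app K
  exact ⟨fun α β => (cancel_mono e.inv).1 (h1.elim _ _)⟩

theorem isDC_iff (hwc : HasWCCover.{u}) {I : Ideal Λ} {K : ProEtDC.DP Λ X} :
    ProEtDC.IsDC Λ I K ↔ ∀ (n : ℤ) (U : X.ProEt), ProEtS.IsWC U → ∀ f ∈ I,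
      TB f ((ProEtDC.HDP K n).obj.obj (op U)) :=
  ⟨fun h n _ hU _ hf => TB_of_isDC Λ h n hU hf,
    fun h => isDC_of_TB Λ hwc fun n U _ hU => h n U hU⟩

/-- A sheaf is derived complete iff it is so as an object of the derived category. -/
theorem isDC_single_of_TB (hwc : HasWCCover.{u}) {I : Ideal Λ} {F : EtModW.ModP Λ X}
    (h : ∀ (U : X.ProEt), IsAffine U.left → ProEtS.IsWC U → ∀ f ∈ I, TB f (F.obj.obj (op U))) :
    ProEtDC.IsDC Λ I ((singleFunctor (EtModW.ModP Λ X) 0).obj F) := by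
  refine isDC_of_TB Λ hwc fun n U h1 h2 f hf => ?_
  let e : (homologyFunctor (EtModW.ModP Λ X) n).obj
      ((singleFunctor (EtModW.ModP Λ X) 0).obj F) ≅ (sg F).homology n :=
    (homologyFunctorFactors (EtModW.ModP Λ X) n).app (sg F)
  refine TB_of_iso Λ e.symm U ?_
  by_cases hn : n = 0
  · subst hn
    exact TB_of_iso Λ
      (HomologicalComplex.singleObjHomologySelfIso (ComplexShape.up ℤ) 0 F).symm U (h U h1 h2 f hf)
  · exact TB_of_isZero Λ (HomologicalComplex.isZero_single_obj_homology _ _ _ _ hn) U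

theorem isDCSheaf_of_TB (hwc : HasWCCover.{u}) {I : Ideal Λ} {F : EtModW.ModP Λ X}
    (h : ∀ (U : X.ProEt), IsAffine U.left → ProEtS.IsWC U → ∀ f ∈ I, TB f (F.obj.obj (op U))) :
    ProEtDC.IsDCSheaf Λ I F := by
  intro U f hf n
  have h1 := isDC_single_of_TB Λ hwc h U f hf n
  exact (Abelian.Ext.homEquiv.{u + 2, u + 1} (X := ProEtDC.locExt Λ U f) (Y := F) (n := n)).injective.subsingleton

/-- A sheaf is derived complete iff its telescopes on sections over weakly contractible objects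
are bijective. -/
theorem isDCSheaf_iff (hwc : HasWCCover.{u}) {I : Ideal Λ} {F : EtModW.ModP Λ X} :
    ProEtDC.IsDCSheaf Λ I F ↔ ∀ (U : X.ProEt), ProEtS.IsWC U → ∀ f ∈ I,
      TB f (F.obj.obj (op U)) :=
  ⟨fun h U _ _ hf => TB_of_isDCSheaf Λ h hf U,
    fun h => isDCSheaf_of_TB Λ hwc fun U _ hU => h U hU⟩

/-- `K` is derived complete iff its cohomology sheaves are. -/
theorem isDC_iff_homology (hwc : HasWCCover.{u}) {I : Ideal Λ} {K : ProEtDC.DP Λ X} :
    ProEtDC.IsDC Λ I K ↔ ∀ p : ℤ, ProEtDC.IsDCSheaf Λ I (ProEtDC.HDP K p) := by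
  rw [isDC_iff Λ hwc]
  exact forall_congr' fun p => (isDCSheaf_iff Λ hwc).symm

end Derived

end Groth.Agent.Proet.DCDer
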