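import Groth.Prelude.Def_ProEtS
import Groth.Agent.Proet.Cont
import Groth.Agent.Etbase.LanFlat
import Groth.Agent.Etrest.RAcyc

/-!
# Basic facts on `eps⁻¹ ⊣ eps_*` and on `f⁻¹ ⊣ f_*` for small pro-etale sites

* `eps⁻¹` and `pullP f` preserve finite limits (so they are exact), `eps_*`, `pushP f`, `restrP j` preserve
  injectives.
* `eps⁻¹` of a constant sheaf is constant.
* invariance of `Ext` under isomorphisms of the arguments.
-/

set_option autoImplicit false
universe u v w w'

open CategoryTheory CategoryTheory.Limits AlgebraicGeometry Opposite CategoryTheory.Abelian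

namespace Groth.Agent.Proet.EpsBasic

theorem preservesFiniteLimits_sheafPullback {C D : Type (u + 1)} [Category.{u} C] [Category.{u} D]
    (F : C ⥤ D) [RepresentablyFlat F] (J : GrothendieckTopology C) (K : GrothendieckTopology D)
    [HasSheafify J AddCommGrpCat.{u + 1}] [HasSheafify K AddCommGrpCat.{u + 1}]
    [F.IsContinuous J K] :
    PreservesFiniteLimits (F.sheafPullback AddCommGrpCat.{u + 1} J K) := by
  have hfl : ∀ X : Dᵒᵖ, IsFiltered (CostructuredArrow F.op X) := fun X =>
    IsFiltered.of_equivalence (structuredArrowOpEquivalence F (unop X))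
  have : ∀ X : Dᵒᵖ, HasColimitsOfShape (CostructuredArrow F.op X)
      AddCommGrpCat.{u + 1} := fun X => inferInstance
  have : PreservesFiniteLimits (F.op.lan :
      (_ ⥤ AddCommGrpCat.{u + 1}) ⥤ Dᵒᵖ ⥤ AddCommGrpCat.{u + 1}) :=
    Groth.Agent.Etbase.LanFlat.preservesFiniteLimits_op_lan _ _ (fun X => by
      have := hfl X
      have : HasFilteredColimitsOfSize.{u, u + 1} AddCommGrpCat.{u + 1} :=
        hasFilteredColimitsOfSize_shrink.{u, u + 1, u + 1, u + 1}
      have : AB5OfSize.{u, u + 1} AddCommGrpCat.{u + 1} := AB5OfSize_shrink.{u, u + 1, u + 1, u + 1} _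
      exact HasExactColimitsOfShape.preservesFiniteLimits)
  exact Functor.sheafPullbackConstruction.preservesFiniteLimits _ _ _ _

set_option backward.isDefEq.respectTransparency.types false in
theorem preservesFiniteLimits_epsPull (X : Scheme.{u}) [ProEtS.EpsCont X] :
    PreservesFiniteLimits (ProEtS.epsPull X) := by
  have := Groth.Agent.Proet.Cont.preservesFiniteLimits_eps X
  have : RepresentablyFlat (ProEtS.eps X) := flat_of_preservesFiniteLimits _
  exact preservesFiniteLimits_sheafPullback _ _ _

set_option backward.isDefEq.respectTransparency.types false in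
theorem preservesFiniteLimits_pullP {X Y : Scheme.{u}} (f : X ⟶ Y) [ProEtS.PCont f] :
    PreservesFiniteLimits (ProEtS.pullP f) := by
  have := Groth.Agent.Proet.Cont.preservesFiniteLimits_bcP f
  have : RepresentablyFlat (ProEtS.bcP f) := flat_of_preservesFiniteLimits _
  exact preservesFiniteLimits_sheafPullback _ _ _

set_option backward.isDefEq.respectTransparency.types false in
/-- The terminal object of the small étale site. -/
noncomputable def topIsTerminal (X : Scheme.{u}) : IsTerminal (EtCoh.top X) :=
  MorphismProperty.Over.mkIdTerminal EtCoh.etaleMP X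

set_option backward.isDefEq.respectTransparency.types false in
/-- The terminal object of the small pro-étale site. -/
noncomputable def topPIsTerminal (X : Scheme.{u}) : IsTerminal (ProEtS.topP X) :=
  MorphismProperty.Over.mkIdTerminal (@WeaklyEtale) X

set_option backward.isDefEq.respectTransparency.types false in
/-- The image of the terminal object of the étale site is terminal. -/
noncomputable def epsTopIsTerminal (X : Scheme.{u}) : IsTerminal ((ProEtS.eps X).obj (EtCoh.top X)) :=
  topPIsTerminal X

set_option backward.isDefEq.respectTransparency.types false in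
/-- `eps⁻¹` of a constant sheaf is constant. -/
noncomputable def constEpsPullIso (X : Scheme.{u}) [ProEtS.EpsCont X] :
    constantSheaf X.smallEtaleTopology AddCommGrpCat.{u + 1} ⋙ ProEtS.epsPull X ≅
      constantSheaf (Scheme.ProEt.topology X) AddCommGrpCat.{u + 1} :=
  Adjunction.leftAdjointUniq
    ((constantSheafAdj X.smallEtaleTopology AddCommGrpCat.{u + 1} (topIsTerminal X)).comp
      (ProEtS.epsAdj X))
    (constantSheafAdj (Scheme.ProEt.topology X) AddCommGrpCat.{u + 1} (epsTopIsTerminal X))

set_option backward.isDefEq.respectTransparency.types false in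
/-- The base change of the terminal object is terminal. -/
noncomputable def bcPTopIsTerminal {X Y : Scheme.{u}} (f : X ⟶ Y) :
    IsTerminal ((ProEtS.bcP f).obj (ProEtS.topP Y)) :=
  have := Groth.Agent.Proet.Cont.preservesFiniteLimits_bcP f
  IsTerminal.isTerminalObj _ _ (topPIsTerminal Y)

set_option backward.isDefEq.respectTransparency.types false in
/-- The pullback of a constant pro-étale sheaf is constant. -/
noncomputable def constPullPIso {X Y : Scheme.{u}} (f : X ⟶ Y) [ProEtS.PCont f] :
    constantSheaf (Scheme.ProEt.topology Y) AddCommGrpCat.{u + 1} ⋙ ProEtS.pullP f ≅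
      constantSheaf (Scheme.ProEt.topology X) AddCommGrpCat.{u + 1} :=
  Adjunction.leftAdjointUniq
    ((constantSheafAdj (Scheme.ProEt.topology Y) AddCommGrpCat.{u + 1} (topPIsTerminal Y)).comp
      (ProEtS.pullPushAdjP f))
    (constantSheafAdj (Scheme.ProEt.topology X) AddCommGrpCat.{u + 1} (bcPTopIsTerminal f))

/-- Precomposition with an isomorphism on `Ext` groups. -/
noncomputable def extPrecompIso {C : Type*} [Category* C] [Abelian C] [HasExt.{w} C] {A A' : C} (e : A ≅ A')
    (B : C) (n : ℕ) : Abelian.Ext A' B n ≃+ Abelian.Ext A B n where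
  toFun x := (Abelian.Ext.mk₀ e.hom).comp x (zero_add n)
  invFun x := (Abelian.Ext.mk₀ e.inv).comp x (zero_add n)
  left_inv x := by simp
  right_inv x := by simp
  map_add' x y := by simp

/-- Postcomposition with an isomorphism on `Ext` groups. -/
noncomputable def extPostcompIso {C : Type*} [Category* C] [Abelian C] [HasExt.{w} C] (A : C) {B B' : C}
    (e : B ≅ B') (n : ℕ) : Abelian.Ext A B n ≃+ Abelian.Ext A B' n where
  toFun x := x.comp (Abelian.Ext.mk₀ e.hom) (add_zero n)
  invFun x := x.comp (Abelian.Ext.mk₀ e.inv) (add_zero n)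
  left_inv x := by simp
  right_inv x := by simp
  map_add' x y := by simp

/-- `eps_*` preserves injectives. -/
theorem injective_epsPush (X : Scheme.{u}) [ProEtS.EpsCont X] (J : ProEtS.AbP X) [Injective J] :
    Injective ((ProEtS.epsPush X).obj J) := by
  have := preservesFiniteLimits_epsPull X
  exact Injective.injective_of_adjoint (ProEtS.epsAdj X) J

/-- `f_*` preserves injectives. -/
theorem injective_pushP {X Y : Scheme.{u}} (f : X ⟶ Y) [ProEtS.PCont f] (J : ProEtS.AbP X)
    [Injective J] : Injective ((ProEtS.pushP f).obj J) := by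
  have := preservesFiniteLimits_pullP f
  exact Injective.injective_of_adjoint (ProEtS.pullPushAdjP f) J

theorem preservesFiniteLimits_epsPush (X : Scheme.{u}) [ProEtS.EpsCont X] :
    PreservesFiniteLimits (ProEtS.epsPush X) := by
  have := (ProEtS.epsAdj X).rightAdjoint_preservesLimits
  infer_instance

theorem preservesFiniteLimits_pushP {X Y : Scheme.{u}} (f : X ⟶ Y) [ProEtS.PCont f] :
    PreservesFiniteLimits (ProEtS.pushP f) := by
  have := (ProEtS.pullPushAdjP f).rightAdjoint_preservesLimits
  infer_instance

end Groth.Agent.Proet.EpsBasic
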