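import Groth.Agent.Proet.DCArtinRees
import Groth.Agent.Proet.ConstSec
import Groth.Agent.Proet.EpsBasic

/-!
# Extending maps from the constant sheaf to its completion
-/

set_option autoImplicit false
universe u v w v' u'

open CategoryTheory CategoryTheory.Limits AlgebraicGeometry Opposite

namespace Groth.Agent.Proet.DCExt

open WCExist WCExact WCProj ConstSec DCAlg

variable {X : Scheme.{u}} {Λ : Type (u + 1)} [CommRing Λ]

theorem cst_hom_ext {N : ModuleCat.{u + 1} Λ} {G : EtModW.ModP Λ X} {f g : cst X N ⟶ G}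
    (h : ∀ (V : X.ProEt) (n : N), f.hom.app (op V) (eta N V n) = g.hom.app (op V) (eta N V n)) :
    f = g := by
  apply Sheaf.hom_ext
  apply sheafify_hom_ext (Scheme.ProEt.topology X) _ _ G.property
  ext V n
  exact h V.unop n

/-- Multiplication by a scalar on the constant sheaf. -/
theorem cstMap_smul (N : ModuleCat.{u + 1} Λ) (c : Λ) :
    cstMap X (ModuleCat.ofHom (c • (LinearMap.id : N →ₗ[Λ] N))) = ProEtDC.smulHom Λ (cst X N) c := by
  apply cst_hom_ext
  intro V n
  rw [eta_natural]
  change eta N V (c • n) = c • eta N V n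
  rw [map_smul]

theorem smulHom_app (F : EtModW.ModP Λ X) (c : Λ) (V : X.ProEt) (x : F.obj.obj (op V)) :
    (ProEtDC.smulHom Λ F c).hom.app (op V) x = c • x := rfl

instance additive_evU (V : X.ProEt) : (evU Λ V).Additive where
  map_add := rfl

theorem sum_app {ι : Type*} (s : Finset ι) {F G : EtModW.ModP Λ X} (f : ι → (F ⟶ G))
    (V : X.ProEt) (x : F.obj.obj (op V)) :
    (∑ i ∈ s, f i).hom.app (op V) x = ∑ i ∈ s, (f i).hom.app (op V) x := by
  have h : (evU Λ V).map (∑ i ∈ s, f i) = ∑ i ∈ s, (evU Λ V).map (f i) := (evU Λ V).map_sum f s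
  have h2 := congrArg (fun t => t.hom x) h
  rw [ModuleCat.hom_sum] at h2
  simpa using h2

/-- Sections of a sheaf of modules which agree on a covering sieve agree. -/
theorem sections_ext (F : EtModW.ModP Λ X) {V : X.ProEt} {R : Sieve V}
    (hR : R ∈ Scheme.ProEt.topology X V) {x y : F.obj.obj (op V)}
    (h : ∀ (W : X.ProEt) (g : W ⟶ V), R g → F.obj.map g.op x = F.obj.map g.op y) : x = y := by
  have hF : Presieve.IsSheaf (Scheme.ProEt.topology X)
      ((sheafCompose (Scheme.ProEt.topology X) (forget (ModuleCat.{u + 1} Λ))).obj F).obj :=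
    (isSheaf_iff_isSheaf_of_type _ _).1
      ((sheafCompose (Scheme.ProEt.topology X) (forget (ModuleCat.{u + 1} Λ))).obj F).property
  exact (hF R hR).isSeparatedFor.ext fun W g hg => h W g hg

theorem hom_eq_zero_of_wc (hwc : HasWCCover.{u}) {K F : EtModW.ModP Λ X} (f : K ⟶ F)
    (h : ∀ V : X.ProEt, IsAffine V.left → ProEtS.IsWC V → ∀ z : K.obj.obj (op V),
      f.hom.app (op V) z = 0) : f = 0 := by
  apply Sheaf.hom_ext
  ext V z
  change f.hom.app V z = (0 : F.obj.obj V)
  obtain ⟨V⟩ := V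
  refine sections_ext F (wcSieve_mem hwc V) ?_
  rintro W g ⟨V', c, d, h1, h2, rfl⟩
  have e1 := NatTrans.naturality_apply f.hom d.op z
  have e2 := h V' h1 h2 (K.obj.map d.op z)
  rw [op_comp, Functor.map_comp, ModuleCat.comp_apply, ModuleCat.comp_apply, map_zero, map_zero]
  rw [e2] at e1
  refine (congrArg (F.obj.map c.op) e1.symm).trans (map_zero _)

section Construction

variable {r : ℕ} (a : Fin r → Λ) (F : EtModW.ModP Λ X)

variable (X Λ r) in
/-- The product of copies of the constant sheaf indexed by exponents. -/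
noncomputable abbrev GG : EtModW.ModP Λ X := ∏ᶜ fun _ : (Fin r →₀ ℕ) => cst X (Lam Λ)

variable (X Λ r) in
noncomputable abbrev pr (α : Fin r →₀ ℕ) : GG X Λ r ⟶ cst X (Lam Λ) :=
  Pi.π (fun _ : (Fin r →₀ ℕ) => cst X (Lam Λ)) α

theorem bijective_GG (V : X.ProEt) :
    Function.Bijective (fun (x : (GG X Λ r).obj.obj (op V)) (α : Fin r →₀ ℕ) =>
      (pr X Λ r α).hom.app (op V) x) :=
  bijective_sections_of_isLimit (fun α => pr X Λ r α) (productIsProduct _) V

variable {F} in
/-- The sections of a derived complete sheaf. -/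
theorem exists_S (hF : ∀ (U : X.ProEt) (i : Fin r), IsDC (a i) (F.obj.obj (op U))) :
    ∃ S : ∀ U : X.ProEt, ((Fin r →₀ ℕ) → F.obj.obj (op U)) →ₗ[Λ] F.obj.obj (op U),
      (∀ U (m : F.obj.obj (op U)), S U (fun α => if α = 0 then m else 0) = m) ∧
      (∀ U (i : Fin r) (b : (Fin r →₀ ℕ) → F.obj.obj (op U)), S U (up i b) = a i • S U b) ∧
      ∀ {U V : X.ProEt} (g : V ⟶ U) (b : (Fin r →₀ ℕ) → F.obj.obj (op U)),
        F.obj.map g.op (S U b) = S V (fun α => F.obj.map g.op (b α)) := by
  choose S h1 h2 using fun U => exists_sum a (hF U)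
  refine ⟨S, h1, h2, ?_⟩
  intro U V g b
  let D : ((Fin r →₀ ℕ) → F.obj.obj (op U)) →+ F.obj.obj (op V) :=
    { toFun := fun b => F.obj.map g.op (S U b) - S V (fun α => F.obj.map g.op (b α))
      map_zero' := by
        have : (fun α : Fin r →₀ ℕ => F.obj.map g.op ((0 : (Fin r →₀ ℕ) → F.obj.obj (op U)) α)) =
            0 := by
          funext α
          simp
        rw [this, map_zero, map_zero, map_zero, sub_zero]
      map_add' := fun b c => by
        have : (fun α : Fin r →₀ ℕ => F.obj.map g.op ((b + c) α)) =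
            (fun α => F.obj.map g.op (b α)) + (fun α => F.obj.map g.op (c α)) := by
          funext α
          simp
        rw [this, map_add, map_add, map_add]
        abel }
  have hD : ∀ b, D b = F.obj.map g.op (S U b) - S V (fun α => F.obj.map g.op (b α)) :=
    fun _ => rfl
  have h0 : D = 0 := by
    refine eq_zero_of_up a (hF V) D (fun m => ?_) (fun i b => ?_)
    · rw [hD, h1]
      have : (fun α : Fin r →₀ ℕ => F.obj.map g.op (if α = 0 then m else 0)) =
          fun α => if α = 0 then F.obj.map g.op m else 0 := by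
        funext α
        by_cases hα : α = 0 <;> simp [hα]
      rw [this, h1, sub_self]
    · rw [hD, hD, h2, map_smul, smul_sub, ← h2 V]
      congr 2
      exact up_comp (F.obj.map g.op).hom.toAddMonoidHom i b
  have := DFunLike.congr_fun h0 b
  rw [hD] at this
  exact sub_eq_zero.1 this

variable {F} in
/-- The map from the product of copies of the constant sheaf defined by the sum operator. -/
theorem exists_Phi (hF : ∀ (U : X.ProEt) (i : Fin r), IsDC (a i) (F.obj.obj (op U)))
    (s : cst X (Lam Λ) ⟶ F) :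
    ∃ Φ : GG X Λ r ⟶ F,
      (∀ (V : X.ProEt) (g : (GG X Λ r).obj.obj (op V)) (m : (cst X (Lam Λ)).obj.obj (op V)),
        (∀ α, (pr X Λ r α).hom.app (op V) g = if α = 0 then m else 0) →
          Φ.hom.app (op V) g = s.hom.app (op V) m) ∧
      ∀ (V : X.ProEt) (g : (GG X Λ r).obj.obj (op V)) [IsNoetherianRing Λ]
        [Module.Flat Λ ((cst X (Lam Λ)).obj.obj (op V))],
        (∀ n : ℕ, ∑ k ∈ Finset.range n, ∑ α ∈ dg r k,
          mon a α • (pr X Λ r α).hom.app (op V) g ∈ (Ideal.span (Set.range a)) ^ n •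
            (⊤ : Submodule Λ ((cst X (Lam Λ)).obj.obj (op V)))) →
          Φ.hom.app (op V) g = 0 := by
  obtain ⟨S, h1, h2, h3⟩ := exists_S a hF
  let T : ∀ U : X.ProEt, (GG X Λ r).obj.obj (op U) →ₗ[Λ] F.obj.obj (op U) := fun U =>
    (S U).comp (LinearMap.pi fun α => (s.hom.app (op U)).hom.comp ((pr X Λ r α).hom.app (op U)).hom)
  have hT : ∀ U g, T U g = S U (fun α => s.hom.app (op U) ((pr X Λ r α).hom.app (op U) g)) :=
    fun _ _ => rfl
  let Φ : GG X Λ r ⟶ F :=
    ⟨{ app := fun U => ModuleCat.ofHom (T U.unop)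
       naturality := by
         intro U V g
         ext x
         change T V.unop ((GG X Λ r).obj.map g x) = F.obj.map g (T U.unop x)
         rw [hT, hT]
         have := h3 g.unop (fun α => s.hom.app U ((pr X Λ r α).hom.app U x))
         rw [Quiver.Hom.op_unop] at this
         refine Eq.trans ?_ this.symm
         congr 1
         funext α
         have e1 : (pr X Λ r α).hom.app V ((GG X Λ r).obj.map g x) =
           (cst X (Lam Λ)).obj.map g ((pr X Λ r α).hom.app U x) :=
           NatTrans.naturality_apply (pr X Λ r α).hom g x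
         have e2 : s.hom.app V ((cst X (Lam Λ)).obj.map g ((pr X Λ r α).hom.app U x)) =
           F.obj.map g (s.hom.app U ((pr X Λ r α).hom.app U x)) :=
           NatTrans.naturality_apply s.hom g _
         exact (congrArg _ e1).trans e2 }⟩
  have hΦ : ∀ (V : X.ProEt) (g : (GG X Λ r).obj.obj (op V)), Φ.hom.app (op V) g = T V g :=
    fun _ _ => rfl
  refine ⟨Φ, fun V g m hg => ?_, fun V g _ _ hg => ?_⟩
  · rw [hΦ, hT, ← h1 V (s.hom.app (op V) m)]
    congr 1
    funext α
    rw [hg α]
    by_cases hα : α = 0 <;> simp [hα]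
  · rw [hΦ, hT]
    exact sum_eq_zero a (S V) (h2 V) (s.hom.app (op V)).hom
      (fun α => (pr X Λ r α).hom.app (op V) g) hg

/-- The ideal generated by the `a i`. -/
noncomputable abbrev II : Ideal Λ := Ideal.span (Set.range a)

/-- The quotient map `Λ → Λ / I^n`. -/
noncomputable abbrev qq (n : ℕᵒᵖ) : Lam Λ ⟶ (ProEtDC.quotTower Λ (II a)).obj n :=
  ModuleCat.ofHom (Submodule.mkQ _)

theorem qq_map {m n : ℕᵒᵖ} (f : m ⟶ n) : qq a m ≫ (ProEtDC.quotTower Λ (II a)).map f = qq a n := by
  ext
  rfl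

theorem mon_mem (α : Fin r →₀ ℕ) : mon a α ∈ (II a) ^ (Finsupp.degree α) := by
  have h1 : mon a α = ∏ i ∈ α.support, a i ^ α i := rfl
  have h2 : Finsupp.degree α = ∑ i ∈ α.support, α i := rfl
  rw [h1, h2, ← Finset.prod_pow_eq_pow_sum]
  exact Ideal.prod_mem_prod fun i _ =>
    Ideal.pow_mem_pow (Ideal.subset_span (Set.mem_range_self i)) _

theorem smul_qq {n : ℕᵒᵖ} {c : Λ} (hc : c ∈ (II a) ^ n.unop) :
    ProEtDC.smulHom Λ (cst X (Lam Λ)) c ≫ cstMap X (qq a n) = 0 := by
  rw [← cstMap_smul]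
  have h1 : ModuleCat.ofHom (c • (LinearMap.id : Lam Λ →ₗ[Λ] Lam Λ)) ≫ qq a n = 0 := by
    ext
    change Submodule.Quotient.mk (c • (1 : Λ)) = 0
    rw [Submodule.Quotient.mk_eq_zero]
    exact Submodule.smul_mem_smul hc trivial
  have h2 : cstMap X (ModuleCat.ofHom (c • (LinearMap.id : Lam Λ →ₗ[Λ] Lam Λ))) ≫
      cstMap X (qq a n) = cstMap X (ModuleCat.ofHom (c • (LinearMap.id : Lam Λ →ₗ[Λ] Lam Λ)) ≫
        qq a n) := (Functor.map_comp _ _ _).symm
  rw [h2, h1]
  apply cst_hom_ext
  intro V x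
  rw [eta_natural]
  change eta _ V (0 : _) = 0
  rw [map_zero]

/-- The component at `n` of the projection to the completion. -/
noncomputable def piN (n : ℕᵒᵖ) : GG X Λ r ⟶ cst X ((ProEtDC.quotTower Λ (II a)).obj n) :=
  ∑ k ∈ Finset.range n.unop, ∑ α ∈ dg r k, pr X Λ r α ≫
    ProEtDC.smulHom Λ (cst X (Lam Λ)) (mon a α) ≫ cstMap X (qq a n)

theorem piN_app (n : ℕᵒᵖ) (V : X.ProEt) (g : (GG X Λ r).obj.obj (op V)) :
    (piN a n).hom.app (op V) g = (cstMap X (qq a n)).hom.app (op V)
      (∑ k ∈ Finset.range n.unop, ∑ α ∈ dg r k, mon a α • (pr X Λ r α).hom.app (op V) g) := by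
  rw [piN, sum_app, map_sum]
  refine Finset.sum_congr rfl fun k _ => ?_
  rw [sum_app, map_sum]
  rfl

theorem piN_map {m n : ℕᵒᵖ} (f : m ⟶ n) :
    piN (X := X) a m ≫ cstMap X ((ProEtDC.quotTower Λ (II a)).map f) = piN a n := by
  have hmn : n.unop ≤ m.unop := leOfHom f.unop
  rw [piN, piN, Preadditive.sum_comp]
  have h1 : ∀ α : Fin r →₀ ℕ, (pr X Λ r α ≫ ProEtDC.smulHom Λ (cst X (Lam Λ)) (mon a α) ≫
      cstMap X (qq a m)) ≫ cstMap X ((ProEtDC.quotTower Λ (II a)).map f) =
      pr X Λ r α ≫ ProEtDC.smulHom Λ (cst X (Lam Λ)) (mon a α) ≫ cstMap X (qq a n) := by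
    intro α
    rw [Category.assoc, Category.assoc]
    congr 2
    refine ((constantSheaf (Scheme.ProEt.topology X) (ModuleCat.{u + 1} Λ)).map_comp _ _).symm.trans
      ?_
    rw [qq_map]
  simp only [Preadditive.sum_comp, h1]
  symm
  refine Finset.sum_subset (Finset.range_subset_range.2 hmn) fun k _ hk => ?_
  refine Finset.sum_eq_zero fun α hα => ?_
  rw [smul_qq a, comp_zero]
  have h2 := mon_mem a α
  rw [mem_dg.1 hα] at h2
  rw [Finset.mem_range, not_lt] at hk
  exact Ideal.pow_le_pow_right hk h2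

/-- The projection from the product to the completion. -/
noncomputable def piHat : GG X Λ r ⟶ ProEtDC.lambdaHat Λ X (II a) :=
  limit.lift _ ⟨GG X Λ r, { app := fun n => piN a n
                            naturality := fun m n f => by
                              exact (Category.id_comp _).trans (piN_map a f).symm }⟩

theorem piHat_π (n : ℕᵒᵖ) : piHat (X := X) a ≫ limit.π _ n = piN a n := limit.lift_π _ _

theorem piHat_π_app (n : ℕᵒᵖ) (V : X.ProEt) (g : (GG X Λ r).obj.obj (op V)) :
    (limit.π (ProEtDC.quotTower Λ (II a) ⋙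
      constantSheaf (Scheme.ProEt.topology X) (ModuleCat.{u + 1} Λ)) n).hom.app (op V)
      ((piHat a).hom.app (op V) g) = (piN a n).hom.app (op V) g := by
  have h := congrArg (fun t => t.hom.app (op V) g) (piHat_π (X := X) a n)
  exact h

/-- Sections of a limit sheaf are determined by their projections. -/
theorem limit_sections_ext {K : Type} [SmallCategory K] (D : K ⥤ EtModW.ModP Λ X) (V : X.ProEt)
    {x y : (limit D).obj.obj (op V)}
    (h : ∀ k, (limit.π D k).hom.app (op V) x = (limit.π D k).hom.app (op V) y) : x = y := by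
  let E : EtModW.ModP Λ X ⥤ Type (u + 1) :=
    sheafToPresheaf _ _ ⋙ (evaluation _ _).obj (op V) ⋙ forget (ModuleCat.{u + 1} Λ)
  have hl : IsLimit (E.mapCone (limit.cone D)) := isLimitOfPreserves E (limit.isLimit D)
  have h1 : (↾fun _ : PUnit.{u + 2} => x) = ↾fun _ => y := by
    refine hl.hom_ext fun k => ?_
    ext ⟨⟩
    exact h k
  exact ConcreteCategory.congr_hom h1 PUnit.unit

instance epi_cstMap_qq (n : ℕᵒᵖ) : Epi (cstMap X (qq a n)) := by
  have h1 : Epi (qq a n) := by
    rw [ModuleCat.epi_iff_surjective]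
    exact Submodule.mkQ_surjective _
  have : (constantSheaf (Scheme.ProEt.topology X) (ModuleCat.{u + 1} Λ)).IsLeftAdjoint :=
    (constantSheafAdj (Scheme.ProEt.topology X) (ModuleCat.{u + 1} Λ)
      (T := ProEtS.topP X) (EpsBasic.topPIsTerminal X)).isLeftAdjoint
  exact (constantSheaf (Scheme.ProEt.topology X) (ModuleCat.{u + 1} Λ)).map_epi (qq a n)

theorem epi_piHat (hwc : HasWCCover.{u}) : Epi (piHat (X := X) a) := by
  refine epi_of_surjective hwc _ fun V hVa hV => ?_
  intro t
  let tn : ∀ n : ℕᵒᵖ, (cst X ((ProEtDC.quotTower Λ (II a)).obj n)).obj.obj (op V) := fun n =>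
    (limit.π (ProEtDC.quotTower Λ (II a) ⋙
      constantSheaf (Scheme.ProEt.topology X) (ModuleCat.{u + 1} Λ)) n).hom.app (op V) t
  have htn : ∀ {m n : ℕᵒᵖ} (f : m ⟶ n),
      (cstMap X ((ProEtDC.quotTower Λ (II a)).map f)).hom.app (op V) (tn m) = tn n := by
    intro m n f
    have h := congrArg (fun t => t.hom.app (op V)) (limit.w (ProEtDC.quotTower Λ (II a) ⋙
      constantSheaf (Scheme.ProEt.topology X) (ModuleCat.{u + 1} Λ)) f)
    exact ConcreteCategory.congr_hom h t
  have hsurj : ∀ n : ℕ, Function.Surjective ((cstMap X (qq a (op n))).hom.app (op V)) := by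
    intro n
    have := epi_cstMap_qq (X := X) a (op n)
    exact WCExact.surjective_of_epi (cstMap X (qq a (op n))) hV
  choose x hx using fun n : ℕ => hsurj n (tn (op n))
  let q : ∀ n : ℕ, (cst X (Lam Λ)).obj.obj (op V) →ₗ[Λ]
      (cst X ((ProEtDC.quotTower Λ (II a)).obj (op n))).obj.obj (op V) := fun n =>
    ((cstMap X (qq a (op n))).hom.app (op V)).hom
  have hq : ∀ n y, (cstMap X (qq a (op n))).hom.app (op V) y = q n y := fun _ _ => rfl
  have hqq : ∀ {m n : ℕ} (h : n ≤ m) y,
      (cstMap X ((ProEtDC.quotTower Λ (II a)).map (homOfLE h).op)).hom.app (op V) (q m y) =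
        q n y := by
    intro m n h y
    have h1 : cstMap X (qq a (op m)) ≫ cstMap X ((ProEtDC.quotTower Λ (II a)).map (homOfLE h).op) =
        cstMap X (qq a (op n)) := by
      refine ((constantSheaf (Scheme.ProEt.topology X)
        (ModuleCat.{u + 1} Λ)).map_comp _ _).symm.trans ?_
      rw [qq_map]
    exact ConcreteCategory.congr_hom (congrArg (fun t => t.hom.app (op V)) h1) y
  have hd : ∀ n, q n (x (n + 1) - x n) = 0 := by
    intro n
    rw [map_sub, ← hqq (Nat.le_succ n) (x (n + 1)), ← hq, ← hq, hx, hx, htn, sub_self]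
  have hmem : ∀ n, x (n + 1) - x n ∈ (II a) ^ n •
      (⊤ : Submodule Λ ((cst X (Lam Λ)).obj.obj (op V))) := by
    intro n
    refine mem_of_cstMap_eq_zero hV ((II a) ^ n) (qq a (op n)) (fun c hc => ?_) _ (hd n)
    have hc' : (Submodule.Quotient.mk c : Λ ⧸ ((II a) ^ n • ⊤ : Submodule Λ Λ)) = 0 := hc
    rw [Submodule.Quotient.mk_eq_zero, smul_eq_mul, Ideal.mul_top] at hc'
    exact hc'
  choose e he hes using fun n => exists_of_mem_pow_smul a n _ (hmem n)
  let b : (Fin r →₀ ℕ) → (cst X (Lam Λ)).obj.obj (op V) := fun α =>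
    e (Finsupp.degree α) α + if α = 0 then x 0 else 0
  have hb : ∀ n : ℕ, 0 < n → ∑ k ∈ Finset.range n, ∑ α ∈ dg r k, mon a α • b α = x n := by
    intro n hn
    obtain ⟨n, rfl⟩ : ∃ m, n = m + 1 := ⟨n - 1, by omega⟩
    clear hn
    have h0 : ∀ k, ∑ α ∈ dg r k, mon a α • b α =
        (x (k + 1) - x k) + if k = 0 then x 0 else 0 := by
      intro k
      rw [hes k]
      have h1 : ∀ α ∈ dg r k, mon a α • b α = mon a α • e k α +
          if α = 0 then x 0 else 0 := by
        intro α hα
        rw [mem_dg] at hα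
        simp only [b, hα, smul_add]
        congr 1
        by_cases h : α = 0
        · subst h
          simp [mon]
        · simp [h]
      rw [Finset.sum_congr rfl h1, Finset.sum_add_distrib]
      congr 1
      by_cases hk : k = 0
      · subst hk
        have h3 : dg r 0 = {0} := by
          ext β
          rw [mem_dg, Finset.mem_singleton, Finsupp.degree_eq_zero_iff]
        rw [h3, Finset.sum_singleton, if_pos rfl, if_pos rfl]
      · rw [if_neg hk]
        refine Finset.sum_eq_zero fun α hα => ?_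
        rw [mem_dg] at hα
        rw [if_neg]
        rintro rfl
        rw [map_zero] at hα
        exact hk hα.symm
    induction n with
    | zero =>
      rw [zero_add, Finset.sum_range_one, h0, if_pos rfl]
      abel
    | succ n ih =>
      rw [Finset.sum_range_succ, ih, h0, if_neg (Nat.succ_ne_zero n)]
      abel
  obtain ⟨g, hg⟩ := (bijective_GG (Λ := Λ) (r := r) V).2 b
  refine ⟨g, ?_⟩
  apply limit_sections_ext
  intro n
  rw [piHat_π_app, piN_app]
  change _ = tn n
  have hg' : ∀ α, (pr X Λ r α).hom.app (op V) g = b α := fun α => congrFun hg α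
  simp only [hg']
  obtain ⟨n⟩ := n
  by_cases hn : 0 < n
  · rw [hb n hn, hx]
  · obtain rfl : n = 0 := by omega
    rw [Finset.range_zero, Finset.sum_empty, map_zero,
      ← htn (homOfLE (Nat.zero_le 1)).op, ← hx 1]
    rw [hq, hqq]
    have h1 : qq a (op 0) = 0 := by
      ext
      change Submodule.Quotient.mk (1 : Λ) = 0
      rw [Submodule.Quotient.mk_eq_zero, pow_zero, smul_eq_mul, Ideal.one_eq_top, Ideal.top_mul]
      trivial
    have h2 : cstMap X (qq a (op 0)) = 0 := by
      rw [h1]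
      apply cst_hom_ext
      intro V x
      rw [eta_natural]
      change eta _ V (0 : _) = 0
      rw [map_zero]
    rw [← hq, h2]
    rfl

/-- Every map from the constant sheaf `Λ` to a derived complete sheaf factors through a map from
the completion `Λ^`. -/
theorem exists_extension (hwc : HasWCCover.{u}) [IsNoetherianRing Λ] {F : EtModW.ModP Λ X}
    (hF : ∀ (U : X.ProEt) (i : Fin r), IsDC (a i) (F.obj.obj (op U)))
    (s : cst X (Lam Λ) ⟶ F) :
    ∃ (κ : cst X (Lam Λ) ⟶ ProEtDC.lambdaHat Λ X (II a)) (ψ : ProEtDC.lambdaHat Λ X (II a) ⟶ F),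
      κ ≫ ψ = s := by
  obtain ⟨Φ, h1, h2⟩ := exists_Phi a hF s
  have hepi := epi_piHat (X := X) a hwc
  let inc : cst X (Lam Λ) ⟶ GG X Λ r := Pi.lift fun α => if α = 0 then 𝟙 _ else 0
  have hinc : inc ≫ Φ = s := by
    apply cst_hom_ext
    intro V n
    refine h1 V (inc.hom.app (op V) (eta _ V n)) (eta _ V n) fun α => ?_
    have h3 : inc ≫ pr X Λ r α = if α = 0 then 𝟙 _ else 0 := Pi.lift_π _ _
    have h4 := ConcreteCategory.congr_hom (congrArg (fun t => t.hom.app (op V)) h3) (eta _ V n)
    refine h4.trans ?_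
    by_cases hα : α = 0
    · rw [if_pos hα, if_pos hα]
      rfl
    · rw [if_neg hα, if_neg hα]
      rfl
  have hker : kernel.ι (piHat (X := X) a) ≫ Φ = 0 := by
    refine hom_eq_zero_of_wc hwc _ fun V hVa hV z => ?_
    have := flat_sections (Λ := Λ) hV
    change Φ.hom.app (op V) ((kernel.ι (piHat (X := X) a)).hom.app (op V) z) = 0
    refine h2 V _ fun n => ?_
    refine mem_of_cstMap_eq_zero hV ((II a) ^ n) (qq a (op n)) (fun c hc => ?_) _ ?_
    · have hc' : (Submodule.Quotient.mk c : Λ ⧸ ((II a) ^ n • ⊤ : Submodule Λ Λ)) = 0 := hc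
      rw [Submodule.Quotient.mk_eq_zero, smul_eq_mul, Ideal.mul_top] at hc'
      exact hc'
    · have e1 := piN_app (X := X) a (op n) V ((kernel.ι (piHat (X := X) a)).hom.app (op V) z)
      refine Eq.trans e1.symm ?_
      rw [← piHat_π_app]
      have e2 := ConcreteCategory.congr_hom
        (congrArg (fun t => t.hom.app (op V)) (kernel.condition (piHat (X := X) a))) z
      have e3 : (piHat (X := X) a).hom.app (op V)
          ((kernel.ι (piHat (X := X) a)).hom.app (op V) z) = 0 := e2
      rw [e3, map_zero]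
  refine ⟨inc ≫ piHat a, Abelian.epiDesc (piHat a) Φ hker, ?_⟩
  rw [Category.assoc, Abelian.comp_epiDesc, hinc]

end Construction

end Groth.Agent.Proet.DCExt
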