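import Groth.Agent.Proet.WCExact

/-!
# Free modules on weakly contractible objects are projective
-/

set_option autoImplicit false
universe u v w v' u'

open CategoryTheory CategoryTheory.Limits AlgebraicGeometry Opposite

namespace Groth.Agent.Proet.WCProj

open WCBasic WC WCClopen WCExist WCExact

variable {X : Scheme.{u}} (Λ : Type (u + 1)) [CommRing Λ]

/-- Sections over `U` as a functor. -/
noncomputable abbrev evU (U : X.ProEt) : EtModW.ModP Λ X ⥤ ModuleCat.{u + 1} Λ :=
  (sheafSections (Scheme.ProEt.topology X) (ModuleCat.{u + 1} Λ)).obj (op U)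

/-- `M ↦ j_{U!} M`. -/
noncomputable abbrev LU (U : X.ProEt) : ModuleCat.{u + 1} Λ ⥤ EtModW.ModP Λ X :=
  constantSheaf ((Scheme.ProEt.topology X).over U) (ModuleCat.{u + 1} Λ) ⋙
    ProEtDC.extZeroModP Λ U

/-- The adjunction between `M ↦ j_{U!} M` and sections over `U`. -/
noncomputable def adjU (U : X.ProEt) : LU Λ U ⊣ evU Λ U :=
  Adjunction.ofNatIsoRight
    ((constantSheafAdj ((Scheme.ProEt.topology X).over U) (ModuleCat.{u + 1} Λ)
      (T := Over.mk (𝟙 U)) Over.mkIdTerminal).comp
      ((Over.forget U).sheafAdjunctionContinuous (ModuleCat.{u + 1} Λ)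
        ((Scheme.ProEt.topology X).over U) (Scheme.ProEt.topology X)))
    (Iso.refl _)

theorem preservesEpi_evU {U : X.ProEt} (hU : ProEtS.IsWC U) :
    (evU Λ U).PreservesEpimorphisms where
  preserves {F G} φ hφ := by
    rw [ModuleCat.epi_iff_surjective]
    exact surjective_of_epi φ hU

/-- `j_{U!} P` is projective for `U` weakly contractible and `P` projective. -/
theorem projective_LU {U : X.ProEt} (hU : ProEtS.IsWC U) (P : ModuleCat.{u + 1} Λ)
    (hP : Projective P) : Projective ((LU Λ U).obj P) := by
  have := preservesEpi_evU Λ hU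
  exact (adjU Λ U).map_projective P hP

end Groth.Agent.Proet.WCProj
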