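import Groth.Agent.Proet.DCNak
import Groth.Agent.Proet.WCProj

/-!
# Vanishing of derived complete sheaves with F = IF
-/

set_option autoImplicit false
universe u v

open CategoryTheory CategoryTheory.Limits AlgebraicGeometry Opposite

namespace Groth.Agent.Proet.DCZero

open WCBasic WC WCClopen WCExist WCExact WCProj DCNak

variable {X : Scheme.{u}} (Λ : Type (u + 1)) [CommRing Λ]

instance additive_evU (U : X.ProEt) : (evU Λ U).Additive where
  map_add := rfl

theorem smulHom_app (F : EtModW.ModP Λ X) (a : Λ) (U : X.ProEt) (x : F.obj.obj (op U)) :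
    (ProEtDC.smulHom Λ F a).hom.app (op U) x = a • x := rfl

/-- Sections over a weakly contractible object of a sheaf with `F = IF`. -/
theorem exists_sum_of_isWC {r : ℕ} (a : Fin r → Λ) (F : EtModW.ModP Λ X)
    (h0 : ProEtDC.ModGensIsZero Λ a F) {U : X.ProEt} (hU : ProEtS.IsWC U)
    (m : F.obj.obj (op U)) : ∃ x : Fin r → F.obj.obj (op U), m = ∑ k, a k • x k := by
  have : Epi (biproduct.desc (fun k : Fin r => ProEtDC.smulHom Λ F (a k))) := h0
  obtain ⟨z, hz⟩ := surjective_of_epi (biproduct.desc (fun k : Fin r => ProEtDC.smulHom Λ F (a k)))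
    hU m
  refine ⟨fun k => (evU Λ U).map (biproduct.π (fun _ : Fin r => F) k) z, ?_⟩
  rw [← hz]
  have h1 := biproduct.desc_eq (f := fun _ : Fin r => F)
    (g := fun k : Fin r => ProEtDC.smulHom Λ F (a k))
  have h2 : (evU Λ U).map (biproduct.desc (fun k : Fin r => ProEtDC.smulHom Λ F (a k))) =
      ∑ k, (evU Λ U).map (biproduct.π (fun _ : Fin r => F) k) ≫
        (evU Λ U).map (ProEtDC.smulHom Λ F (a k)) := by
    rw [h1, Functor.map_sum]
    simp only [Functor.map_comp]
  have h3 := congrArg (fun t => t.hom z) h2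
  simp only [ModuleCat.hom_sum, LinearMap.sum_apply] at h3
  exact h3

/-- Sheaves with bijective telescopes and `F = IF` vanish. -/
theorem isZero_of_TB (hwc : HasWCCover.{u}) {r : ℕ} (a : Fin r → Λ) (F : EtModW.ModP Λ X)
    (hT : ∀ (U : X.ProEt), ProEtS.IsWC U → ∀ k, TB (a k) (F.obj.obj (op U)))
    (h0 : ProEtDC.ModGensIsZero Λ a F) : IsZero F := by
  have h1 : ∀ (U : X.ProEt), ProEtS.IsWC U → ∀ m : F.obj.obj (op U), m = 0 := fun U hU =>
    nakayama r a _ (hT U hU) (exists_sum_of_isWC Λ a F h0 hU)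
  have h2 : IsIso (0 : F ⟶ F) := by
    refine isIso_of_bijective hwc _ fun U _ hU => ⟨fun x y _ => ?_, fun y => ⟨y, ?_⟩⟩
    · rw [h1 U hU x, h1 U hU y]
    · rw [h1 U hU y]
      exact h1 U hU _
  exact ((isIsoZero_iff_source_target_isZero _ _).1 h2).1

end Groth.Agent.Proet.DCZero
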