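import Groth.Agent.Proet.DCExt
import Groth.Agent.Proet.DCZero
import Mathlib.CategoryTheory.Abelian.Exact
import Mathlib.Algebra.Homology.ShortComplex.ModuleCat

/-!
# Generation of derived complete sheaves
-/

set_option autoImplicit false
universe u v w v' u'

open CategoryTheory CategoryTheory.Limits AlgebraicGeometry Opposite

namespace Groth.Agent.Proet.DCGen

open WCExist WCExact WCProj ConstSec DCAlg DCNak DCExt

variable {X : Scheme.{u}} {Λ : Type (u + 1)} [CommRing Λ]

/-- Telescope bijectivity for a finite biproduct of sheaves. -/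
theorem TB_biproduct {t : ℕ} (G : Fin t → EtModW.ModP Λ X) (f : Λ) (U : X.ProEt)
    (h : ∀ i, TB f ((G i).obj.obj (op U))) : TB f ((⨁ G).obj.obj (op U)) := by
  have hb : Function.Bijective (fun (x : (⨁ G).obj.obj (op U)) (i : Fin t) =>
      (biproduct.π G i).hom.app (op U) x) :=
    bijective_sections_of_isLimit (fun i => biproduct.π G i) (biproduct.isLimit G) U
  constructor
  · intro x y hxy
    funext n
    apply hb.1
    funext i
    have h1 : (fun n => (biproduct.π G i).hom.app (op U) (x n)) =
        fun n => (biproduct.π G i).hom.app (op U) (y n) := by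
      apply (h i).1
      funext m
      have h2 := congrArg (fun z => (biproduct.π G i).hom.app (op U) z) (congrFun hxy m)
      simpa only [map_sub, map_smul] using h2
    exact congrFun h1 n
  · intro y
    choose x hx using fun i => (h i).2 (fun n => (biproduct.π G i).hom.app (op U) (y n))
    choose z hz using fun n => hb.2 (fun i => x i n)
    refine ⟨z, ?_⟩
    funext n
    apply hb.1
    funext i
    dsimp only
    rw [map_sub, map_smul]
    have h1 : ∀ n, (biproduct.π G i).hom.app (op U) (z n) = x i n := fun n => congrFun (hz n) i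
    rw [h1, h1]
    exact congrFun (hx i) n

/-- Exact sequences of sheaves are exact on sections over weakly contractible objects. -/
theorem exists_of_exact (S : ShortComplex (EtModW.ModP Λ X)) (hS : S.Exact) {U : X.ProEt}
    (hU : ProEtS.IsWC U) (z : S.X₂.obj.obj (op U)) (hz : S.g.hom.app (op U) z = 0) :
    ∃ w : S.X₁.obj.obj (op U), S.f.hom.app (op U) w = z := by
  have h1 : Epi (kernel.lift S.g S.f S.zero) := hS.epi_kernelLift
  have h2 := WCExact.surjective_of_epi (kernel.lift S.g S.f S.zero) hU
  let T : ShortComplex (EtModW.ModP Λ X) := ShortComplex.mk (kernel.ι S.g) S.g (kernel.condition _)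
  have hT : T.Exact := ShortComplex.exact_kernel S.g
  have : PreservesLimits (evU Λ U) := (adjU Λ U).rightAdjoint_preservesLimits
  have hT' : (T.map (evU Λ U)).Exact :=
    hT.map_of_mono_of_preservesKernel (evU Λ U) (inferInstanceAs (Mono (kernel.ι S.g)))
      inferInstance
  obtain ⟨z', hz'⟩ := (ShortComplex.moduleCat_exact_iff _).1 hT' z hz
  obtain ⟨w, hw⟩ := h2 z'
  refine ⟨w, ?_⟩
  have h3 := ConcreteCategory.congr_hom
    (congrArg (fun t => t.hom.app (op U)) (kernel.lift_ι S.g S.f S.zero)) w
  rw [← h3]
  change (kernel.ι S.g).hom.app (op U) ((kernel.lift S.g S.f S.zero).hom.app (op U) w) = z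
  rw [hw]
  exact hz'

/-- Telescope bijectivity for cokernels over weakly contractible objects. -/
theorem TB_cokernel {G F : EtModW.ModP Λ X} (φ : G ⟶ F) (f : Λ) {U : X.ProEt}
    (hU : ProEtS.IsWC U) (hG : TB f (G.obj.obj (op U))) (hF : TB f (F.obj.obj (op U))) :
    TB f ((cokernel φ).obj.obj (op U)) := by
  have hc : Function.Surjective ((cokernel.π φ).hom.app (op U)) :=
    WCExact.surjective_of_epi (cokernel.π φ) hU
  have hexact : ∀ z : F.obj.obj (op U), (cokernel.π φ).hom.app (op U) z = 0 →
      ∃ w : G.obj.obj (op U), φ.hom.app (op U) w = z := by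
    intro z hz
    exact exists_of_exact (ShortComplex.mk φ (cokernel.π φ) (cokernel.condition φ))
      (ShortComplex.exact_cokernel φ) hU z hz
  constructor
  · intro x y hxy
    choose z hz using fun n => hc (x n - y n)
    have h1 : ∀ n, ∃ w : G.obj.obj (op U), φ.hom.app (op U) w = z n - f • z (n + 1) := by
      intro n
      apply hexact
      rw [map_sub, map_smul, hz, hz]
      have h2 := congrFun hxy n
      dsimp only at h2
      rw [smul_sub, sub_sub_sub_comm, h2, sub_self]
    choose w hw using h1
    obtain ⟨v, hv⟩ := exists_preimage hG w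
    have h4 : ∀ n, z n - φ.hom.app (op U) (v n) = 0 := by
      refine eq_zero_of_TB hF (fun n => z n - φ.hom.app (op U) (v n)) fun n => ?_
      have h5 := hw n
      rw [← hv n, map_sub, map_smul] at h5
      simp only [smul_sub]
      have h6 : z n = f • z (n + 1) + (φ.hom.app (op U) (v n) -
          f • φ.hom.app (op U) (v (n + 1))) := by rw [h5]; abel
      rw [h6]
      abel
    funext n
    have h7 := hz n
    rw [sub_eq_zero.1 (h4 n)] at h7
    have h8 := ConcreteCategory.congr_hom
      (congrArg (fun t => t.hom.app (op U)) (cokernel.condition φ)) (v n)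
    have h9 : (cokernel.π φ).hom.app (op U) (φ.hom.app (op U) (v n)) = 0 := h8
    rw [h9] at h7
    exact (sub_eq_zero.1 h7.symm)
  · intro y
    choose z hz using fun n => hc (y n)
    obtain ⟨x, hx⟩ := exists_preimage hF z
    refine ⟨fun n => (cokernel.π φ).hom.app (op U) (x n), ?_⟩
    funext n
    dsimp only
    rw [← hz n, ← hx n, map_sub, map_smul]

/-- Telescope bijectivity for limits. -/
theorem TB_limit {K : Type} [SmallCategory K] (D : K ⥤ EtModW.ModP Λ X) (f : Λ) (U : X.ProEt)
    (h : ∀ k, TB f ((D.obj k).obj.obj (op U))) : TB f ((limit D).obj.obj (op U)) := by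
  constructor
  · intro x y hxy
    funext n
    apply limit_sections_ext
    intro k
    have h1 : (fun n => (limit.π D k).hom.app (op U) (x n)) =
        fun n => (limit.π D k).hom.app (op U) (y n) := by
      apply (h k).1
      funext m
      have h2 := congrArg (fun z => (limit.π D k).hom.app (op U) z) (congrFun hxy m)
      simpa only [map_sub, map_smul] using h2
    exact congrFun h1 n
  · intro y
    choose x hx using fun k => (h k).2 (fun n => (limit.π D k).hom.app (op U) (y n))
    have hcomp : ∀ {k l : K} (g : k ⟶ l) (n : ℕ), (D.map g).hom.app (op U) (x k n) = x l n := by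
      intro k l g n
      have h1 : (fun n => (D.map g).hom.app (op U) (x k n)) = x l := by
        apply (h l).1
        rw [hx l]
        funext m
        dsimp only
        rw [← map_smul, ← map_sub]
        have h3 := congrFun (hx k) m
        dsimp only at h3
        rw [h3]
        have h4 := congrArg (fun t => t.hom.app (op U)) (limit.w D g)
        exact ConcreteCategory.congr_hom h4 (y m)
      exact congrFun h1 n
    let E : EtModW.ModP Λ X ⥤ Type (u + 1) :=
      sheafToPresheaf _ _ ⋙ (evaluation _ _).obj (op U) ⋙ forget (ModuleCat.{u + 1} Λ)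
    have hl : IsLimit (E.mapCone (limit.cone D)) := isLimitOfPreserves E (limit.isLimit D)
    let c : ℕ → Cone (D ⋙ E) := fun n =>
      { pt := PUnit.{u + 2}
        π := { app := fun k => ↾fun _ => x k n
               naturality := by
                 intro k l g
                 ext ⟨⟩
                 exact (hcomp g n).symm } }
    let z : ℕ → (limit D).obj.obj (op U) := fun n => hl.lift (c n) PUnit.unit
    have hz : ∀ n k, (limit.π D k).hom.app (op U) (z n) = x k n := by
      intro n k
      exact ConcreteCategory.congr_hom (hl.fac (c n) k) PUnit.unit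
    refine ⟨z, ?_⟩
    funext n
    apply limit_sections_ext
    intro k
    dsimp only
    rw [map_sub, map_smul, hz, hz]
    exact congrFun (hx k) n

/-- Telescopes of nilpotent scalars are bijective. -/
theorem TB_of_pow_smul {M : Type v} [AddCommGroup M] [Module Λ M] (f : Λ) (n : ℕ)
    (h : ∀ x : M, f ^ n • x = 0) : TB f M := by
  constructor
  · intro x y hxy
    have h1 : ∀ m, x m - y m = f • (x (m + 1) - y (m + 1)) := by
      intro m
      have h2 := congrFun hxy m
      dsimp only at h2
      rw [smul_sub]
      have h3 : x m = f • x (m + 1) + (y m - f • y (m + 1)) := by rw [← h2]; abel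
      rw [h3]
      abel
    have h2 : ∀ k m, x m - y m = f ^ k • (x (m + k) - y (m + k)) := by
      intro k
      induction k with
      | zero => intro m; simp
      | succ k ih =>
        intro m
        rw [ih m, h1 (m + k), smul_smul, ← pow_succ, add_assoc]
    funext m
    have h3 := h2 n m
    rw [h] at h3
    exact sub_eq_zero.1 h3
  · intro y
    refine ⟨fun m => ∑ k ∈ Finset.range n, f ^ k • y (m + k), ?_⟩
    funext m
    dsimp only
    rw [Finset.smul_sum]
    have h1 : ∀ k, f • f ^ k • y (m + 1 + k) = f ^ (k + 1) • y (m + (k + 1)) := by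
      intro k
      rw [smul_smul, ← pow_succ', add_assoc, add_comm 1 k]
    simp only [h1]
    have h2 := Finset.sum_range_succ (fun k => f ^ k • y (m + k)) n
    rw [Finset.sum_range_succ' (fun k => f ^ k • y (m + k)) n, h] at h2
    rw [eq_comm, add_zero, add_zero, pow_zero, one_smul] at h2
    rw [h2, add_sub_cancel_left]

/-- Telescope bijectivity for the sections of the completion of the constant sheaf. -/
theorem TB_lambdaHat (I : Ideal Λ) {f : Λ} (hf : f ∈ I) (U : X.ProEt) :
    TB f ((ProEtDC.lambdaHat Λ X I).obj.obj (op U)) := by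
  refine TB_limit _ f U fun n => ?_
  refine TB_of_pow_smul f n.unop fun x => ?_
  have h1 : ModuleCat.ofHom (f ^ n.unop • (LinearMap.id :
      (ProEtDC.quotTower Λ I).obj n →ₗ[Λ] (ProEtDC.quotTower Λ I).obj n)) = 0 := by
    ext y
    obtain ⟨c, rfl⟩ := Submodule.Quotient.mk_surjective
      (I ^ n.unop • (⊤ : Submodule Λ Λ)) y
    change f ^ n.unop • (Submodule.Quotient.mk c : Λ ⧸ (I ^ n.unop • (⊤ : Submodule Λ Λ))) = 0
    rw [← Submodule.Quotient.mk_smul, Submodule.Quotient.mk_eq_zero]
    exact Submodule.smul_mem_smul (Ideal.pow_mem_pow hf _) trivial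
  have h2 := cstMap_smul (X := X) ((ProEtDC.quotTower Λ I).obj n) (f ^ n.unop)
  have h3 : cstMap X (0 : (ProEtDC.quotTower Λ I).obj n ⟶ (ProEtDC.quotTower Λ I).obj n) = 0 := by
    apply cst_hom_ext
    intro V x
    rw [eta_natural]
    change eta _ V (0 : _) = 0
    rw [map_zero]
  rw [h1, h3] at h2
  have h4 := congrArg (fun t => t.hom.app (op U)) h2
  exact (ConcreteCategory.congr_hom h4 x).symm

/-- Sections over the final object give maps from the constant sheaf. -/
theorem exists_hom_of_section (F : EtModW.ModP Λ X) (s : F.obj.obj (op (ProEtS.topP X))) :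
    ∃ σ : cst X (Lam Λ) ⟶ F, ∀ (V : X.ProEt) (p : V ⟶ ProEtS.topP X),
      σ.hom.app (op V) (eta (Lam Λ) V (1 : Λ)) = F.obj.map p.op s := by
  let hT := EpsBasic.topPIsTerminal X
  let τ : (Functor.const X.ProEtᵒᵖ).obj (Lam Λ) ⟶ F.obj :=
    { app := fun V => ModuleCat.ofHom
        (LinearMap.toSpanSingleton Λ _ (F.obj.map (hT.from V.unop).op s))
      naturality := by
        intro V W g
        ext
        change (1 : Λ) • F.obj.map (hT.from W.unop).op s =
          F.obj.map g ((1 : Λ) • F.obj.map (hT.from V.unop).op s)
        rw [one_smul, one_smul, ← ModuleCat.comp_apply, ← Functor.map_comp]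
        congr 3
        apply Quiver.Hom.unop_inj
        exact hT.hom_ext _ _ }
  refine ⟨⟨sheafifyLift (Scheme.ProEt.topology X) τ F.property⟩, fun V p => ?_⟩
  have h1 := toSheafify_sheafifyLift (Scheme.ProEt.topology X) τ F.property
  have h2 := ConcreteCategory.congr_hom (congrArg (fun t => t.app (op V)) h1) (1 : Λ)
  refine h2.trans ?_
  change (1 : Λ) • F.obj.map (hT.from V).op s = F.obj.map p.op s
  rw [one_smul, hT.hom_ext (hT.from V) p]

end Groth.Agent.Proet.DCGen
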