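import Mathlib.RingTheory.Ideal.Quotient.Operations
import Mathlib.LinearAlgebra.Quotient.Basic
import Mathlib.Algebra.BigOperators.Fin

/-!
# Derived Nakayama, elementary form
-/

set_option autoImplicit false
universe u v

namespace Groth.Agent.Proet.DCNak

/-- The telescope map of a scalar is bijective. -/
def TB {Λ : Type u} [CommRing Λ] (f : Λ) (M : Type v) [AddCommGroup M] [Module Λ M] : Prop :=
  Function.Bijective (fun (x : ℕ → M) (n : ℕ) => x n - f • x (n + 1))

variable {Λ : Type u} [CommRing Λ] {M : Type v} [AddCommGroup M] [Module Λ M]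

theorem eq_zero_of_TB {f : Λ} (h : TB f M) (x : ℕ → M) (hx : ∀ n, x n = f • x (n + 1)) (n : ℕ) :
    x n = 0 := by
  have h1 : x = 0 := by
    apply h.1
    funext n
    simp [← hx n]
  rw [h1]; rfl

theorem exists_preimage {f : Λ} (h : TB f M) (y : ℕ → M) :
    ∃ x : ℕ → M, ∀ n, x n - f • x (n + 1) = y n := by
  obtain ⟨x, hx⟩ := h.2 y
  exact ⟨x, fun n => congrFun hx n⟩

/-- Cokernels of a scalar multiplication stay telescope-bijective. -/
theorem TB_quotient {f : Λ} (h : TB f M) (a : Λ) :
    TB f (M ⧸ LinearMap.range (LinearMap.lsmul Λ M a)) := by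
  constructor
  · intro x y hxy
    obtain ⟨z, hz⟩ : ∃ z : ℕ → M, ∀ n, Submodule.Quotient.mk (z n) = x n - y n :=
      ⟨fun n => (Submodule.Quotient.mk_surjective _ (x n - y n)).choose,
        fun n => (Submodule.Quotient.mk_surjective _ (x n - y n)).choose_spec⟩
    have h1 : ∀ n, ∃ w : M, a • w = z n - f • z (n + 1) := by
      intro n
      have h2 : (Submodule.Quotient.mk (z n - f • z (n + 1)) :
          M ⧸ LinearMap.range (LinearMap.lsmul Λ M a)) = 0 := by
        rw [Submodule.Quotient.mk_sub, Submodule.Quotient.mk_smul, hz, hz, smul_sub]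
        have h3 := congrFun hxy n
        dsimp only at h3
        rw [sub_sub_sub_comm, h3, sub_self]
      rw [Submodule.Quotient.mk_eq_zero] at h2
      obtain ⟨w, hw⟩ := h2
      exact ⟨w, hw⟩
    choose w hw using h1
    obtain ⟨v, hv⟩ := exists_preimage h w
    have h4 : ∀ n, z n - a • v n = 0 := by
      refine eq_zero_of_TB h (fun n => z n - a • v n) fun n => ?_
      have h5 := hw n
      rw [← hv n] at h5
      simp only [smul_sub] at h5 ⊢
      have h6 : z n = f • z (n + 1) + (a • v n - a • f • v (n + 1)) := by rw [h5]; abel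
      rw [h6, smul_comm f a]
      abel
    funext n
    rw [← sub_eq_zero, ← hz n, Submodule.Quotient.mk_eq_zero]
    exact ⟨v n, by simpa using (sub_eq_zero.1 (h4 n)).symm⟩
  · intro y
    obtain ⟨z, hz⟩ : ∃ z : ℕ → M, ∀ n, Submodule.Quotient.mk (z n) = y n :=
      ⟨fun n => (Submodule.Quotient.mk_surjective _ (y n)).choose,
        fun n => (Submodule.Quotient.mk_surjective _ (y n)).choose_spec⟩
    obtain ⟨x, hx⟩ := exists_preimage h z
    refine ⟨fun n => Submodule.Quotient.mk (x n), ?_⟩
    funext n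
    dsimp only
    rw [← Submodule.Quotient.mk_smul, ← Submodule.Quotient.mk_sub, hx, hz]

/-- Derived Nakayama: a module which is telescope-bijective for `a 0, …, a (r-1)` and equal to
`Σ a_k M` vanishes. -/
theorem nakayama : ∀ (r : ℕ) (a : Fin r → Λ) (M : Type v) [AddCommGroup M] [Module Λ M],
    (∀ k, TB (a k) M) → (∀ m : M, ∃ x : Fin r → M, m = ∑ k, a k • x k) → ∀ m : M, m = 0 := by
  intro r
  induction r with
  | zero =>
    intro a M _ _ _ h m
    obtain ⟨x, hx⟩ := h m
    simpa using hx
  | succ r ih =>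
    intro a M _ _ hT h m
    have h1 : ∀ n : M ⧸ LinearMap.range (LinearMap.lsmul Λ M (a 0)), n = 0 := by
      refine ih (fun k => a k.succ) _ (fun k => TB_quotient (hT k.succ) (a 0)) fun n => ?_
      obtain ⟨n, rfl⟩ := Submodule.Quotient.mk_surjective _ n
      obtain ⟨x, hx⟩ := h n
      refine ⟨fun k => Submodule.Quotient.mk (x k.succ), ?_⟩
      rw [hx, Fin.sum_univ_succ, Submodule.Quotient.mk_add]
      have h2 : (Submodule.Quotient.mk (a 0 • x 0) :
          M ⧸ LinearMap.range (LinearMap.lsmul Λ M (a 0))) = 0 := by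
        rw [Submodule.Quotient.mk_eq_zero]
        exact ⟨x 0, rfl⟩
      rw [h2, zero_add]
      have h3 : ∀ z : M, (Submodule.Quotient.mk z : M ⧸ LinearMap.range (LinearMap.lsmul Λ M (a 0)))
        = (LinearMap.range (LinearMap.lsmul Λ M (a 0))).mkQ z := fun z => rfl
      simp only [h3, map_sum, map_smul]
    have h4 : ∀ m : M, ∃ x : M, m = a 0 • x := by
      intro m
      have h5 := h1 (Submodule.Quotient.mk m)
      rw [Submodule.Quotient.mk_eq_zero] at h5
      obtain ⟨x, hx⟩ := h5
      exact ⟨x, hx.symm⟩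
    choose g hg using h4
    have h6 := eq_zero_of_TB (hT 0) (fun n => g^[n] m) (fun n => by
      rw [Function.iterate_succ_apply']
      exact hg _) 0
    exact h6

end Groth.Agent.Proet.DCNak
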