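import Mathlib.CategoryTheory.Abelian.GrothendieckAxioms.Basic
import Mathlib.CategoryTheory.Preadditive.Basic
import Mathlib.CategoryTheory.Abelian.Basic
import Mathlib.Algebra.Homology.ShortComplex.ExactFunctor

/-!
# The countable power functor `F ↦ F^ℕ` and the endomorphism `(x_n) ↦ (x_n - θ x_{n+1})`

For a natural endomorphism `θ` of the identity functor of a category with countable products.
-/

set_option autoImplicit false
universe w v u

open CategoryTheory CategoryTheory.Limits

namespace Groth.Agent.Proet.DCProd

variable {A : Type u} [Category.{v} A]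

section

variable [HasLimitsOfShape (Discrete ℕ) A]

variable (A) in
/-- The countable power functor. -/
noncomputable def pow : A ⥤ A := Functor.const (Discrete ℕ) ⋙ lim

/-- The projections of the countable power. -/
noncomputable def proj (n : ℕ) (F : A) : (pow A).obj F ⟶ F :=
  limit.π ((Functor.const (Discrete ℕ)).obj F) ⟨n⟩

/-- The lift to the countable power. -/
noncomputable def lft {F G : A} (x : ℕ → (G ⟶ F)) : G ⟶ (pow A).obj F :=
  limit.lift ((Functor.const (Discrete ℕ)).obj F)
    { pt := G, π := Discrete.natTrans (fun i => x i.as) }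

@[reassoc (attr := simp)]
theorem lft_proj {F G : A} (x : ℕ → (G ⟶ F)) (n : ℕ) : lft x ≫ proj n F = x n :=
  limit.lift_π _ _

theorem hom_ext {F G : A} {x y : G ⟶ (pow A).obj F}
    (h : ∀ n, x ≫ proj n F = y ≫ proj n F) : x = y := by
  apply limit.hom_ext
  rintro ⟨n⟩
  exact h n

@[reassoc (attr := simp)]
theorem map_proj {F G : A} (g : F ⟶ G) (n : ℕ) : (pow A).map g ≫ proj n G = proj n F ≫ g := by
  simp [pow, proj]

/-- The projections as natural transformations. -/
noncomputable def projNat (n : ℕ) : pow A ⟶ 𝟭 A where
  app F := proj n F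
  naturality F G g := by simp

/-- The limit cone defining the countable power. -/
noncomputable def isLimitPow (F : A) :
    IsLimit (Fan.mk ((pow A).obj F) (fun n : ℕ => proj n F)) :=
  Fan.IsLimit.mk _ (fun s => lft (fun n => s.proj n)) (fun s n => lft_proj _ _)
    (fun s m h => hom_ext (fun n => by rw [lft_proj]; exact h n))

end

/-- A natural endomorphism of the identity functor. -/
structure Cen (A : Type u) [Category.{v} A] where
  /-- the components -/
  app : ∀ F : A, F ⟶ F
  /-- naturality -/
  nat : ∀ {F G : A} (g : F ⟶ G), g ≫ app G = app F ≫ g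

section

variable [HasLimitsOfShape (Discrete ℕ) A] [Preadditive A] (θ : Cen A)

/-- The endomorphism `(x_n) ↦ (x_n - θ x_{n+1})` of the countable power. -/
noncomputable def tel (F : A) : (pow A).obj F ⟶ (pow A).obj F :=
  lft (fun n => proj n F - proj (n + 1) F ≫ θ.app F)

@[reassoc (attr := simp)]
theorem tel_proj (F : A) (n : ℕ) : tel θ F ≫ proj n F = proj n F - proj (n + 1) F ≫ θ.app F :=
  lft_proj _ _

@[reassoc]
theorem tel_naturality {F G : A} (g : F ⟶ G) :
    (pow A).map g ≫ tel θ G = tel θ F ≫ (pow A).map g := by
  apply hom_ext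
  intro n
  simp [θ.nat g]

/-- `tel` as a natural transformation. -/
noncomputable def telNat : pow A ⟶ pow A where
  app F := tel θ F
  naturality _ _ g := tel_naturality θ g

/-- `F` is `θ`-complete. -/
def FC (F : A) : Prop := IsIso (tel θ F)

theorem FC.of_iso {F G : A} (e : F ≅ G) (h : FC θ F) : FC θ G := by
  have h1 : IsIso (tel θ F) := h
  have h2 : tel θ G = (pow A).map e.inv ≫ tel θ F ≫ (pow A).map e.hom := by
    rw [← tel_naturality, ← Category.assoc, ← Functor.map_comp, e.inv_hom_id,
      CategoryTheory.Functor.map_id, Category.id_comp]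
  unfold FC
  rw [h2]
  infer_instance

variable {θ} in
/-- `θ`-complete objects are closed under limits. -/
theorem FC.of_isLimit {J : Type*} [Category J] {D : J ⥤ A} {c : Cone D} (hc : IsLimit c)
    (h : ∀ j, FC θ (D.obj j)) : FC θ c.pt := by
  have h' (j : J) : IsIso (tel θ (D.obj j)) := h j
  let p (j : J) : c.pt ⟶ D.obj j := c.π.app j
  have hp {i j : J} (f : i ⟶ j) : p i ≫ D.map f = p j := c.w f
  let inv' : (pow A).obj c.pt ⟶ (pow A).obj c.pt := lft (fun n => hc.lift
    { pt := (pow A).obj c.pt
      π :=
        { app := fun j => (pow A).map (p j) ≫ inv (tel θ (D.obj j)) ≫ proj n (D.obj j)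
          naturality := by
            intro i j f
            have e1 : inv (tel θ (D.obj i)) ≫ (pow A).map (D.map f) =
                (pow A).map (D.map f) ≫ inv (tel θ (D.obj j)) := by
              rw [IsIso.inv_comp_eq, ← Category.assoc, IsIso.eq_comp_inv, tel_naturality]
            simp only [Functor.const_obj_obj, Functor.const_obj_map, Category.id_comp,
              Category.assoc]
            rw [← map_proj, reassoc_of% e1, ← hp f, Functor.map_comp, Category.assoc] } })
  have key (n : ℕ) (j : J) : inv' ≫ proj n c.pt ≫ p j =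
      (pow A).map (p j) ≫ inv (tel θ (D.obj j)) ≫ proj n (D.obj j) := by
    simp only [inv', lft_proj_assoc, p, IsLimit.fac]
  have key' (j : J) : inv' ≫ (pow A).map (p j) =
      (pow A).map (p j) ≫ inv (tel θ (D.obj j)) := by
    apply hom_ext
    intro n
    rw [Category.assoc, map_proj, key, Category.assoc]
  have ext' {T : A} {x y : T ⟶ (pow A).obj c.pt}
      (hxy : ∀ n j, x ≫ proj n c.pt ≫ p j = y ≫ proj n c.pt ≫ p j) : x = y := by
    apply hom_ext
    intro n
    apply hc.hom_ext
    intro j
    simpa only [Category.assoc] using hxy n j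
  refine ⟨inv', ?_, ?_⟩
  · apply ext'
    intro n j
    rw [Category.assoc, key, Category.id_comp, ← tel_naturality_assoc,
      IsIso.hom_inv_id_assoc, map_proj]
  · apply ext'
    intro n j
    rw [Category.id_comp, ← map_proj, Category.assoc, ← tel_naturality_assoc,
      reassoc_of% (key' j), IsIso.inv_hom_id_assoc]

end

end Groth.Agent.Proet.DCProd
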