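import Mathlib.Algebra.Homology.DerivedCategory.Fractions
import Mathlib.Algebra.Homology.DerivedCategory.FullyFaithful
import Mathlib.Algebra.Homology.DerivedCategory.KProjective
import Mathlib.Algebra.Homology.DerivedCategory.HomologySequence
import Mathlib.Algebra.Homology.DerivedCategory.Ext.EnoughProjectives
import Mathlib.Algebra.Homology.HomotopyCategory.HomComplexSingle

/-!
# Morphisms from a projective object in the derived category

For `R` projective in an abelian category and `K` in the derived category,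
`Hom(R[0], K) → Hom(R, H^0 K)` is bijective (`hmap_bijective`).
-/

set_option autoImplicit false
universe w v u

open CategoryTheory CategoryTheory.Limits

namespace Groth.Agent.Proet.DCProj

variable {A : Type u} [Category.{v} A] [Abelian A]

open DerivedCategory

/-- The single complex in degree zero. -/
noncomputable abbrev sg (R : A) : CochainComplex A ℤ :=
  (HomologicalComplex.single A (ComplexShape.up ℤ) 0).obj R

theorem exists_homotopy {R : A} [Projective R] {K : CochainComplex A ℤ}
    (g : sg R ⟶ K) (hg : HomologicalComplex.homologyMap g 0 = 0) : Nonempty (Homotopy g 0) := by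
  let e := HomologicalComplex.singleObjXSelf (ComplexShape.up ℤ) 0 R
  have hd : (e.inv ≫ g.f 0) ≫ K.d 0 1 = 0 := by
    rw [Category.assoc, g.comm]
    have : (sg R).d 0 1 = 0 := rfl
    rw [this, zero_comp, comp_zero]
  let c : R ⟶ K.cycles 0 := K.liftCycles (e.inv ≫ g.f 0) 1 (by simp) hd
  have hc : c ≫ K.homologyπ 0 = 0 := by
    have h1 : c = (HomologicalComplex.singleObjCyclesSelfIso (ComplexShape.up ℤ) 0 R).inv ≫
        HomologicalComplex.cyclesMap g 0 := by
      rw [← cancel_mono (K.iCycles 0)]
      simp only [c, HomologicalComplex.liftCycles_i, Category.assoc,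
        HomologicalComplex.cyclesMap_i]
      rw [HomologicalComplex.singleObjCyclesSelfIso_inv_iCycles_assoc]
    rw [h1, Category.assoc, ← HomologicalComplex.homologyπ_naturality, hg, comp_zero, comp_zero]
  have hex : (ShortComplex.mk (K.toCycles (-1) 0) (K.homologyπ 0) (by simp)).Exact := by
    apply ShortComplex.exact_of_g_is_cokernel
    exact K.homologyIsCokernel (-1) 0 (by simp)
  let h : R ⟶ K.X (-1) := hex.liftFromProjective c hc
  have hh : h ≫ K.toCycles (-1) 0 = c := hex.liftFromProjective_comp c hc
  have hh' : h ≫ K.d (-1) 0 = e.inv ≫ g.f 0 := by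
    rw [← K.toCycles_i (-1) 0, ← Category.assoc, hh]
    simp [c]
  let z : CochainComplex.HomComplex.Cochain (sg R) K (-1) :=
    CochainComplex.HomComplex.Cochain.fromSingleMk h (by simp)
  refine ⟨(CochainComplex.HomComplex.Cochain.equivHomotopy g 0).symm ⟨z, ?_⟩⟩
  rw [CochainComplex.HomComplex.Cochain.ofHom_zero, add_zero]
  have hz : CochainComplex.HomComplex.δ (-1) 0 z =
      CochainComplex.HomComplex.Cochain.fromSingleMk (e.inv ≫ g.f 0) (by simp) := by
    rw [← hh']
    exact CochainComplex.HomComplex.Cochain.δ_fromSingleMk h (by simp) 0 0 (by simp)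
  rw [hz]
  apply (CochainComplex.HomComplex.Cochain.fromSingleEquiv (X := R) (K := K) (p := 0) (q := 0)
    (n := 0) (by simp)).injective
  rw [CochainComplex.HomComplex.Cochain.fromSingleEquiv_fromSingleMk]
  have hw : (CochainComplex.HomComplex.Cochain.ofHom g).v 0 0 (by simp) = g.f 0 :=
    CochainComplex.HomComplex.Cochain.ofHom_v g 0
  simp [CochainComplex.HomComplex.Cochain.fromSingleEquiv, e]
  exact hw

theorem exists_map_homology {R : A} [Projective R] {K : CochainComplex A ℤ}
    (φ : HomologicalComplex.homology (sg R) 0 ⟶ K.homology 0) :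
    ∃ g : sg R ⟶ K, HomologicalComplex.homologyMap g 0 = φ := by
  let ψ : R ⟶ K.homology 0 :=
    (HomologicalComplex.singleObjHomologySelfIso (ComplexShape.up ℤ) 0 R).inv ≫ φ
  let c : R ⟶ K.cycles 0 := Projective.factorThru ψ (K.homologyπ 0)
  have hc : c ≫ K.homologyπ 0 = ψ := Projective.factorThru_comp _ _
  let g : sg R ⟶ K := HomologicalComplex.mkHomFromSingle (c ≫ K.iCycles 0) (by
    intro i hi
    rw [Category.assoc, HomologicalComplex.iCycles_d, comp_zero])
  refine ⟨g, ?_⟩
  rw [← cancel_epi (HomologicalComplex.singleObjHomologySelfIso (ComplexShape.up ℤ) 0 R).inv]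
  change _ = ψ
  rw [← hc]
  have h1 : (HomologicalComplex.singleObjCyclesSelfIso (ComplexShape.up ℤ) 0 R).inv ≫
        HomologicalComplex.cyclesMap g 0 = c := by
    rw [← cancel_mono (K.iCycles 0), Category.assoc, HomologicalComplex.cyclesMap_i,
      HomologicalComplex.singleObjCyclesSelfIso_inv_iCycles_assoc]
    simp only [g, HomologicalComplex.mkHomFromSingle_f, Iso.inv_hom_id_assoc]
  rw [← h1, Category.assoc, ← HomologicalComplex.homologyπ_naturality,
    HomologicalComplex.singleObjCyclesSelfIso_inv_homologyπ_assoc]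

variable [HasDerivedCategory.{w} A]

/-- Every morphism in the derived category from a projective object is represented by a morphism
of complexes. -/
theorem exists_map_eq {R : A} [Projective R] {K : CochainComplex A ℤ}
    (a : Q.obj (sg R) ⟶ Q.obj K) : ∃ g : sg R ⟶ K, Q.map g = a := by
  have : (sg R).IsStrictlyLE 0 :=
    inferInstanceAs (((CochainComplex.singleFunctor A 0).obj R).IsStrictlyLE 0)
  obtain ⟨L, _, π, h, g, rfl⟩ := right_fac_of_isStrictlyLE a 0
  have hπ : IsSplitEpi π := by
    rw [isIso_Q_map_iff_quasiIso] at h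
    have h0 : QuasiIsoAt (show L ⟶ (CochainComplex.singleFunctor A 0).obj R from π) 0 :=
      h.quasiIsoAt 0
    exact CochainComplex.isSplitEpi_to_singleFunctor_obj_of_projective (i := 0)
      (show L ⟶ (CochainComplex.singleFunctor A 0).obj R from π)
  have h₁ : inv (Q.map π) = Q.map (section_ π) := by
    rw [← cancel_mono (Q.map π), IsIso.inv_hom_id, ← Q.map_comp, IsSplitEpi.id, Q.map_id]
  exact ⟨section_ π ≫ g, by rw [h₁, Q.map_comp]⟩

theorem homologyFunctor_map_bijective_aux {R : A} [Projective R] (K' : CochainComplex A ℤ) :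
    Function.Bijective
      (fun a : Q.obj (sg R) ⟶ Q.obj K' => (homologyFunctor A 0).map a) := by
  let F := HomologicalComplex.homologyFunctor A (ComplexShape.up ℤ) 0
  let α : Q ⋙ homologyFunctor A 0 ≅ F := homologyFunctorFactors A 0
  have h2 (g : sg R ⟶ K') : (homologyFunctor A 0).map (Q.map g) =
      α.hom.app (sg R) ≫ F.map g ≫ α.inv.app K' := (NatIso.naturality_2 α g).symm
  constructor
  · intro a b hab
    obtain ⟨g, rfl⟩ := exists_map_eq a
    obtain ⟨g', rfl⟩ := exists_map_eq b
    dsimp only at hab
    rw [h2, h2] at hab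
    have h1 : F.map (g - g') = 0 := by
      rw [Functor.map_sub, sub_eq_zero]
      have h3 := (cancel_epi _).1 hab
      exact (cancel_mono _).1 h3
    obtain ⟨h⟩ := exists_homotopy _ h1
    have h4 : Q.map (g - g') = Q.map 0 :=
      HomologicalComplexUpToQuasiIso.Q_map_eq_of_homotopy h
    rw [Functor.map_sub, Functor.map_zero, sub_eq_zero] at h4
    exact h4
  · intro φ
    obtain ⟨g, hg⟩ := exists_map_homology (α.inv.app (sg R) ≫ φ ≫ α.hom.app K')
    have hg' : F.map g = α.inv.app (sg R) ≫ φ ≫ α.hom.app K' := hg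
    refine ⟨Q.map g, ?_⟩
    dsimp only
    rw [h2, hg']
    have h5 : α.hom.app (sg R) ≫ α.inv.app (sg R) = 𝟙 _ := Iso.hom_inv_id_app _ _
    have h6 : α.hom.app K' ≫ α.inv.app K' = 𝟙 _ := Iso.hom_inv_id_app _ _
    have h7 : α.hom.app (sg R) ≫ (α.inv.app (sg R) ≫ φ ≫ α.hom.app K') ≫ α.inv.app K' =
      (α.hom.app (sg R) ≫ α.inv.app (sg R)) ≫ φ ≫ (α.hom.app K' ≫ α.inv.app K') := by
      simp only [Category.assoc]
    rw [h7, h5, h6]
    exact (Category.id_comp _).trans (Category.comp_id _)

theorem homologyFunctor_map_bijective_aux' {R : A} [Projective R] (K : DerivedCategory A) :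
    Function.Bijective (fun a : Q.obj (sg R) ⟶ K => (homologyFunctor A 0).map a) := by
  obtain ⟨K', ⟨e⟩⟩ : ∃ K', Nonempty (Q.obj K' ≅ K) := ⟨_, ⟨Q.objObjPreimageIso K⟩⟩
  have key := homologyFunctor_map_bijective_aux (R := R) K'
  constructor
  · intro a b hab
    have h1 : a ≫ e.inv = b ≫ e.inv := by
      apply key.1
      dsimp only at hab ⊢
      rw [Functor.map_comp, Functor.map_comp, hab]
    exact (cancel_mono e.inv).1 h1
  · intro φ
    obtain ⟨a, ha⟩ := key.2 (φ ≫ (homologyFunctor A 0).map e.inv)
    refine ⟨a ≫ e.hom, ?_⟩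
    dsimp only at ha ⊢
    rw [Functor.map_comp, ha, Category.assoc, ← Functor.map_comp, e.inv_hom_id,
      CategoryTheory.Functor.map_id, Category.comp_id]

/-- The functor `H^0` induces a bijection on morphisms from a projective object. -/
theorem homologyFunctor_map_bijective {R : A} [Projective R] (K : DerivedCategory A) :
    Function.Bijective (fun a : (singleFunctor A 0).obj R ⟶ K => (homologyFunctor A 0).map a) :=
  homologyFunctor_map_bijective_aux' K

/-- `Hom(R[0], K) → Hom(R, H^0 K)`. -/
noncomputable def hmap {R : A} {K : DerivedCategory A} (a : (singleFunctor A 0).obj R ⟶ K) :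
    R ⟶ (homologyFunctor A 0).obj K :=
  (singleFunctorCompHomologyFunctorIso A 0).inv.app R ≫ (homologyFunctor A 0).map a

theorem hmap_bijective {R : A} [Projective R] (K : DerivedCategory A) :
    Function.Bijective (hmap : ((singleFunctor A 0).obj R ⟶ K) → _) := by
  have h := homologyFunctor_map_bijective (R := R) K
  constructor
  · intro a b hab
    exact h.1 ((cancel_epi _).1 hab)
  · intro φ
    obtain ⟨a, ha⟩ := h.2 ((singleFunctorCompHomologyFunctorIso A 0).hom.app R ≫ φ)
    refine ⟨a, ?_⟩
    dsimp only at ha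
    rw [hmap, ha, Iso.inv_hom_id_app_assoc]

theorem hmap_comp {R R' : A} {K : DerivedCategory A} (u : R' ⟶ R)
    (a : (singleFunctor A 0).obj R ⟶ K) :
    hmap ((singleFunctor A 0).map u ≫ a) = u ≫ hmap a := by
  rw [hmap, hmap, Functor.map_comp, ← Category.assoc, ← Category.assoc]
  congr 1
  exact ((singleFunctorCompHomologyFunctorIso A 0).inv.naturality u).symm

end Groth.Agent.Proet.DCProj
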