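import Groth.Prelude.Def_ProEtDC
import Groth.Agent.Proet.WC
import Groth.Agent.S0713
import Mathlib.CategoryTheory.Sites.EpiMono
import Mathlib.CategoryTheory.Sites.LocallyBijective

/-!
# Sections of sheaves of modules over weakly contractible objects of the pro-etale site
-/

set_option autoImplicit false
universe u

open CategoryTheory CategoryTheory.Limits AlgebraicGeometry Opposite

namespace Groth.Agent.Proet.DCSect

variable {X : Scheme.{u}} {Λ : Type (u + 1)} [CommRing Λ]

/-- Epimorphisms of sheaves of modules are surjective on sections over weakly contractible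
objects. -/
theorem surjective_of_epi {U : X.ProEt} (hU : ProEtS.IsWC U) {F G : EtModW.ModP Λ X} (φ : F ⟶ G)
    [Epi φ] : Function.Surjective (φ.hom.app (op U)) := by
  have h1 : Sheaf.IsLocallySurjective φ := (Sheaf.isLocallySurjective_iff_epi' _ φ).2 inferInstance
  have h2 : Sheaf.IsLocallySurjective
      ((sheafCompose (Scheme.ProEt.topology X) (forget (ModuleCat.{u + 1} Λ))).map φ) := by
    infer_instance
  exact (WC.isWC_iff U).1 hU _ _ _ h2

/-- A section is determined by its restriction along a covering morphism. -/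
theorem injective_restrict (F : EtModW.ModP Λ X) {U V : X.ProEt} (g : V ⟶ U)
    (hg : Sieve.generate (Presieve.singleton g) ∈ Scheme.ProEt.topology X U) :
    Function.Injective (F.obj.map g.op) := by
  intro x y hxy
  have h1 := (isSheaf_iff_isSheaf_of_type _ _).1
    ((sheafCompose (Scheme.ProEt.topology X) (forget (ModuleCat.{u + 1} Λ))).obj F).property
  apply (h1.isSeparated _ hg).ext
  rintro W f ⟨Z, k, _, ⟨⟩, rfl⟩
  have e : ∀ z : F.obj.obj (op U), F.obj.map (k ≫ g).op z = F.obj.map k.op (F.obj.map g.op z) := by
    intro z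
    rw [op_comp, Functor.map_comp]
    rfl
  change F.obj.map (k ≫ g).op x = F.obj.map (k ≫ g).op y
  rw [e, e, hxy]

/-- A morphism surjective on sections over weakly contractible objects is an epimorphism. -/
theorem epi_of_surjective {F G : EtModW.ModP Λ X} (φ : F ⟶ G)
    (h : ∀ U : X.ProEt, ProEtS.IsWC U → Function.Surjective (φ.hom.app (op U))) : Epi φ := by
  rw [← Sheaf.isLocallySurjective_iff_epi' _ φ]
  refine ⟨fun {U} s => ?_⟩
  obtain ⟨V, g, hg, hV⟩ := Groth.Agent.S0713.result U
  refine (Scheme.ProEt.topology X).superset_covering ?_ hg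
  rintro W f ⟨Z, k, _, ⟨⟩, rfl⟩
  obtain ⟨t, ht⟩ := h V hV (G.obj.map g.op s)
  refine ⟨F.obj.map k.op t, ?_⟩
  have e1 : φ.hom.app (op W) (F.obj.map k.op t) = G.obj.map k.op (φ.hom.app (op V) t) :=
    ConcreteCategory.congr_hom (φ.hom.naturality k.op) t
  refine e1.trans ?_
  rw [ht, op_comp, Functor.map_comp]
  rfl

/-- A morphism injective on sections over weakly contractible objects is injective on all
sections. -/
theorem injective_of_injective {F G : EtModW.ModP Λ X} (φ : F ⟶ G)
    (h : ∀ U : X.ProEt, ProEtS.IsWC U → Function.Injective (φ.hom.app (op U))) (U : X.ProEt) :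
    Function.Injective (φ.hom.app (op U)) := by
  obtain ⟨V, g, hg, hV⟩ := Groth.Agent.S0713.result U
  intro x y hxy
  apply injective_restrict F g hg
  apply h V hV
  have e1 : ∀ t, φ.hom.app (op V) (F.obj.map g.op t) = G.obj.map g.op (φ.hom.app (op U) t) :=
    fun t => ConcreteCategory.congr_hom (φ.hom.naturality g.op) t
  rw [e1, e1, hxy]

/-- A morphism bijective on sections over weakly contractible objects is an isomorphism. -/
theorem isIso_iff {F G : EtModW.ModP Λ X} (φ : F ⟶ G) :
    IsIso φ ↔ ∀ U : X.ProEt, ProEtS.IsWC U → Function.Bijective (φ.hom.app (op U)) := by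
  constructor
  · intro _ U _
    have : IsIso (φ.hom.app (op U)) := by
      have : IsIso φ.hom := inferInstanceAs (IsIso ((sheafToPresheaf _ _).map φ))
      infer_instance
    exact (ConcreteCategory.isIso_iff_bijective _).1 this
  · intro h
    rw [← Sheaf.isLocallyBijective_iff_isIso (A := ModuleCat.{u + 1} Λ) φ]
    constructor
    · have h1 := injective_of_injective φ (fun U hU => (h U hU).1)
      exact ⟨fun {U} x y hxy => by
        have : x = y := h1 U.unop hxy
        subst this
        simp⟩
    · have := epi_of_surjective φ (fun U hU => (h U hU).2)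
      exact (Sheaf.isLocallySurjective_iff_epi' _ φ).2 inferInstance

/-- A sheaf is zero if it has no nonzero sections over weakly contractible objects. -/
theorem isZero_of_subsingleton (F : EtModW.ModP Λ X)
    (h : ∀ U : X.ProEt, ProEtS.IsWC U → Subsingleton (F.obj.obj (op U))) : IsZero F := by
  rw [IsZero.iff_id_eq_zero]
  have h1 : IsIso (0 : F ⟶ F) := by
    rw [isIso_iff]
    intro U hU
    have := h U hU
    exact ⟨fun _ _ _ => Subsingleton.elim _ _, fun y => ⟨y, Subsingleton.elim _ _⟩⟩
  exact ((isIsoZero_iff_source_target_isZero F F).1 h1).1.eq_of_src _ _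

/-- Sections of a product. -/
theorem existsUnique_limit_discrete {ι : Type} (D : Discrete ι ⥤ EtModW.ModP Λ X)
    {c : Cone D} (hc : IsLimit c)
    (U : X.ProEt) (x : ∀ n : ι, (D.obj ⟨n⟩).obj.obj (op U)) :
    ∃! z : c.pt.obj.obj (op U), ∀ n, (c.π.app ⟨n⟩).hom.app (op U) z = x n := by
  let E : EtModW.ModP Λ X ⥤ Type (u + 1) :=
    (sheafSections (Scheme.ProEt.topology X) (ModuleCat.{u + 1} Λ)).obj (op U) ⋙ forget _
  have hE : PreservesLimit D E := by
    have h1 : PreservesLimit D ((sheafSections (Scheme.ProEt.topology X)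
      (ModuleCat.{u + 1} Λ)).obj (op U)) := by
      change PreservesLimit D (sheafToPresheaf _ _ ⋙ (evaluation _ _).obj (op U))
      infer_instance
    infer_instance
  have h2 := isLimitOfPreserves E hc
  let e := Types.isLimitEquivSections h2
  let s : (D ⋙ E).sections := ⟨fun j => x j.as, by
    rintro ⟨i⟩ ⟨j⟩ f
    obtain rfl : i = j := Discrete.eq_of_hom f
    obtain rfl : f = 𝟙 _ := Subsingleton.elim _ _
    simp⟩
  refine ⟨e.symm s, fun n => ?_, fun z hz => ?_⟩
  · have h3 := Types.isLimitEquivSections_symm_apply h2 s ⟨n⟩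
    exact h3
  · apply e.injective
    rw [Equiv.apply_symm_apply]
    apply Subtype.ext
    funext ⟨n⟩
    exact hz n

end Groth.Agent.Proet.DCSect
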