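import Groth.Agent.Proet.DCSect
import Groth.Agent.Proet.DCClosed

/-!
# Countable products of sheaves of modules on the pro-etale site are exact

and the criterion for `θ`-completeness of sheaves in terms of sections over weakly contractible
objects.
-/

set_option autoImplicit false
universe u

open CategoryTheory CategoryTheory.Limits AlgebraicGeometry Opposite

namespace Groth.Agent.Proet.DCSheaf

open DCSect DCProd

variable {X : Scheme.{u}} {Λ : Type (u + 1)} [CommRing Λ]

instance preservesEpi_lim {ι : Type} [HasLimitsOfShape (Discrete ι) (EtModW.ModP Λ X)] :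
    (lim (J := Discrete ι) (C := EtModW.ModP Λ X)).PreservesEpimorphisms where
  preserves {D D'} τ hτ := by
    apply epi_of_surjective
    intro U hU y
    have h1 (n : ι) : Epi (τ.app ⟨n⟩) := inferInstance
    have h2 (n : ι) := surjective_of_epi hU (τ.app ⟨n⟩)
    choose x hx using fun n => h2 n ((limit.π D' ⟨n⟩).hom.app (op U) y)
    obtain ⟨z, hz, -⟩ := existsUnique_limit_discrete D (limit.isLimit D) U x
    refine ⟨z, ?_⟩
    obtain ⟨z', hz', huniq⟩ := existsUnique_limit_discrete D' (limit.isLimit D') U
      (fun n => (limit.π D' ⟨n⟩).hom.app (op U) y)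
    rw [huniq y (fun n => rfl)]
    apply huniq
    intro n
    rw [← hx n, ← hz n]
    have h3 : limMap τ ≫ limit.π D' ⟨n⟩ = limit.π D ⟨n⟩ ≫ τ.app ⟨n⟩ := limMap_π _ _
    exact ConcreteCategory.congr_hom (congrArg (fun t => t.hom.app (op U)) h3) z

instance : HasExactLimitsOfShape (Discrete ℕ) (EtModW.ModP Λ X) :=
  hasExactLimitsOfShape_of_preservesEpi _ _

/-- Multiplication by `f` as a natural endomorphism. -/
noncomputable def cen (X : Scheme.{u}) {Λ : Type (u + 1)} [CommRing Λ] (f : Λ) :
    Cen (EtModW.ModP Λ X) where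
  app F := ProEtDC.smulHom Λ F f
  nat {F G} g := by
    apply Sheaf.hom_ext
    ext U x
    exact ((g.hom.app U).hom.map_smul f x).symm

theorem cen_app_apply (f : Λ) (F : EtModW.ModP Λ X) (U : X.ProEtᵒᵖ) (x : F.obj.obj U) :
    ((cen X f).app F).hom.app U x = f • x := rfl

/-- The condition of `f`-completeness for a module. -/
def MC {M : Type*} [AddCommGroup M] [Module Λ M] (f : Λ) : Prop :=
  Function.Bijective (fun (x : ℕ → M) (n : ℕ) => x n - f • x (n + 1))

/-- Sections of the countable power. -/
theorem bijective_sections (F : EtModW.ModP Λ X) (U : X.ProEt) :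
    Function.Bijective (fun (x : ((pow (EtModW.ModP Λ X)).obj F).obj.obj (op U)) (n : ℕ) =>
      (proj n F).hom.app (op U) x) := by
  constructor
  · intro x y hxy
    obtain ⟨z, -, hz⟩ := existsUnique_limit_discrete _ (isLimitPow F) U
      (fun n => (proj n F).hom.app (op U) x)
    rw [hz x (fun n => rfl), hz y (fun n => (congrFun hxy n).symm)]
  · intro y
    obtain ⟨z, hz, -⟩ := existsUnique_limit_discrete _ (isLimitPow F) U y
    exact ⟨z, funext hz⟩

theorem bijective_tel_iff (f : Λ) (F : EtModW.ModP Λ X) (U : X.ProEt) :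
    Function.Bijective ((tel (cen X f) F).hom.app (op U)) ↔
      Function.Bijective (fun (x : ℕ → F.obj.obj (op U)) (n : ℕ) => x n - f • x (n + 1)) := by
  let e : ((pow (EtModW.ModP Λ X)).obj F).obj.obj (op U) ≃ (ℕ → F.obj.obj (op U)) :=
    Equiv.ofBijective _ (bijective_sections F U)
  have he (x) (n : ℕ) : e x n = (proj n F).hom.app (op U) x := rfl
  have h1 (x) : e ((tel (cen X f) F).hom.app (op U) x) =
      (fun (x : ℕ → F.obj.obj (op U)) (n : ℕ) => x n - f • x (n + 1)) (e x) := by
    funext n
    have h2 := congrArg (fun t => t.hom.app (op U)) (tel_proj (cen X f) F n)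
    have h3 := ConcreteCategory.congr_hom h2 x
    exact h3
  rw [← e.bijective.of_comp_iff' , ← Function.Bijective.of_comp_iff _ e.bijective]
  have h4 : ⇑e ∘ ((tel (cen X f) F).hom.app (op U)) =
      (fun (x : ℕ → F.obj.obj (op U)) (n : ℕ) => x n - f • x (n + 1)) ∘ e := funext h1
  rw [h4]

/-- The criterion for completeness in terms of sections over weakly contractible objects. -/
theorem fc_iff (f : Λ) (F : EtModW.ModP Λ X) :
    FC (cen X f) F ↔ ∀ U : X.ProEt, ProEtS.IsWC U →
      Function.Bijective (fun (x : ℕ → F.obj.obj (op U)) (n : ℕ) => x n - f • x (n + 1)) := by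
  unfold FC
  rw [isIso_iff]
  exact forall_congr' fun U => forall_congr' fun _ => bijective_tel_iff f F U

end Groth.Agent.Proet.DCSheaf
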