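import Groth.Agent.Proet.WCProj
import Mathlib.Algebra.Category.ModuleCat.AB
import Mathlib.CategoryTheory.Adjunction.Evaluation

/-!
# `M ↦ j_{U!} M` is exact
-/

set_option autoImplicit false
universe u v

open CategoryTheory CategoryTheory.Limits AlgebraicGeometry Opposite

namespace Groth.Agent.Proet.LUExact

open WCProj

variable {X : Scheme.{u}} (Λ : Type (u + 1)) [CommRing Λ]

theorem exactCoprod (ι : Type u) : HasExactColimitsOfShape (Discrete ι) (ModuleCat.{u + 1} Λ) :=
  HasExactColimitsOfShape.of_domain_equivalence _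
    (Discrete.equivalence (Equiv.ulift.{u + 1} (α := ι)))

theorem mono_sigmaDesc (ι : Type u) {M N : ModuleCat.{u + 1} Λ} (f : M ⟶ N) [Mono f] :
    Mono (Sigma.desc (fun i : ι => f ≫ Sigma.ι (fun _ : ι => N) i)) := by
  have := exactCoprod Λ ι
  let α : Discrete.functor (fun _ : ι => M) ⟶ Discrete.functor (fun _ : ι => N) :=
    Discrete.natTrans fun _ => f
  have hα : Mono α := by
    rw [NatTrans.mono_iff_mono_app]
    intro i
    exact (inferInstance : Mono f)
  have h1 : Mono (colim.map α) := inferInstance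
  have h2 : Sigma.desc (fun i : ι => f ≫ Sigma.ι (fun _ : ι => N) i) = colim.map α := by
    refine Sigma.hom_ext _ _ fun i => ?_
    rw [Sigma.ι_desc]
    exact (ι_colimMap α ⟨i⟩).symm
  rw [h2]
  exact h1

instance preservesMono_left (U : X.ProEt) :
    (evaluationLeftAdjoint (ModuleCat.{u + 1} Λ) (op U)).PreservesMonomorphisms where
  preserves {M N} f _ := by
    rw [NatTrans.mono_iff_mono_app]
    intro V
    exact mono_sigmaDesc Λ _ f

/-- Another construction of `j_{U!}`. -/
noncomputable def adjU' (U : X.ProEt) :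
    evaluationLeftAdjoint (ModuleCat.{u + 1} Λ) (op U) ⋙
      presheafToSheaf (Scheme.ProEt.topology X) (ModuleCat.{u + 1} Λ) ⊣ evU Λ U :=
  Adjunction.ofNatIsoRight
    ((evaluationAdjunctionRight (ModuleCat.{u + 1} Λ) (op U)).comp
      (sheafificationAdjunction (Scheme.ProEt.topology X) (ModuleCat.{u + 1} Λ)))
    (Iso.refl _)

/-- `j_{U!}` is the sheafification of the free presheaf. -/
noncomputable def LUIso (U : X.ProEt) : LU Λ U ≅
    evaluationLeftAdjoint (ModuleCat.{u + 1} Λ) (op U) ⋙
      presheafToSheaf (Scheme.ProEt.topology X) (ModuleCat.{u + 1} Λ) :=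
  (adjU Λ U).leftAdjointUniq (adjU' Λ U)

theorem preservesMono_LU (U : X.ProEt) : (LU Λ U).PreservesMonomorphisms := by
  have : (evaluationLeftAdjoint (ModuleCat.{u + 1} Λ) (op U) ⋙
      presheafToSheaf (Scheme.ProEt.topology X)
        (ModuleCat.{u + 1} Λ)).PreservesMonomorphisms := inferInstance
  exact Functor.PreservesMonomorphisms.of_iso (LUIso Λ U).symm

theorem isLeftAdjoint_LU (U : X.ProEt) : (LU Λ U).IsLeftAdjoint := ⟨_, ⟨adjU Λ U⟩⟩

theorem additive_LU (U : X.ProEt) : (LU Λ U).Additive := by
  have : (evU Λ U).Additive := { map_add := rfl }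
  exact (adjU Λ U).left_adjoint_additive

instance additiveLU (U : X.ProEt) : (LU Λ U).Additive := additive_LU Λ U

/-- `j_{U!}` preserves short exact sequences. -/
theorem shortExact_LU (U : X.ProEt) {S : ShortComplex (ModuleCat.{u + 1} Λ)} (hS : S.ShortExact) :
    (S.map (LU Λ U)).ShortExact := by
  have := isLeftAdjoint_LU Λ U
  have := preservesMono_LU Λ U
  have := hS.mono_f
  have := hS.epi_g
  have h2 := (Functor.preservesFiniteColimits_iff_forall_exact_map_and_epi (LU Λ U)).1
    inferInstance S hS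
  have h3 : Mono ((LU Λ U).map S.f) := inferInstance
  exact { exact := h2.1, mono_f := h3, epi_g := h2.2 }

end Groth.Agent.Proet.LUExact
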