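import Mathlib.RingTheory.Localization.Away.Basic
import Mathlib.LinearAlgebra.Finsupp.LinearCombination
import Mathlib.Algebra.Category.ModuleCat.Abelian
import Mathlib.Algebra.Homology.ShortComplex.ModuleCat

/-!
# The telescope presentation of a localization
-/

set_option autoImplicit false
universe u v

open CategoryTheory CategoryTheory.Limits

namespace Groth.Agent.Proet.LocTel

variable {Λ : Type u} [CommRing Λ] (f : Λ)

/-- `e_n ↦ e_n - f e_{n+1}`. -/
noncomputable def telMap : (ℕ →₀ Λ) →ₗ[Λ] (ℕ →₀ Λ) :=
  Finsupp.linearCombination Λ fun n : ℕ => Finsupp.single n (1 : Λ) - f • Finsupp.single (n + 1) 1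

/-- `e_n ↦ 1/f^n`. -/
noncomputable def locMap : (ℕ →₀ Λ) →ₗ[Λ] Localization.Away f :=
  Finsupp.linearCombination Λ fun n : ℕ => IsLocalization.Away.invSelf (S := Localization.Away f) f ^ n

theorem telMap_single (n : ℕ) :
    telMap f (Finsupp.single n 1) = Finsupp.single n 1 - f • Finsupp.single (n + 1) 1 := by
  simp [telMap]

theorem locMap_single (n : ℕ) :
    locMap f (Finsupp.single n 1) = IsLocalization.Away.invSelf (S := Localization.Away f) f ^ n := by
  simp [locMap]

theorem telMap_zero (x : ℕ →₀ Λ) : telMap f x 0 = x 0 := by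
  induction x using Finsupp.induction_linear with
  | zero => simp
  | add x y hx hy => simp [hx, hy]
  | single n a =>
    have h : (Finsupp.single n a : ℕ →₀ Λ) = a • Finsupp.single n 1 := by simp
    rw [h, map_smul, telMap_single]
    simp [Finsupp.single_apply]

theorem telMap_succ (x : ℕ →₀ Λ) (n : ℕ) : telMap f x (n + 1) = x (n + 1) - f * x n := by
  induction x using Finsupp.induction_linear with
  | zero => simp
  | add x y hx hy => simp only [map_add, Finsupp.add_apply, hx, hy]; ring
  | single m a =>
    have h : (Finsupp.single m a : ℕ →₀ Λ) = a • Finsupp.single m 1 := by simp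
    rw [h, map_smul, telMap_single]
    simp only [Finsupp.smul_apply, Finsupp.sub_apply, smul_eq_mul, Finsupp.single_apply,
      add_left_inj]
    split_ifs <;> ring

theorem telMap_injective : Function.Injective (telMap f) := by
  rw [injective_iff_map_eq_zero]
  intro x hx
  ext n
  induction n with
  | zero => rw [← telMap_zero f x, hx]
  | succ n ih =>
    have h1 := telMap_succ f x n
    rw [hx, ih] at h1
    simpa using h1.symm

theorem locMap_telMap (x : ℕ →₀ Λ) : locMap f (telMap f x) = 0 := by
  have h : (locMap f).comp (telMap f) = 0 := by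
    refine Finsupp.lhom_ext' fun n => LinearMap.ext_ring ?_
    simp only [LinearMap.comp_apply, Finsupp.lsingle_apply, LinearMap.zero_apply]
    rw [telMap_single, map_sub, map_smul, locMap_single, locMap_single, pow_succ',
      Algebra.smul_def, ← mul_assoc, IsLocalization.Away.mul_invSelf, one_mul, sub_self]
  exact LinearMap.congr_fun h x

/-- modulo the range of the telescope map `e_n` is `f^k e_{n+k}`. -/
theorem single_sub_mem (n k : ℕ) :
    (Finsupp.single n (1 : Λ) - f ^ k • Finsupp.single (n + k) 1) ∈ LinearMap.range (telMap f) := by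
  induction k with
  | zero => simp
  | succ k ih =>
    have h : (Finsupp.single n (1 : Λ) - f ^ (k + 1) • Finsupp.single (n + (k + 1)) 1) =
        (Finsupp.single n (1 : Λ) - f ^ k • Finsupp.single (n + k) 1) +
          f ^ k • (Finsupp.single (n + k) 1 - f • Finsupp.single (n + k + 1) 1) := by
      rw [smul_sub, smul_smul, ← pow_succ, add_assoc n k 1]
      abel
    rw [h]
    exact Submodule.add_mem _ ih (Submodule.smul_mem _ _ ⟨_, telMap_single f (n + k)⟩)

theorem exists_of_locMap_eq_zero (x : ℕ →₀ Λ) (hx : locMap f x = 0) : ∃ y, telMap f y = x := by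
  -- reduce to a multiple of a basis vector
  obtain ⟨N, c, hc⟩ : ∃ (N : ℕ) (c : Λ), x - c • Finsupp.single N 1 ∈
      LinearMap.range (telMap f) := by
    clear hx
    induction x using Finsupp.induction_linear with
    | zero => exact ⟨0, 0, by simp⟩
    | add x y hx hy =>
      obtain ⟨N, c, h1⟩ := hx
      obtain ⟨M, d, h2⟩ := hy
      refine ⟨N + M, c * f ^ M + d * f ^ N, ?_⟩
      have h3 := single_sub_mem f N M
      have h4 := single_sub_mem f M N
      rw [add_comm M N] at h4
      have h5 : x + y - (c * f ^ M + d * f ^ N) • Finsupp.single (N + M) (1 : Λ) =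
          (x - c • Finsupp.single N 1) + (y - d • Finsupp.single M 1) +
          c • (Finsupp.single N (1 : Λ) - f ^ M • Finsupp.single (N + M) 1) +
          d • (Finsupp.single M (1 : Λ) - f ^ N • Finsupp.single (N + M) 1) := by
        rw [smul_sub, smul_sub, smul_smul, smul_smul, add_smul]
        abel
      rw [h5]
      exact Submodule.add_mem _ (Submodule.add_mem _ (Submodule.add_mem _ h1 h2)
        (Submodule.smul_mem _ _ h3)) (Submodule.smul_mem _ _ h4)
    | single n a => exact ⟨n, a, by simp⟩
  obtain ⟨y, hy⟩ := hc
  have h1 : locMap f (c • Finsupp.single N 1) = 0 := by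
    have h2 := locMap_telMap f y
    rw [hy, map_sub, hx, zero_sub, neg_eq_zero] at h2
    exact h2
  rw [map_smul, locMap_single, Algebra.smul_def] at h1
  have h2 : algebraMap Λ (Localization.Away f) c = 0 := by
    have h3 := congrArg (fun z => z * (algebraMap Λ (Localization.Away f) f) ^ N) h1
    simp only [zero_mul, mul_assoc, ← mul_pow] at h3
    rwa [mul_comm (IsLocalization.Away.invSelf f), IsLocalization.Away.mul_invSelf, one_pow,
      mul_one] at h3
  obtain ⟨⟨_, k, rfl⟩, hk⟩ := (IsLocalization.map_eq_zero_iff (Submonoid.powers f) _ c).1 h2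
  have h4 := single_sub_mem f N k
  have h5 : x = telMap f y + c • (Finsupp.single N (1 : Λ) - f ^ k • Finsupp.single (N + k) 1) := by
    rw [hy, smul_sub, smul_smul, mul_comm c]
    simp only at hk
    rw [hk]
    simp
  obtain ⟨z, hz⟩ := Submodule.smul_mem _ c h4
  exact ⟨y + z, by rw [map_add, hz, ← h5]⟩

theorem locMap_surjective : Function.Surjective (locMap f) := by
  intro x
  obtain ⟨⟨a, _, n, rfl⟩, h⟩ := IsLocalization.surj (Submonoid.powers f) x
  refine ⟨a • Finsupp.single n 1, ?_⟩
  rw [map_smul, locMap_single, Algebra.smul_def]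
  simp only at h
  rw [← h, map_pow, mul_assoc, ← mul_pow, IsLocalization.Away.mul_invSelf, one_pow, mul_one]

/-- The short complex `Λ^(ℕ) → Λ^(ℕ) → Λ_f`. -/
noncomputable def telComplex : ShortComplex (ModuleCat.{u} Λ) :=
  ShortComplex.mk (ModuleCat.ofHom (telMap f)) (ModuleCat.ofHom (locMap f)) (by
    ext x
    exact locMap_telMap f _)

theorem telComplex_shortExact : (telComplex f).ShortExact where
  exact := by
    rw [ShortComplex.moduleCat_exact_iff]
    intro x hx
    exact exists_of_locMap_eq_zero f x hx
  mono_f := (ModuleCat.mono_iff_injective _).2 (telMap_injective f)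
  epi_g := (ModuleCat.epi_iff_surjective _).2 (locMap_surjective f)

end Groth.Agent.Proet.LocTel
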