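import Groth.Agent.Proet.ExtTwo
import Groth.Agent.Proet.LocTel
import Groth.Agent.Proet.LUExact
import Groth.Agent.Proet.DCZero
import Mathlib.Algebra.Category.ModuleCat.Projective

/-!
# Derived completeness and telescopes
-/

set_option autoImplicit false
universe u v

open CategoryTheory CategoryTheory.Limits AlgebraicGeometry Opposite Abelian

namespace Groth.Agent.Proet.DCTel

open WCExist WCExact WCProj DCNak LocTel LUExact DCZero

section Module

variable {Λ : Type u} [CommRing Λ]

/-- The free module on `ℕ`. -/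
noncomputable abbrev freeN (Λ : Type u) [CommRing Λ] : ModuleCat.{u} Λ := ModuleCat.of Λ (ℕ →₀ Λ)

/-- The telescope map. -/
noncomputable def tel (f : Λ) : freeN Λ ⟶ freeN Λ := ModuleCat.ofHom (telMap f)

/-- Linear maps out of `Λ^(ℕ)`. -/
noncomputable def seqEquiv (N : ModuleCat.{u} Λ) : (freeN Λ ⟶ N) ≃ (ℕ → N) :=
  ModuleCat.homEquiv.trans (Finsupp.lift N Λ ℕ).symm.toEquiv

theorem seqEquiv_apply (N : ModuleCat.{u} Λ) (h : freeN Λ ⟶ N) (n : ℕ) :
    seqEquiv N h n = h.hom (Finsupp.single n 1) := rfl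

theorem seqEquiv_comp (f : Λ) (N : ModuleCat.{u} Λ) (h : freeN Λ ⟶ N) :
    seqEquiv N (tel f ≫ h) =
      fun n => seqEquiv N h n - f • seqEquiv N h (n + 1) := by
  funext n
  rw [seqEquiv_apply, seqEquiv_apply, seqEquiv_apply]
  change h.hom (telMap f (Finsupp.single n 1)) = _
  rw [telMap_single, map_sub, map_smul]

theorem bijective_iff_TB (f : Λ) (N : ModuleCat.{u} Λ) :
    Function.Bijective (fun h : freeN Λ ⟶ N => tel f ≫ h) ↔ TB f N := by
  have h1 : (seqEquiv N) ∘ (fun h : freeN Λ ⟶ N => tel f ≫ h) =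
      (fun (x : ℕ → N) (n : ℕ) => x n - f • x (n + 1)) ∘ (seqEquiv N) := by
    funext h
    exact seqEquiv_comp f N h
  unfold TB
  rw [← (seqEquiv N).comp_bijective, h1, (seqEquiv N).bijective_comp]

end Module

variable {X : Scheme.{u}} (Λ : Type (u + 1)) [CommRing Λ]

theorem bijective_LU_iff (f : Λ) (F : EtModW.ModP Λ X) (U : X.ProEt) :
    Function.Bijective (fun h : (LU Λ U).obj (freeN Λ) ⟶ F => (LU Λ U).map (tel f) ≫ h) ↔
      TB f (F.obj.obj (op U)) := by
  refine Iff.trans ?_ (bijective_iff_TB f ((evU Λ U).obj F))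
  let e := (adjU Λ U).homEquiv (freeN Λ) F
  have h1 : e ∘ (fun h : (LU Λ U).obj (freeN Λ) ⟶ F => (LU Λ U).map (tel f) ≫ h) =
      (fun h : freeN Λ ⟶ (evU Λ U).obj F => tel f ≫ h) ∘ e := by
    funext h
    exact (adjU Λ U).homEquiv_naturality_left (tel f) h
  rw [← e.comp_bijective, h1, e.bijective_comp]

/-- The short exact sequence `0 → j_! Λ^(ℕ) → j_! Λ^(ℕ) → j_! Λ_f → 0`. -/
theorem shortExact_tel (f : Λ) (U : X.ProEt) :
    ((telComplex f).map (LU Λ U)).ShortExact :=
  shortExact_LU Λ U (telComplex_shortExact f)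

/-- Derived complete sheaves have bijective telescopes on all sections. -/
theorem TB_of_isDCSheaf {I : Ideal Λ} {F : EtModW.ModP Λ X} (hF : ProEtDC.IsDCSheaf Λ I F)
    {f : Λ} (hf : f ∈ I) (U : X.ProEt) : TB f (F.obj.obj (op U)) := by
  rw [← bijective_LU_iff]
  exact ExtTwo.bijective_precomp (shortExact_tel Λ f U) F (hF U f hf 0) (hF U f hf 1)

/-- On weakly contractible objects bijectivity of the telescope implies vanishing of all the
Ext groups. -/
theorem subsingleton_ext_of_TB {F : EtModW.ModP Λ X} {f : Λ} {U : X.ProEt}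
    (hU : ProEtS.IsWC U) (h : TB f (F.obj.obj (op U))) (n : ℕ) :
    Subsingleton (Ext.{u + 1} (ProEtDC.locExt Λ U f) F n) := by
  rw [← bijective_LU_iff] at h
  have hP : Projective (freeN Λ) :=
    (IsProjective.iff_projective (R := Λ) (ℕ →₀ Λ)).1 inferInstance
  have : Projective ((telComplex f).map (LU Λ U)).X₁ := projective_LU Λ hU _ hP
  have : Projective ((telComplex f).map (LU Λ U)).X₂ := projective_LU Λ hU _ hP
  exact ExtTwo.subsingleton_ext (shortExact_tel Λ f U) F h n

end Groth.Agent.Proet.DCTel
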