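import Groth.Agent.Proet.EpsPres

/-!
# Levels of Cech nerves of cofiltered limits of arrows (generic part)

* `isLimit_of_isPullback`: cofiltered (any) limits commute with fibre products, cone version;
* `exists_nlift_map`, `nhom_ext_map`: universal property of `E (N_n f)` for a functor `E` preserving
  pullbacks.
-/

set_option autoImplicit false
universe u v₁ v₂ v₃ u₁ u₂ u₃

open CategoryTheory CategoryTheory.Limits Opposite Simplicial

namespace Groth.Agent.Proet.Eps228

open CechEl EpsB0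

section General

variable {𝒮 : Type u₁} [Category.{v₁} 𝒮] {I : Type u₂} [Category.{v₂} I] {A B C P : I ⥤ 𝒮}
  (a : A ⟶ C) (b : B ⟶ C) (p : P ⟶ A) (q : P ⟶ B)
  (h : ∀ i, IsPullback (p.app i) (q.app i) (a.app i) (b.app i))
  {cA : Cone A} {cB : Cone B} {cC : Cone C} {cP : Cone P} (hA : IsLimit cA) (hB : IsLimit cB)
  (hC : IsLimit cC) {a0 : cA.pt ⟶ cC.pt} {b0 : cB.pt ⟶ cC.pt} {p0 : cP.pt ⟶ cA.pt}
  {q0 : cP.pt ⟶ cB.pt} (h0 : IsPullback p0 q0 a0 b0)
  (ha : ∀ i, a0 ≫ cC.π.app i = cA.π.app i ≫ a.app i)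
  (hb : ∀ i, b0 ≫ cC.π.app i = cB.π.app i ≫ b.app i)
  (hp : ∀ i, p0 ≫ cA.π.app i = cP.π.app i ≫ p.app i)
  (hq : ∀ i, q0 ≫ cB.π.app i = cP.π.app i ≫ q.app i)

include h hA hB hC h0 ha hb hp hq in
/-- limits commute with fibre products. -/
theorem isLimit_of_isPullback : Nonempty (IsLimit cP) := by
  let sA (s : Cone P) : Cone A := ⟨s.pt, s.π ≫ p⟩
  let sB (s : Cone P) : Cone B := ⟨s.pt, s.π ≫ q⟩
  have hsA (s : Cone P) (i : I) : hA.lift (sA s) ≫ cA.π.app i = s.π.app i ≫ p.app i :=
    hA.fac (sA s) i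
  have hsB (s : Cone P) (i : I) : hB.lift (sB s) ≫ cB.π.app i = s.π.app i ≫ q.app i :=
    hB.fac (sB s) i
  have hs (s : Cone P) : hA.lift (sA s) ≫ a0 = hB.lift (sB s) ≫ b0 := by
    apply hC.hom_ext
    intro i
    rw [Category.assoc, Category.assoc, ha, hb, ← Category.assoc, ← Category.assoc, hsA, hsB,
      Category.assoc, Category.assoc, (h i).w]
  refine ⟨⟨fun s => h0.lift _ _ (hs s), fun s i => ?_, fun s m hm => ?_⟩⟩
  · apply (h i).hom_ext
    · rw [Category.assoc, ← hp, ← Category.assoc, h0.lift_fst, hsA]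
    · rw [Category.assoc, ← hq, ← Category.assoc, h0.lift_snd, hsB]
  · apply h0.hom_ext
    · rw [h0.lift_fst]
      apply hA.hom_ext
      intro i
      rw [Category.assoc, hp, ← Category.assoc, hm, hsA]
    · rw [h0.lift_snd]
      apply hB.hom_ext
      intro i
      rw [Category.assoc, hq, ← Category.assoc, hm, hsB]

end General

section Nerve

variable {C : Type u₁} [Category.{v₁} C] {V U : C} (f : V ⟶ U)
  [∀ n : ℕ, HasWidePullback.{0} (Arrow.mk f).right
    (fun _ : Fin (n + 1) => (Arrow.mk f).left) fun _ => (Arrow.mk f).hom]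
  {D : Type u₂} [Category.{v₂} D] (E : C ⥤ D) [PreservesLimitsOfShape WalkingCospan E]

/-- Universal property of `E (N_n f)`, existence. -/
theorem exists_nlift_map (n : ℕ) {T : D} (u : T ⟶ E.obj U) (g : Fin (n + 1) → (T ⟶ E.obj V))
    (hg : ∀ j, g j ≫ E.map f = u) :
    ∃ l : T ⟶ E.obj ((nerve f) _⦋n⦌), ∀ j, l ≫ E.map (nπ f n j) = g j := by
  induction n with
  | zero =>
    have h := (isPullback_nerve_zero f).map E
    refine ⟨h.lift u (g 0) (by rw [E.map_id, Category.comp_id, hg]), fun j => ?_⟩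
    obtain rfl : j = 0 := Fin.fin_one_eq_zero j
    exact h.lift_snd _ _ _
  | succ n ih =>
    obtain ⟨l, hl⟩ := ih (fun j => g j.castSucc) (fun j => hg _)
    have h := (isPullback_nerve f n).map E
    have h1 : l ≫ E.map (nbase f n) = g (Fin.last _) ≫ E.map f := by
      rw [← nπ_comp f n 0, E.map_comp, ← Category.assoc, hl, hg, hg]
    refine ⟨h.lift l (g (Fin.last _)) h1, fun j => ?_⟩
    refine Fin.lastCases ?_ (fun j => ?_) j
    · exact h.lift_snd _ _ _
    · have h2 : nπ f (n + 1) j.castSucc = (nerve f).δ (Fin.last (n + 1)) ≫ nπ f n j := by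
        rw [nδ_π, Fin.succAbove_last]
      rw [h2, E.map_comp, ← Category.assoc, h.lift_fst, hl]

/-- Universal property of `E (N_n f)`, uniqueness. -/
theorem nhom_ext_map {n : ℕ} {T : D} {x y : T ⟶ E.obj ((nerve f) _⦋n⦌)}
    (h : ∀ j, x ≫ E.map (nπ f n j) = y ≫ E.map (nπ f n j)) : x = y := by
  induction n with
  | zero =>
    apply ((isPullback_nerve_zero f).map E).hom_ext
    · rw [← nπ_comp f 0 0, E.map_comp, ← Category.assoc, h, Category.assoc]
    · exact h 0
  | succ n ih =>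
    apply ((isPullback_nerve f n).map E).hom_ext
    · apply ih
      intro j
      have h2 : nπ f (n + 1) j.castSucc = (nerve f).δ (Fin.last (n + 1)) ≫ nπ f n j := by
        rw [nδ_π, Fin.succAbove_last]
      have h3 := h j.castSucc
      rw [h2, E.map_comp, ← Category.assoc, ← Category.assoc] at h3
      exact h3
    · exact h _

end Nerve

end Groth.Agent.Proet.Eps228
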