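import Groth.Agent.Proet.Eps228A

/-!
# Levels of Cech nerves of cofiltered limits of etale arrows
-/

set_option autoImplicit false
universe u

open CategoryTheory CategoryTheory.Limits AlgebraicGeometry Opposite Simplicial

namespace Groth.Agent.Proet.Eps228

set_option backward.isDefEq.respectTransparency.types false

open CechEl EpsB0 EpsPres

instance hasFiniteWidePullbacks_etale (X : Scheme.{u}) : HasFiniteWidePullbacks X.Etale :=
  hasFiniteWidePullbacks_of_hasFiniteLimits _

instance preservesPullback_eps (X : Scheme.{u}) :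
    PreservesLimitsOfShape WalkingCospan (ProEtS.eps X) :=
  have := Cont.preservesFiniteLimits_eps X
  inferInstance

section Levels

variable {X : Scheme.{u}} {W V : X.ProEt} (f : W ⟶ V) {I : Type u} [SmallCategory I]
  {F G : I ⥤ X.Etale} (β : F ⟶ G)
  (s : (Functor.const I).obj W ⟶ F ⋙ ProEtS.eps X)
  (t : (Functor.const I).obj V ⟶ G ⋙ ProEtS.eps X)
  (hst : ∀ i, f ≫ t.app i = s.app i ≫ (ProEtS.eps X).map (β.app i))

/-- transition maps of the nerves -/
noncomputable def nMap (n : ℕ) {i j : I} (a : i ⟶ j) :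
    (nerve (β.app i)) _⦋n⦌ ⟶ (nerve (β.app j)) _⦋n⦌ :=
  nlift (β.app j) n (nbase (β.app i) n ≫ G.map a) (fun k => nπ (β.app i) n k ≫ F.map a) (by
    intro k
    rw [Category.assoc, β.naturality, ← Category.assoc, nπ_comp])

theorem nMap_π (n : ℕ) {i j : I} (a : i ⟶ j) (k : Fin (n + 1)) :
    nMap β n a ≫ nπ (β.app j) n k = nπ (β.app i) n k ≫ F.map a := nlift_π _ _ _ _ _ _

theorem nMap_base (n : ℕ) {i j : I} (a : i ⟶ j) :
    nMap β n a ≫ nbase (β.app j) n = nbase (β.app i) n ≫ G.map a := by
  rw [← nπ_comp (β.app j) n 0, ← Category.assoc, nMap_π, Category.assoc, β.naturality,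
    ← Category.assoc, nπ_comp]

theorem nMap_δ (n : ℕ) {i j : I} (a : i ⟶ j) (k : Fin (n + 2)) :
    nMap β (n + 1) a ≫ (nerve (β.app j)).δ k = (nerve (β.app i)).δ k ≫ nMap β n a := by
  apply nhom_ext
  intro l
  rw [Category.assoc, Category.assoc, nδ_π, nMap_π, nMap_π, ← Category.assoc, nδ_π]

/-- the levels of the nerves as functors. -/
noncomputable def N (n : ℕ) : I ⥤ X.Etale where
  obj i := (nerve (β.app i)) _⦋n⦌
  map a := nMap β n a
  map_id i := by
    apply nhom_ext
    intro k
    rw [nMap_π, F.map_id, Category.comp_id, Category.id_comp]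
  map_comp a b := by
    apply nhom_ext
    intro k
    rw [Category.assoc, nMap_π, nMap_π, ← Category.assoc, nMap_π, F.map_comp, Category.assoc]

include hst in
theorem exists_τ (n : ℕ) (i : I) :
    ∃ l : (nerve f) _⦋n⦌ ⟶ (ProEtS.eps X).obj ((nerve (β.app i)) _⦋n⦌),
      ∀ k, l ≫ (ProEtS.eps X).map (nπ (β.app i) n k) = nπ f n k ≫ s.app i :=
  exists_nlift_map (β.app i) (ProEtS.eps X) n (nbase f n ≫ t.app i)
    (fun k => nπ f n k ≫ s.app i) (fun k => by
      rw [Category.assoc, ← hst, ← Category.assoc, nπ_comp])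

/-- the maps of nerves. -/
noncomputable def τapp (n : ℕ) (i : I) :
    (nerve f) _⦋n⦌ ⟶ (ProEtS.eps X).obj ((nerve (β.app i)) _⦋n⦌) :=
  (exists_τ f β s t hst n i).choose

theorem τapp_π (n : ℕ) (i : I) (k : Fin (n + 1)) :
    τapp f β s t hst n i ≫ (ProEtS.eps X).map (nπ (β.app i) n k) = nπ f n k ≫ s.app i :=
  (exists_τ f β s t hst n i).choose_spec k

theorem τapp_base (n : ℕ) (i : I) :
    τapp f β s t hst n i ≫ (ProEtS.eps X).map (nbase (β.app i) n) = nbase f n ≫ t.app i := by
  rw [← nπ_comp (β.app i) n 0, (ProEtS.eps X).map_comp, ← Category.assoc, τapp_π, Category.assoc,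
    ← hst, ← Category.assoc, nπ_comp]

theorem τapp_δ (n : ℕ) (i : I) (k : Fin (n + 2)) :
    τapp f β s t hst (n + 1) i ≫ (ProEtS.eps X).map ((nerve (β.app i)).δ k) =
      (nerve f).δ k ≫ τapp f β s t hst n i := by
  apply nhom_ext_map (β.app i) (ProEtS.eps X)
  intro l
  rw [Category.assoc, Category.assoc, ← (ProEtS.eps X).map_comp, nδ_π, τapp_π, τapp_π,
    ← Category.assoc, nδ_π]

theorem τapp_map (n : ℕ) {i j : I} (a : i ⟶ j) :
    τapp f β s t hst n i ≫ (ProEtS.eps X).map (nMap β n a) = τapp f β s t hst n j := by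
  apply nhom_ext_map (β.app j) (ProEtS.eps X)
  intro l
  have h : s.app i ≫ (ProEtS.eps X).map (F.map a) = s.app j := by
    have := s.naturality a
    exact this.symm.trans (Category.id_comp _)
  rw [Category.assoc, ← (ProEtS.eps X).map_comp, nMap_π, (ProEtS.eps X).map_comp,
    ← Category.assoc, τapp_π, τapp_π, Category.assoc, h]

/-- the cone of nerve levels. -/
noncomputable def τ (n : ℕ) : (Functor.const I).obj ((nerve f) _⦋n⦌) ⟶ N β n ⋙ ProEtS.eps X where
  app i := τapp f β s t hst n i
  naturality i j a := by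
    refine (Category.id_comp _).trans ?_
    exact (τapp_map f β s t hst n a).symm

/-- the last face, as a natural transformation. -/
noncomputable def dLast (n : ℕ) : N β (n + 1) ⟶ N β n where
  app i := (nerve (β.app i)).δ (Fin.last (n + 1))
  naturality _ _ a := nMap_δ β n a _

/-- the projections, as natural transformations. -/
noncomputable def πN (n : ℕ) (k : Fin (n + 1)) : N β n ⟶ F where
  app i := nπ (β.app i) n k
  naturality _ _ a := nMap_π β n a _

/-- the augmentation, as a natural transformation. -/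
noncomputable def bN (n : ℕ) : N β n ⟶ G where
  app i := nbase (β.app i) n
  naturality _ _ a := nMap_base β n a

/-- the underlying scheme functor. -/
noncomputable abbrev Φs (X : Scheme.{u}) : X.ProEt ⥤ Scheme.{u} :=
  Scheme.ProEt.forget X ⋙ Over.forget X

theorem Φ_sq {A B C D : X.ProEt} {a : A ⟶ B} {b : B ⟶ D} {c : A ⟶ C} {d : C ⟶ D}
    (h : a ≫ b = c ≫ d) : (Φs X).map a ≫ (Φs X).map b = (Φs X).map c ≫ (Φs X).map d := by
  rw [← Functor.map_comp, h, Functor.map_comp]

theorem isLimit_τ (n : ℕ) (hs : IsLimit ((Φs X).mapCone (Cone.mk W s)))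
    (ht : IsLimit ((Φs X).mapCone (Cone.mk V t))) :
    Nonempty (IsLimit ((Φs X).mapCone (Cone.mk _ (τ f β s t hst n)))) := by
  induction n with
  | zero =>
    refine isLimit_of_isPullback (𝒮 := Scheme.{u}) (I := I)
      (Functor.whiskerRight (Functor.whiskerRight (𝟙 G) (ProEtS.eps X)) (Φs X))
      (Functor.whiskerRight (Functor.whiskerRight β (ProEtS.eps X)) (Φs X))
      (Functor.whiskerRight (Functor.whiskerRight (bN β 0) (ProEtS.eps X)) (Φs X))
      (Functor.whiskerRight (Functor.whiskerRight (πN β 0 0) (ProEtS.eps X)) (Φs X))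
      (fun i => ?_) ht hs ht (a0 := (Φs X).map (𝟙 V)) (b0 := (Φs X).map f)
      (p0 := (Φs X).map (nbase f 0)) (q0 := (Φs X).map (nπ f 0 0)) ?_ (fun i => ?_) (fun i => ?_)
      (fun i => ?_) (fun i => ?_)
    · exact ((isPullback_nerve_zero (β.app i)).map (ProEtS.eps X)).map (Φs X)
    · exact (isPullback_nerve_zero f).map (Φs X)
    · have h : 𝟙 V ≫ t.app i = t.app i ≫ (ProEtS.eps X).map (𝟙 (G.obj i)) := by
        rw [(ProEtS.eps X).map_id]
        exact (Category.id_comp _).trans (Category.comp_id _).symm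
      exact Φ_sq h
    · exact Φ_sq (hst i)
    · exact Φ_sq (τapp_base f β s t hst 0 i).symm
    · exact Φ_sq (τapp_π f β s t hst 0 i 0).symm
  | succ n ih =>
    obtain ⟨ih⟩ := ih
    refine isLimit_of_isPullback (𝒮 := Scheme.{u}) (I := I)
      (Functor.whiskerRight (Functor.whiskerRight (bN β n) (ProEtS.eps X)) (Φs X))
      (Functor.whiskerRight (Functor.whiskerRight β (ProEtS.eps X)) (Φs X))
      (Functor.whiskerRight (Functor.whiskerRight (dLast β n) (ProEtS.eps X)) (Φs X))
      (Functor.whiskerRight (Functor.whiskerRight (πN β (n + 1) (Fin.last (n + 1)))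
        (ProEtS.eps X)) (Φs X))
      (fun i => ?_) ih hs ht (a0 := (Φs X).map (nbase f n)) (b0 := (Φs X).map f)
      (p0 := (Φs X).map ((nerve f).δ (Fin.last (n + 1))))
      (q0 := (Φs X).map (nπ f (n + 1) (Fin.last (n + 1)))) ?_ (fun i => ?_) (fun i => ?_)
      (fun i => ?_) (fun i => ?_)
    · exact ((isPullback_nerve (β.app i) n).map (ProEtS.eps X)).map (Φs X)
    · exact (isPullback_nerve f n).map (Φs X)
    · exact Φ_sq (τapp_base f β s t hst n i).symm
    · exact Φ_sq (hst i)
    · exact Φ_sq (τapp_δ f β s t hst n i _).symm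
    · exact Φ_sq (τapp_π f β s t hst (n + 1) i _).symm

/-- the levels are affine. -/
theorem isAffine_N (hF : ∀ i, IsAffine (F.obj i).left) (hG : ∀ i, IsAffine (G.obj i).left) (n : ℕ)
    (i : I) : IsAffine ((N β n).obj i).left := by
  have := hF i
  have := hG i
  induction n with
  | zero =>
    have h : IsPullback (nbase (β.app i) 0).left (nπ (β.app i) 0 0).left (𝟙 (G.obj i) : _ ⟶ _).left
      (β.app i).left := ((isPullback_nerve_zero (β.app i)).map (ProEtS.eps X)).map (Φs X)
    exact IsAffine.of_isPullback h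
  | succ n ih =>
    have h : IsPullback ((nerve (β.app i)).δ (Fin.last (n + 1))).left
      (nπ (β.app i) (n + 1) (Fin.last (n + 1))).left (nbase (β.app i) n).left
      (β.app i).left := ((isPullback_nerve (β.app i) n).map (ProEtS.eps X)).map (Φs X)
    have : IsAffine ((nerve (β.app i)) _⦋n⦌).left := ih
    exact IsAffine.of_isPullback h

end Levels

end Groth.Agent.Proet.Eps228
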