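import Groth.Agent.Proet.Eps228B
import Groth.Agent.Proet.PullElem
import Groth.Agent.EtpbcA.EqLocus

/-!
# Sections of `eps⁻¹ F`: injectivity of representations
-/

set_option autoImplicit false
universe u

open CategoryTheory CategoryTheory.Limits AlgebraicGeometry Opposite Simplicial

namespace Groth.Agent.Proet.Eps228

set_option backward.isDefEq.respectTransparency.types false

variable {X : Scheme.{u}}

theorem isFiltered_costr (T : X.ProEt) : IsFiltered (CostructuredArrow (ProEtS.eps X).op (op T)) := by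
  have := Cont.preservesFiniteLimits_eps X
  have : RepresentablyFlat (ProEtS.eps X) := flat_of_preservesFiniteLimits _
  exact IsFiltered.of_equivalence (structuredArrowOpEquivalence (ProEtS.eps X) T)

instance preservesColimits_costr (T : X.ProEt) :
    PreservesColimitsOfShape (CostructuredArrow (ProEtS.eps X).op (op T))
      (forget AddCommGrpCat.{u + 1}) := by
  have := isFiltered_costr T
  have : PreservesFilteredColimitsOfSize.{u, u + 1} (forget AddCommGrpCat.{u + 1}) :=
    preservesFilteredColimitsOfSize_of_univLE.{u + 1, u + 1, u, u + 1} _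
  exact PreservesFilteredColimitsOfSize.preserves_filtered_colimits _

variable [ProEtS.EpsCont X] (F : EtCoh.Ab X)

/-- the unit on sections. -/
noncomputable def un (U : X.Etale) : F.obj.obj (op U) →+
    ((ProEtS.epsPull X).obj F).obj.obj (op ((ProEtS.eps X).obj U)) :=
  (((ProEtS.epsAdj X).unit.app F).hom.app (op U)).hom

/-- `(unit x)|_g` -/
noncomputable def br {V : X.ProEt} {U : X.Etale} (g : V ⟶ (ProEtS.eps X).obj U) :
    F.obj.obj (op U) →+ ((ProEtS.epsPull X).obj F).obj.obj (op V) :=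
  (((ProEtS.epsPull X).obj F).obj.map g.op).hom.comp (un F U)

theorem br_apply {V : X.ProEt} {U : X.Etale} (g : V ⟶ (ProEtS.eps X).obj U)
    (x : F.obj.obj (op U)) : br F g x = ((ProEtS.epsPull X).obj F).obj.map g.op
      (((ProEtS.epsAdj X).unit.app F).hom.app (op U) x) := rfl

variable {F}

theorem map_br {V V' : X.ProEt} (h : V' ⟶ V) {U : X.Etale} (g : V ⟶ (ProEtS.eps X).obj U)
    (x : F.obj.obj (op U)) :
    ((ProEtS.epsPull X).obj F).obj.map h.op (br F g x) = br F (h ≫ g) x := by
  change _ = ((ProEtS.epsPull X).obj F).obj.map (h ≫ g).op (un F U x)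
  rw [op_comp, Functor.map_comp]
  rfl

theorem un_map {U U' : X.Etale} (k : U' ⟶ U) (x : F.obj.obj (op U)) :
    ((ProEtS.epsPull X).obj F).obj.map ((ProEtS.eps X).map k).op (un F U x) =
      un F U' (F.obj.map k.op x) :=
  (ConcreteCategory.congr_hom (((ProEtS.epsAdj X).unit.app F).hom.naturality k.op) x).symm

theorem br_comp {V : X.ProEt} {U U' : X.Etale} (g : V ⟶ (ProEtS.eps X).obj U') (k : U' ⟶ U)
    (x : F.obj.obj (op U)) : br F (g ≫ (ProEtS.eps X).map k) x = br F g (F.obj.map k.op x) := by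
  change ((ProEtS.epsPull X).obj F).obj.map (g ≫ (ProEtS.eps X).map k).op (un F U x) =
    ((ProEtS.epsPull X).obj F).obj.map g.op (un F U' (F.obj.map k.op x))
  rw [← un_map, op_comp, Functor.map_comp]
  rfl

omit [ProEtS.EpsCont X] in
open EtpbcA.EqLocus in
/-- Factoring through an open subobject. -/
theorem exists_factor_open {V : X.ProEt} {U : X.Etale} (g : V ⟶ (ProEtS.eps X).obj U)
    (O : U.left.Opens) (h : Set.range g.left ⊆ (O : Set U.left)) :
    ∃ g' : V ⟶ (ProEtS.eps X).obj (openSub U O), g' ≫ (ProEtS.eps X).map (openι U O) = g := by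
  let g0 : V.left ⟶ U.left := g.left
  let l : V.left ⟶ (O : Scheme.{u}) :=
    IsOpenImmersion.lift O.ι g0 (h.trans (Scheme.Opens.range_ι O).ge)
  have hl : l ≫ O.ι = g0 := IsOpenImmersion.lift_fac O.ι g0 _
  have hw : l ≫ O.ι ≫ U.hom = V.hom := by
    rw [← Category.assoc, hl]
    exact Over.w g.hom
  refine ⟨MorphismProperty.Over.homMk l hw, ?_⟩
  apply MorphismProperty.Over.Hom.ext
  exact hl

omit [ProEtS.EpsCont X] in
theorem exists_mem_of_mem_topology {V : X.ProEt} {S : Sieve V}
    (hS : S ∈ Scheme.ProEt.topology X V) (v : V.left) :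
    ∃ (Y : X.ProEt) (g : Y ⟶ V) (y : Y.left), S g ∧ g.left y = v := by
  obtain ⟨P, hP, hle⟩ := (Cont.mem_topology_iff S).1 hS
  obtain ⟨ι, Y, g, rfl⟩ := P.exists_eq_ofArrows
  rw [Cont.ofArrows_mem_precoverage_iff] at hP
  obtain ⟨i, y, hy⟩ := ((Scheme.ofArrows_mem_precoverage_iff _).1 hP.2).1 v
  exact ⟨Y i, g i, y, hle _ _ ⟨i⟩, hy⟩

open EtpbcA.EqLocus in
/-- **Injectivity**: a section `(unit x)|_g` vanishes iff `g` factors through an etale `k : U' ⟶ U`
with `x|_k = 0`. -/
theorem repInj {V : X.ProEt} {U : X.Etale} (g : V ⟶ (ProEtS.eps X).obj U)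
    (x : F.obj.obj (op U)) (hx : br F g x = 0) :
    ∃ (U' : X.Etale) (k : U' ⟶ U) (g' : V ⟶ (ProEtS.eps X).obj U'),
      g' ≫ (ProEtS.eps X).map k = g ∧ F.obj.map k.op x = 0 := by
  have := Cont.preservesFiniteLimits_eps X
  have : RepresentablyFlat (ProEtS.eps X) := flat_of_preservesFiniteLimits _
  obtain ⟨S, hS, H⟩ := PullElem.locally_zero (ProEtS.eps X) X.smallEtaleTopology
    (Scheme.ProEt.topology X) (ProEtS.epsAdj X) F V U g x hx
  have hr : Set.range g.left ⊆ (eqLocus (F := F) (U := U) x 0 : Set U.left) := by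
    rintro _ ⟨v, rfl⟩
    obtain ⟨Y, h, y, hh, hy⟩ := exists_mem_of_mem_topology hS v
    obtain ⟨U', k, g', hg', hk⟩ := H Y h hh
    refine ⟨U', k, g'.left y, ?_, ?_⟩
    · have h1 : g'.left ≫ k.left = h.left ≫ g.left := congrArg (fun t => t.left) hg'
      have h2 : (g'.left ≫ k.left) y = (h.left ≫ g.left) y := congrArg (fun t => t y) h1
      rw [← hy]
      exact h2
    · rw [hk, map_zero]
  obtain ⟨g', hg'⟩ := exists_factor_open g _ hr
  refine ⟨_, openι U (eqLocus (F := F) (U := U) x 0), g', hg', ?_⟩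
  rw [map_openι_eqLocus, map_zero]

end Groth.Agent.Proet.Eps228
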