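import Groth.Agent.Proet.Eps228C

/-!
# Cech exactness of `eps⁻¹ I` along ind-etale maps
-/

set_option autoImplicit false
universe u

open CategoryTheory CategoryTheory.Limits AlgebraicGeometry Opposite Simplicial

namespace Groth.Agent.Proet.Eps228

set_option backward.isDefEq.respectTransparency.types false

open CechEl EpsB0 EpsPres CechAcyclic

variable {X : Scheme.{u}}

section Levels

variable {W V : X.ProEt} (f : W ⟶ V) {I : Type u} [SmallCategory I]
  {F G : I ⥤ X.Etale} (β : F ⟶ G)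
  (s : (Functor.const I).obj W ⟶ F ⋙ ProEtS.eps X)
  (t : (Functor.const I).obj V ⟶ G ⋙ ProEtS.eps X)
  (hst : ∀ i, f ≫ t.app i = s.app i ≫ (ProEtS.eps X).map (β.app i))

section Factor

variable [IsCofiltered I] (hF : ∀ i, IsAffine (F.obj i).left) (hG : ∀ i, IsAffine (G.obj i).left)
  (hs : IsLimit ((Φs X).mapCone (Cone.mk W s)))
  (ht : IsLimit ((Φs X).mapCone (Cone.mk V t)))

include hF hG hs ht in
theorem factor (n : ℕ) (U : X.Etale) (a : (nerve f) _⦋n⦌ ⟶ (ProEtS.eps X).obj U) :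
    ∃ (i : I) (b : (nerve (β.app i)) _⦋n⦌ ⟶ U),
      τapp f β s t hst n i ≫ (ProEtS.eps X).map b = a := by
  obtain ⟨hl⟩ := isLimit_τ f β s t hst n hs ht
  have := locallyOfFinitePresentation_eps U
  obtain ⟨i, b, hb⟩ := exists_factor (N β n ⋙ ProEtS.eps X) (Cone.mk _ (τ f β s t hst n)) hl
    (isAffine_N β hF hG n) ((ProEtS.eps X).obj U) a
  refine ⟨i, (epsFF X).preimage b, ?_⟩
  rw [(epsFF X).map_preimage]
  exact hb

include hF hG hs ht in
theorem eqn (n : ℕ) (U : X.Etale) (i : I) (a b : (nerve (β.app i)) _⦋n⦌ ⟶ U)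
    (h : τapp f β s t hst n i ≫ (ProEtS.eps X).map a =
      τapp f β s t hst n i ≫ (ProEtS.eps X).map b) :
    ∃ (l : I) (r : l ⟶ i), nMap β n r ≫ a = nMap β n r ≫ b := by
  obtain ⟨hl⟩ := isLimit_τ f β s t hst n hs ht
  have := locallyOfFinitePresentation_eps U
  obtain ⟨l, r, hr⟩ := exists_eq (N β n ⋙ ProEtS.eps X) (Cone.mk _ (τ f β s t hst n)) hl
    (isAffine_N β hF hG n) ((ProEtS.eps X).obj U) i ((ProEtS.eps X).map a)
    ((ProEtS.eps X).map b) h
  refine ⟨l, r, (epsFF X).map_injective ?_⟩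
  rw [(ProEtS.eps X).map_comp, (ProEtS.eps X).map_comp]
  exact hr

variable [ProEtS.EpsCont X] {A : EtCoh.Ab X}

include hF hG hs ht in
theorem die (n : ℕ) (i : I) (c : A.obj.obj (op ((nerve (β.app i)) _⦋n⦌)))
    (hc : br A (τapp f β s t hst n i) c = 0) :
    ∃ (m : I) (a : m ⟶ i), A.obj.map (nMap β n a).op c = 0 := by
  obtain ⟨U', k, g', hg', hk⟩ := repInj _ c hc
  obtain ⟨j, b, rfl⟩ := factor f β s t hst hF hG hs ht n U' g'
  let l := IsCofiltered.min i j
  obtain ⟨m, r, hr⟩ := eqn f β s t hst hF hG hs ht n _ l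
    (nMap β n (IsCofiltered.minToRight i j) ≫ b ≫ k) (nMap β n (IsCofiltered.minToLeft i j)) (by
      rw [(ProEtS.eps X).map_comp, (ProEtS.eps X).map_comp, ← Category.assoc, τapp_map,
        ← Category.assoc, hg', τapp_map])
  refine ⟨m, r ≫ IsCofiltered.minToLeft i j, ?_⟩
  have h1 : nMap β n (r ≫ IsCofiltered.minToLeft i j) =
      nMap β n r ≫ nMap β n (IsCofiltered.minToLeft i j) := (N β n).map_comp _ _
  rw [h1, ← hr, op_comp, A.obj.map_comp, ConcreteCategory.comp_apply, op_comp, A.obj.map_comp,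
    ConcreteCategory.comp_apply, op_comp, A.obj.map_comp, ConcreteCategory.comp_apply, hk,
    map_zero, map_zero, map_zero]

end Factor

variable [ProEtS.EpsCont X] {A : EtCoh.Ab X}

theorem cd_br (n : ℕ) (i : I) (x : A.obj.obj (op ((nerve (β.app i)) _⦋n⦌))) :
    cd (nerve f) ((ProEtS.epsPull X).obj A).obj n (br A (τapp f β s t hst n i) x) =
      br A (τapp f β s t hst (n + 1) i) (cd (nerve (β.app i)) A.obj n x) := by
  rw [cd_apply, cd_apply, map_sum]
  refine Finset.sum_congr rfl fun k _ => ?_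
  rw [map_zsmul, map_br, ← τapp_δ, br_comp]

omit [ProEtS.EpsCont X] in
theorem cd_nMap {i j : I} (a : i ⟶ j) (n : ℕ) (x : A.obj.obj (op ((nerve (β.app j)) _⦋n⦌))) :
    cd (nerve (β.app i)) A.obj n (A.obj.map (nMap β n a).op x) =
      A.obj.map (nMap β (n + 1) a).op (cd (nerve (β.app j)) A.obj n x) := by
  rw [cd_apply, cd_apply, map_sum]
  refine Finset.sum_congr rfl fun k _ => ?_
  rw [map_zsmul, ← ConcreteCategory.comp_apply, ← ConcreteCategory.comp_apply, ← A.obj.map_comp,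
    ← A.obj.map_comp, ← op_comp, ← op_comp, nMap_δ]

end Levels

variable [ProEtS.EpsCont X]

/-- **Cech exactness** of `eps⁻¹ A` along ind-etale maps, from Cech exactness of `A`. -/
theorem cechExact_epsPull (A : EtCoh.Ab X)
    (hsurj : ∀ {V : X.ProEt}, B0 V → ∀ y : ((ProEtS.epsPull X).obj A).obj.obj (op V),
      ∃ (U : X.Etale) (g : V ⟶ (ProEtS.eps X).obj U) (x : A.obj.obj (op U)), br A g x = y)
    (hA : ∀ {U U' : X.Etale} (b : U' ⟶ U), CechExact (nerve b) A.obj)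
    {W V : X.ProEt} (f : W ⟶ V) (hV : B0 V) (hf : IndEt f) :
    CechExact (nerve f) ((ProEtS.epsPull X).obj A).obj := by
  obtain ⟨I, _, _, F, G, β, s, t, hF, hG, hst, -, -, ⟨hs⟩, ⟨ht⟩⟩ := exists_arrow_pres f hV hf
  intro n z hz
  obtain ⟨U, g, x, rfl⟩ := hsurj (hV.of_indEt (hf.nbase (n + 1))) z
  obtain ⟨i, b, rfl⟩ := factor f β s t hst hF hG hs ht (n + 1) U g
  rw [br_comp] at hz ⊢
  rw [cd_br] at hz
  obtain ⟨m, a, ha⟩ := die f β s t hst hF hG hs ht _ i _ hz
  rw [← cd_nMap] at ha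
  obtain ⟨y, hy⟩ := hA _ n _ ha
  refine ⟨br A (τapp f β s t hst n m) y, ?_⟩
  rw [cd_br, hy, ← br_comp, τapp_map]

end Groth.Agent.Proet.Eps228
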