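import Groth.Agent.Proet.Eps228D
import Groth.Agent.Proet.EpsBasic

/-!
# Acyclicity of `eps⁻¹ I` on affine ind-etale objects
-/

set_option autoImplicit false
universe u

open CategoryTheory CategoryTheory.Limits AlgebraicGeometry Opposite Simplicial
  CategoryTheory.Abelian

namespace Groth.Agent.Proet.Eps228

set_option backward.isDefEq.respectTransparency.types false

open CechEl EpsB0 EpsPres CechAcyclic ZU

variable {X : Scheme.{u}} [ProEtS.EpsCont X]

/-- all sections over `B0` are representable. -/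
abbrev RepSurjB0 (A : EtCoh.Ab X) : Prop :=
  ∀ {V : X.ProEt}, B0 V → ∀ y : ((ProEtS.epsPull X).obj A).obj.obj (op V),
      ∃ (U : X.Etale) (g : V ⟶ (ProEtS.eps X).obj U) (x : A.obj.obj (op U)), br A g x = y

theorem cechExact_epsPull_of_injective (A : EtCoh.Ab X) [Injective A] (hsurj : RepSurjB0 A)
    {W V : X.ProEt} (f : W ⟶ V) (hV : B0 V) (hf : IndEt f) :
    CechExact (nerve f) ((ProEtS.epsPull X).obj A).obj :=
  cechExact_epsPull A hsurj (fun b => cechExact_of_injective_sheaf (nerve b) (nerve_coneOp b) A)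
    f hV hf

theorem ext_eq_zero_of_repSurj (A : EtCoh.Ab X) [Injective A] (hsurj : RepSurjB0 A)
    (V : X.ProEt) (hV : B0 V) (q : ℕ)
    (x : Ext.{u + 1} ((zF.{u + 1} (Scheme.ProEt.topology X)).obj V) ((ProEtS.epsPull X).obj A)
      (q + 1)) : x = 0 :=
  ext_eq_zero_of_cech isCechBasis ((ProEtS.epsPull X).obj A)
    (fun _ _ f hf => cechExact_epsPull_of_injective A hsurj f hf.1 hf.2.1) V hV q x

/-- Stacks 099U from representability of sections on `B0`. -/
theorem subsingleton_HP_of_repSurj [IsAffine X] (A : EtCoh.Ab X) [Injective A]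
    (hsurj : RepSurjB0 A) (p : ℕ) (hp : 0 < p) :
    Subsingleton (ProEtS.HP X ((ProEtS.epsPull X).obj A) p) := by
  obtain ⟨q, rfl⟩ : ∃ q, p = q + 1 := ⟨p - 1, by omega⟩
  have hB : B0 ((ProEtS.eps X).obj (EtCoh.top X)) := b0_eps _ ‹IsAffine X›
  have h0 (x : Ext.{u + 1} ((zF.{u + 1} (Scheme.ProEt.topology X)).obj
      ((ProEtS.eps X).obj (EtCoh.top X))) ((ProEtS.epsPull X).obj A) (q + 1)) : x = 0 :=
    ext_eq_zero_of_repSurj A hsurj _ hB q x
  let e := HTop.{u + 1} (EpsBasic.epsTopIsTerminal X) ((ProEtS.epsPull X).obj A) (q + 1)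
  exact ⟨fun a b => e.symm.injective ((h0 _).trans (h0 _).symm)⟩

end Groth.Agent.Proet.Eps228
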