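import Groth.Agent.Proet.EpsBasic
import Groth.Agent.Proet.CechAcyclic
import Groth.Agent.Etcore.DerLES
import Groth.Agent.Dix.EtaleSieve

/-!
# `R^q eps_* (eps⁻¹ F) = 0` for `q > 0` (Stacks 099V) from two inputs

* `epi_of_affine`: a morphism of abelian étale sheaves surjective on sections over affine étale schemes is epi.
* `acyc_of_ext`: `R^q eps_* G = 0` for `q > 0` when `Ext^q(Z_{eps U}, G) = 0` for `U` affine étale and `q > 0`.
* `acyc_epsPull`: if `eps⁻¹ I` is `eps_*`-acyclic for all injective `I` and the unit `F → eps_* eps⁻¹ F` is an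
  isomorphism for all `F`, then `eps⁻¹ F` is `eps_*`-acyclic for all `F`.
-/

set_option autoImplicit false
universe u v w w'

open CategoryTheory CategoryTheory.Limits AlgebraicGeometry Opposite CategoryTheory.Abelian

namespace Groth.Agent.Proet.EpsAcyc

open ZU

set_option backward.isDefEq.respectTransparency.types false in
/-- A morphism of abelian étale sheaves which is surjective on sections over affine étale schemes is an
epimorphism. -/
theorem epi_of_affine {X : Scheme.{u}} {F G : EtCoh.Ab X} (φ : F ⟶ G)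
    (h : ∀ U : X.Etale, IsAffine U.left → ∀ s : G.obj.obj (op U), ∃ t : F.obj.obj (op U),
      φ.hom.app (op U) t = s) : Epi φ := by
  rw [Groth.Agent.Dix.EtaleSieve.epi_iff]
  intro U s x
  obtain ⟨W, hW, hxW, -⟩ := exists_isAffineOpen_mem_and_subset (x := x) (U := ⊤) trivial
  let V : X.Etale := Scheme.Etale.mk (W.ι ≫ U.hom)
  let g : V ⟶ U := MorphismProperty.Over.homMk W.ι rfl trivial
  have : IsAffine V.left := hW
  exact ⟨V, g, ⟨⟨x, hxW⟩, rfl⟩, h V this _⟩

open Groth.Agent.Etcore.DerLES

set_option backward.isDefEq.respectTransparency.types false in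
/-- `R^q eps_* G = 0` for `q > 0` if `Ext^q(Z_{eps U}, G) = 0` for all affine étale `U` and `q > 0`. -/
theorem acyc_of_ext {X : Scheme.{u}} [ProEtS.EpsCont X] (G : ProEtS.AbP X)
    (h : ∀ U : X.Etale, IsAffine U.left → ∀ (q : ℕ)
      (x : Ext.{u + 1} ((zF.{u + 1} (Scheme.ProEt.topology X)).obj ((ProEtS.eps X).obj U)) G (q + 1)),
        x = 0) : Acyc (ProEtS.epsPush X) G := by
  have := EpsBasic.preservesFiniteLimits_epsPush X
  intro q
  refine Groth.Agent.Etrest.RAcyc.isZero_rightDerived_of_class (ProEtS.epsPush X)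
    (fun G : ProEtS.AbP X => ∀ U : X.Etale, IsAffine U.left → ∀ (q : ℕ)
      (x : Ext.{u + 1} ((zF.{u + 1} (Scheme.ProEt.topology X)).obj ((ProEtS.eps X).obj U)) G (q + 1)),
        x = 0) ?_ h (q + 1) q.succ_pos
  intro S hS hI hP
  refine ⟨fun U hU q x => ?_, ?_⟩
  · exact CohtopA.DimShift.ext_eq_zero_of_left hS _ (q + 1) (hP U hU (q + 1))
      (fun x => Ext.eq_zero_of_injective x) x
  · apply epi_of_affine
    intro U hU s
    exact CechAcyclic.exists_section_lift hS ((ProEtS.eps X).obj U) (hP U hU 0) s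

set_option backward.isDefEq.respectTransparency.types false in
/-- If `eps⁻¹ I` is `eps_*`-acyclic for injective `I` and the units of `eps⁻¹ ⊣ eps_*` are isomorphisms, then
`eps⁻¹ F` is `eps_*`-acyclic for every `F`. -/
theorem acyc_epsPull {X : Scheme.{u}} [ProEtS.EpsCont X]
    (hI : ∀ I : EtCoh.Ab X, Injective I → Acyc (ProEtS.epsPush X) ((ProEtS.epsPull X).obj I))
    (hU : ∀ F : EtCoh.Ab X, IsIso ((ProEtS.epsAdj X).unit.app F)) (F : EtCoh.Ab X) :
    Acyc (ProEtS.epsPush X) ((ProEtS.epsPull X).obj F) := by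
  have := EpsBasic.preservesFiniteLimits_epsPull X
  have := EpsBasic.preservesFiniteLimits_epsPush X
  have : (ProEtS.epsPull X).Additive := Functor.additive_of_preserves_binary_products _
  have : PreservesColimitsOfSize.{0, 0} (ProEtS.epsPull X) :=
    (ProEtS.epsAdj X).leftAdjoint_preservesColimits
  have : PreservesFiniteColimits (ProEtS.epsPull X) := inferInstance
  have : (ProEtS.epsPull X).PreservesHomology := inferInstance
  intro q
  induction q generalizing F with
  | zero =>
    obtain ⟨I, Q, i, p, w, hinj, hS⟩ := CohtopA.DimShift.exists_shortExact_injective F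
    have hS' := hS.map_of_exact (ProEtS.epsPull X)
    obtain ⟨e⟩ := nonempty_iso_one (ProEtS.epsPush X) hS' (hI I hinj 0)
    have hp : Epi p := hS.epi_g
    have hU' := hU Q
    have key : (ProEtS.epsAdj X).unit.app I ≫ (ProEtS.epsPush X).map ((ProEtS.epsPull X).map p) =
        p ≫ (ProEtS.epsAdj X).unit.app Q := ((ProEtS.epsAdj X).unit.naturality p).symm
    have h1 : Epi ((ProEtS.epsAdj X).unit.app I ≫
        (ProEtS.epsPush X).map ((ProEtS.epsPull X).map p)) := by
      rw [key]
      exact epi_comp _ _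
    have h2 : Epi ((ProEtS.epsPush X).map ((ProEtS.epsPull X).map p)) :=
      epi_of_epi ((ProEtS.epsAdj X).unit.app I) _
    exact (@isZero_cokernel_of_epi _ _ _ _ _ _ h2).of_iso e
  | succ q ih =>
    obtain ⟨I, Q, i, p, w, hinj, hS⟩ := CohtopA.DimShift.exists_shortExact_injective F
    have hS' := hS.map_of_exact (ProEtS.epsPull X)
    obtain ⟨e⟩ := nonempty_iso_succ (ProEtS.epsPush X) hS' (hI I hinj) q
    exact (ih Q).of_iso e

end Groth.Agent.Proet.EpsAcyc
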