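import Groth.Agent.Proet.Cont
import Groth.Prelude.Def_PBC

/-!
# Weakly contractible objects, part 1: weakly etale morphisms of affine schemes,
disjoint unions in the small pro-etale site
-/

set_option autoImplicit false
universe u v w

open CategoryTheory CategoryTheory.Limits AlgebraicGeometry Opposite

namespace Groth.Agent.Proet.WCBasic

open Scheme TensorProduct

set_option backward.isDefEq.respectTransparency.types false in
/-- Weakly etale morphisms between spectra are weakly etale algebras. -/
theorem weaklyEtale_Spec_iff (R S : Type u) [CommRing R] [CommRing S] [Algebra R S] :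
    WeaklyEtale (Spec.map (CommRingCat.ofHom (algebraMap R S))) ↔ Algebra.WeaklyEtale R S := by
  rw [AlgebraicGeometry.weaklyEtale_iff, Algebra.weaklyEtale_iff, Flat.SpecMap_iff,
    diagonal_SpecMap, MorphismProperty.cancel_right_of_respectsIso @Flat, Flat.SpecMap_iff]
  exact and_congr (RingHom.flat_algebraMap_iff) Iff.rfl

/-- Faithfully flat algebras and surjective flat morphisms. -/
theorem faithfullyFlat_of_surjective (R S : Type u) [CommRing R] [CommRing S] [Algebra R S]
    [Flat (Spec.map (CommRingCat.ofHom (algebraMap R S)))]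
    [Surjective (Spec.map (CommRingCat.ofHom (algebraMap R S)))] : Module.FaithfullyFlat R S := by
  rw [← RingHom.faithfullyFlat_algebraMap_iff]
  exact (flat_and_surjective_SpecMap_iff (CommRingCat.ofHom (algebraMap R S))).1
    ⟨inferInstance, inferInstance⟩

theorem surjective_of_faithfullyFlat (R S : Type u) [CommRing R] [CommRing S] [Algebra R S]
    [Module.FaithfullyFlat R S] :
    Surjective (Spec.map (CommRingCat.ofHom (algebraMap R S))) :=
  ((flat_and_surjective_SpecMap_iff (CommRingCat.ofHom (algebraMap R S))).2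
    ((RingHom.faithfullyFlat_algebraMap_iff).2 inferInstance)).2

variable {X : Scheme.{u}}

set_option backward.isDefEq.respectTransparency.types false in
/-- Every morphism of the small pro-etale site is weakly etale. -/
theorem weaklyEtale_left {U V : X.ProEt} (g : V ⟶ U) : WeaklyEtale g.left := by
  have h : g.left ≫ U.hom = V.hom := Over.w g.hom
  have : WeaklyEtale (g.left ≫ U.hom) := by rw [h]; infer_instance
  exact WeaklyEtale.of_comp g.left U.hom

set_option backward.isDefEq.respectTransparency.types false in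
theorem generate_singleton_mem {U V : X.ProEt} (g : V ⟶ U) [Surjective g.left]
    [QuasiCompact g.left] :
    Sieve.generate (Presieve.singleton g) ∈ Scheme.ProEt.topology X U := by
  have := weaklyEtale_left g
  refine Precoverage.generate_mem_toGrothendieck ?_
  have h1 : Presieve.ofArrows (fun _ : PUnit.{1} => V) (fun _ => g) ∈
      (Scheme.ProEt.precoverage X).coverings U := by
    rw [Cont.ofArrows_mem_precoverage_iff, Presieve.ofArrows_pUnit]
    exact Scheme.Hom.singleton_mem_propQCPrecoverage (P := @WeaklyEtale) this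
  rwa [Presieve.ofArrows_pUnit] at h1

set_option backward.isDefEq.respectTransparency.types false in
/-- A jointly surjective family of open immersions is covering. -/
theorem ofArrows_openImmersion_mem {ι : Type v} {U : X.ProEt} {W : ι → X.ProEt}
    (g : ∀ i, W i ⟶ U) (hg : ∀ i, IsOpenImmersion (g i).left)
    (hcov : ∀ x : U.left, ∃ i, x ∈ Set.range (g i).left) :
    Sieve.generate (Presieve.ofArrows W g) ∈ Scheme.ProEt.topology X U := by
  refine Precoverage.generate_mem_toGrothendieck ?_
  rw [Cont.ofArrows_mem_precoverage_iff]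
  apply Scheme.etalePrecoverage_le_proetalePrecoverage
  rw [Scheme.etalePrecoverage, Scheme.ofArrows_mem_precoverage_iff]
  exact ⟨hcov, fun i => by have := hg i; infer_instance⟩

set_option backward.isDefEq.respectTransparency.types false in
/-- Sections of a sheaf over an empty object. -/
theorem subsingleton_of_isEmpty {F : X.ProEtᵒᵖ ⥤ Type w}
    (hF : Presieve.IsSheaf (Scheme.ProEt.topology X) F) (Z : X.ProEt) [IsEmpty Z.left] :
    Subsingleton (F.obj (op Z)) := by
  have h := (hF _ (Scheme.ProEt.bot_mem_topology Z)).isSeparatedFor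
  refine ⟨fun a b => h.ext ?_⟩
  rintro Y f ⟨⟩

set_option backward.isDefEq.respectTransparency.types false in
/-- Two morphisms of the small pro-etale site into an object which is an open subobject. -/
theorem hom_ext_of_mono {Z V U : X.ProEt} (g : V ⟶ U) [Mono g.left] {a b : Z ⟶ V}
    (h : a ≫ g = b ≫ g) : a = b := by
  have h1 : (a ≫ g).left = (b ≫ g).left := by rw [h]
  have h2 : a.left ≫ g.left = b.left ≫ g.left := h1
  rw [cancel_mono] at h2
  apply MorphismProperty.Over.Hom.ext
  exact h2

set_option backward.isDefEq.respectTransparency.types false in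
/-- Sections of a sheaf of types on a disjoint union of open subobjects. -/
theorem bijective_of_disjoint {ι : Type v} {U : X.ProEt} {W : ι → X.ProEt} (g : ∀ i, W i ⟶ U)
    (hg : ∀ i, IsOpenImmersion (g i).left) (hcov : ∀ x : U.left, ∃ i, x ∈ Set.range (g i).left)
    (hdisj : Pairwise fun i j => Disjoint (Set.range (g i).left) (Set.range (g j).left))
    {F : X.ProEtᵒᵖ ⥤ Type w} (hF : Presieve.IsSheaf (Scheme.ProEt.topology X) F) :
    Function.Bijective (fun (s : F.obj (op U)) (i : ι) => F.map (g i).op s) := by
  have h := hF _ (ofArrows_openImmersion_mem g hg hcov)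
  rw [← Presieve.isSheafFor_iff_generate] at h
  constructor
  · intro s t hst
    apply h.isSeparatedFor.ext
    rintro Y f ⟨i⟩
    exact congrFun hst i
  · intro x
    obtain ⟨t, ht, -⟩ := (Presieve.isSheafFor_arrows_iff _ _).1 h x (by
      intro i j Z gi gj hij
      by_cases hne : i = j
      · subst hne
        have := hg i
        rw [hom_ext_of_mono (g i) hij]
      · have : IsEmpty Z.left := by
          refine ⟨fun z => ?_⟩
          have h1 : (gi ≫ g i).left z = (gj ≫ g j).left z := by rw [hij]
          exact Set.disjoint_left.1 (hdisj hne) ⟨gi.left z, rfl⟩ ⟨gj.left z, h1.symm⟩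
        have := subsingleton_of_isEmpty hF Z
        exact Subsingleton.elim _ _)
    exact ⟨t, funext ht⟩

section Sigma

theorem sigmaι_isOpenImmersion {σ : Type v} [Small.{u} σ] (g : σ → Scheme.{u}) (i : σ) :
    IsOpenImmersion (Sigma.ι g i) :=
  (sigmaOpenCover g).map_prop i

theorem exists_mem_range_sigmaι {σ : Type v} [Small.{u} σ] (g : σ → Scheme.{u})
    (x : (∐ g :)) : ∃ i, x ∈ Set.range (Sigma.ι g i) :=
  ⟨_, (sigmaOpenCover g).covers x⟩

theorem disjoint_range_sigmaι {σ : Type v} [Small.{u} σ] (g : σ → Scheme.{u}) {i j : σ}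
    (h : i ≠ j) : Disjoint (Set.range (Sigma.ι g i)) (Set.range (Sigma.ι g j)) := by
  rw [Set.disjoint_left]
  rintro _ ⟨x, rfl⟩ ⟨y, hy⟩
  obtain ⟨rfl⟩ := (sigmaι_eq_iff _ _ _ _ _).mp hy
  cases h rfl

variable {ι : Type v} [Small.{u} ι] (W : ι → X.ProEt)

/-- The underlying schemes of a family of objects. -/
abbrev lefts (i : ι) : Scheme.{u} := (W i).left

set_option backward.isDefEq.respectTransparency.types false in
/-- The structure morphism of the disjoint union. -/
noncomputable def sigmaHom : (∐ lefts W) ⟶ X := Sigma.desc fun i => (W i).hom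

set_option backward.isDefEq.respectTransparency.types false in
instance weaklyEtale_sigmaHom : WeaklyEtale (sigmaHom W) :=
  IsZariskiLocalAtSource.sigmaDesc (P := @WeaklyEtale) fun _ => inferInstance

/-- The disjoint union of a small family of objects of the small pro-etale site. -/
noncomputable def sigmaObj : X.ProEt := Scheme.ProEt.mk (sigmaHom W)

set_option backward.isDefEq.respectTransparency.types false in
/-- The inclusion of a component. -/
noncomputable def sigmaι (i : ι) : W i ⟶ sigmaObj W :=
  MorphismProperty.Over.homMk (Sigma.ι (lefts W) i) (Sigma.ι_desc _ _)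

theorem sigmaι_left (i : ι) : (sigmaι W i).left = Sigma.ι (lefts W) i := rfl

/-- The underlying morphism of `sigmaDesc`. -/
noncomputable def sigmaDescLeft {U : X.ProEt} (g : ∀ i, W i ⟶ U) : (∐ lefts W) ⟶ U.left :=
  Sigma.desc (f := lefts W) fun i => (g i).left

theorem sigmaι_sigmaDescLeft {U : X.ProEt} (g : ∀ i, W i ⟶ U) (i : ι) :
    Sigma.ι (lefts W) i ≫ sigmaDescLeft W g = (g i).left := Sigma.ι_desc _ _

theorem sigmaι_sigmaHom (i : ι) :
    Sigma.ι (lefts W) i ≫ sigmaHom W = (W i).hom := Sigma.ι_desc _ _

set_option backward.isDefEq.respectTransparency.types false in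
theorem sigmaDescLeft_hom {U : X.ProEt} (g : ∀ i, W i ⟶ U) :
    sigmaDescLeft W g ≫ U.hom = sigmaHom W := by
  refine Sigma.hom_ext _ _ fun i => ?_
  have h : (g i).left ≫ U.hom = (W i).hom := Over.w (g i).hom
  rw [sigmaι_sigmaHom, ← Category.assoc, sigmaι_sigmaDescLeft]
  exact h

set_option backward.isDefEq.respectTransparency.types false in
/-- Morphisms out of a disjoint union. -/
noncomputable def sigmaDesc {U : X.ProEt} (g : ∀ i, W i ⟶ U) : sigmaObj W ⟶ U :=
  MorphismProperty.Over.homMk (sigmaDescLeft W g) (sigmaDescLeft_hom W g)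

theorem sigmaDesc_left {U : X.ProEt} (g : ∀ i, W i ⟶ U) :
    (sigmaDesc W g).left = sigmaDescLeft W g := rfl

set_option backward.isDefEq.respectTransparency.types false in
theorem sigmaι_desc {U : X.ProEt} (g : ∀ i, W i ⟶ U) (i : ι) :
    sigmaι W i ≫ sigmaDesc W g = g i := by
  apply MorphismProperty.Over.Hom.ext
  exact sigmaι_sigmaDescLeft W g i

theorem sigmaι_openImmersion (i : ι) : IsOpenImmersion (sigmaι W i).left :=
  sigmaι_isOpenImmersion (lefts W) i

theorem sigmaι_cover (x : (sigmaObj W).left) : ∃ i, x ∈ Set.range (sigmaι W i).left :=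
  exists_mem_range_sigmaι (lefts W) x

theorem sigmaι_disjoint :
    Pairwise fun i j => Disjoint (Set.range (sigmaι W i).left) (Set.range (sigmaι W j).left) :=
  fun _ _ hij => disjoint_range_sigmaι (lefts W) hij

/-- Sections of a sheaf over a disjoint union. -/
theorem bijective_sigma {F : X.ProEtᵒᵖ ⥤ Type w}
    (hF : Presieve.IsSheaf (Scheme.ProEt.topology X) F) :
    Function.Bijective (fun (s : F.obj (op (sigmaObj W))) (i : ι) => F.map (sigmaι W i).op s) :=
  bijective_of_disjoint _ (sigmaι_openImmersion W) (sigmaι_cover W) (sigmaι_disjoint W) hF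

theorem isAffine_sigmaObj [Finite ι] (h : ∀ i, IsAffine (W i).left) :
    IsAffine (sigmaObj W).left := by
  have (i : ι) : IsAffine (lefts W i) := h i
  exact (inferInstance : IsAffine (∐ lefts W))

theorem surjective_sigmaDesc {U : X.ProEt} (g : ∀ i, W i ⟶ U)
    (h : ∀ x : U.left, ∃ i, x ∈ Set.range (g i).left) : Surjective (sigmaDesc W g).left := by
  refine ⟨fun x => ?_⟩
  obtain ⟨i, y, hy⟩ := h x
  refine ⟨(sigmaι W i).left y, ?_⟩
  rw [← Scheme.Hom.comp_apply]
  have h1 : (sigmaι W i).left ≫ (sigmaDesc W g).left = (g i).left :=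
    sigmaι_sigmaDescLeft W g i
  rw [h1, hy]

end Sigma

set_option backward.isDefEq.respectTransparency.types false in
/-- A covering sieve of a quasi-compact object of the small pro-etale site contains finitely many
jointly surjective maps from affine objects. -/
theorem exists_finite_affine {U : X.ProEt} [CompactSpace U.left] {S : Sieve U}
    (hS : S ∈ Scheme.ProEt.topology X U) :
    ∃ (n : ℕ) (W : Fin n → X.ProEt) (g : ∀ i, W i ⟶ U), (∀ i, IsAffine (W i).left) ∧
      (∀ i, S (g i)) ∧ ∀ x : U.left, ∃ i, x ∈ Set.range (g i).left := by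
  obtain ⟨R, hR, hle⟩ := (Cont.mem_topology_iff S).1 hS
  obtain ⟨ι, V, g, rfl⟩ := R.exists_eq_ofArrows
  rw [Cont.ofArrows_mem_precoverage_iff] at hR
  let E : PreZeroHypercover U.left := ⟨ι, fun i => (V i).left, fun i => (g i).left⟩
  have hE : QuasiCompactCover E := by
    rw [← Scheme.presieve₀_mem_qcPrecoverage_iff]
    exact hR.1
  obtain ⟨n, a, T, hT, hcov⟩ := QuasiCompactCover.exists_isAffineOpen_of_isCompact E
    (U := ⊤) isCompact_univ
  let T' : ∀ i : Fin n, (V (a i)).left.Opens := T
  let W : Fin n → X.ProEt := fun i => Scheme.ProEt.mk ((T' i).ι ≫ (V (a i)).hom)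
  let h : ∀ i, W i ⟶ V (a i) := fun i => MorphismProperty.Over.homMk (T' i).ι rfl
  refine ⟨n, W, fun i => h i ≫ g (a i), fun i => hT i, fun i => ?_, fun x => ?_⟩
  · exact S.downward_closed (hle _ _ ⟨a i⟩) _
  · have hx : x ∈ ⋃ i, E.f (a i) '' (T i) := by rw [hcov]; trivial
    obtain ⟨i, y, hy, hxy⟩ := Set.mem_iUnion.1 hx
    exact ⟨i, ⟨y, hy⟩, hxy⟩

end Groth.Agent.Proet.WCBasic
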