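import Groth.Agent.Proet.CechAcyclic
import Groth.Agent.Proet.CoverFin
import Groth.Agent.Proet.WCBasic
import Groth.Agent.Proet.IndEtale
import Groth.Agent.Proet.IndFlat
import Groth.Agent.S0176
import Mathlib.CategoryTheory.Sites.EpiMono

/-!
# Affine ind-etale objects are a Cech basis of the small pro-etale site

* `IndEt w` for `w : W ⟶ V` in `X.ProEt`: `W`, `V` affine and `Γ(V) → Γ(W)` ind-etale;
* `B0 V`: `V` is affine and ind-etale over an affine object of `X.Etale`;
* `Cov0 w`: surjective ind-etale maps with target in `B0`;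
* `isCechBasis`.
-/

set_option autoImplicit false
universe u

open CategoryTheory CategoryTheory.Limits AlgebraicGeometry Opposite TensorProduct

namespace Groth.Agent.Proet.EpsB0

set_option backward.isDefEq.respectTransparency.types false

/-- ind-etale ring maps. -/
def IndEtHom {A B : Type u} [CommRing A] [CommRing B] (f : A →+* B) : Prop :=
  letI := f.toAlgebra; EtPBC.IsIndEtale A B

theorem indEtHom_algebraMap (A B : Type u) [CommRing A] [CommRing B] [i : Algebra A B] :
    IndEtHom (algebraMap A B) ↔ EtPBC.IsIndEtale A B := by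
  unfold IndEtHom
  rw [show (algebraMap A B).toAlgebra = i from Algebra.algebra_ext _ _ fun _ => rfl]

theorem IndEtHom.comp {A B C : Type u} [CommRing A] [CommRing B] [CommRing C] {f : A →+* B}
    {g : B →+* C} (hg : IndEtHom g) (hf : IndEtHom f) : IndEtHom (g.comp f) := by
  let := f.toAlgebra
  let := g.toAlgebra
  let := (g.comp f).toAlgebra
  have : IsScalarTower A B C := .of_algebraMap_eq' rfl
  exact IndEtale.isIndEtale_trans A B C hf hg

theorem IndEtHom.of_comp {A B C : Type u} [CommRing A] [CommRing B] [CommRing C] {f : A →+* B}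
    {g : B →+* C} (h : IndEtHom (g.comp f)) (hf : IndEtHom f) : IndEtHom g := by
  let := f.toAlgebra
  let := g.toAlgebra
  let := (g.comp f).toAlgebra
  have : IsScalarTower A B C := .of_algebraMap_eq' rfl
  exact IndEtale.isIndEtale_cancel A B C hf h

theorem indEtHom_of_bijective {A B : Type u} [CommRing A] [CommRing B] {f : A →+* B}
    (h : Function.Bijective f) : IndEtHom f := by
  let := f.toAlgebra
  exact IndEtale.isIndEtale_of_bijective A B h

theorem indEtHom_of_isPushout {A B A' B' : CommRingCat.{u}} {f : A ⟶ B} {g : A ⟶ A'}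
    {f' : A' ⟶ B'} {g' : B ⟶ B'} (h : IsPushout f g g' f') (hf : IndEtHom f.hom) :
    IndEtHom f'.hom := by
  let := f.hom.toAlgebra
  let := g.hom.toAlgebra
  have h1 := CommRingCat.isPushout_tensorProduct A A' B
  let e := h1.isoIsPushout _ _ h.flip
  have h2 : CommRingCat.ofHom Algebra.TensorProduct.includeLeftRingHom ≫ e.hom = f' :=
    h1.inl_isoIsPushout_hom _ _ h.flip
  rw [← h2, CommRingCat.hom_comp]
  refine IndEtHom.comp (indEtHom_of_bijective (ConcreteCategory.bijective_of_isIso e.hom)) ?_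
  exact (indEtHom_algebraMap A' (A' ⊗[A] B)).2 (IndEtale.isIndEtale_baseChange A B A' hf)

variable {X : Scheme.{u}}

/-- `W`, `V` are affine and `Γ(V) → Γ(W)` is ind-etale. -/
def IndEt ⦃W V : X.ProEt⦄ (w : W ⟶ V) : Prop :=
  IsAffine W.left ∧ IsAffine V.left ∧ IndEtHom w.left.appTop.hom

theorem IndEt.id (V : X.ProEt) (hV : IsAffine V.left) : IndEt (𝟙 V) := by
  refine ⟨hV, hV, ?_⟩
  apply indEtHom_of_bijective
  change Function.Bijective (Scheme.Hom.appTop (𝟙 V.left)).hom
  rw [Scheme.Hom.id_appTop]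
  exact Function.bijective_id

theorem IndEt.comp {Z W V : X.ProEt} {z : Z ⟶ W} {w : W ⟶ V} (hz : IndEt z) (hw : IndEt w) :
    IndEt (z ≫ w) := by
  refine ⟨hz.1, hw.2.1, ?_⟩
  change IndEtHom (Scheme.Hom.appTop (z.left ≫ w.left)).hom
  rw [Scheme.Hom.comp_appTop, CommRingCat.hom_comp]
  exact hz.2.2.comp hw.2.2

theorem IndEt.of_comp {Z W V : X.ProEt} {z : Z ⟶ W} {w : W ⟶ V} (hz : IndEt (z ≫ w))
    (hw : IndEt w) : IndEt z := by
  refine ⟨hz.1, hw.1, ?_⟩
  have h := hz.2.2
  change IndEtHom (Scheme.Hom.appTop (z.left ≫ w.left)).hom at h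
  rw [Scheme.Hom.comp_appTop, CommRingCat.hom_comp] at h
  exact h.of_comp hw.2.2

theorem isPullback_left {P V W U : X.ProEt} {p : P ⟶ V} {q : P ⟶ W} {f : V ⟶ U} {g : W ⟶ U}
    (h : IsPullback p q f g) : IsPullback p.left q.left f.left g.left :=
  h.map (Scheme.ProEt.forget X ⋙ Over.forget X)

theorem IndEt.of_isPullback {P V W U : X.ProEt} {p : P ⟶ V} {q : P ⟶ W} {f : V ⟶ U} {g : W ⟶ U}
    (h : IsPullback p q f g) (hV : IsAffine V.left) (hg : IndEt g) : IndEt p := by
  have h1 := isPullback_left h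
  have := hV
  have := hg.1
  have := hg.2.1
  refine ⟨.of_isPullback h1, hV, ?_⟩
  exact indEtHom_of_isPushout (isPushout_appTop_of_isPullback h1).flip hg.2.2

/-- `V` is ind-etale over an affine object of the small etale site. -/
def B0 (V : X.ProEt) : Prop :=
  ∃ (V0 : X.Etale) (g : V ⟶ (ProEtS.eps X).obj V0), IndEt g

/-- Surjective ind-etale maps with target in `B0`. -/
def Cov0 ⦃W V : X.ProEt⦄ (w : W ⟶ V) : Prop :=
  B0 V ∧ IndEt w ∧ Surjective w.left

theorem B0.of_indEt {W V : X.ProEt} {w : W ⟶ V} (hV : B0 V) (hw : IndEt w) : B0 W := by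
  obtain ⟨V0, g, hg⟩ := hV
  exact ⟨V0, w ≫ g, hw.comp hg⟩

theorem b0_eps (V0 : X.Etale) (h : IsAffine V0.left) : B0 ((ProEtS.eps X).obj V0) :=
  ⟨V0, 𝟙 _, IndEt.id _ h⟩

section Nerve

open CechEl

open Simplicial

variable {C : Type*} [Category* C] {V U : C} (f : V ⟶ U)
  [∀ n : ℕ, HasWidePullback.{0} (Arrow.mk f).right
    (fun _ : Fin (n + 1) => (Arrow.mk f).left) fun _ => (Arrow.mk f).hom]

/-- The `n + 1`-st term of the Cech nerve is the fibre product of the `n`-th with the source. -/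
theorem isPullback_nerve (n : ℕ) :
    IsPullback ((nerve f).δ (Fin.last (n + 1))) (nπ f (n + 1) (Fin.last (n + 1))) (nbase f n) f := by
  refine ⟨⟨by rw [nδ_base, nπ_comp]⟩, ⟨?_⟩⟩
  refine PullbackCone.IsLimit.mk _
    (fun s => nlift f (n + 1) (s.fst ≫ nbase f n)
      (fun j => Fin.lastCases s.snd (fun j => s.fst ≫ nπ f n j) j) ?_) ?_ ?_ ?_
  · intro j
    refine Fin.lastCases ?_ (fun j => ?_) j
    · rw [Fin.lastCases_last]
      exact s.condition.symm
    · rw [Fin.lastCases_castSucc, Category.assoc, nπ_comp]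
  · intro s
    apply nhom_ext
    intro j
    rw [Category.assoc, nδ_π, nlift_π, Fin.succAbove_last, Fin.lastCases_castSucc]
  · intro s
    rw [nlift_π, Fin.lastCases_last]
  · intro s m h1 h2
    apply nhom_ext
    intro j
    rw [nlift_π]
    refine Fin.lastCases ?_ (fun j => ?_) j
    · rw [Fin.lastCases_last, ← h2]
    · rw [Fin.lastCases_castSucc, ← h1, Category.assoc, nδ_π, Fin.succAbove_last]

theorem isPullback_nerve_zero : IsPullback (nbase f 0) (nπ f 0 0) (𝟙 U) f := by
  refine ⟨⟨by rw [nπ_comp, Category.comp_id]⟩, ⟨?_⟩⟩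
  refine PullbackCone.IsLimit.mk _ (fun s => nlift f 0 s.fst (fun _ => s.snd) ?_) ?_ ?_ ?_
  · intro j
    rw [← s.condition, Category.comp_id]
  · intro s
    rw [← nπ_comp f 0 0, ← Category.assoc, nlift_π, ← s.condition, Category.comp_id]
  · intro s
    rw [nlift_π]
  · intro s m h1 h2
    apply nhom_ext
    intro j
    obtain rfl : j = 0 := Fin.fin_one_eq_zero j
    rw [nlift_π, h2]

end Nerve

open CechEl CechAcyclic in
theorem IndEt.nbase {V U : X.ProEt} {f : V ⟶ U} (hf : IndEt f) (n : ℕ) :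
    IndEt (nbase f n) := by
  induction n with
  | zero => exact IndEt.of_isPullback (isPullback_nerve_zero f) hf.2.1 hf
  | succ n ih =>
    have h := IndEt.of_isPullback (isPullback_nerve f n) ih.1 hf
    have h2 := h.comp ih
    rwa [nδ_base] at h2

theorem isoSpec_inv_appTop (Y : Scheme.{u}) [IsAffine Y] :
    Scheme.Hom.appTop (Scheme.isoSpec Y).inv = (Scheme.ΓSpecIso Γ(Y, ⊤)).inv := by
  apply (Iso.comp_hom_eq_id (Scheme.ΓSpecIso Γ(Y, ⊤))).1
  have h : Scheme.Hom.appTop (Scheme.isoSpec Y).hom = (Scheme.ΓSpecIso Γ(Y, ⊤)).hom :=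
    Scheme.toSpecΓ_appTop Y
  rw [← h, ← Scheme.Hom.comp_appTop, Iso.hom_inv_id, Scheme.Hom.id_appTop]

/-- Affine surjective morphisms of the pro-etale site are dominated by ind-etale surjections. -/
theorem exists_indEt_cover {V' V : X.ProEt} (v : V' ⟶ V) (hV' : IsAffine V'.left)
    (hV : IsAffine V.left) :
    ∃ (W : X.ProEt) (w : W ⟶ V'), IndEt w ∧ Surjective w.left ∧ IndEt (w ≫ v) := by
  have hg := WCBasic.weaklyEtale_left v
  let A : Type u := ↥(Γ(V.left, ⊤))
  let B : Type u := ↥(Γ(V'.left, ⊤))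
  let φ : Γ(V.left, ⊤) ⟶ Γ(V'.left, ⊤) := Scheme.Hom.appTop v.left
  let _ : Algebra A B := φ.hom.toAlgebra
  have e := arrowIsoSpecΓOfIsAffine v.left
  have h1 : WeaklyEtale (Spec.map φ) :=
    (MorphismProperty.arrow_mk_iso_iff @WeaklyEtale e).1 hg
  have h3 : Algebra.WeaklyEtale A B := (WCBasic.weaklyEtale_Spec_iff A B).1 h1
  obtain ⟨B', _, _, _, _, hff, hB, hA⟩ := Groth.Agent.S0176.result A B
  have hwe : Algebra.WeaklyEtale B B' := IndFlat.weaklyEtale_of_isIndEtale B B' hB
  let ψ : CommRingCat.of B ⟶ CommRingCat.of B' := CommRingCat.ofHom (algebraMap B B')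
  have h4 : WeaklyEtale (Spec.map ψ) := (WCBasic.weaklyEtale_Spec_iff B B').2 hwe
  have h5 : Surjective (Spec.map ψ) := WCBasic.surjective_of_faithfullyFlat B B'
  let p : Spec (CommRingCat.of B') ⟶ V'.left := Spec.map ψ ≫ (Scheme.isoSpec V'.left).inv
  have h6 : WeaklyEtale (p ≫ V'.hom) := inferInstance
  let W : X.ProEt := Scheme.ProEt.mk (p ≫ V'.hom)
  have hW : IsAffine W.left := inferInstanceAs (IsAffine (Spec (CommRingCat.of B')))
  have hp : Scheme.Hom.appTop p = ψ ≫ (Scheme.ΓSpecIso (CommRingCat.of B')).inv := by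
    rw [Scheme.Hom.comp_appTop, isoSpec_inv_appTop, ← Scheme.ΓSpecIso_inv_naturality]
  have hi : IndEtHom (Scheme.ΓSpecIso (CommRingCat.of B')).inv.hom :=
    indEtHom_of_bijective (ConcreteCategory.bijective_of_isIso _)
  have hw : IndEt (W := W) (V := V') (MorphismProperty.Over.homMk p rfl) := by
    refine ⟨hW, hV', ?_⟩
    change IndEtHom (Scheme.Hom.appTop p).hom
    rw [hp, CommRingCat.hom_comp]
    exact hi.comp ((indEtHom_algebraMap B B').2 hB)
  refine ⟨W, MorphismProperty.Over.homMk p rfl, hw, (inferInstance : Surjective p), hW, hV, ?_⟩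
  change IndEtHom (Scheme.Hom.appTop (p ≫ v.left)).hom
  rw [Scheme.Hom.comp_appTop, hp, ← Category.assoc, CommRingCat.hom_comp]
  refine hi.comp ?_
  have h7 : (Scheme.Hom.appTop v.left ≫ ψ).hom = algebraMap A B' := by
    rw [IsScalarTower.algebraMap_eq A B B']
    rfl
  rw [h7]
  exact (indEtHom_algebraMap A B').2 hA

/-- A covering sieve of an affine object of the pro-etale site, refined by a single ind-etale
surjection with affine source, factoring through a finite disjoint union of affine members. -/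
theorem exists_refinement {V : X.ProEt} (hV : IsAffine V.left) {S : Sieve V}
    (hS : S ∈ Scheme.ProEt.topology X V) :
    ∃ (n : ℕ) (Y : Fin n → X.ProEt) (g : ∀ i, Y i ⟶ V) (W : X.ProEt)
      (w : W ⟶ WCBasic.sigmaObj Y), (∀ i, IsAffine (Y i).left) ∧ (∀ i, S (g i)) ∧
        IndEt (w ≫ WCBasic.sigmaDesc Y g) ∧ Surjective (w ≫ WCBasic.sigmaDesc Y g).left := by
  obtain ⟨n, Y, g, hY, hg, hcov⟩ := WCBasic.exists_finite_affine hS
  obtain ⟨W, w, h1, h2, h3⟩ := exists_indEt_cover (WCBasic.sigmaDesc Y g)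
    (WCBasic.isAffine_sigmaObj Y hY) hV
  refine ⟨n, Y, g, W, w, hY, hg, h3, ?_⟩
  have := WCBasic.surjective_sigmaDesc Y g hcov
  change Surjective (w.left ≫ (WCBasic.sigmaDesc Y g).left)
  infer_instance

/-- sections lift along epimorphisms after an ind-etale surjection. -/
theorem exists_lift {F G : Sheaf (Scheme.ProEt.topology X) AddCommGrpCat.{u + 1}} (φ : F ⟶ G)
    [Epi φ] (V : X.ProEt) (hV : IsAffine V.left) (s : G.obj.obj (op V)) :
    ∃ (W : X.ProEt) (f : W ⟶ V) (_ : IndEt f ∧ Surjective f.left) (t : F.obj.obj (op W)),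
      φ.hom.app _ t = G.obj.map f.op s := by
  have hφ : Sheaf.IsLocallySurjective φ :=
    (Sheaf.isLocallySurjective_iff_epi' AddCommGrpCat.{u + 1} φ).2 inferInstance
  have hS := hφ.imageSieve_mem s
  obtain ⟨n, Y, g, W, w, hY, hg, h1, h2⟩ := exists_refinement hV hS
  choose t ht using hg
  have hF : Presieve.IsSheaf (Scheme.ProEt.topology X) (F.obj ⋙ forget AddCommGrpCat.{u + 1}) :=
    (isSheaf_iff_isSheaf_of_type _ _).1 (GrothendieckTopology.HasSheafCompose.isSheaf _ F.property)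
  have hG : Presieve.IsSheaf (Scheme.ProEt.topology X) (G.obj ⋙ forget AddCommGrpCat.{u + 1}) :=
    (isSheaf_iff_isSheaf_of_type _ _).1 (GrothendieckTopology.HasSheafCompose.isSheaf _ G.property)
  obtain ⟨t', ht'⟩ := (WCBasic.bijective_sigma Y hF).2 t
  have key : φ.hom.app _ t' = G.obj.map (WCBasic.sigmaDesc Y g).op s := by
    apply (WCBasic.bijective_sigma Y hG).1
    funext i
    change G.obj.map (WCBasic.sigmaι Y i).op (φ.hom.app _ t') =
      G.obj.map (WCBasic.sigmaι Y i).op (G.obj.map (WCBasic.sigmaDesc Y g).op s)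
    have h3 : φ.hom.app _ (F.obj.map (WCBasic.sigmaι Y i).op t') =
        G.obj.map (WCBasic.sigmaι Y i).op (φ.hom.app _ t') :=
      ConcreteCategory.congr_hom (φ.hom.naturality (WCBasic.sigmaι Y i).op) t'
    rw [← h3, ← ConcreteCategory.comp_apply (G.obj.map (WCBasic.sigmaDesc Y g).op),
      ← G.obj.map_comp, ← op_comp, WCBasic.sigmaι_desc, ← ht i]
    exact congrArg _ (congrFun ht' i)
  refine ⟨W, w ≫ WCBasic.sigmaDesc Y g, ⟨h1, h2⟩, F.obj.map w.op t', ?_⟩
  have h4 : φ.hom.app _ (F.obj.map w.op t') = G.obj.map w.op (φ.hom.app _ t') :=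
      ConcreteCategory.congr_hom (φ.hom.naturality w.op) t'
  rw [h4, key, ← ConcreteCategory.comp_apply, ← G.obj.map_comp, ← op_comp]

instance hasFiniteWidePullbacks_proEt : HasFiniteWidePullbacks X.ProEt :=
  hasFiniteWidePullbacks_of_hasFiniteLimits _

open CechEl CechAcyclic in
theorem isCechBasis : IsCechBasis.{u + 1} (Scheme.ProEt.topology X) B0 Cov0 where
  mem V U f hf := by
    have := hf.2.2
    have := hf.2.1.1
    have := hf.2.1.2.1
    exact WCBasic.generate_singleton_mem f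
  nerve_mem V U f hf n := hf.1.of_indEt (hf.2.1.nbase n)
  lift F G φ _ U hU s := by
    have hU' : IsAffine U.left := by
      obtain ⟨_, g, hg⟩ := hU
      exact hg.1
    obtain ⟨W, f, hf, t, ht⟩ := exists_lift φ U hU' s
    exact ⟨W, f, ⟨hU, hf⟩, t, ht⟩

end Groth.Agent.Proet.EpsB0
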