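import Mathlib.CategoryTheory.Functor.KanExtension.Adjunction
import Mathlib.CategoryTheory.Functor.KanExtension.Pointwise
import Mathlib.CategoryTheory.Functor.Flat
import Mathlib.Algebra.Category.Grp.FilteredColimits
import Mathlib.Algebra.Category.Grp.Colimits
import Mathlib.CategoryTheory.Limits.ConcreteCategory.Basic
import Mathlib.CategoryTheory.Limits.ConcreteCategory.Filtered
import Mathlib.Algebra.Category.Grp.Basic

/-!
# Elementwise description of the presheaf pullback (left Kan extension) along a flat functor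

For `F : C ⥤ D` representably flat and `P : Cᵒᵖ ⥤ AddCommGrpCat`, `G F P = F.op.leftKanExtension P`:
* every element of `G F P` over `V` is `[g : V ⟶ F U, s ∈ P U]` (`exists_rep`);
* `[g, s] = 0` iff `g` factors as `g' ≫ F h` with `P h s = 0` (`exists_of_eq_zero`).
-/

set_option autoImplicit false
universe w v₁ v₂ u₁ u₂ u

open CategoryTheory CategoryTheory.Limits Opposite

namespace Groth.Agent.Proet.LanElem

theorem preservesColimits_forget (J : Type (u + 1)) [Category.{u} J] [IsFiltered J] :
    PreservesColimitsOfShape J (forget AddCommGrpCat.{u + 1}) := by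
  let e : J ≌ ULiftHom.{u + 1} J := ULiftHom.equiv
  have : IsFiltered (ULiftHom.{u + 1} J) := IsFiltered.of_equivalence e
  have : PreservesColimitsOfShape (ULiftHom.{u + 1} J) (forget AddCommGrpCat.{u + 1}) :=
    inferInstance
  exact preservesColimitsOfShape_of_equiv e.symm _

variable {C : Type u₁} [Category.{v₁} C] {D : Type u₂} [Category.{v₂} D] (F : C ⥤ D)
  [∀ V : Dᵒᵖ, HasColimitsOfShape (CostructuredArrow F.op V) AddCommGrpCat.{w}]
  (P : Cᵒᵖ ⥤ AddCommGrpCat.{w})

/-- The presheaf pullback. -/
noncomputable abbrev G : Dᵒᵖ ⥤ AddCommGrpCat.{w} := F.op.leftKanExtension P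

/-- The unit of the presheaf pullback. -/
noncomputable abbrev α : P ⟶ F.op ⋙ G F P := F.op.leftKanExtensionUnit P

/-- The pointwise colimit property. -/
noncomputable def isColimit (V : D) :
    IsColimit (Functor.LeftExtension.coconeAt (Functor.LeftExtension.mk _ (α F P)) (op V)) :=
  F.op.isPointwiseLeftKanExtensionLeftKanExtensionUnit P (op V)

/-- The class of `(g : V ⟶ F U, s ∈ P U)` in `G F P` over `V`. -/
noncomputable def cls {V : D} {U : C} (g : V ⟶ F.obj U) (s : P.obj (op U)) :
    (G F P).obj (op V) :=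
  (G F P).map g.op ((α F P).app (op U) s)

theorem map_cls {V V' : D} {U : C} (g : V ⟶ F.obj U) (s : P.obj (op U)) (f : V' ⟶ V) :
    (G F P).map f.op (cls F P g s) = cls F P (f ≫ g) s := by
  unfold cls
  rw [op_comp, Functor.map_comp]
  rfl

theorem cls_comp {V : D} {U U' : C} (g : V ⟶ F.obj U') (h : U' ⟶ U) (s : P.obj (op U)) :
    cls F P (g ≫ F.map h) s = cls F P g (P.map h.op s) := by
  unfold cls
  have := ConcreteCategory.congr_hom ((α F P).naturality h.op) s
  rw [op_comp, Functor.map_comp]
  simp only [AddCommGrpCat.hom_comp, AddMonoidHom.coe_comp, Function.comp_apply] at this ⊢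
  erw [this]
  rfl

theorem cls_add {V : D} {U : C} (g : V ⟶ F.obj U) (s t : P.obj (op U)) :
    cls F P g (s + t) = cls F P g s + cls F P g t := by
  simp [cls]

theorem cls_sub {V : D} {U : C} (g : V ⟶ F.obj U) (s t : P.obj (op U)) :
    cls F P g (s - t) = cls F P g s - cls F P g t := by
  simp [cls]

theorem cls_zero {V : D} {U : C} (g : V ⟶ F.obj U) :
    cls F P g 0 = 0 := by
  simp [cls]

section

variable [RepresentablyFlat F]
  [∀ (V : Dᵒᵖ), PreservesColimitsOfShape (CostructuredArrow F.op V) (forget AddCommGrpCat.{w})]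

omit [RepresentablyFlat F] in
theorem exists_rep {V : D} (x : (G F P).obj (op V)) :
    ∃ (U : C) (g : V ⟶ F.obj U) (s : P.obj (op U)), cls F P g s = x := by
  obtain ⟨j, y, hy⟩ := Concrete.isColimit_exists_rep _ (isColimit F P V) x
  refine ⟨j.left.unop, j.hom.unop, y, ?_⟩
  rw [← hy]
  rfl

theorem exists_of_eq_zero {V : D} {U : C} (g : V ⟶ F.obj U) (s : P.obj (op U))
    (h0 : cls F P g s = 0) :
    ∃ (U' : C) (g' : V ⟶ F.obj U') (h : U' ⟶ U), g' ≫ F.map h = g ∧ P.map h.op s = 0 := by
  let i : CostructuredArrow F.op (op V) := CostructuredArrow.mk (Y := op U) g.op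
  obtain ⟨k, f, f', hf⟩ := Concrete.isColimit_exists_of_rep_eq
    (CostructuredArrow.proj F.op (op V) ⋙ P) (isColimit F P V) (i := i) (j := i) s
    (0 : P.obj (op U)) (h0.trans (cls_zero F P g).symm)
  refine ⟨k.left.unop, k.hom.unop, f.left.unop, ?_, ?_⟩
  · have := CostructuredArrow.w f
    apply Quiver.Hom.op_inj
    exact this
  · refine Eq.trans ?_ (Eq.trans hf (map_zero _))
    rfl

end

end Groth.Agent.Proet.LanElem
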