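import Mathlib.CategoryTheory.Sites.Sheaf
import Mathlib.CategoryTheory.Sites.SheafOfTypes
import Mathlib.CategoryTheory.Sites.Limits
import Mathlib.CategoryTheory.Sites.ConcreteSheafification
import Mathlib.Algebra.Category.Grp.Limits
import Mathlib.Algebra.Category.Grp.Basic

/-!
# Elementwise separatedness and gluing for sheaves of abelian groups
-/

set_option autoImplicit false
universe w v₁ u₁

open CategoryTheory CategoryTheory.Limits Opposite

namespace Groth.Agent.Proet.ShElem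

variable {C : Type u₁} [Category.{v₁} C] {J : GrothendieckTopology C}

theorem isSheaf_forget {P : Cᵒᵖ ⥤ AddCommGrpCat.{w}} (hP : Presheaf.IsSheaf J P) :
    Presieve.IsSheaf J (P ⋙ forget AddCommGrpCat.{w}) := by
  rw [← isSheaf_iff_isSheaf_of_type]
  exact Presheaf.isSheaf_comp_of_isSheaf J P (forget AddCommGrpCat.{w}) hP

/-- A section that vanishes on a covering sieve is zero. -/
theorem eq_zero_of_cover {P : Cᵒᵖ ⥤ AddCommGrpCat.{w}} (hP : Presheaf.IsSheaf J P) {U : C}
    {S : Sieve U} (hS : S ∈ J U) (s : P.obj (op U))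
    (h : ∀ {V : C} (f : V ⟶ U), S.arrows f → P.map f.op s = 0) : s = 0 := by
  refine (isSheaf_forget hP S hS).isSeparatedFor.ext ?_
  intro Y f hf
  exact (h f hf).trans (map_zero (P.map f.op).hom).symm

/-- Two sections that agree on a covering sieve are equal. -/
theorem ext_of_cover {P : Cᵒᵖ ⥤ AddCommGrpCat.{w}} (hP : Presheaf.IsSheaf J P) {U : C}
    {S : Sieve U} (hS : S ∈ J U) (s t : P.obj (op U))
    (h : ∀ {V : C} (f : V ⟶ U), S.arrows f → P.map f.op s = P.map f.op t) : s = t := by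
  refine (isSheaf_forget hP S hS).isSeparatedFor.ext ?_
  intro Y f hf
  exact h f hf

/-- Gluing along a family. -/
theorem exists_of_family {P : Cᵒᵖ ⥤ AddCommGrpCat.{w}} (hP : Presheaf.IsSheaf J P) {V : C}
    {ι : Type*} {W : ι → C} (f : ∀ i, W i ⟶ V) (hf : Sieve.ofArrows W f ∈ J V)
    (x : ∀ i, P.obj (op (W i)))
    (h : ∀ (i j : ι) {Z : C} (p : Z ⟶ W i) (q : Z ⟶ W j), p ≫ f i = q ≫ f j →
      P.map p.op (x i) = P.map q.op (x j)) :
    ∃ v : P.obj (op V), ∀ i, P.map (f i).op v = x i := by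
  have hs : Presieve.IsSheafFor (P ⋙ forget AddCommGrpCat.{w}) (Presieve.ofArrows W f) := by
    rw [Presieve.isSheafFor_iff_generate]
    exact isSheaf_forget hP _ hf
  rw [Presieve.isSheafFor_arrows_iff] at hs
  obtain ⟨v, hv, -⟩ := hs x (fun i j Z p q hpq => h i j p q hpq)
  exact ⟨v, hv⟩

/-- Gluing along a single morphism. -/
theorem exists_of_single {P : Cᵒᵖ ⥤ AddCommGrpCat.{w}} (hP : Presheaf.IsSheaf J P) {W V : C}
    (f : W ⟶ V) (hf : Sieve.generate (Presieve.singleton f) ∈ J V) (x : P.obj (op W))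
    (h : ∀ {Z : C} (p q : Z ⟶ W), p ≫ f = q ≫ f → P.map p.op x = P.map q.op x) :
    ∃ v : P.obj (op V), P.map f.op v = x := by
  have hf' : Sieve.ofArrows (fun _ : PUnit.{1} => W) (fun _ => f) ∈ J V := by
    rw [Sieve.ofArrows, Presieve.ofArrows_pUnit]
    exact hf
  obtain ⟨v, hv⟩ := exists_of_family hP (fun _ : PUnit.{1} => f) hf' (fun _ => x)
    (fun _ _ Z p q hpq => h p q hpq)
  exact ⟨v, hv ⟨⟩⟩

end Groth.Agent.Proet.ShElem
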