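import Groth.Agent.Proet.Cont
import Groth.Agent.Proet.LanElem
import Groth.Agent.Proet.ShElem

/-!
# The presheaf pullback from the small etale to the small pro-etale site

`Gp P` is the left Kan extension of `P : X.Etaleᵒᵖ ⥤ Ab` along `eps X : X.Etale ⥤ X.ProEt`.
-/

set_option autoImplicit false
universe u

open CategoryTheory CategoryTheory.Limits AlgebraicGeometry Opposite

namespace Groth.Agent.Proet.EpsPre

variable {X : Scheme.{u}}

instance representablyFlat_eps (X : Scheme.{u}) : RepresentablyFlat (ProEtS.eps X) := by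
  have := Groth.Agent.Proet.Cont.preservesFiniteLimits_eps X
  exact flat_of_preservesFiniteLimits _

instance hasColimits_eps (X : Scheme.{u}) (V : (X.ProEt)ᵒᵖ) :
    HasColimitsOfShape (CostructuredArrow (ProEtS.eps X).op V) AddCommGrpCat.{u + 1} :=
  inferInstance

instance preservesColimits_eps (X : Scheme.{u}) (V : (X.ProEt)ᵒᵖ) :
    PreservesColimitsOfShape (CostructuredArrow (ProEtS.eps X).op V)
      (forget AddCommGrpCat.{u + 1}) := by
  have : IsFiltered (CostructuredArrow (ProEtS.eps X).op V) := inferInstance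
  exact LanElem.preservesColimits_forget _

/-- The presheaf pullback of `P` to the small pro-etale site. -/
noncomputable abbrev Gp (P : X.Etaleᵒᵖ ⥤ AddCommGrpCat.{u + 1}) :
    X.ProEtᵒᵖ ⥤ AddCommGrpCat.{u + 1} :=
  LanElem.G (ProEtS.eps X) P

/-- The class `[g, s]` in `Gp P`. -/
noncomputable abbrev cls (P : X.Etaleᵒᵖ ⥤ AddCommGrpCat.{u + 1}) {V : X.ProEt} {U : X.Etale}
    (g : V ⟶ (ProEtS.eps X).obj U) (s : P.obj (op U)) : (Gp P).obj (op V) :=
  LanElem.cls (ProEtS.eps X) P g s

theorem exists_rep (P : X.Etaleᵒᵖ ⥤ AddCommGrpCat.{u + 1}) {V : X.ProEt}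
    (x : (Gp P).obj (op V)) :
    ∃ (U : X.Etale) (g : V ⟶ (ProEtS.eps X).obj U) (s : P.obj (op U)), cls P g s = x :=
  LanElem.exists_rep _ P x

theorem exists_of_eq_zero (P : X.Etaleᵒᵖ ⥤ AddCommGrpCat.{u + 1}) {V : X.ProEt} {U : X.Etale}
    (g : V ⟶ (ProEtS.eps X).obj U) (s : P.obj (op U)) (h0 : cls P g s = 0) :
    ∃ (U' : X.Etale) (g' : V ⟶ (ProEtS.eps X).obj U') (h : U' ⟶ U),
      g' ≫ (ProEtS.eps X).map h = g ∧ P.map h.op s = 0 :=
  LanElem.exists_of_eq_zero _ P g s h0

theorem cls_eq_zero_iff (P : X.Etaleᵒᵖ ⥤ AddCommGrpCat.{u + 1}) {V : X.ProEt} {U : X.Etale}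
    (g : V ⟶ (ProEtS.eps X).obj U) (s : P.obj (op U)) : cls P g s = 0 ↔
    ∃ (U' : X.Etale) (g' : V ⟶ (ProEtS.eps X).obj U') (h : U' ⟶ U),
      g' ≫ (ProEtS.eps X).map h = g ∧ P.map h.op s = 0 := by
  refine ⟨exists_of_eq_zero P g s, ?_⟩
  rintro ⟨U', g', h, rfl, hs⟩
  unfold cls
  rw [LanElem.cls_comp, hs, LanElem.cls_zero]

/-- `eps X` is full. -/
theorem exists_preimage {U V : X.Etale} (g : (ProEtS.eps X).obj U ⟶ (ProEtS.eps X).obj V) :
    ∃ g' : U ⟶ V, (ProEtS.eps X).map g' = g :=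
  ⟨⟨g.toCommaMorphism, g.2, g.3⟩, rfl⟩

theorem map_injective {U V : X.Etale} {g g' : U ⟶ V}
    (h : (ProEtS.eps X).map g = (ProEtS.eps X).map g') : g = g' := by
  apply MorphismProperty.Comma.Hom.ext'
  exact congr($(h).hom)

/-- Over an etale object the unit `P ⟶ Gp P` is bijective. -/
theorem bijective_unit (P : X.Etaleᵒᵖ ⥤ AddCommGrpCat.{u + 1}) (U : X.Etale) :
    Function.Bijective (fun s : P.obj (op U) => cls P (𝟙 ((ProEtS.eps X).obj U)) s) := by
  constructor
  · intro s t hst
    have h0 : cls P (𝟙 ((ProEtS.eps X).obj U)) (s - t) = 0 := by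
      have := LanElem.cls_sub (ProEtS.eps X) P (𝟙 ((ProEtS.eps X).obj U)) s t
      exact this.trans (sub_eq_zero.2 hst)
    obtain ⟨U', g', h, hg, hs⟩ := exists_of_eq_zero P _ _ h0
    obtain ⟨k, rfl⟩ := exists_preimage g'
    have hk : k ≫ h = 𝟙 U := by
      apply map_injective
      rw [Functor.map_comp, hg]
      rfl
    have : P.map k.op (P.map h.op (s - t)) = s - t := by
      have e : P.map (k ≫ h).op (s - t) = s - t := by rw [hk]; simp
      rw [op_comp, Functor.map_comp] at e
      exact e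
    rw [hs, map_zero] at this
    exact (sub_eq_zero.1 this.symm)
  · intro x
    obtain ⟨U', g, s, rfl⟩ := exists_rep P x
    obtain ⟨k, rfl⟩ := exists_preimage g
    refine ⟨P.map k.op s, ?_⟩
    have := LanElem.cls_comp (ProEtS.eps X) P (𝟙 ((ProEtS.eps X).obj U)) k s
    rw [Category.id_comp] at this
    exact this.symm

set_option backward.isDefEq.respectTransparency.types false in
/-- Covering criterion for the small etale topology. -/
theorem mem_etale_topology {U : X.Etale} (S : Sieve U)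
    (h : ∀ x : U.left, ∃ (Y : X.Etale) (f : Y ⟶ U) (y : Y.left), S.arrows f ∧ f.left y = x) :
    S ∈ X.smallEtaleTopology U := by
  have eX : X.smallEtaleTopology =
      (X.smallPretopology (P := EtCoh.etaleMP) (Q := EtCoh.etaleMP)).toGrothendieck :=
    Scheme.smallGrothendieckTopology_eq_toGrothendieck_smallPretopology X le_rfl
  rw [eX]
  refine (Scheme.mem_toGrothendieck_smallPretopology U S).2 ?_
  intro x
  obtain ⟨Y, f, y, hf, hy⟩ := h x
  have : Etale f.left := inferInstance
  exact ⟨Y, f, y, hf, this, hy⟩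

set_option backward.isDefEq.respectTransparency.types false in
theorem exists_of_mem_proetale {V : X.ProEt} {S : Sieve V} (hS : S ∈ Scheme.ProEt.topology X V)
    (v : V.left) : ∃ (W : X.ProEt) (f : W ⟶ V) (y : W.left), S.arrows f ∧ f.left y = v := by
  obtain ⟨R, hR, hle⟩ := (Cont.mem_topology_iff S).1 hS
  obtain ⟨ι, W, f, rfl⟩ := R.exists_eq_ofArrows
  rw [Cont.ofArrows_mem_precoverage_iff] at hR
  obtain ⟨i, y, hy⟩ := ((Scheme.ofArrows_mem_precoverage_iff _).1 hR.2).1 v
  exact ⟨W i, f i, y, hle _ _ (Presieve.ofArrows.mk i), hy⟩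

set_option backward.isDefEq.respectTransparency.types false in
/-- The open subobject of an etale object given by an open subset. -/
noncomputable abbrev opn (U : X.Etale) (O : U.left.Opens) : X.Etale :=
  Scheme.Etale.mk (O.ι ≫ U.hom)

set_option backward.isDefEq.respectTransparency.types false in
/-- The inclusion of an open subobject. -/
noncomputable abbrev opnι (U : X.Etale) (O : U.left.Opens) : opn U O ⟶ U :=
  MorphismProperty.Over.homMk O.ι rfl trivial

theorem exists_lift_scheme {Y Z : Scheme.{u}} (O : Y.Opens) (f : Z ⟶ Y)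
    (h : Set.range f ⊆ (O : Set Y)) : ∃ g : Z ⟶ (O : Scheme.{u}), g ≫ O.ι = f := by
  have h' : Set.range f ⊆ Set.range O.ι := by rw [Scheme.Opens.range_ι]; exact h
  exact ⟨IsOpenImmersion.lift O.ι f h', IsOpenImmersion.lift_fac _ _ _⟩

theorem ι_injective_scheme {Y : Scheme.{u}} (O : Y.Opens) : Function.Injective O.ι :=
  O.ι.isOpenEmbedding.injective

set_option backward.isDefEq.respectTransparency.types false in
/-- Lifting a morphism from an etale object to an open subobject. -/
theorem exists_lift_opn {U W : X.Etale} (O : U.left.Opens) (g : W ⟶ U)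
    (h : Set.range g.left ⊆ (O : Set U.left)) : ∃ g' : W ⟶ opn U O, g' ≫ opnι U O = g := by
  obtain ⟨g', hg'⟩ := exists_lift_scheme O g.left h
  refine ⟨MorphismProperty.Over.homMk g' ?_ trivial, ?_⟩
  · change g' ≫ O.ι ≫ U.hom = _
    rw [reassoc_of% hg']
    exact Over.w g.hom
  · apply MorphismProperty.Comma.Hom.ext'
    apply Over.OverMorphism.ext
    exact hg'

set_option backward.isDefEq.respectTransparency.types false in
/-- Lifting a morphism from a pro-etale object to an open subobject. -/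
theorem exists_lift_opn' {U : X.Etale} {W : X.ProEt} (O : U.left.Opens)
    (g : W ⟶ (ProEtS.eps X).obj U)
    (h : Set.range g.left ⊆ (O : Set U.left)) :
    ∃ g' : W ⟶ (ProEtS.eps X).obj (opn U O), g' ≫ (ProEtS.eps X).map (opnι U O) = g := by
  obtain ⟨g', hg'⟩ := exists_lift_scheme (Y := U.left) O g.left h
  refine ⟨MorphismProperty.Over.homMk g' ?_ trivial, ?_⟩
  · change g' ≫ O.ι ≫ U.hom = _
    rw [reassoc_of% hg']
    exact Over.w g.hom
  · apply MorphismProperty.Comma.Hom.ext'
    apply Over.OverMorphism.ext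
    exact hg'

theorem comp_apply_scheme {A B C D : Scheme.{u}} (a : A ⟶ B) (b : B ⟶ D) (c : A ⟶ C)
    (d : C ⟶ D) (h : a ≫ b = c ≫ d) (x : A) : b (a x) = d (c x) := by
  have e' := congr($h x)
  rwa [Scheme.Hom.comp_apply, Scheme.Hom.comp_apply] at e'

theorem comp_apply_scheme' {A B C : Scheme.{u}} (a : A ⟶ B) (b : B ⟶ C) (c : A ⟶ C)
    (h : a ≫ b = c) (x : A) : b (a x) = c x := by
  subst h
  rfl

theorem left_comp_left {W V : X.ProEt} {U U' : X.Etale} (f : W ⟶ V)
    (g : V ⟶ (ProEtS.eps X).obj U) (g' : W ⟶ (ProEtS.eps X).obj U') (k : U' ⟶ U)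
    (h : g' ≫ (ProEtS.eps X).map k = f ≫ g) (y : W.left) :
    k.left (g'.left y) = g.left (f.left y) :=
  comp_apply_scheme _ _ _ _ (congr($(h).left) : g'.left ≫ k.left = f.left ≫ g.left) y

set_option backward.isDefEq.respectTransparency.types false in
/-- A section of `Gp P`, `P` an etale sheaf, that vanishes pointwise-locally is zero. -/
theorem eq_zero_of_pointwise {P : X.Etaleᵒᵖ ⥤ AddCommGrpCat.{u + 1}}
    (hP : Presheaf.IsSheaf X.smallEtaleTopology P) {V : X.ProEt} (x : (Gp P).obj (op V))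
    (h : ∀ v : V.left, ∃ (W : X.ProEt) (f : W ⟶ V) (y : W.left), f.left y = v ∧
      (Gp P).map f.op x = 0) : x = 0 := by
  obtain ⟨U, g, s, rfl⟩ := exists_rep P x
  choose W f y hy h0 using h
  have h1 (v : V.left) := exists_of_eq_zero P (f v ≫ g) s
    ((LanElem.map_cls (ProEtS.eps X) P g s (f v)).symm.trans (h0 v))
  choose U' g' k hk hs using h1
  let O : U.left.Opens := ⟨⋃ v, Set.range (k v).left,
    isOpen_iUnion fun v => (k v).left.isOpenMap.isOpen_range⟩
  have hO : Set.range g.left ⊆ (O : Set U.left) := by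
    rintro _ ⟨v, rfl⟩
    refine Set.mem_iUnion.2 ⟨v, (g' v).left (y v), ?_⟩
    exact (left_comp_left _ _ _ _ (hk v) _).trans (congrArg _ (hy v))
  obtain ⟨g₀, hg₀⟩ := exists_lift_opn' O g hO
  have hk' (v : V.left) : ∃ k' : U' v ⟶ opn U O, k' ≫ opnι U O = k v :=
    exists_lift_opn O (k v) (Set.subset_iUnion (fun v => Set.range (k v).left) v)
  choose k' hk' using hk'
  have hz : P.map (opnι U O).op s = 0 := by
    refine ShElem.eq_zero_of_cover hP (S := Sieve.ofArrows U' k') ?_ _ ?_
    · apply mem_etale_topology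
      rintro ⟨x, hx⟩
      obtain ⟨v, z, hz⟩ := Set.mem_iUnion.1 hx
      refine ⟨U' v, k' v, z, Sieve.ofArrows_mk _ _ v, ?_⟩
      apply ι_injective_scheme O
      exact (comp_apply_scheme' _ _ _
        (congr(($(hk' v)).left) : (k' v).left ≫ O.ι = (k v).left) z).trans hz
    · rintro Z _ ⟨_, a, _, ⟨v⟩, rfl⟩
      have e1 : P.map (a ≫ k' v).op (P.map (opnι U O).op s) = P.map a.op (P.map (k v).op s) := by
        rw [← hk' v, op_comp, op_comp, Functor.map_comp, Functor.map_comp]
        rfl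
      rw [e1, hs, map_zero]
  have : cls P g s = cls P g₀ (P.map (opnι U O).op s) := by
    rw [← hg₀]
    exact LanElem.cls_comp (ProEtS.eps X) P g₀ (opnι U O) s
  rw [this, hz]
  exact LanElem.cls_zero _ _ _

/-- `Gp P` is separated for the pro-etale topology if `P` is an etale sheaf. -/
theorem eq_zero_of_cover {P : X.Etaleᵒᵖ ⥤ AddCommGrpCat.{u + 1}}
    (hP : Presheaf.IsSheaf X.smallEtaleTopology P) {V : X.ProEt} {S : Sieve V}
    (hS : S ∈ Scheme.ProEt.topology X V) (x : (Gp P).obj (op V))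
    (h : ∀ {W : X.ProEt} (f : W ⟶ V), S.arrows f → (Gp P).map f.op x = 0) : x = 0 := by
  apply eq_zero_of_pointwise hP
  intro v
  obtain ⟨W, f, y, hf, hy⟩ := exists_of_mem_proetale hS v
  exact ⟨W, f, y, hy, h f hf⟩

end Groth.Agent.Proet.EpsPre
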