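import Groth.Agent.Proet.ArrowLim
import Groth.Agent.Proet.EpsB0
import Mathlib.AlgebraicGeometry.AffineTransitionLimit

/-!
# Presentations of affine ind-etale objects of the small pro-etale site

* `exists_pres`: an affine object ind-etale over an affine etale one is a small cofiltered limit in
  `X.ProEt` of affine objects of `X.Etale`.
* `exists_arrow_pres`: the same for morphisms.
-/

set_option autoImplicit false
universe u

open CategoryTheory CategoryTheory.Limits AlgebraicGeometry Opposite TensorProduct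

namespace Groth.Agent.Proet.EpsPres

set_option backward.isDefEq.respectTransparency.types false

open EpsB0

variable {X : Scheme.{u}}

section Functor

variable {A : CommRingCat.{u}} (b : Spec A ⟶ X)

/-- `E ↦ (Spec E ⟶ Spec A ⟶ X)`. -/
noncomputable def Φ : (Under A)ᵒᵖ ⥤ Over X where
  obj E := Over.mk (Spec.map E.unop.hom ≫ b)
  map f := Over.homMk (Spec.map f.unop.right) (by
    change Spec.map f.unop.right ≫ Spec.map _ ≫ b = Spec.map _ ≫ b
    rw [← Category.assoc, ← Spec.map_comp, Under.w])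
  map_id E := by
    ext : 1
    exact Spec.map_id _
  map_comp f g := by
    ext : 1
    exact Spec.map_comp _ _

/-- forgetting the structure map. -/
noncomputable def ΦIso : Φ b ⋙ Over.forget X ≅ (Under.forget A).op ⋙ Scheme.Spec :=
  NatIso.ofComponents (fun _ => Iso.refl _) (fun f =>
    (Category.comp_id (Spec.map f.unop.right)).trans (Category.id_comp _).symm)

theorem preservesLimits_Φ (J : Type u) [SmallCategory J] [IsConnected J] :
    PreservesLimitsOfShape J (Φ b) := by
  have h1 : PreservesLimitsOfShape J (Under.forget A).op := by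
    have : PreservesColimitsOfShape Jᵒᵖ (Under.forget A) := inferInstance
    exact preservesLimitsOfShape_op _ _
  have h2 : PreservesLimitsOfShape J (Φ b ⋙ Over.forget X) :=
    preservesLimitsOfShape_of_natIso (ΦIso b).symm
  exact preservesLimitsOfShape_of_reflects_of_preserves (Φ b) (Over.forget X)

end Functor

theorem etale_Spec (R S : Type u) [CommRing R] [CommRing S] (f : R →+* S)
    (h : letI := f.toAlgebra; Algebra.Etale R S) : Etale (Spec.map (CommRingCat.ofHom f)) :=
  (HasRingHomProperty.Spec_iff (P := @Etale)).2 h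

/-- An affine object ind-etale over an affine etale one is a small cofiltered limit of affine
objects of the small etale site. -/
theorem exists_pres {V : X.ProEt} {V0 : X.Etale} (g : V ⟶ (ProEtS.eps X).obj V0) (hg : IndEt g) :
    ∃ (J : Type u) (_ : SmallCategory J) (_ : IsCofiltered J) (D : J ⥤ X.Etale)
      (π : (Functor.const J).obj V ⟶ D ⋙ ProEtS.eps X),
      (∀ j, IsAffine (D.obj j).left) ∧ Nonempty (IsLimit (Cone.mk V π)) ∧
        Nonempty (IsLimit ((Scheme.ProEt.forget X ⋙ Over.forget X).mapCone (Cone.mk V π))) := by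
  have hV : IsAffine V.left := hg.1
  have hV0 : IsAffine V0.left := hg.2.1
  let A : Type u := ↥(Γ(V0.left, ⊤))
  let B : Type u := ↥(Γ(V.left, ⊤))
  let φ : Γ(V0.left, ⊤) ⟶ Γ(V.left, ⊤) := Scheme.Hom.appTop g.left
  let _ : Algebra A B := φ.hom.toAlgebra
  obtain ⟨J, _, _, D0, c, hc, het, ⟨e⟩⟩ := hg.2.2
  let b : Spec (CommRingCat.of A) ⟶ X := (Scheme.isoSpec V0.left).inv ≫ V0.hom
  have : IsConnected Jᵒᵖ := IsCofiltered.isConnected _
  have := preservesLimits_Φ b Jᵒᵖ
  have hl : IsLimit ((Φ b).mapCone c.op) := isLimitOfPreserves (Φ b) hc.op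
  have hb : Etale b := inferInstance
  let D : Jᵒᵖ ⥤ X.Etale := MorphismProperty.Comma.lift (D0.op ⋙ Φ b) (fun j => by
    have h : Etale (Spec.map (D0.obj j.unop).hom) := etale_Spec _ _ _ (het j.unop)
    exact MorphismProperty.comp_mem @Etale _ b h hb) (fun _ => trivial) (fun _ => trivial)
  let F := Scheme.ProEt.forget X
  let i1 : F.obj V ≅ (Φ b).obj (op (Under.mk (CommRingCat.ofHom (algebraMap A B)))) :=
    Over.isoMk (Scheme.isoSpec V.left) (by
      let g' : V.left ⟶ V0.left := g.left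
      change (Scheme.isoSpec V.left).hom ≫ Spec.map (Scheme.Hom.appTop g') ≫
        (Scheme.isoSpec V0.left).inv ≫ V0.hom = V.hom
      have h1 : g' ≫ V0.hom = V.hom := Over.w g.hom
      rw [← Category.assoc, Scheme.isoSpec_hom_naturality g', Category.assoc,
        Iso.hom_inv_id_assoc, h1])
  let iso : F.obj V ≅ (Φ b).obj (op c.pt) := i1 ≪≫ (Φ b).mapIso e.op
  let π : (Functor.const Jᵒᵖ).obj V ⟶ D ⋙ ProEtS.eps X :=
    { app := fun j => (Scheme.ProEt.forgetFullyFaithful X).preimage
        (iso.hom ≫ (Φ b).map (c.ι.app j.unop).op)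
      naturality := by
        intro i j f
        apply F.map_injective
        have h3 : (Φ b).map (c.ι.app i.unop).op ≫ (Φ b).map (D0.op.map f) =
            (Φ b).map (c.ι.app j.unop).op := ((Φ b).mapCone c.op).w f
        have h5 : iso.hom ≫ (Φ b).map (c.ι.app j.unop).op =
            (iso.hom ≫ (Φ b).map (c.ι.app i.unop).op) ≫ (Φ b).map (D0.op.map f) :=
          (congrArg (fun t => iso.hom ≫ t) h3.symm).trans (Category.assoc _ _ _).symm
        have h4 (k : Jᵒᵖ) : F.map ((Scheme.ProEt.forgetFullyFaithful X).preimage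
            (X := V) (Y := (D ⋙ ProEtS.eps X).obj k)
            (iso.hom ≫ (Φ b).map (c.ι.app k.unop).op)) =
              iso.hom ≫ (Φ b).map (c.ι.app k.unop).op :=
          (Scheme.ProEt.forgetFullyFaithful X).map_preimage _
        change F.map (𝟙 V ≫ _) = F.map (_ ≫ _)
        rw [Category.id_comp, F.map_comp, h4, h4]
        exact h5 }
  have hπ (k : Jᵒᵖ) : F.map (π.app k) = iso.hom ≫ (Φ b).map (c.ι.app k.unop).op :=
    (Scheme.ProEt.forgetFullyFaithful X).map_preimage _
  have hF : IsLimit (F.mapCone (Cone.mk V π)) :=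
    IsLimit.ofIsoLimit hl (Cone.ext iso fun j => hπ j).symm
  refine ⟨Jᵒᵖ, inferInstance, inferInstance, D, π, fun j => ?_, ⟨?_⟩, ⟨?_⟩⟩
  · exact inferInstanceAs (IsAffine (Spec _))
  · exact isLimitOfReflects F hF
  · exact isLimitOfPreserves (Over.forget X) hF

section Factor

variable {K : Type u} [SmallCategory K] (E : K ⥤ X.ProEt) (c : Cone E)
  (hc : IsLimit ((Scheme.ProEt.forget X ⋙ Over.forget X).mapCone c))
  (hE : ∀ k, IsAffine (E.obj k).left) (U : X.ProEt)

/-- the structure maps -/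
noncomputable def structMap : E ⋙ Scheme.ProEt.forget X ⋙ Over.forget X ⟶ (Functor.const K).obj X where
  app k := (E.obj k).hom
  naturality i j f :=
    have h : (E.map f).left ≫ (E.obj j).hom = (E.obj i).hom := Over.w (E.map f).hom
    h.trans (Category.comp_id (E.obj i).hom).symm

include hE in
theorem isAffineHom_map {i j : K} (f : i ⟶ j) :
    IsAffineHom ((E ⋙ Scheme.ProEt.forget X ⋙ Over.forget X).map f) := by
  have h1 : IsAffine ((E ⋙ Scheme.ProEt.forget X ⋙ Over.forget X).obj i) := hE i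
  have h2 : IsAffine ((E ⋙ Scheme.ProEt.forget X ⋙ Over.forget X).obj j) := hE j
  infer_instance

include hc hE in
/-- Morphisms from a cofiltered limit of affine objects to an object locally of finite presentation
over `X` factor through a stage. -/
theorem exists_factor [IsCofiltered K] [LocallyOfFinitePresentation U.hom] (a : c.pt ⟶ U) :
    ∃ (k : K) (b : E.obj k ⟶ U), c.π.app k ≫ b = a := by
  have h1 (i : K) : IsAffine ((E ⋙ Scheme.ProEt.forget X ⋙ Over.forget X).obj i) := hE i
  have h2 {i j : K} (f : i ⟶ j) := isAffineHom_map E hE f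
  obtain ⟨k, g, hg1, hg2⟩ := Scheme.exists_π_app_comp_eq_of_locallyOfFinitePresentation
    (E ⋙ Scheme.ProEt.forget X ⋙ Over.forget X) (structMap E) U.hom _ hc a.left (by
      ext k : 2
      have h3 : a.left ≫ U.hom = c.pt.hom := Over.w a.hom
      have h4 : (c.π.app k).left ≫ (E.obj k).hom = c.pt.hom := Over.w (c.π.app k).hom
      exact h4.trans h3.symm)
  refine ⟨k, MorphismProperty.Over.homMk g hg2, ?_⟩
  apply MorphismProperty.Over.Hom.ext
  exact hg1

include hc hE in
/-- Two morphisms from a stage which agree on the limit agree at a later stage. -/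
theorem exists_eq [IsCofiltered K] [LocallyOfFiniteType U.hom] (k : K) (a b : E.obj k ⟶ U)
    (hab : c.π.app k ≫ a = c.π.app k ≫ b) :
    ∃ (l : K) (t : l ⟶ k), E.map t ≫ a = E.map t ≫ b := by
  have h1 (i : K) : IsAffine ((E ⋙ Scheme.ProEt.forget X ⋙ Over.forget X).obj i) := hE i
  have h2 {i j : K} (f : i ⟶ j) := isAffineHom_map E hE f
  have h3 : a.left ≫ U.hom = (E.obj k).hom := Over.w a.hom
  have h4 : b.left ≫ U.hom = (E.obj k).hom := Over.w b.hom
  obtain ⟨l, t, ht⟩ := Scheme.exists_hom_comp_eq_comp_of_locallyOfFiniteType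
    (E ⋙ Scheme.ProEt.forget X ⋙ Over.forget X) (structMap E) U.hom _ hc a.left b.left
    h3.symm h4.symm (congrArg (fun t => t.left) hab)
  refine ⟨l, t, ?_⟩
  apply MorphismProperty.Over.Hom.ext
  exact ht

end Factor

/-- `eps` is fully faithful. -/
noncomputable def epsFF (X : Scheme.{u}) : (ProEtS.eps X).FullyFaithful :=
  MorphismProperty.Comma.fullyFaithfulChangeProp ..

theorem locallyOfFinitePresentation_eps (U : X.Etale) :
    LocallyOfFinitePresentation ((ProEtS.eps X).obj U).hom := by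
  have : Etale U.hom := U.prop
  exact (inferInstance : LocallyOfFinitePresentation U.hom)

/-- **Presentation of ind-etale maps**: a map `f : W ⟶ V` ind-etale with `V` in `B0` is the limit of
a small cofiltered diagram of maps `β i : F i ⟶ G i` of affine objects of `X.Etale`. -/
theorem exists_arrow_pres {W V : X.ProEt} (f : W ⟶ V) (hV : B0 V) (hf : IndEt f) :
    ∃ (I : Type u) (_ : SmallCategory I) (_ : IsCofiltered I) (F G : I ⥤ X.Etale) (β : F ⟶ G)
      (s : (Functor.const I).obj W ⟶ F ⋙ ProEtS.eps X)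
      (t : (Functor.const I).obj V ⟶ G ⋙ ProEtS.eps X),
      (∀ i, IsAffine (F.obj i).left) ∧ (∀ i, IsAffine (G.obj i).left) ∧
      (∀ i, f ≫ t.app i = s.app i ≫ (ProEtS.eps X).map (β.app i)) ∧
      Nonempty (IsLimit (Cone.mk W s)) ∧ Nonempty (IsLimit (Cone.mk V t)) ∧
      Nonempty (IsLimit ((Scheme.ProEt.forget X ⋙ Over.forget X).mapCone (Cone.mk W s))) ∧
      Nonempty (IsLimit ((Scheme.ProEt.forget X ⋙ Over.forget X).mapCone (Cone.mk V t))) := by
  obtain ⟨V0, g, hg⟩ := hV
  obtain ⟨J, _, _, D, π, hD, ⟨hπ⟩, ⟨hπ'⟩⟩ := exists_pres g hg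
  obtain ⟨K, _, _, E, ρ, hE, ⟨hρ⟩, ⟨hρ'⟩⟩ := exists_pres (f ≫ g) (hf.comp hg)
  let c : Cone (D ⋙ ProEtS.eps X) := Cone.mk V π
  let e : Cone (E ⋙ ProEtS.eps X) := Cone.mk W ρ
  have h1 : ∀ (j : J) (a : e.pt ⟶ (D ⋙ ProEtS.eps X).obj j),
      ∃ (k : K) (b : (E ⋙ ProEtS.eps X).obj k ⟶ (D ⋙ ProEtS.eps X).obj j),
        e.π.app k ≫ b = a := fun j a =>
    have := locallyOfFinitePresentation_eps (D.obj j)
    exists_factor (E ⋙ ProEtS.eps X) e hρ' hE ((ProEtS.eps X).obj (D.obj j)) a
  have h2 : ∀ (j : J) (k : K) (a b : (E ⋙ ProEtS.eps X).obj k ⟶ (D ⋙ ProEtS.eps X).obj j),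
      e.π.app k ≫ a = e.π.app k ≫ b →
    ∃ (l : K) (t : l ⟶ k), (E ⋙ ProEtS.eps X).map t ≫ a = (E ⋙ ProEtS.eps X).map t ≫ b :=
    fun j k a b hab =>
    have := locallyOfFinitePresentation_eps (D.obj j)
    exists_eq (E ⋙ ProEtS.eps X) e hρ' hE ((ProEtS.eps X).obj (D.obj j)) k a b hab
  have hI := ArrowLim.isCofiltered_idx c e f h1 h2
  have hfst := ArrowLim.initial_fst c e f h1 h2
  have hsnd := ArrowLim.initial_snd c e f h1 h2
  let p : ArrowLim.Idx c e f ⥤ K := Comma.fst (ArrowLim.L e) (ArrowLim.R c e f)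
  let q : ArrowLim.Idx c e f ⥤ J := Comma.snd (ArrowLim.L e) (ArrowLim.R c e f)
  let α : (p ⋙ E) ⋙ ProEtS.eps X ⟶ (q ⋙ D) ⋙ ProEtS.eps X := ArrowLim.α c e f
  let β : p ⋙ E ⟶ q ⋙ D :=
    { app := fun i => (epsFF X).preimage (α.app i)
      naturality := fun i j t => by
        apply (epsFF X).map_injective
        rw [(ProEtS.eps X).map_comp, (ProEtS.eps X).map_comp, (epsFF X).map_preimage,
          (epsFF X).map_preimage]
        exact α.naturality t }
  refine ⟨ArrowLim.Idx c e f, inferInstance, hI, p ⋙ E, q ⋙ D, β, Functor.whiskerLeft p ρ,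
    Functor.whiskerLeft q π, fun i => hE _, fun i => hD _, fun i => ?_,
    ⟨(Functor.Initial.isLimitWhiskerEquiv p e).symm hρ⟩,
    ⟨(Functor.Initial.isLimitWhiskerEquiv q c).symm hπ⟩,
    ⟨(Functor.Initial.isLimitWhiskerEquiv p _).symm hρ'⟩,
    ⟨(Functor.Initial.isLimitWhiskerEquiv q _).symm hπ'⟩⟩
  have h3 : (ProEtS.eps X).map (β.app i) = α.app i := (epsFF X).map_preimage _
  rw [h3]
  exact (ArrowLim.α_w c e f i).symm

end Groth.Agent.Proet.EpsPres
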