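import Groth.Agent.Proet.EpsUnit
import Mathlib.AlgebraicGeometry.Morphisms.Descent

/-!
# Sections and Cech complexes of `eps⁻¹ F` over limits of quasi-compact quasi-separated etale objects

* `tau_bijective_of_proLim` : `Gp F(T) = (eps⁻¹ F)(T)` for `T = lim T_k`, `T_k` qcqs etale.
* `cechExact_of_proLim` : Cech exactness of `eps⁻¹ I` along `T ×_{T_j} E₀ ⟶ T`, `E₀ ⟶ T_j` etale
  surjective, `E₀` qcqs.
-/

set_option autoImplicit false
set_option linter.unusedSectionVars false
universe u

open CategoryTheory CategoryTheory.Limits AlgebraicGeometry Opposite Simplicial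

namespace Groth.Agent.Proet.EpsProLim

open EpsPre EpsLim CechLim CechEt CechEl CechAcyclic EtStep BZero CovRef SigmaSec NerveLim EpsSec
  EpsUnit PullLim IndPres EtDesc NerveProp

variable {X : Scheme.{u}}

set_option backward.isDefEq.respectTransparency.types false in
/-- A quasi-compact etale object is covered by an affine etale object. -/
theorem exists_affine_cover (T : X.ProEt) (_ : Etale T.hom) (hc : CompactSpace T.left) :
    ∃ (E₀ : X.ProEt) (e : E₀ ⟶ T), IsAffine E₀.left ∧ Etale ((sch X).map e) ∧
      Function.Surjective ((sch X).map e) := by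
  obtain ⟨Y, p, hp, hp', hY⟩ :=
    Scheme.exists_hom_isAffine_of_isZariskiLocalAtSource (P := @Etale) T.left
  have : Etale p := hp'
  have : WeaklyEtale (p ≫ T.hom) := weaklyEtale_comp_scheme p _ hp' inferInstance
  exact ⟨Scheme.ProEt.mk (p ≫ T.hom), MorphismProperty.Over.homMk p rfl trivial, hY, hp', hp.surj⟩

theorem isAffine_of_affineHom {A B : Scheme.{u}} (f : A ⟶ B) (hf : IsAffineHom f)
    (hB : IsAffine B) : IsAffine A := isAffine_of_isAffineHom f

/-- Limits of etale maps of affine schemes are ind-etale on global sections. -/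
theorem indEtMP_of_isLimit {K : Type u} [SmallCategory K] [IsCofiltered K]
    (D : K ⥤ Scheme.{u}) (c : Cone D) (hc : IsLimit c) (hD : ∀ k, IsAffine (D.obj k))
    {B : Scheme.{u}} [IsAffine B] (t : D ⟶ (Functor.const K).obj B) (ht : ∀ k, Etale (t.app k))
    (f : c.pt ⟶ B) (hf : ∀ k, c.π.app k ≫ t.app k = f) : indEtMP f.appTop := by
  have h1 : ∀ {i j} (f : i ⟶ j), IsAffineHom (D.map f) := fun f => inferInstance
  obtain ⟨hcol⟩ := nonempty_isColimit_Γ_mapCocone D c hc
  refine ⟨Kᵒᵖ, inferInstance, inferInstance, D.op ⋙ Scheme.Γ,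
    { app := fun k => (t.app k.unop).appTop
      naturality := fun i j g => by
        have h2 : D.map g.unop ≫ t.app i.unop = t.app j.unop :=
          (t.naturality g.unop).trans (Category.comp_id _)
        change 𝟙 _ ≫ (t.app j.unop).appTop = (t.app i.unop).appTop ≫ (D.map g.unop).appTop
        rw [Category.id_comp, ← h2, Scheme.Hom.comp_appTop] },
    (Scheme.Γ.mapCocone c.op).ι, hcol, fun k => ⟨?_, ?_⟩⟩
  · have h3 := hD k.unop
    have h4 : Etale (t.app k.unop) := ht k.unop
    have h5 : IsAffine (((Functor.const K).obj B).obj k.unop) := inferInstanceAs (IsAffine B)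
    exact etMP_appTop (t.app k.unop)
  · change (t.app k.unop).appTop ≫ (c.π.app k.unop).appTop = f.appTop
    rw [← Scheme.Hom.comp_appTop]
    exact congrArg Scheme.Hom.appTop (hf k.unop)

set_option backward.isDefEq.respectTransparency.types false in
/-- Maps between etale objects are etale. -/
theorem etale_of_etale {A B : X.ProEt} (f : A ⟶ B) (hA : Etale A.hom) (hB : Etale B.hom) :
    Etale ((sch X).map f) := by
  let f₁ : Scheme.Etale.mk A.hom ⟶ Scheme.Etale.mk B.hom :=
    MorphismProperty.Over.homMk f.left (Over.w f.hom) trivial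
  have : Etale f₁.left := inferInstance
  exact this

section

variable {K : Type u} [SmallCategory K] [IsCofiltered K] {D : K ⥤ X.ProEt} {c : Cone D}
  (h : IsProLim D c)

include h in
theorem isAffineHom_π (j : K) : IsAffineHom ((sch X).map (c.π.app j)) := by
  have hc' : IsLimit ((Over.forget X).mapCone ((Scheme.ProEt.forget X).mapCone c)) :=
    isLimitOfPreserves (Over.forget X) h.lim.some
  have haff : ∀ {i j : K} (f : i ⟶ j), IsAffineHom ((D ⋙ sch X).map f) := fun f => h.aff f
  exact isAffineHom_π_app (D ⋙ sch X) _ hc' j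

/-- The compatible maps `D k ×_{D j} E₀ ⟶ E₀`. -/
noncomputable def sndNat {j : K} {E₀ : X.ProEt} (e : E₀ ⟶ D.obj j) :
    AF D e ⋙ Arrow.leftFunc ⋙ sch X ⟶ (Functor.const (Over j)).obj ((sch X).obj E₀) where
  app a := (sch X).map (snd D e a)
  naturality a b f := by
    change (sch X).map (Lmap D e f) ≫ (sch X).map (snd D e b) = (sch X).map (snd D e a) ≫ 𝟙 _
    rw [← Functor.map_comp, Lmap_snd, Category.comp_id]

include h in
/-- `T ×_{T_j} E₀` is in `B0` for `E₀` affine etale. -/
theorem indEt_pullback (hD : ∀ k, Etale (D.obj k).hom) {j : K} {E₀ : X.ProEt}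
    (e : E₀ ⟶ D.obj j) (hE₀ : IsAffine ((sch X).obj E₀)) {E : X.ProEt} (p : E ⟶ c.pt)
    (q : E ⟶ E₀) (hpb : IsPullback p q (c.π.app j) e) : IndEt q := by
  have hq : IsAffineHom ((sch X).map q) :=
    aff_of_isPullback (isPullback_left hpb.flip) (isAffineHom_π h j)
  have hE : IsAffine ((sch X).obj E) := isAffine_of_affineHom _ hq hE₀
  have hl := isProLim_left h e p q hpb
    (inferInstanceAs (CompactSpace ((sch X).obj E₀)))
    (inferInstanceAs (QuasiSeparatedSpace ((sch X).obj E₀)))
  have hc' : IsLimit ((Over.forget X).mapCone ((Scheme.ProEt.forget X).mapCone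
      (Arrow.leftFunc.mapCone (cone D e p q hpb)))) :=
    isLimitOfPreserves (Over.forget X) hl.lim.some
  refine ⟨hE, hE₀, indEtMP_of_isLimit (AF D e ⋙ Arrow.leftFunc ⋙ sch X) _ hc' ?_ (sndNat e) ?_
    ((sch X).map q) ?_⟩
  · intro a
    have H := isPullback_left (isPullback D e a)
    exact isAffine_of_affineHom ((sch X).map (snd D e a)) (aff_of_isPullback H.flip (h.aff a.hom))
      hE₀
  · intro a
    have H := isPullback_left (isPullback D e a)
    exact etale_of_isPullback H.flip (etale_of_etale _ (hD _) (hD _))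
  · intro a
    change (sch X).map (πL D e p q hpb a) ≫ (sch X).map (snd D e a) = (sch X).map q
    rw [← Functor.map_comp, πL_snd]

end

section Sections

variable [ProEtS.EpsCont X] (F : EtCoh.Ab X)

/-- Sections of `eps⁻¹ F` over the target of a cover satisfying the sheaf condition for `Gp F` that
come from `Gp F` on the source come from `Gp F`. -/
theorem exists_of_cZero {W V : X.ProEt} {f : W ⟶ V} (hf : CZero (Arrow.mk f) (Gp F.obj))
    (hm : Sieve.generate (Presieve.singleton f) ∈ Scheme.ProEt.topology X V)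
    (t : ((ProEtS.epsPull X).obj F).obj.obj (op V)) (w : (Gp F.obj).obj (op W))
    (hw : (tau F).app (op W) w = ((ProEtS.epsPull X).obj F).obj.map f.op t) :
    ∃ y : (Gp F.obj).obj (op V), (tau F).app (op V) y = t := by
  have h1 : (tau F).app (op ((nerve f) _⦋0⦌)) ((Gp F.obj).map (nπ f 0 0).op w) =
      ((ProEtS.epsPull X).obj F).obj.map (nbase f 0).op t := by
    rw [tau_naturality, hw, map_map, nπ_comp]
  obtain ⟨y, hy⟩ := cZero_nerve hf ((Gp F.obj).map (nπ f 0 0).op w) (by
      apply tau_injective F
      rw [← cd_naturality, h1, map_zero, cd_nbase])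
  refine ⟨y, sep_nbase ((ProEtS.epsPull X).obj F) f hm ?_⟩
  rw [← tau_naturality, hy, h1]

set_option backward.isDefEq.respectTransparency.types false in
theorem mem_of_isPullback {E T E₀ T₀ : X.ProEt} {p : E ⟶ T} {q : E ⟶ E₀} {t : T ⟶ T₀}
    {e : E₀ ⟶ T₀} (H : IsPullback p q t e) (he : Function.Surjective ((sch X).map e))
    (hqc : CompactSpace E₀.left) (hqs : QuasiSeparatedSpace T₀.left) :
    Sieve.generate (Presieve.singleton p) ∈ Scheme.ProEt.topology X T := by
  have h1 : Surjective p.left := ⟨surjective_of_isPullback (isPullback_left H) he⟩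
  have h2 : QuasiCompact e.left := inferInstance
  have h3 : QuasiCompact p.left :=
    MorphismProperty.of_isPullback (P := @QuasiCompact) (isPullback_left H).flip h2
  exact WCBasic.generate_singleton_mem p

variable {K : Type u} [SmallCategory K] [IsCofiltered K] {D : K ⥤ X.ProEt} {c : Cone D}
  (h : IsProLim D c)

include h in
/-- Sections of `eps⁻¹ F` over limits of qcqs etale objects. -/
theorem tau_surjective_of_proLim (hD : ∀ k, Etale (D.obj k).hom) :
    Function.Surjective ((tau F).app (op c.pt)) := by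
  intro t
  obtain ⟨j⟩ : Nonempty K := IsCofiltered.nonempty
  obtain ⟨E₀, e, hE₀, he, hs⟩ := exists_affine_cover (D.obj j) (hD j) (h.qc j)
  have hpb := IsPullback.of_hasPullback (c.π.app j) e
  have hI := indEt_pullback h hD e hE₀ _ _ hpb
  have hE₀' : Etale E₀.hom := etale_hom_of e he (hD j)
  have hB : B0 (pullback (c.π.app j) e) := ⟨E₀, _, hE₀', hI⟩
  obtain ⟨w, hw⟩ := tau_surjective F hB
    (((ProEtS.epsPull X).obj F).obj.map (pullback.fst (c.π.app j) e).op t)
  exact exists_of_cZero F (cZero_pullback h e _ _ hpb hD he hs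
    (inferInstanceAs (CompactSpace E₀.left)) (inferInstanceAs (QuasiSeparatedSpace E₀.left))
    (etZero F)) (mem_of_isPullback hpb hs inferInstance (h.qs j)) t w hw

include h in
theorem tau_bijective_of_proLim (hD : ∀ k, Etale (D.obj k).hom) :
    Function.Bijective ((tau F).app (op c.pt)) :=
  ⟨tau_injective F _, tau_surjective_of_proLim F h hD⟩

theorem etale_nerve {f : Arrow X.ProEt} (hf : Etale ((sch X).map f.hom))
    (hr : Etale (Arrow.rightFunc.obj f).hom) (n : ℕ) :
    Etale ((nerveAt X.ProEt n).obj f).hom := by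
  have h0 : MorphismProperty.IsStableUnderComposition (@Etale : MorphismProperty Scheme.{u}) :=
    ⟨fun f g hf hg => by
      have : Etale f := hf
      have : Etale g := hg
      exact (inferInstance : Etale (f ≫ g))⟩
  exact etale_hom_of _ (map_bs_mem (sch X) (@Etale : MorphismProperty Scheme.{u}) f hf n) hr

include h in
theorem tau_surjective_nerve (hD : ∀ k, Etale (D.obj k).hom) {j : K}
    {E₀ : X.ProEt} (e : E₀ ⟶ D.obj j) (he : Etale ((sch X).map e))
    (hqc : CompactSpace E₀.left) (hqs : QuasiSeparatedSpace E₀.left)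
    {E : X.ProEt} (p : E ⟶ c.pt) (q : E ⟶ E₀) (hpb : IsPullback p q (c.π.app j) e) (n : ℕ) :
    Function.Surjective ((tau F).app (op ((nerveAt X.ProEt n).obj (Arrow.mk p)))) := by
  have hl := isProLim_left h e p q hpb hqc hqs
  have hr := isProLim_right h e p q hpb
  have hN := isProLim_nerve (AF D e) (cone D e p q hpb) hl hr n
  have hE (a : Over j) : Etale ((AF D e ⋙ nerveAt X.ProEt n).obj a).hom := by
    have h1 : Etale ((sch X).map ((AF D e).obj a).hom) :=
      etale_of_isPullback (isPullback_left (isPullback D e a)) he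
    have h2 : Etale (Arrow.rightFunc.obj ((AF D e).obj a)).hom := hD _
    exact etale_nerve h1 h2 n
  have hpt : (cone D e p q hpb).pt = Arrow.mk p := rfl
  have key := tau_surjective_of_proLim F hN hE
  rw [Functor.mapCone_pt, hpt] at key
  exact key

include h in
/-- Cech exactness of `eps⁻¹ F` along base changes of etale covers. -/
theorem cechExact_of_proLim (hF : EtExact F.obj) (hD : ∀ k, Etale (D.obj k).hom) {j : K}
    {E₀ : X.ProEt} (e : E₀ ⟶ D.obj j) (he : Etale ((sch X).map e))
    (hqc : CompactSpace E₀.left) (hqs : QuasiSeparatedSpace E₀.left)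
    {E : X.ProEt} (p : E ⟶ c.pt) (q : E ⟶ E₀) (hpb : IsPullback p q (c.π.app j) e)
    (hp : Function.Surjective ((sch X).map p)) :
    CechExact (nerve p) ((ProEtS.epsPull X).obj F).obj := by
  intro n x hx
  have hs : Function.Surjective ((tau F).app (op ((nerve p) _⦋n + 1⦌))) :=
    tau_surjective_nerve F h hD e he hqc hqs p q hpb (n + 1)
  obtain ⟨y, rfl⟩ := hs x
  have hy : cd (nerve p) (Gp F.obj) (n + 1) y = 0 := by
    apply tau_injective F
    rw [← cd_naturality, map_zero]
    exact hx
  obtain ⟨z, hz⟩ := cExact_pullback' h hD e he p q hpb hp hqc hqs hF n y hy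
  refine ⟨(tau F).app _ z, ?_⟩
  rw [cd_naturality]
  exact congrArg _ hz

end Sections

end Groth.Agent.Proet.EpsProLim
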