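import Groth.Agent.Proet.EpsPre
import Groth.Agent.Proet.WCBasic

/-!
# Sections of the presheaf pullback on finite disjoint unions
-/

set_option autoImplicit false
universe u v

open CategoryTheory CategoryTheory.Limits AlgebraicGeometry Opposite

namespace Groth.Agent.Proet.SigmaSec

open EpsPre WCBasic

variable {X : Scheme.{u}}

set_option backward.isDefEq.respectTransparency.types false in
theorem bot_mem_etale (Z : X.Etale) (h : IsEmpty Z.left) : ⊥ ∈ X.smallEtaleTopology Z :=
  mem_etale_topology _ (fun x => h.elim x)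

set_option backward.isDefEq.respectTransparency.types false in
theorem hom_ext_of_mono' {Z V U : X.Etale} (g : V ⟶ U) (hg : Mono g.left) {a b : Z ⟶ V}
    (h : a ≫ g = b ≫ g) : a = b := by
  have h2 : a.left ≫ g.left = b.left ≫ g.left := congr($(h).left)
  rw [cancel_mono] at h2
  apply MorphismProperty.Over.Hom.ext
  exact h2

set_option backward.isDefEq.respectTransparency.types false in
/-- Sections of an etale sheaf on a disjoint union of open subobjects. -/
theorem exists_of_disjoint {ι : Type v} {U : X.Etale} {W : ι → X.Etale} (g : ∀ i, W i ⟶ U)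
    (hg : ∀ i, IsOpenImmersion (g i).left) (hcov : ∀ x : U.left, ∃ i, x ∈ Set.range (g i).left)
    (hdisj : Pairwise fun i j => Disjoint (Set.range (g i).left) (Set.range (g j).left))
    {P : X.Etaleᵒᵖ ⥤ AddCommGrpCat.{u + 1}} (hP : Presheaf.IsSheaf X.smallEtaleTopology P)
    (x : ∀ i, P.obj (op (W i))) : ∃ y : P.obj (op U), ∀ i, P.map (g i).op y = x i := by
  have hF := ShElem.isSheaf_forget hP
  have h0 : Sieve.ofArrows W g ∈ X.smallEtaleTopology U := by
    apply mem_etale_topology
    intro z
    obtain ⟨i, y, hy⟩ := hcov z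
    exact ⟨W i, g i, y, Sieve.ofArrows_mk _ _ i, hy⟩
  have h := hF _ h0
  rw [Sieve.ofArrows, ← Presieve.isSheafFor_iff_generate] at h
  obtain ⟨t, ht, -⟩ := (Presieve.isSheafFor_arrows_iff _ _).1 h x (by
    intro i j Z gi gj hij
    by_cases hne : i = j
    · subst hne
      have := hg i
      rw [hom_ext_of_mono' (g i) inferInstance hij]
    · have hZ : IsEmpty Z.left := by
        refine ⟨fun z => ?_⟩
        have h1 : (gi ≫ g i).left z = (gj ≫ g j).left z := by rw [hij]
        exact Set.disjoint_left.1 (hdisj hne) ⟨gi.left z, rfl⟩ ⟨gj.left z, h1.symm⟩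
      have hs := (hF _ (bot_mem_etale Z hZ)).isSeparatedFor
      refine hs.ext ?_
      rintro Y f ⟨⟩)
  exact ⟨t, ht⟩

set_option backward.isDefEq.respectTransparency.types false in
theorem etale_sigma {ι : Type v} [Small.{u} ι] (W : ι → X.ProEt) (h : ∀ i, Etale (W i).hom) :
    Etale (sigmaHom W) :=
  IsZariskiLocalAtSource.sigmaDesc (P := @Etale) h

/-- Sections of `Gp P` on a finite disjoint union. -/
theorem exists_sigma_section {ι : Type} {P : X.Etaleᵒᵖ ⥤ AddCommGrpCat.{u + 1}}
    (hP : Presheaf.IsSheaf X.smallEtaleTopology P) (T : ι → X.ProEt)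
    (s : ∀ i, (Gp P).obj (op (T i))) :
    ∃ s' : (Gp P).obj (op (sigmaObj T)), ∀ i, (Gp P).map (sigmaι T i).op s' = s i := by
  choose E g e he using fun i => exists_rep P (s i)
  let W : ι → X.ProEt := fun i => (ProEtS.eps X).obj (E i)
  have hW : Etale (sigmaHom W) := etale_sigma W (fun i => (E i).prop)
  let E' : X.Etale := Scheme.Etale.mk (sigmaHom W)
  have hj (i : ι) : ∃ j : E i ⟶ E', (ProEtS.eps X).map j = sigmaι W i := exists_preimage _
  choose j hj using hj
  have hjl (i : ι) : (j i).left = (sigmaι W i).left := congr($(hj i).left)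
  obtain ⟨y, hy⟩ := exists_of_disjoint j (fun i => by rw [hjl]; exact sigmaι_openImmersion W i)
    (fun x => by
      obtain ⟨i, hi⟩ := sigmaι_cover W x
      exact ⟨i, by rw [hjl]; exact hi⟩)
    (fun i k hik => by
      have h := sigmaι_disjoint W hik
      dsimp only at h ⊢
      rwa [hjl, hjl]) hP e
  let g' : sigmaObj T ⟶ (ProEtS.eps X).obj E' := sigmaDesc T (fun i => g i ≫ sigmaι W i)
  refine ⟨cls P g' y, fun i => ?_⟩
  refine (LanElem.map_cls _ _ _ _ _).trans ?_
  have e1 : sigmaι T i ≫ g' = g i ≫ (ProEtS.eps X).map (j i) := by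
    rw [hj]
    exact sigmaι_desc T _ i
  rw [e1, LanElem.cls_comp, hy]
  exact he i

end Groth.Agent.Proet.SigmaSec
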