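import Groth.Agent.Proet.CovRef
import Groth.Agent.Proet.SigmaSec
import Groth.Agent.Proet.PullElem
import Groth.Agent.Proet.CechAcyclic

/-!
# Sections of `eps⁻¹ F` over the basis `B0`

* `tau F : Gp F ⟶ eps⁻¹ F` is injective and bijective on objects of `B0`.
* `cExact_epsPull`: Cech exactness of `eps⁻¹ I` along `Cov0`.
-/

set_option autoImplicit false
set_option linter.unusedSectionVars false
universe u

open CategoryTheory CategoryTheory.Limits AlgebraicGeometry Opposite Simplicial

namespace Groth.Agent.Proet.EpsSec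

open EpsPre EpsLim CechLim CechEt CechEl CechAcyclic EtStep BZero CovRef SigmaSec NerveLim

variable {X : Scheme.{u}} [ProEtS.EpsCont X] (F : EtCoh.Ab X)

/-- The comparison `Gp F ⟶ eps⁻¹ F`. -/
noncomputable abbrev tau : Gp F.obj ⟶ ((ProEtS.epsPull X).obj F).obj :=
  PullElem.fromLan (ProEtS.eps X) X.smallEtaleTopology (Scheme.ProEt.topology X)
    (ProEtS.epsAdj X) F

theorem tau_naturality {V W : X.ProEt} (f : W ⟶ V) (x : (Gp F.obj).obj (op V)) :
    (tau F).app (op W) ((Gp F.obj).map f.op x) =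
      ((ProEtS.epsPull X).obj F).obj.map f.op ((tau F).app (op V) x) :=
  ConcreteCategory.congr_hom ((tau F).naturality f.op) x

theorem tau_injective (V : X.ProEt) : Function.Injective ((tau F).app (op V)) := by
  intro x y hxy
  have hS := Presheaf.equalizerSieve_mem (Scheme.ProEt.topology X) (tau F) x y hxy
  rw [← sub_eq_zero]
  refine eq_zero_of_cover F.property hS (x - y) ?_
  intro W f hf
  rw [map_sub, sub_eq_zero]
  exact hf

theorem etZero : EtZero F.obj := fun f hf => cZero_etale_sheaf F f hf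

theorem cZero_nerve {P : X.ProEtᵒᵖ ⥤ AddCommGrpCat.{u + 1}} {W V : X.ProEt} {f : W ⟶ V}
    (h : CZero (Arrow.mk f) P) (x : P.obj (op ((nerve f) _⦋0⦌))) (hx : cd (nerve f) P 0 x = 0) :
    ∃ y : P.obj (op V), P.map (nbase f 0).op y = x := h x hx

theorem cd_nbase {P : X.ProEtᵒᵖ ⥤ AddCommGrpCat.{u + 1}} {W V : X.ProEt} (f : W ⟶ V)
    (t : P.obj (op V)) : cd (nerve f) P 0 (P.map (nbase f 0).op t) = 0 := by
  rw [cd_apply, Fin.sum_univ_two]
  simp only [Fin.val_zero, pow_zero, one_zsmul, Fin.val_one, pow_one, neg_smul]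
  rw [← ConcreteCategory.comp_apply, ← ConcreteCategory.comp_apply, ← P.map_comp, ← P.map_comp,
    ← op_comp, ← op_comp, nδ_base, nδ_base, add_neg_cancel]

/-- Sections of `eps⁻¹ F` over the target of a member of `Cov0` that come from `Gp F` on the
source come from `Gp F`. -/
theorem exists_of_cov0 {W V : X.ProEt} {f : W ⟶ V} (hf : Cov0 f)
    (t : ((ProEtS.epsPull X).obj F).obj.obj (op V)) (w : (Gp F.obj).obj (op W))
    (hw : (tau F).app (op W) w = ((ProEtS.epsPull X).obj F).obj.map f.op t) :
    ∃ y : (Gp F.obj).obj (op V), (tau F).app (op V) y = t := by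
  have h1 : (tau F).app (op ((nerve f) _⦋0⦌)) ((Gp F.obj).map (nπ f 0 0).op w) =
      ((ProEtS.epsPull X).obj F).obj.map (nbase f 0).op t := by
    rw [tau_naturality, hw, map_map, nπ_comp]
  obtain ⟨y, hy⟩ := cZero_nerve (cZero_cov0 (etZero F) hf)
    ((Gp F.obj).map (nπ f 0 0).op w) (by
      apply tau_injective F
      rw [← cd_naturality, h1, map_zero, cd_nbase])
  refine ⟨y, sep_nbase ((ProEtS.epsPull X).obj F) f hf.mem ?_⟩
  rw [← tau_naturality, hy, h1]

theorem tau_surjective {V : X.ProEt} (hV : B0 V) : Function.Surjective ((tau F).app (op V)) := by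
  intro t
  have hS := Presheaf.imageSieve_mem (Scheme.ProEt.topology X) (tau F) t
  obtain ⟨n, T, z, W, g, hz, -, hf⟩ := exists_cov0 hV hS
  choose s hs using hz
  obtain ⟨s', hs'⟩ := exists_sigma_section F.property T s
  have h1 : (tau F).app (op (WCBasic.sigmaObj T)) s' =
      ((ProEtS.epsPull X).obj F).obj.map (WCBasic.sigmaDesc T z).op t := by
    apply (WCBasic.bijective_sigma T
      (ShElem.isSheaf_forget ((ProEtS.epsPull X).obj F).property)).1
    funext i
    change ((ProEtS.epsPull X).obj F).obj.map (WCBasic.sigmaι T i).op _ =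
      ((ProEtS.epsPull X).obj F).obj.map (WCBasic.sigmaι T i).op _
    rw [← tau_naturality, hs', map_map, WCBasic.sigmaι_desc]
    exact hs i
  apply exists_of_cov0 F hf t ((Gp F.obj).map g.op s')
  rw [tau_naturality, h1, map_map]

theorem tau_bijective {V : X.ProEt} (hV : B0 V) : Function.Bijective ((tau F).app (op V)) :=
  ⟨tau_injective F V, tau_surjective F hV⟩

/-- Cech exactness of `eps⁻¹ F` along `Cov0`. -/
theorem cExact_epsPull (hF : EtExact F.obj) {W V : X.ProEt} {f : W ⟶ V} (hf : Cov0 f) :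
    CechExact (nerve f) ((ProEtS.epsPull X).obj F).obj := by
  intro n x hx
  have hs : Function.Surjective ((tau F).app (op ((nerve f) _⦋n + 1⦌))) :=
    tau_surjective F (hf.nerve_mem (n + 1))
  obtain ⟨y, rfl⟩ := hs x
  have hy : cd (nerve f) (Gp F.obj) (n + 1) y = 0 := by
    apply tau_injective F
    rw [← cd_naturality, map_zero]
    exact hx
  obtain ⟨z, hz⟩ := cExact_cov0 hF hf n y hy
  refine ⟨(tau F).app _ z, ?_⟩
  rw [cd_naturality]
  exact congrArg _ hz

end Groth.Agent.Proet.EpsSec
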