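import Groth.Agent.Proet.CoverFin
import Groth.Agent.Proet.PullElem
import Mathlib.AlgebraicGeometry.Morphisms.UniversallyOpen
import Mathlib.AlgebraicGeometry.Morphisms.ClosedImmersion

/-!
# Sections of pro-etale sheaves dying on the inverse image along a closed immersion

`exists_cover_of_unit_eq_zero`: if `s ∈ G(V)`, `V` quasi-compact, dies in `(i_* i⁻¹ G)(V)`, then
there are finitely many quasi-compact `Q_k → V` whose images contain all points of `V` over `Z`,
with `s|_{Q_k} = 0`.
-/

set_option autoImplicit false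
universe u

open CategoryTheory CategoryTheory.Limits AlgebraicGeometry Opposite

namespace Groth.Agent.Proet.SuppZ

set_option backward.isDefEq.respectTransparency.types false

theorem presFilt : PreservesFilteredColimitsOfSize.{u, u+1} (forget AddCommGrpCat.{u+1}) :=
  preservesFilteredColimitsOfSize_of_univLE.{u+1,u+1,u,u+1} _

theorem flat_bcP {X Z : Scheme.{u}} (i : Z ⟶ X) : RepresentablyFlat (ProEtS.bcP i) := by
  have h1 := Cont.preservesFiniteLimits_bcP i
  exact flat_of_preservesFiniteLimits _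

theorem pres_bcP {X Z : Scheme.{u}} (i : Z ⟶ X) (T : Z.ProEt) :
    PreservesColimitsOfShape (CostructuredArrow (ProEtS.bcP i).op (op T))
      (forget AddCommGrpCat.{u+1}) := by
  have h2 := flat_bcP i
  have h3 : IsFiltered (CostructuredArrow (ProEtS.bcP i).op (op T)) := inferInstance
  have := presFilt.{u}
  exact PreservesFilteredColimitsOfSize.preserves_filtered_colimits _

/-- A compact subset of a scheme is contained in a quasi-compact open. -/
theorem exists_qc_open (W : Scheme.{u}) (K : Set W) (hK : IsCompact K) :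
    ∃ Q : W.Opens, IsCompact (Q : Set W) ∧ K ⊆ Q := by
  have h : ∀ x : W, ∃ U : W.Opens, IsAffineOpen U ∧ x ∈ U := by
    intro x
    obtain ⟨U, hU, hx, -⟩ := TopologicalSpace.Opens.isBasis_iff_nbhd.mp W.isBasis_affineOpens
      (TopologicalSpace.Opens.mem_top x)
    exact ⟨U, hU, hx⟩
  choose U hU hx using h
  obtain ⟨t, ht⟩ := hK.elim_finite_subcover (fun x => (U x : Set W)) (fun x => (U x).2)
    (fun x _ => Set.mem_iUnion.2 ⟨x, hx x⟩)
  refine ⟨⨆ x ∈ t, U x, ?_, ?_⟩
  · simp only [TopologicalSpace.Opens.coe_iSup]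
    exact t.isCompact_biUnion fun x _ => (hU x).isCompact
  · simpa only [TopologicalSpace.Opens.coe_iSup] using ht

/-- If a section dies on the inverse image, it dies on a quasi-compact neighbourhood. -/
theorem exists_cover_of_unit_eq_zero {X Z : Scheme.{u}} (i : Z ⟶ X) [ProEtS.PCont i]
    (G : ProEtS.AbP X) (V : X.ProEt) [CompactSpace ((ProEtS.bcP i).obj V).left]
    (s : ProEtS.sectP G V)
    (hs : ((ProEtS.pullPushAdjP i).unit.app G).hom.app (op V) s = 0) :
    ∃ (n : ℕ) (Q : Fin n → X.ProEt) (g : ∀ k, Q k ⟶ V), (∀ k, CompactSpace (Q k).left) ∧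
      (∀ v : V.left, V.hom v ∈ Set.range i → ∃ k q, (g k).left q = v) ∧
      ∀ k, G.obj.map (g k).op s = 0 := by
  have := flat_bcP i
  have := pres_bcP i
  obtain ⟨S, hS, H⟩ := PullElem.locally_zero (ProEtS.bcP i) _ _ (ProEtS.pullPushAdjP i) G
    ((ProEtS.bcP i).obj V) V (𝟙 _) s
    ((ConcreteCategory.congr_hom (((ProEtS.pullP i).obj G).obj.map_id _)
      (((ProEtS.pullPushAdjP i).unit.app G).hom.app (op V) s)).trans hs)
  obtain ⟨n, Y, f, hY, hsurj, hSf⟩ := CoverFin.exists_finite_affine_refinement hS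
  choose W k g' hg' hk using fun a => H (Y a) (f a) (hSf a)
  -- the image of `Y a` in `W a` is quasi-compact
  let φ : ∀ a, (Y a).left ⟶ (W a).left := fun a =>
    (g' a).left ≫ (pullback.fst (W a).hom i : ((ProEtS.bcP i).obj (W a)).left ⟶ (W a).left)
  have hcomp : ∀ a, IsCompact (Set.range (φ a)) := fun a => by
    have := hY a
    exact isCompact_range (φ a).continuous
  choose Q hQc hQ using fun a => exists_qc_open (W a).left _ (hcomp a)
  refine ⟨n, fun a => Scheme.ProEt.mk ((Q a).ι ≫ (W a).hom),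
    fun a => (MorphismProperty.Over.homMk (Q a).ι : Scheme.ProEt.mk ((Q a).ι ≫ (W a).hom) ⟶ W a) ≫ k a,
    fun a => isCompact_iff_compactSpace.1 (hQc a), ?_, ?_⟩
  · rintro v ⟨z, hz⟩
    obtain ⟨w, hw, -⟩ := Scheme.Pullback.exists_preimage_pullback v z hz.symm
    obtain ⟨a, y, hy⟩ := hsurj w
    refine ⟨a, ⟨φ a y, hQ a ⟨y, rfl⟩⟩, ?_⟩
    have hg'' : g' a ≫ (ProEtS.bcP i).map (k a) = f a := (hg' a).trans (Category.comp_id _)
    have e3 : (g' a).left ≫ ((ProEtS.bcP i).map (k a)).left = (f a).left :=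
      congrArg (fun t => t.left) hg''
    have e1 : φ a ≫ (k a).left = (f a).left ≫
        (pullback.fst V.hom i : ((ProEtS.bcP i).obj V).left ⟶ V.left) :=
      (Category.assoc _ _ _).trans
        ((congrArg (fun t => (g' a).left ≫ t) (Cont.isPullback_bcP_map i (k a)).w.symm).trans
          ((Category.assoc _ _ _).symm.trans
            (congrArg (fun t => t ≫
              (pullback.fst V.hom i : ((ProEtS.bcP i).obj V).left ⟶ V.left)) e3)))
    have e5 : (φ a ≫ (k a).left) y = ((f a).left ≫
        (pullback.fst V.hom i : ((ProEtS.bcP i).obj V).left ⟶ V.left)) y := by rw [e1]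
    have e6 : (k a).left (φ a y) =
        (pullback.fst V.hom i : ((ProEtS.bcP i).obj V).left ⟶ V.left) ((f a).left y) := by
      rwa [Scheme.Hom.comp_apply, Scheme.Hom.comp_apply] at e5
    have e7 : (pullback.fst V.hom i : ((ProEtS.bcP i).obj V).left ⟶ V.left) ((f a).left y) =
        (pullback.fst V.hom i : ((ProEtS.bcP i).obj V).left ⟶ V.left) w := by rw [hy]
    exact e6.trans (e7.trans hw)
  · intro a
    have h1 : G.obj.map ((MorphismProperty.Over.homMk (Q a).ι :
      Scheme.ProEt.mk ((Q a).ι ≫ (W a).hom) ⟶ W a) ≫ k a).op =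
      G.obj.map (k a).op ≫ G.obj.map ((MorphismProperty.Over.homMk (Q a).ι :
      Scheme.ProEt.mk ((Q a).ι ≫ (W a).hom) ⟶ W a)).op := G.obj.map_comp _ _
    have h2 := ConcreteCategory.congr_hom h1 s
    refine h2.trans ?_
    have h3 := congrArg (ConcreteCategory.hom (G.obj.map (MorphismProperty.Over.homMk (Q a).ι :
      Scheme.ProEt.mk ((Q a).ι ≫ (W a).hom) ⟶ W a).op)) (hk a)
    exact h3.trans (map_zero _)

end Groth.Agent.Proet.SuppZ
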