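import Groth.Agent.Proet.RpushEps
import Groth.Agent.Proet.SuppZ
import Groth.Agent.Proet.CoverFin
import Groth.Agent.EtpbcA.EqLocus

/-!
# Sections of `eps⁻¹ F` restricted from étale objects

`br F g s` is the restriction along `g : T ⟶ eps U` of the unit section of `s ∈ F(U)`.

* `exists_br`: every section of `eps⁻¹ F` is locally of the form `br F g s`.
* `br_eq_iff`: `br F g s = br F g t` iff `g` lands in the equality locus of `s` and `t`.
-/

set_option autoImplicit false
universe u

open CategoryTheory CategoryTheory.Limits AlgebraicGeometry Opposite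

namespace Groth.Agent.Proet.EpsSec229

set_option backward.isDefEq.respectTransparency.types false

open RpushEps EtpbcA.EqLocus

variable {X : Scheme.{u}} [ProEtS.EpsCont X] (F : EtCoh.Ab X)

theorem flat_eps (X : Scheme.{u}) : RepresentablyFlat (ProEtS.eps X) := by
  have := Cont.preservesFiniteLimits_eps X
  exact flat_of_preservesFiniteLimits _

theorem pres_eps (X : Scheme.{u}) (T : X.ProEt) :
    PreservesColimitsOfShape (CostructuredArrow (ProEtS.eps X).op (op T))
      (forget AddCommGrpCat.{u + 1}) := by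
  have h2 := flat_eps X
  have h3 : IsFiltered (CostructuredArrow (ProEtS.eps X).op (op T)) := inferInstance
  have := SuppZ.presFilt.{u}
  exact PreservesFilteredColimitsOfSize.preserves_filtered_colimits _

/-- The restriction along `g : T ⟶ eps U` of the unit section of `s`. -/
noncomputable def br {T : X.ProEt} {U : X.Etale} (g : T ⟶ (ProEtS.eps X).obj U)
    (s : EtCoh.sect F U) : ((ProEtS.epsPull X).obj F).obj.obj (op T) :=
  ((ProEtS.epsPull X).obj F).obj.map g.op (un F U s)

theorem map_br {T T' : X.ProEt} {U : X.Etale} (f : T' ⟶ T) (g : T ⟶ (ProEtS.eps X).obj U)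
    (s : EtCoh.sect F U) :
    ((ProEtS.epsPull X).obj F).obj.map f.op (br F g s) = br F (f ≫ g) s :=
  (ConcreteCategory.congr_hom (((ProEtS.epsPull X).obj F).obj.map_comp g.op f.op) _).symm

theorem br_comp_map {T : X.ProEt} {U V : X.Etale} (g : T ⟶ (ProEtS.eps X).obj V) (h : V ⟶ U)
    (s : EtCoh.sect F U) : br F (g ≫ (ProEtS.eps X).map h) s = br F g (F.obj.map h.op s) := by
  have h1 := un_naturality F h s
  have h2 := map_br F g ((ProEtS.eps X).map h) s
  rw [← h2]
  exact congrArg _ h1.symm

theorem br_sub {T : X.ProEt} {U : X.Etale} (g : T ⟶ (ProEtS.eps X).obj U)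
    (s t : EtCoh.sect F U) : br F g (s - t) = br F g s - br F g t := by
  unfold br
  rw [map_sub]
  exact map_sub (((ProEtS.epsPull X).obj F).obj.map g.op).hom _ _

/-- Every section of `eps⁻¹ F` is locally the restriction of a unit section. -/
theorem exists_br {T : X.ProEt} (y : ((ProEtS.epsPull X).obj F).obj.obj (op T)) :
    ∃ S ∈ Scheme.ProEt.topology X T, ∀ (T' : X.ProEt) (f : T' ⟶ T), S f →
      ∃ (U : X.Etale) (g : T' ⟶ (ProEtS.eps X).obj U) (s : EtCoh.sect F U),
        ((ProEtS.epsPull X).obj F).obj.map f.op y = br F g s := by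
  have := flat_eps X
  have := pres_eps X
  exact PullElem.locally_rep (ProEtS.eps X) _ _ (ProEtS.epsAdj X) F T y

omit [ProEtS.EpsCont X] in
/-- Covering sieves are jointly surjective. -/
theorem exists_mem_range {T : X.ProEt} {S : Sieve T} (hS : S ∈ Scheme.ProEt.topology X T)
    (t : T.left) : ∃ (T' : X.ProEt) (f : T' ⟶ T) (t' : T'.left), S f ∧ f.left t' = t := by
  obtain ⟨W, hW, htW, -⟩ := exists_isAffineOpen_mem_and_subset (x := t) (U := ⊤) trivial
  let V : X.ProEt := Scheme.ProEt.mk (W.ι ≫ T.hom)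
  let v : V ⟶ T := MorphismProperty.Over.homMk W.ι
  have : IsAffine V.left := hW
  obtain ⟨n, Y, g, -, hg, hSg⟩ := CoverFin.exists_finite_affine_refinement
    ((Scheme.ProEt.topology X).pullback_stable v hS)
  obtain ⟨i, y, hy⟩ := hg ⟨t, htW⟩
  refine ⟨Y i, g i ≫ v, y, hSg i, ?_⟩
  have h1 : (g i ≫ v).left y = v.left ((g i).left y) := rfl
  rw [h1, hy]
  rfl

theorem range_subset_of_br_eq_zero {T : X.ProEt} {U : X.Etale} (g : T ⟶ (ProEtS.eps X).obj U)
    (s t : EtCoh.sect F U) (h : br F g s = br F g t) :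
    Set.range g.left ⊆ (eqLocus (F := F) s t : Set U.left) := by
  have := flat_eps X
  have := pres_eps X
  have h0 : br F g (s - t) = 0 := by rw [br_sub, h, sub_self]
  obtain ⟨S, hS, H⟩ := PullElem.locally_zero (ProEtS.eps X) _ _ (ProEtS.epsAdj X) F T U g (s - t) h0
  rintro _ ⟨x, rfl⟩
  obtain ⟨T', f, x', hf, rfl⟩ := exists_mem_range hS x
  obtain ⟨W, k, g', hg', hk⟩ := H T' f hf
  refine mem_eqLocus.2 ⟨W, k, g'.left x', ?_, ?_⟩
  · have h1 : (g' ≫ (ProEtS.eps X).map k).left x' = (f ≫ g).left x' := by rw [hg']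
    exact h1
  · have h2 : F.obj.map k.op s - F.obj.map k.op t = 0 := by
      rw [← hk]
      exact (map_sub (F.obj.map k.op).hom s t).symm
    exact sub_eq_zero.1 h2

omit [ProEtS.EpsCont X] in
/-- A morphism to `eps U` with image in an open subset factors through it. -/
theorem exists_lift_openSub {T : X.ProEt} {U : X.Etale} (g : T ⟶ (ProEtS.eps X).obj U)
    (O : U.left.Opens) (h : Set.range g.left ⊆ (O : Set U.left)) :
    ∃ g' : T ⟶ (ProEtS.eps X).obj (openSub U O), g' ≫ (ProEtS.eps X).map (openι U O) = g := by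
  let g₁ : T.left ⟶ U.left := g.left
  let l : T.left ⟶ (O : Scheme.{u}) :=
    IsOpenImmersion.lift O.ι g₁ (h.trans (Scheme.Opens.range_ι O).ge)
  have hl : l ≫ O.ι = g₁ := IsOpenImmersion.lift_fac _ _ _
  have hw : g₁ ≫ U.hom = T.hom := Over.w g.hom
  refine ⟨MorphismProperty.Over.homMk l ?_, ?_⟩
  · exact (Category.assoc _ _ _).symm.trans ((congrArg (· ≫ U.hom) hl).trans hw)
  · apply MorphismProperty.Over.Hom.ext
    exact hl

theorem br_eq_iff {T : X.ProEt} {U : X.Etale} (g : T ⟶ (ProEtS.eps X).obj U)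
    (s t : EtCoh.sect F U) :
    br F g s = br F g t ↔ Set.range g.left ⊆ (eqLocus (F := F) s t : Set U.left) := by
  refine ⟨range_subset_of_br_eq_zero F g s t, fun h => ?_⟩
  obtain ⟨g', hg'⟩ := exists_lift_openSub g (eqLocus (F := F) s t) h
  rw [← hg', br_comp_map, br_comp_map, map_openι_eqLocus]

end Groth.Agent.Proet.EpsSec229
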