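import Groth.Agent.Proet.EpsSec
import Mathlib.CategoryTheory.Sites.EpiMono

/-!
# The unit `F ⟶ eps_* eps⁻¹ F` is an isomorphism; acyclicity of `eps⁻¹ I` on `B0`
-/

set_option autoImplicit false
set_option linter.unusedSectionVars false
universe u

open CategoryTheory CategoryTheory.Limits AlgebraicGeometry Opposite Simplicial

namespace Groth.Agent.Proet.EpsUnit

open EpsPre EpsLim CechLim CechEt CechEl CechAcyclic EtStep BZero CovRef SigmaSec NerveLim EpsSec

variable {X : Scheme.{u}} [ProEtS.EpsCont X] (F : EtCoh.Ab X)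

theorem alpha_bijective (P : X.Etaleᵒᵖ ⥤ AddCommGrpCat.{u + 1}) (U : X.Etale) :
    Function.Bijective ((LanElem.α (ProEtS.eps X) P).app (op U)) := by
  have h := bijective_unit P U
  have e : (fun s : P.obj (op U) => cls P (𝟙 ((ProEtS.eps X).obj U)) s) =
      ⇑((LanElem.α (ProEtS.eps X) P).app (op U)) := by
    funext s
    change (Gp P).map (𝟙 ((ProEtS.eps X).obj U)).op
      ((LanElem.α (ProEtS.eps X) P).app (op U) s) = _
    rw [op_id, CategoryTheory.Functor.map_id]
    rfl
  rwa [e] at h

theorem unit_apply (U : X.Etale) (x : F.obj.obj (op U)) :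
    ((ProEtS.epsAdj X).unit.app F).hom.app (op U) x =
      (tau F).app (op ((ProEtS.eps X).obj U))
        ((LanElem.α (ProEtS.eps X) F.obj).app (op U) x) :=
  PullElem.unit_fromLan_apply (ProEtS.eps X) X.smallEtaleTopology (Scheme.ProEt.topology X)
    (ProEtS.epsAdj X) F U x

theorem unit_injective (U : X.Etale) :
    Function.Injective (((ProEtS.epsAdj X).unit.app F).hom.app (op U)) := by
  intro x y hxy
  apply (alpha_bijective F.obj U).1
  apply tau_injective F
  rw [← unit_apply, ← unit_apply, hxy]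

theorem unit_surjective (U : X.Etale) (hU : IsAffine U.left) :
    Function.Surjective (((ProEtS.epsAdj X).unit.app F).hom.app (op U)) := by
  intro t
  have hB : B0 ((ProEtS.eps X).obj U) := B0.of_etale hU U.prop
  obtain ⟨y, hy⟩ := tau_surjective F hB t
  obtain ⟨x, rfl⟩ := (alpha_bijective F.obj U).2 y
  exact ⟨x, (unit_apply F U x).trans hy⟩

set_option backward.isDefEq.respectTransparency.types false in
/-- Affine objects cover in the small etale site. -/
theorem exists_affine_nhd (U : X.Etale) (x : U.left) :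
    ∃ (Y : X.Etale) (f : Y ⟶ U) (y : Y.left), IsAffine Y.left ∧ f.left y = x := by
  obtain ⟨_, ⟨W, hW, rfl⟩, hx, -⟩ :=
    U.left.isBasis_affineOpens.exists_subset_of_mem_open (Set.mem_univ x) isOpen_univ
  exact ⟨opn U W, opnι U W, ⟨x, hx⟩, hW, rfl⟩

theorem isIso_unit : IsIso ((ProEtS.epsAdj X).unit.app F) := by
  refine (Sheaf.isLocallyBijective_iff_isIso ((ProEtS.epsAdj X).unit.app F)).1 ⟨?_, ?_⟩
  · exact Presheaf.isLocallyInjective_of_injective _ _ (fun U => unit_injective F U.unop)
  · refine ⟨fun {U} t => ?_⟩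
    apply mem_etale_topology
    intro x
    obtain ⟨Y, f, y, hY, hy⟩ := exists_affine_nhd U x
    refine ⟨Y, f, y, ?_, hy⟩
    exact unit_surjective F Y hY _

/-- `eps⁻¹ F` is acyclic on `B0` if `F` has exact Cech complexes along etale covers. -/
theorem isCechBasis (X : Scheme.{u}) :
    IsCechBasis.{u + 1} (Scheme.ProEt.topology X) (B0 (X := X)) (Cov0 (X := X)) where
  mem _ _ _ hf := hf.mem
  nerve_mem _ _ _ hf n := hf.nerve_mem n
  lift A B φ _ V hV s := by
    have h1 : Sheaf.IsLocallySurjective φ := (Sheaf.isLocallySurjective_iff_epi' _ φ).2 inferInstance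
    have hS := Presheaf.imageSieve_mem (Scheme.ProEt.topology X) φ.hom s
    obtain ⟨n, T, z, W, g, hz, -, hf⟩ := exists_cov0 hV hS
    choose t ht using hz
    obtain ⟨t', ht'⟩ := (WCBasic.bijective_sigma T (ShElem.isSheaf_forget A.property)).2 t
    have ht'' (i : Fin n) : A.obj.map (WCBasic.sigmaι T i).op t' = t i := congrFun ht' i
    have h2 : φ.hom.app (op (WCBasic.sigmaObj T)) t' = B.obj.map (WCBasic.sigmaDesc T z).op s := by
      apply (WCBasic.bijective_sigma T (ShElem.isSheaf_forget B.property)).1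
      funext i
      change B.obj.map (WCBasic.sigmaι T i).op _ = B.obj.map (WCBasic.sigmaι T i).op _
      rw [map_map, WCBasic.sigmaι_desc]
      refine Eq.trans ?_ (ht i)
      rw [← ht'' i]
      exact (ConcreteCategory.congr_hom (φ.hom.naturality (WCBasic.sigmaι T i).op) t').symm
    refine ⟨W, g ≫ WCBasic.sigmaDesc T z, hf, A.obj.map g.op t', ?_⟩
    rw [← map_map, ← h2]
    exact ConcreteCategory.congr_hom (φ.hom.naturality g.op) t'

/-- `Ext^(q+1)(Z_V, eps⁻¹ F) = 0` for `V` in `B0` if `F` has exact Cech complexes along etale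
covers. -/
theorem ext_eq_zero (hF : EtExact F.obj) {V : X.ProEt} (hV : B0 V) (q : ℕ)
    (x : Abelian.Ext.{u + 1} ((ZU.zF.{u + 1} (Scheme.ProEt.topology X)).obj V)
      ((ProEtS.epsPull X).obj F) (q + 1)) : x = 0 :=
  ext_eq_zero_of_cech (isCechBasis X) _ (fun _ _ _ hf => cExact_epsPull F hF hf) V hV q x

theorem etExact_of_injective (I : EtCoh.Ab X) [Injective I] : EtExact I.obj :=
  fun f _ => cExact_etale_injective I f

end Groth.Agent.Proet.EpsUnit
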