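/-
A functor preserving finite coproducts and filtered colimits preserves coproducts.
-/
import Mathlib.CategoryTheory.Limits.Constructions.Filtered
import Mathlib.CategoryTheory.Limits.Preserves.Finite

set_option autoImplicit false

open CategoryTheory CategoryTheory.Limits CoproductsFromFiniteFiltered

namespace Groth.Agent.Proet.PresCoprod

universe w v₁ v₂ u₁ u₂

variable {C : Type u₁} [Category.{v₁} C] {D : Type u₂} [Category.{v₂} D] {α : Type w}
  [HasFiniteCoproducts C]

/-- inclusion of a summand into a finite subcoproduct -/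
noncomputable def inc (F : Discrete α ⥤ C) (S : Finset (Discrete α)) (x : S) :
    F.obj x.1 ⟶ (liftToFinsetObj F).obj S :=
  Sigma.ι (fun x : S => F.obj x) x

theorem inc_map (F : Discrete α ⥤ C) {S T : Finset (Discrete α)} (h : S ⟶ T) (x : S) :
    inc F S x ≫ (liftToFinsetObj F).map h = inc F T ⟨x.1, h.down.down x.2⟩ :=
  Sigma.ι_desc _ _

theorem inc_ι [HasColimitsOfShape (Finset (Discrete α)) C] (F : Discrete α ⥤ C)
    (S : Finset (Discrete α)) (x : S) :
    inc F S x ≫ colimit.ι (liftToFinsetObj F) S =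
        (liftToFinsetColimitCocone F).cocone.ι.app x.1 := by
  have h1 := inc_map F (homOfLE (Finset.singleton_subset_iff.2 x.2) : ({x.1} : Finset _) ⟶ S)
    ⟨x.1, by simp⟩
  have h2 := colimit.w (liftToFinsetObj F)
    (homOfLE (Finset.singleton_subset_iff.2 x.2) : ({x.1} : Finset _) ⟶ S)
  change _ = inc F {x.1} ⟨x.1, by simp⟩ ≫ colimit.ι (liftToFinsetObj F) {x.1}
  rw [← h2, ← Category.assoc, h1]

variable (G : C ⥤ D) [PreservesFiniteCoproducts G]

theorem hom_ext_fin {F : Discrete α ⥤ C} (S : Finset (Discrete α)) {Z : D}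
    {a b : G.obj ((liftToFinsetObj F).obj S) ⟶ Z}
    (h : ∀ x : S, G.map (inc F S x) ≫ a = G.map (inc F S x) ≫ b) : a = b := by
  have : Finite S := inferInstance
  have hc := isColimitOfPreserves G (colimit.isColimit (Discrete.functor (fun x : S => F.obj x)))
  exact hc.hom_ext (fun ⟨x⟩ => h x)

theorem exists_desc_fin {F : Discrete α ⥤ C} (S : Finset (Discrete α)) {Z : D}
    (t : ∀ x : S, G.obj (F.obj x) ⟶ Z) :
    ∃ a : G.obj ((liftToFinsetObj F).obj S) ⟶ Z,
      ∀ x : S, G.map (inc F S x) ≫ a = t x := by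
  have : Finite S := inferInstance
  have hc := isColimitOfPreserves G (colimit.isColimit (Discrete.functor (fun x : S => F.obj x)))
  refine ⟨hc.desc ⟨Z, ⟨fun ⟨x⟩ => t x, ?_⟩⟩, fun x => hc.fac _ ⟨x⟩⟩
  rintro ⟨x⟩ ⟨y⟩ ⟨⟨rfl : x = y⟩⟩
  change (Discrete.functor (fun x : S => F.obj x) ⋙ G).map (𝟙 _) ≫ t x = t x ≫ 𝟙 _
  simp

variable [HasColimitsOfShape (Finset (Discrete α)) C]
  [PreservesColimitsOfShape (Finset (Discrete α)) G]

theorem isColimit_mapCocone (F : Discrete α ⥤ C) :
    Nonempty (IsColimit (G.mapCocone (liftToFinsetColimitCocone F).cocone)) := by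
  classical
  have hG := isColimitOfPreserves G (colimit.isColimit (liftToFinsetObj F))
  choose a ha using fun (s : Cocone (F ⋙ G)) (S : Finset (Discrete α)) =>
    exists_desc_fin G (F := F) S (fun x : S => s.ι.app x.1)
  have hnat : ∀ (s : Cocone (F ⋙ G)) {S T : Finset (Discrete α)} (h : S ⟶ T),
      G.map ((liftToFinsetObj F).map h) ≫ a s T = a s S := by
    intro s S T h
    refine hom_ext_fin G S (fun x => ?_)
    rw [ha s S x, ← Category.assoc, ← G.map_comp, inc_map]
    exact ha s T ⟨x.1, h.down.down x.2⟩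
  let c : Cocone (F ⋙ G) → Cocone (liftToFinsetObj F ⋙ G) := fun s =>
    ⟨s.pt, ⟨fun S => a s S, fun S T h => (hnat s h).trans (Category.comp_id _).symm⟩⟩
  have hfac : ∀ s (S : Finset (Discrete α)),
      G.map (colimit.ι (liftToFinsetObj F) S) ≫ hG.desc (c s) = a s S := fun s S =>
    hG.fac (c s) S
  refine ⟨{ desc := fun s => hG.desc (c s), fac := ?_, uniq := ?_ }⟩
  · intro s x
    have h1 : G.map ((liftToFinsetColimitCocone F).cocone.ι.app x) ≫ hG.desc (c s) =
        G.map (inc F {x} ⟨x, by simp⟩ ≫ colimit.ι (liftToFinsetObj F) {x}) ≫ hG.desc (c s) :=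
      congrArg (fun t => G.map t ≫ hG.desc (c s)) (inc_ι F {x} ⟨x, by simp⟩).symm
    refine h1.trans ?_
    have h2 : G.map (inc F {x} ⟨x, by simp⟩ ≫ colimit.ι (liftToFinsetObj F) {x}) ≫
        hG.desc (c s) = G.map (inc F {x} ⟨x, by simp⟩) ≫
          (G.map (colimit.ι (liftToFinsetObj F) {x}) ≫ hG.desc (c s)) := by
      rw [G.map_comp, Category.assoc]
    exact h2.trans ((congrArg (fun t => G.map (inc F {x} ⟨x, by simp⟩) ≫ t) (hfac s {x})).trans
      (ha s {x} ⟨x, by simp⟩))
  · intro s m₀ hm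
    let m : G.obj (colimit (liftToFinsetObj F)) ⟶ s.pt := m₀
    change m = _
    refine hG.hom_ext (fun S => ?_)
    refine Eq.trans ?_ (hfac s S).symm
    refine hom_ext_fin G S (fun x => ?_)
    have h1 : G.map (inc F S x) ≫ (G.map (colimit.ι (liftToFinsetObj F) S) ≫ m) =
        G.map (inc F S x ≫ colimit.ι (liftToFinsetObj F) S) ≫ m := by
      rw [G.map_comp, Category.assoc]
    have h2 : G.map (inc F S x ≫ colimit.ι (liftToFinsetObj F) S) ≫ m =
        G.map ((liftToFinsetColimitCocone F).cocone.ι.app x.1) ≫ m :=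
      congrArg (fun t => G.map t ≫ m) (inc_ι F S x)
    exact h1.trans (h2.trans ((hm x.1).trans (ha s S x).symm))

theorem preservesColimitsOfShape_discrete : PreservesColimitsOfShape (Discrete α) G where
  preservesColimit {F} :=
    preservesColimit_of_preserves_colimit_cocone (liftToFinsetColimitCocone F).isColimit
      (isColimit_mapCocone G F).some

end Groth.Agent.Proet.PresCoprod
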