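/-
The quasi-compact quasi-separated objects of the small pro-étale site form a class of coherent
objects; `Ext^n(Z_U, -)` commutes with filtered colimits.
-/
import Groth.Agent.Etbase.SiteColim
import Groth.Agent.Proet.CoverFin
import Mathlib.AlgebraicGeometry.Morphisms.QuasiSeparated
import Mathlib.CategoryTheory.ObjectProperty.FiniteProducts

set_option autoImplicit false

open CategoryTheory CategoryTheory.Limits AlgebraicGeometry Opposite
open Groth.Agent.Etbase.SiteColim Groth.Agent.Etbase.CechFamily

namespace Groth.Agent.Proet.QcqsBasisP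

universe u

variable {X : Scheme.{u}}

variable (X) in
/-- the quasi-compact quasi-separated objects of the small pro-étale site -/
def QCQS : Set X.ProEt := {U | CompactSpace U.left ∧ QuasiSeparatedSpace U.left}

lemma qcqs_of_iso {U V : X.ProEt} (e : U ≅ V) (h : U ∈ QCQS X) : V ∈ QCQS X := by
  have := h.1
  have := h.2
  let e' : U.left ≅ V.left := (Scheme.ProEt.forget X ⋙ Over.forget X).mapIso e
  exact ⟨QuasiCompact.compactSpace_of_compactSpace e'.inv,
    quasiSeparatedSpace_of_quasiSeparated e'.inv⟩

lemma isPullback_left {U V W P : X.ProEt} {a : P ⟶ V} {b : P ⟶ W} {f : V ⟶ U} {g : W ⟶ U}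
    (h : IsPullback a b f g) : IsPullback a.left b.left f.left g.left :=
  (h.map (Scheme.ProEt.forget X)).map (Over.forget X)

lemma qcqs_of_isPullback {U V W P : X.ProEt} {a : P ⟶ V} {b : P ⟶ W} {f : V ⟶ U} {g : W ⟶ U}
    (h : IsPullback a b f g) (hU : U ∈ QCQS X) (hV : V ∈ QCQS X) (hW : W ∈ QCQS X) :
    P ∈ QCQS X := by
  have := hU.1
  have := hU.2
  have := hV.1
  have := hV.2
  have := hW.1
  have := hW.2
  have hp := isPullback_left h
  have : QuasiCompact g.left := inferInstance
  have : QuasiSeparated g.left := inferInstance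
  have h1 : QuasiCompact a.left := MorphismProperty.of_isPullback hp.flip inferInstance
  have h2 : QuasiSeparated a.left := MorphismProperty.of_isPullback hp.flip inferInstance
  exact ⟨QuasiCompact.compactSpace_of_compactSpace a.left,
    quasiSeparatedSpace_of_quasiSeparated a.left⟩

/-- objects over `U` which are qcqs -/
def Q (U : X.ProEt) : ObjectProperty (Over U) := fun A => A.left ∈ QCQS X

lemma closed (U : X.ProEt) (hU : U ∈ QCQS X) : (Q U).IsClosedUnderFiniteProducts := by
  have h0 : (Q U).IsClosedUnderLimitsOfShape (Discrete.{0} PEmpty) := by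
    refine ⟨?_⟩
    rintro A ⟨p⟩
    have hA : IsTerminal A :=
      (IsLimit.equivOfNatIsoOfIso p.diag.uniqueFromEmpty _ _
        (by exact Cone.ext (Iso.refl _) (by rintro ⟨⟨⟩⟩))).1 p.isLimit
    let e : Over.mk (𝟙 U) ≅ A := Over.mkIdTerminal.uniqueUpToIso hA
    exact qcqs_of_iso ((Over.forget U).mapIso e) hU
  have h2 : (Q U).IsClosedUnderLimitsOfShape (Discrete WalkingPair) := by
    refine ⟨?_⟩
    rintro A ⟨p⟩
    let c : BinaryFan (p.diag.obj ⟨WalkingPair.left⟩) (p.diag.obj ⟨WalkingPair.right⟩) :=
      (Cone.postcompose (diagramIsoPair p.diag).hom).obj (Cone.mk _ p.π)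
    have hc : IsLimit c :=
      (IsLimit.postcomposeHomEquiv (diagramIsoPair p.diag) (Cone.mk _ p.π)).symm p.isLimit
    have := Over.isPullback_of_binaryFan_isLimit c hc
    exact qcqs_of_isPullback this hU (p.prop_diag_obj ⟨WalkingPair.left⟩)
      (p.prop_diag_obj ⟨WalkingPair.right⟩)
  exact ObjectProperty.IsClosedUnderFiniteProducts.mk'

theorem prod_mem {U : X.ProEt} (hU : U ∈ QCQS X) {n : ℕ} (Z : Fin n → Over U)
    (hZ : ∀ k, (Z k).left ∈ QCQS X) : (∏ᶜ Z).left ∈ QCQS X := by
  have := closed U hU
  exact (Q U).prop_product (f := Z) hZ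

theorem cohBasis : CohBasis (Scheme.ProEt.topology X) (QCQS X) := by
  intro U hU S hS
  have := hU.1
  have := hU.2
  obtain ⟨n, W, g, hW, hsurj, hg⟩ := CoverFin.exists_finite_affine_refinement hS
  refine ⟨n, fun a => Over.mk (g a), fun a => hg a, ?_, ?_⟩
  · refine CoverFin.sieve_mem_of_finite W g (fun i => ?_) hsurj
    have := hW i
    infer_instance
  · intro m a
    refine prod_mem hU _ (fun k => ?_)
    have : IsAffine (W (a k)).left := hW _
    exact ⟨(inferInstance : CompactSpace (W (a k)).left),
      (inferInstance : QuasiSeparatedSpace (W (a k)).left)⟩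

end Groth.Agent.Proet.QcqsBasisP
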