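/-
Pro-étale cohomology of a qcqs scheme (and of qcqs objects of the pro-étale site) commutes with
filtered colimits and with coproducts.
-/
import Groth.Agent.Proet.QcqsBasisP
import Groth.Agent.Proet.EpsBasic
import Groth.Agent.Proet.PresCoprod
import Groth.Agent.Etbase.EtColim
import Groth.Prelude.Def_ProEtS

set_option autoImplicit false

open CategoryTheory CategoryTheory.Limits AlgebraicGeometry Opposite
open CategoryTheory.Abelian (Ext)
open CategoryTheory.Abelian.Ext
open Groth.Agent.Etbase.ExtColim
open Groth.Agent.Proet.QcqsBasisP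

namespace Groth.Agent.Proet.EtColimP

universe u v' w' w v u₁

variable (X : Scheme.{u})

theorem hasSheafify_p : HasSheafify (Scheme.ProEt.topology X) AddCommGrpCat.{u + 1} := inferInstance
attribute [local instance 3000] hasSheafify_p

theorem wEqualsLocallyBijective_p :
    (Scheme.ProEt.topology X).WEqualsLocallyBijective AddCommGrpCat.{u + 1} := inferInstance
attribute [local instance 3000] wEqualsLocallyBijective_p

theorem hasSheafCompose_p :
    (Scheme.ProEt.topology X).HasSheafCompose (forget AddCommGrpCat.{u + 1}) := inferInstance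
attribute [local instance 3000] hasSheafCompose_p

theorem isGrothendieckAbelian_p : IsGrothendieckAbelian.{u + 1} (ProEtS.AbP X) := inferInstance
attribute [local instance 3000] isGrothendieckAbelian_p

theorem hasExt_p : HasExt.{u + 1} (ProEtS.AbP X) := inferInstance
attribute [local instance 3000] hasExt_p

theorem hasPullbacks_p : HasPullbacks X.ProEt := inferInstance
attribute [local instance 3000] hasPullbacks_p

section Instances

variable (I : Type u) [SmallCategory I] [IsFiltered I]

theorem exact_small : HasExactColimitsOfShape I (ProEtS.AbP X) := by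
  have : AB5OfSize.{u, u} (ProEtS.AbP X) := AB5OfSize_of_univLE.{u, u, u + 1, u + 1} (ProEtS.AbP X)
  infer_instance

end Instances

section Main

variable (I : Type w') [Category.{v'} I] [IsFiltered I]
  [HasColimitsOfShape I AddCommGrpCat.{u + 1}]
  [PreservesColimitsOfShape I (forget AddCommGrpCat.{u + 1})]
  [HasExactColimitsOfShape I (ProEtS.AbP X)]

/-- `Ext^n(Z_U, -)` commutes with filtered colimits of abelian pro-étale sheaves for `U`
qcqs. -/
theorem fp_ZU {U : X.ProEt} (hU : U ∈ QCQS X) (n : ℕ) :
    FP.{u + 1} (C := ProEtS.AbP X) I n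
      ((CurvesA.SiteZU.ZU.{u + 1} (Scheme.ProEt.topology X)).obj U) :=
  Etbase.SiteColim.fp.{u + 1} (J := Scheme.ProEt.topology X) (cohBasis (X := X)) n hU

theorem fp_const [CompactSpace X] [QuasiSeparatedSpace X] (n : ℕ) :
    FP.{u + 1} (C := ProEtS.AbP X) I n
      ((constantSheaf (Scheme.ProEt.topology X) AddCommGrpCat.{u + 1}).obj
        (AddCommGrpCat.of (ULift.{u + 1} ℤ))) :=
  Etbase.EtColim.FP.of_iso (CurvesA.SiteZU.constIso.{u + 1} (Scheme.ProEt.topology X)
    (T := ProEtS.topP X) (EpsBasic.topPIsTerminal X))
    (fp_ZU X I (U := ProEtS.topP X)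
      ⟨inferInstanceAs (CompactSpace X), inferInstanceAs (QuasiSeparatedSpace X)⟩ n)

/-- `Hⁿ(X_proét, -)` commutes with filtered colimits. -/
theorem preservesColimits_HPF [CompactSpace X] [QuasiSeparatedSpace X] (n : ℕ) :
    PreservesColimitsOfShape I (ProEtS.HPF X n) :=
  Etbase.EtColim.preservesColimits_functorH (Scheme.ProEt.topology X) n (fp_const X I n)

end Main

end Groth.Agent.Proet.EtColimP
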