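import Groth.Agent.Proet.EtStep

/-!
# Descending affine etale covers of pro-(affine etale) objects to a finite level
-/

set_option autoImplicit false
universe u

open CategoryTheory CategoryTheory.Limits AlgebraicGeometry Opposite

namespace Groth.Agent.Proet.EtDesc

open EpsPre EpsLim CechLim CechEt CechEl PullLim IndPres EtStep IndAlg

theorem isPullback_spec {A B C : Scheme.{u}} [IsAffine A] [IsAffine B] [IsAffine C]
    (a : A ⟶ B) (w : B ⟶ C) {T : CommRingCat.{u}} (f' : Γ(C, ⊤) ⟶ T) (g : T ⟶ Γ(A, ⊤))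
    (H : IsPushout w.appTop f' a.appTop g) :
    IsPullback a (A.isoSpec.hom ≫ Spec.map g) w (Spec.map f' ≫ C.isoSpec.inv) := by
  refine (isPullback_SpecMap_of_isPushout _ _ _ _ H).of_iso' A.isoSpec B.isoSpec (Iso.refl _)
    C.isoSpec ?_ ?_ ?_ ?_
  · exact Scheme.isoSpec_hom_naturality a
  · exact (Category.comp_id _).symm
  · exact Scheme.isoSpec_hom_naturality w
  · simp

/-- The scheme-level descent of affine etale morphisms. -/
theorem exists_descent_scheme {K : Type u} [SmallCategory K] [IsCofiltered K]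
    (D : K ⥤ Scheme.{u}) (c : Cone D) (hc : IsLimit c) (hD : ∀ k, IsAffine (D.obj k))
    (hcA : IsAffine c.pt) {E : Scheme.{u}} [IsAffine E] (p : E ⟶ c.pt) [Etale p] :
    ∃ (j : K) (T : CommRingCat.{u}) (e : Spec T ⟶ D.obj j) (q : E ⟶ Spec T),
      Etale e ∧ IsPullback p q (c.π.app j) e := by
  have h1 : ∀ {i j} (f : i ⟶ j), IsAffineHom (D.map f) := fun f => inferInstance
  obtain ⟨hcol⟩ := nonempty_isColimit_Γ_mapCocone D c hc
  obtain ⟨j, T, f', g, hpo, hf'⟩ := (good_etale.preIndSpreads).exists_isPushout hcol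
    (T := Γ(E, ⊤)) p.appTop (etMP_appTop p)
  let f'' : Γ(D.obj j.unop, ⊤) ⟶ T := f'
  have hi : IsIso (D.obj j.unop).isoSpec.inv := inferInstance
  refine ⟨j.unop, T, Spec.map f'' ≫ (D.obj j.unop).isoSpec.inv, E.isoSpec.hom ≫ Spec.map g, ?_, ?_⟩
  · exact etale_comp_iso _ _ ((etale_Spec_map_iff f'').2 hf') hi
  · exact isPullback_spec p (c.π.app j.unop) f'' g hpo

variable {X : Scheme.{u}}

theorem weaklyEtale_comp_scheme {A B C : Scheme.{u}} (f : A ⟶ B) (g : B ⟶ C) (hf : Etale f)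
    (hg : WeaklyEtale g) : WeaklyEtale (f ≫ g) := by
  infer_instance

set_option backward.isDefEq.respectTransparency.types false in
theorem exists_descent {K : Type u} [SmallCategory K] [IsCofiltered K] {D : K ⥤ X.ProEt}
    {c : Cone D} (h : IsProLim D c) (hD : ∀ k, IsAffine (D.obj k).left) (hcA : IsAffine c.pt.left)
    {E : X.ProEt} (hE : IsAffine E.left) (p : E ⟶ c.pt) (hp : Etale ((sch X).map p)) :
    ∃ (j : K) (E₀ : X.ProEt) (e : E₀ ⟶ D.obj j) (q : E ⟶ E₀),
      IsAffine E₀.left ∧ Etale ((sch X).map e) ∧ IsPullback p q (c.π.app j) e := by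
  have hc' : IsLimit ((Over.forget X).mapCone ((Scheme.ProEt.forget X).mapCone c)) :=
    isLimitOfPreserves (Over.forget X) h.lim.some
  have : Etale ((sch X).map p) := hp
  have : IsAffine ((sch X).obj E) := hE
  obtain ⟨j, T, e, q, he, hpb⟩ := exists_descent_scheme (D ⋙ sch X)
    ((Over.forget X).mapCone ((Scheme.ProEt.forget X).mapCone c)) hc' hD hcA ((sch X).map p)
  let e₀ : Spec T ⟶ (D.obj j).left := e
  have : WeaklyEtale (e₀ ≫ (D.obj j).hom) := weaklyEtale_comp_scheme e₀ _ he inferInstance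
  let E₀ : X.ProEt := Scheme.ProEt.mk (e₀ ≫ (D.obj j).hom)
  let e₁ : E₀ ⟶ D.obj j := MorphismProperty.Over.homMk e₀ rfl trivial
  have hw : ((sch X).map p) ≫ (c.π.app j).left = q ≫ e₀ := hpb.w
  let q₁ : E ⟶ E₀ := MorphismProperty.Over.homMk q (by
    change q ≫ e₀ ≫ (D.obj j).hom = E.hom
    rw [← Category.assoc, ← hw]
    have e1 : (p ≫ c.π.app j).left ≫ (D.obj j).hom = E.hom := Over.w (p ≫ c.π.app j).hom
    exact e1) trivial
  refine ⟨j, E₀, e₁, q₁, inferInstanceAs (IsAffine (Spec T)), he, ?_⟩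
  have hq : p ≫ c.π.app j = q₁ ≫ e₁ := by
    apply MorphismProperty.Over.Hom.ext
    exact hw
  have : ReflectsLimitsOfShape WalkingCospan (sch X) := inferInstance
  exact IsPullback.of_map (sch X) hq hpb

end Groth.Agent.Proet.EtDesc
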