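import Groth.Agent.Proet.CechLim
import Groth.Agent.Proet.IndEtale
import Groth.Agent.Proet.WCBasic
import Mathlib.CategoryTheory.Limits.Constructions.Over.Connected

/-!
# Ind-etale maps of affine objects of the small pro-etale site as limits of etale maps
-/

set_option autoImplicit false
set_option linter.unusedSectionVars false
set_option linter.unusedVariables false
universe u

open CategoryTheory CategoryTheory.Limits AlgebraicGeometry Opposite

namespace Groth.Agent.Proet.IndPres

open EpsPre EpsLim CechLim IndAlg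

/-- etale ring maps -/
abbrev etMP : MorphismProperty CommRingCat.{u} := mp (fun R S => Algebra.Etale R S)

/-- ind-etale ring maps -/
abbrev indEtMP : MorphismProperty CommRingCat.{u} := MorphismProperty.ind.{u} etMP.{u}

theorem etMP_iff {R S : CommRingCat.{u}} (φ : R ⟶ S) : etMP φ ↔ φ.hom.Etale := Iff.rfl

theorem etale_Spec_map_iff {R S : CommRingCat.{u}} (φ : R ⟶ S) :
    Etale (Spec.map φ) ↔ etMP φ := by
  rw [etMP_iff]
  exact HasRingHomProperty.Spec_iff (P := @Etale)

theorem etMP_appTop {Y Z : Scheme.{u}} (f : Y ⟶ Z) [IsAffine Y] [IsAffine Z] [Etale f] :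
    etMP f.appTop := by
  rw [etMP_iff]
  exact (HasRingHomProperty.iff_of_isAffine (P := @Etale)).1 inferInstance

theorem isoSpec_w {Y Z : Scheme.{u}} (f : Y ⟶ Z) [IsAffine Y] [IsAffine Z] :
    Y.isoSpec.hom ≫ Spec.map f.appTop ≫ Z.isoSpec.inv = f := by
  rw [← Category.assoc, Iso.comp_inv_eq]
  exact Scheme.isoSpec_hom_naturality f

/-- A limit in `Over X` may be checked on underlying schemes. -/
theorem nonempty_isLimit_over {X : Scheme.{u}} {K : Type u} [SmallCategory K] [IsCofiltered K]
    {D : K ⥤ Over X} (c : Cone D) (h : IsLimit ((Over.forget X).mapCone c)) :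
    Nonempty (IsLimit c) := by
  have : IsConnected K := IsCofiltered.isConnected K
  have : ReflectsLimitsOfShape K (Over.forget X) := inferInstance
  exact ⟨isLimitOfReflects (Over.forget X) h⟩

section

variable {X : Scheme.{u}} {W V : X.ProEt} (f : W ⟶ V) [IsAffine W.left] [IsAffine V.left]
  {J : Type u} [SmallCategory J] {D₀ : J ⥤ CommRingCat.{u}}
  (t₀ : (Functor.const J).obj Γ(V.left, ⊤) ⟶ D₀)
  (s₀ : D₀ ⟶ (Functor.const J).obj Γ(W.left, ⊤))
  (ht : ∀ j, etMP (t₀.app j))
  (hts : ∀ j, t₀.app j ≫ s₀.app j = f.left.appTop)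

theorem weaklyEtale_comp_iso {A B C D : Scheme.{u}} (a : A ⟶ B) (b : B ⟶ C) (c : C ⟶ D)
    (ha : Etale a) (hb : IsIso b) (hc : WeaklyEtale c) : WeaklyEtale (a ≫ b ≫ c) := by
  infer_instance

set_option backward.isDefEq.respectTransparency.types false in
include ht in
theorem weaklyEtale_obj (j : J) :
    WeaklyEtale (Spec.map (t₀.app j) ≫ V.left.isoSpec.inv ≫ V.hom) :=
  weaklyEtale_comp_iso _ _ _ ((etale_Spec_map_iff _).2 (ht j)) inferInstance inferInstance

/-- The objects. -/
noncomputable def obj (j : J) : X.ProEt :=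
  have := weaklyEtale_obj t₀ ht j
  Scheme.ProEt.mk (Spec.map (t₀.app j) ≫ V.left.isoSpec.inv ≫ V.hom)

theorem obj_left (j : J) : (obj t₀ ht j).left = Spec (D₀.obj j) := rfl

instance (j : J) : IsAffine (obj t₀ ht j).left := inferInstanceAs (IsAffine (Spec (D₀.obj j)))

theorem map_w {i j : J} (g : i ⟶ j) :
    Spec.map (D₀.map g) ≫ Spec.map (t₀.app i) = Spec.map (t₀.app j) := by
  rw [← Spec.map_comp]
  congr 1
  exact ((t₀.naturality g).symm.trans (Category.id_comp _))

set_option backward.isDefEq.respectTransparency.types false in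
/-- The transition maps. -/
noncomputable def map {i j : J} (g : i ⟶ j) : obj t₀ ht j ⟶ obj t₀ ht i :=
  MorphismProperty.Over.homMk (Spec.map (D₀.map g)) (by
    change Spec.map (D₀.map g) ≫ Spec.map (t₀.app i) ≫ V.left.isoSpec.inv ≫ V.hom =
      Spec.map (t₀.app j) ≫ V.left.isoSpec.inv ≫ V.hom
    rw [← Category.assoc, map_w]) trivial

theorem map_left {i j : J} (g : i ⟶ j) : (map t₀ ht g).left = Spec.map (D₀.map g) := rfl

set_option backward.isDefEq.respectTransparency.types false in
/-- The diagram. -/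
noncomputable def diag : Jᵒᵖ ⥤ X.ProEt where
  obj j := obj t₀ ht j.unop
  map g := map t₀ ht g.unop
  map_id j := by
    apply MorphismProperty.Over.Hom.ext
    change Spec.map (D₀.map (𝟙 _)) = 𝟙 _
    rw [D₀.map_id, Spec.map_id]
  map_comp {i j k} g h := by
    apply MorphismProperty.Over.Hom.ext
    change Spec.map (D₀.map (h.unop ≫ g.unop)) = Spec.map (D₀.map g.unop) ≫ Spec.map (D₀.map h.unop)
    rw [D₀.map_comp, Spec.map_comp]

set_option backward.isDefEq.respectTransparency.types false in
/-- The maps to the base. -/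
noncomputable def toV (j : J) : obj t₀ ht j ⟶ V :=
  MorphismProperty.Over.homMk (Spec.map (t₀.app j) ≫ V.left.isoSpec.inv) (by
    change (Spec.map (t₀.app j) ≫ V.left.isoSpec.inv) ≫ V.hom =
      Spec.map (t₀.app j) ≫ V.left.isoSpec.inv ≫ V.hom
    rw [Category.assoc]) trivial

theorem toV_left (j : J) : (toV t₀ ht j).left = Spec.map (t₀.app j) ≫ V.left.isoSpec.inv := rfl

theorem etale_comp_iso {A B C : Scheme.{u}} (a : A ⟶ B) (b : B ⟶ C)
    (ha : Etale a) (hb : IsIso b) : Etale (a ≫ b) := by
  infer_instance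

theorem etale_toV (j : J) : Etale (toV t₀ ht j).left :=
  etale_comp_iso (Spec.map (t₀.app j)) _ ((etale_Spec_map_iff _).2 (ht j)) inferInstance

set_option backward.isDefEq.respectTransparency.types false in
theorem map_toV {i j : J} (g : i ⟶ j) : map t₀ ht g ≫ toV t₀ ht i = toV t₀ ht j := by
  apply MorphismProperty.Over.Hom.ext
  change Spec.map (D₀.map g) ≫ Spec.map (t₀.app i) ≫ V.left.isoSpec.inv =
      Spec.map (t₀.app j) ≫ V.left.isoSpec.inv
  rw [← Category.assoc, map_w]

/-- The maps to the base as a natural transformation. -/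
noncomputable def toVNat : diag t₀ ht ⟶ (Functor.const Jᵒᵖ).obj V where
  app j := toV t₀ ht j.unop
  naturality i j g := (map_toV t₀ ht g.unop).trans (Category.comp_id _).symm

theorem isoSpec_w' {W V : X.ProEt} (f : W ⟶ V) [IsAffine W.left] [IsAffine V.left] :
    W.left.isoSpec.hom ≫ Spec.map f.left.appTop ≫ V.left.isoSpec.inv = f.left :=
  isoSpec_w f.left

include hts in
theorem fromW_w (j : J) :
    (W.left.isoSpec.hom ≫ Spec.map (s₀.app j)) ≫ Spec.map (t₀.app j) ≫ V.left.isoSpec.inv =
      f.left := by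
  rw [Category.assoc, ← Spec.map_comp_assoc, hts]
  exact isoSpec_w' f

set_option backward.isDefEq.respectTransparency.types false in
/-- The maps from `W`. -/
noncomputable def fromW (j : J) : W ⟶ obj t₀ ht j :=
  MorphismProperty.Over.homMk (W.left.isoSpec.hom ≫ Spec.map (s₀.app j)) (by
    change (W.left.isoSpec.hom ≫ Spec.map (s₀.app j)) ≫
      Spec.map (t₀.app j) ≫ V.left.isoSpec.inv ≫ V.hom = W.hom
    have h1 := fromW_w f t₀ s₀ hts j
    have h2 : f.left ≫ V.hom = W.hom := Over.w f.hom
    rw [← h2, ← h1]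
    simp only [Category.assoc]) trivial

theorem fromW_left (j : J) : (fromW f t₀ s₀ ht hts j).left =
    W.left.isoSpec.hom ≫ Spec.map (s₀.app j) := rfl

set_option backward.isDefEq.respectTransparency.types false in
theorem fromW_toV (j : J) : fromW f t₀ s₀ ht hts j ≫ toV t₀ ht j = f := by
  apply MorphismProperty.Over.Hom.ext
  exact fromW_w f t₀ s₀ hts j

set_option backward.isDefEq.respectTransparency.types false in
theorem fromW_map {i j : J} (g : i ⟶ j) :
    fromW f t₀ s₀ ht hts j ≫ map t₀ ht g = fromW f t₀ s₀ ht hts i := by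
  apply MorphismProperty.Over.Hom.ext
  change (W.left.isoSpec.hom ≫ Spec.map (s₀.app j)) ≫ Spec.map (D₀.map g) =
    W.left.isoSpec.hom ≫ Spec.map (s₀.app i)
  rw [Category.assoc, ← Spec.map_comp]
  congr 2
  exact (s₀.naturality g).trans (Category.comp_id _)

/-- The cone. -/
noncomputable def fromWNat : (Functor.const Jᵒᵖ).obj W ⟶ diag t₀ ht where
  app j := fromW f t₀ s₀ ht hts j.unop
  naturality i j g := (Category.id_comp _).trans (fromW_map f t₀ s₀ ht hts g.unop).symm

/-- Limits of affine schemes. -/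
theorem isLimit_scheme (hs : IsColimit (Cocone.mk _ s₀)) (c : Cone (D₀.op ⋙ Scheme.Spec))
    (e : c.pt ⟶ Spec Γ(W.left, ⊤)) [IsIso e]
    (he : ∀ j : Jᵒᵖ, e ≫ Spec.map (s₀.app j.unop) = c.π.app j) : Nonempty (IsLimit c) := by
  have h := isLimitOfPreserves Scheme.Spec hs.op
  refine ⟨IsLimit.ofIsoLimit h (Cone.ext (asIso e).symm ?_)⟩
  intro j
  change Spec.map (s₀.app j.unop) = inv e ≫ c.π.app j
  rw [← he, IsIso.inv_hom_id_assoc]

set_option backward.isDefEq.respectTransparency.types false in
theorem isProLim_diag [IsFiltered J] (hs : IsColimit (Cocone.mk _ s₀)) :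
    IsProLim (diag t₀ ht) (Cone.mk W (fromWNat f t₀ s₀ ht hts)) where
  lim := by
    apply nonempty_isLimit_over
    let c' : Cone (D₀.op ⋙ Scheme.Spec) :=
      (Over.forget X).mapCone ((Scheme.ProEt.forget X).mapCone
        (Cone.mk W (fromWNat f t₀ s₀ ht hts)))
    exact (isLimit_scheme s₀ hs c' W.left.isoSpec.hom (fun j => rfl)).some
  aff {i j} g := by
    have : IsAffine ((diag t₀ ht).obj i).left := inferInstanceAs (IsAffine (obj t₀ ht i.unop).left)
    have : IsAffine ((diag t₀ ht).obj j).left := inferInstanceAs (IsAffine (obj t₀ ht j.unop).left)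
    infer_instance
  qc i := by
    have : IsAffine ((diag t₀ ht).obj i).left := inferInstanceAs (IsAffine (obj t₀ ht i.unop).left)
    infer_instance
  qs i := by
    have : IsAffine ((diag t₀ ht).obj i).left := inferInstanceAs (IsAffine (obj t₀ ht i.unop).left)
    infer_instance

end

/-- An ind-etale map of affine objects is a limit of etale maps from affine objects. -/
theorem exists_presentation {X : Scheme.{u}} {W V : X.ProEt} (f : W ⟶ V) [IsAffine W.left]
    [IsAffine V.left] (hf : indEtMP f.left.appTop) :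
    ∃ (K : Type u) (_ : SmallCategory K) (_ : IsCofiltered K) (D : K ⥤ X.ProEt)
      (π : (Functor.const K).obj W ⟶ D) (t : D ⟶ (Functor.const K).obj V),
      IsProLim D (Cone.mk W π) ∧ (∀ k, IsAffine (D.obj k).left) ∧ (∀ k, Etale (t.app k).left) ∧
        ∀ k, π.app k ≫ t.app k = f := by
  obtain ⟨J, _, _, D₀, t₀, s₀, hs, h⟩ := hf
  have ht : ∀ j, etMP (t₀.app j) := fun j => (h j).1
  have hts : ∀ j, t₀.app j ≫ s₀.app j = f.left.appTop := fun j => (h j).2
  exact ⟨Jᵒᵖ, inferInstance, inferInstance, diag t₀ ht,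
    fromWNat f t₀ s₀ ht hts, toVNat t₀ ht,
    isProLim_diag f t₀ s₀ ht hts hs, fun k => inferInstanceAs (IsAffine (obj t₀ ht k.unop).left),
    fun k => etale_toV t₀ ht k.unop, fun k => fromW_toV f t₀ s₀ ht hts k.unop⟩

end Groth.Agent.Proet.IndPres
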