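import Mathlib.CategoryTheory.Filtered.Final
import Mathlib.CategoryTheory.Limits.Shapes.Pullback.IsPullback.Basic
import Mathlib.CategoryTheory.Limits.Preserves.Shapes.Pullbacks
import Mathlib.CategoryTheory.Comma.Arrow

/-!
# Pullbacks of an arrow along a cofiltered system

`D : K ⥤ 𝒜`, `e : E₀ ⟶ D.obj j`: the arrows `D k ×_{D j} E₀ ⟶ D k` for `k → j`.
-/

set_option autoImplicit false
set_option linter.unusedSectionVars false
universe v₁ v₂ v₃ u₁ u₂ u₃

open CategoryTheory CategoryTheory.Limits Opposite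

namespace Groth.Agent.Proet.PullLim

variable {𝒜 : Type u₁} [Category.{v₁} 𝒜] [HasPullbacks 𝒜]
  {ℬ : Type u₂} [Category.{v₂} ℬ] (Φ : 𝒜 ⥤ ℬ) [PreservesLimitsOfShape WalkingCospan Φ]
  {K : Type u₃} [Category.{v₃} K]

section

variable (D : K ⥤ 𝒜) {j : K} {E₀ : 𝒜} (e : E₀ ⟶ D.obj j)

/-- The objects `D k ×_{D j} E₀`. -/
noncomputable def L (a : Over j) : 𝒜 := pullback (D.map a.hom) e

/-- first projection -/
noncomputable def fst (a : Over j) : L D e a ⟶ D.obj a.left := pullback.fst _ _

/-- second projection -/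
noncomputable def snd (a : Over j) : L D e a ⟶ E₀ := pullback.snd _ _

theorem isPullback (a : Over j) : IsPullback (fst D e a) (snd D e a) (D.map a.hom) e :=
  IsPullback.of_hasPullback _ _

theorem map_aux {a b : Over j} (f : a ⟶ b) :
    (fst D e a ≫ D.map f.left) ≫ D.map b.hom = snd D e a ≫ e := by
  rw [Category.assoc, ← D.map_comp, Over.w, (isPullback D e a).w]

/-- transition maps -/
noncomputable def Lmap {a b : Over j} (f : a ⟶ b) : L D e a ⟶ L D e b :=
  (isPullback D e b).lift (fst D e a ≫ D.map f.left) (snd D e a) (map_aux D e f)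

theorem Lmap_fst {a b : Over j} (f : a ⟶ b) :
    Lmap D e f ≫ fst D e b = fst D e a ≫ D.map f.left := (isPullback D e b).lift_fst _ _ _

theorem Lmap_snd {a b : Over j} (f : a ⟶ b) :
    Lmap D e f ≫ snd D e b = snd D e a := (isPullback D e b).lift_snd _ _ _

/-- The left functor. -/
noncomputable def LF : Over j ⥤ 𝒜 where
  obj a := L D e a
  map f := Lmap D e f
  map_id a := by
    apply (isPullback D e a).hom_ext
    · rw [Lmap_fst]
      simp
    · rw [Lmap_snd]
      simp
  map_comp {a b c} f g := by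
    apply (isPullback D e c).hom_ext
    · rw [Lmap_fst, Category.assoc, Lmap_fst, ← Category.assoc, Lmap_fst]
      simp
    · rw [Lmap_snd, Category.assoc, Lmap_snd, Lmap_snd]

/-- The system of arrows. -/
noncomputable def AF : Over j ⥤ Arrow 𝒜 where
  obj a := Arrow.mk (fst D e a)
  map {a b} f := Arrow.homMk (Lmap D e f) (D.map f.left) (Lmap_fst D e f)
  map_id a := by
    ext
    · exact (LF D e).map_id a
    · exact D.map_id _
  map_comp {a b c} f g := by
    ext
    · exact (LF D e).map_comp f g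
    · exact D.map_comp _ _

theorem isPullback_Lmap {a b : Over j} (f : a ⟶ b) :
    IsPullback (Lmap D e f) (fst D e a) (fst D e b) (D.map f.left) := by
  have h1 := isPullback D e b
  have h2 : IsPullback (fst D e a) (Lmap D e f ≫ snd D e b) (D.map f.left ≫ D.map b.hom) e := by
    rw [Lmap_snd, ← D.map_comp, Over.w]
    exact isPullback D e a
  exact (IsPullback.of_bot h2 (Lmap_fst D e f).symm h1).flip

variable {c : Cone D} {E : 𝒜} (p : E ⟶ c.pt) (q : E ⟶ E₀)
  (h : IsPullback p q (c.π.app j) e)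

include h in
theorem π_aux (a : Over j) : (p ≫ c.π.app a.left) ≫ D.map a.hom = q ≫ e := by
  rw [Category.assoc, c.w, h.w]

/-- The projection from the pullback over the limit. -/
noncomputable def πL (a : Over j) : E ⟶ L D e a :=
  (isPullback D e a).lift (p ≫ c.π.app a.left) q (π_aux D e p q h a)

theorem πL_fst (a : Over j) : πL D e p q h a ≫ fst D e a = p ≫ c.π.app a.left :=
  (isPullback D e a).lift_fst _ _ _

theorem πL_snd (a : Over j) : πL D e p q h a ≫ snd D e a = q :=
  (isPullback D e a).lift_snd _ _ _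

theorem πL_w {a b : Over j} (f : a ⟶ b) : πL D e p q h a ≫ Lmap D e f = πL D e p q h b := by
  apply (isPullback D e b).hom_ext
  · rw [Category.assoc, Lmap_fst, πL_fst, ← Category.assoc, πL_fst, Category.assoc, c.w]
  · rw [Category.assoc, Lmap_snd, πL_snd, πL_snd]

/-- The cone over the system of arrows. -/
noncomputable def cone : Cone (AF D e) where
  pt := Arrow.mk p
  π :=
    { app := fun a => Arrow.homMk (πL D e p q h a) (c.π.app a.left) (πL_fst D e p q h a)
      naturality := fun a b f => by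
        ext
        · exact (Category.id_comp _).trans (πL_w D e p q h f).symm
        · exact (Category.id_comp _).trans (c.w f.left).symm }

theorem isLimit_right [IsCofiltered K] (hc : IsLimit (Φ.mapCone c)) :
    Nonempty (IsLimit ((Arrow.rightFunc ⋙ Φ).mapCone (cone D e p q h))) := by
  have h1 : IsLimit ((Φ.mapCone c).whisker (Over.forget j)) :=
    (Functor.Initial.isLimitWhiskerEquiv (Over.forget j) (Φ.mapCone c)).symm hc
  exact ⟨IsLimit.ofExistsUnique fun s => ⟨h1.lift s, fun a => h1.fac s a,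
    fun m hm => h1.hom_ext fun a => (hm a).trans (h1.fac s a).symm⟩⟩

theorem isLimit_left [IsCofiltered K] (hc : IsLimit (Φ.mapCone c)) :
    Nonempty (IsLimit ((Arrow.leftFunc ⋙ Φ).mapCone (cone D e p q h))) := by
  have h1 : IsLimit ((Φ.mapCone c).whisker (Over.forget j)) :=
    (Functor.Initial.isLimitWhiskerEquiv (Over.forget j) (Φ.mapCone c)).symm hc
  refine ⟨IsLimit.ofExistsUnique fun s => ?_⟩
  let s' : ∀ a : Over j, s.pt ⟶ Φ.obj (L D e a) := fun a => s.π.app a
  have hs' {a b : Over j} (f : a ⟶ b) : s' a ≫ Φ.map (Lmap D e f) = s' b := s.w f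
  let s1 : Cone (Over.forget j ⋙ D ⋙ Φ) :=
    { pt := s.pt
      π :=
        { app := fun a => s' a ≫ Φ.map (fst D e a)
          naturality := fun a b f => by
            change 𝟙 _ ≫ s' b ≫ Φ.map (fst D e b) =
              (s' a ≫ Φ.map (fst D e a)) ≫ Φ.map (D.map f.left)
            rw [Category.id_comp, Category.assoc, ← Φ.map_comp, ← Lmap_fst, Φ.map_comp,
              ← Category.assoc, hs' f] } }
  let t1 : s.pt ⟶ Φ.obj c.pt := h1.lift s1
  have ht1 (a : Over j) : t1 ≫ Φ.map (c.π.app a.left) = s' a ≫ Φ.map (fst D e a) := h1.fac s1 a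
  let one : Over j := Over.mk (𝟙 j)
  let q1 : s.pt ⟶ Φ.obj E₀ := s' one ≫ Φ.map (snd D e one)
  have hq1 (a : Over j) : s' a ≫ Φ.map (snd D e a) = q1 := by
    let f : a ⟶ one := Over.homMk a.hom (by simp [one])
    change _ = s' one ≫ Φ.map (snd D e one)
    rw [← hs' f, Category.assoc, ← Φ.map_comp, Lmap_snd]
  have hcond : t1 ≫ Φ.map (c.π.app j) = q1 ≫ Φ.map e := by
    have e1 := ht1 one
    have e2 := (isPullback D e one).w
    have e3 : D.map one.hom = 𝟙 _ := D.map_id j
    rw [e3, Category.comp_id] at e2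
    refine e1.trans ?_
    refine (congrArg (fun x => s' one ≫ Φ.map x) e2).trans ?_
    rw [Φ.map_comp, ← Category.assoc]
  have hΦ := h.map Φ
  refine ⟨hΦ.lift t1 q1 hcond, ?_, ?_⟩
  · intro a
    apply ((isPullback D e a).map Φ).hom_ext
    · change (hΦ.lift t1 q1 hcond ≫ Φ.map (πL D e p q h a)) ≫ Φ.map (fst D e a) =
        s' a ≫ Φ.map (fst D e a)
      rw [Category.assoc, ← Φ.map_comp, πL_fst, Φ.map_comp, ← Category.assoc, hΦ.lift_fst, ht1]
    · change (hΦ.lift t1 q1 hcond ≫ Φ.map (πL D e p q h a)) ≫ Φ.map (snd D e a) =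
        s' a ≫ Φ.map (snd D e a)
      rw [Category.assoc, ← Φ.map_comp, πL_snd, hΦ.lift_snd, hq1]
  · intro m' hm'
    let m : s.pt ⟶ Φ.obj E := m'
    have hm : ∀ a : Over j, m ≫ Φ.map (πL D e p q h a) = s' a := hm'
    change m = _
    apply hΦ.hom_ext
    · rw [hΦ.lift_fst]
      apply h1.hom_ext
      intro a
      refine Eq.trans ?_ (ht1 a).symm
      change (m ≫ Φ.map p) ≫ Φ.map (c.π.app a.left) = _
      rw [Category.assoc, ← Φ.map_comp, ← πL_fst D e p q h a, Φ.map_comp, ← Category.assoc, hm]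
    · rw [hΦ.lift_snd, ← hq1 one, ← hm one, Category.assoc, ← Φ.map_comp, πL_snd]

end

end Groth.Agent.Proet.PullLim
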