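import Groth.Agent.Proet.CechEt
import Groth.Agent.Proet.PullLim
import Groth.Agent.Proet.IndPres

/-!
# Cech exactness along base changes of etale covers
-/

set_option autoImplicit false
universe u

open CategoryTheory CategoryTheory.Limits AlgebraicGeometry Opposite

namespace Groth.Agent.Proet.EtStep

open EpsPre EpsLim CechLim CechEt CechEl PullLim IndPres

variable {X : Scheme.{u}}

/-- `P` has exact Cech complexes along surjective arrows of the etale site. -/
def EtExact (P : X.Etaleᵒᵖ ⥤ AddCommGrpCat.{u + 1}) : Prop :=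
  ∀ f : Arrow X.Etale, Function.Surjective f.hom.left → CechExact f.cechNerve P

/-- `P` satisfies the sheaf condition along surjective arrows of the etale site. -/
def EtZero (P : X.Etaleᵒᵖ ⥤ AddCommGrpCat.{u + 1}) : Prop :=
  ∀ f : Arrow X.Etale, Function.Surjective f.hom.left → CZero f P

set_option backward.isDefEq.respectTransparency.types false in
/-- An arrow between etale objects of the pro-etale site comes from the etale site. -/
theorem exists_etale_arrow (f : Arrow X.ProEt) (hl : Etale f.left.hom) (hr : Etale f.right.hom) :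
    ∃ f' : Arrow X.Etale, (ProEtS.eps X).mapArrow.obj f' = f ∧
      (Function.Surjective f.hom.left → Function.Surjective f'.hom.left) := by
  let f₁ : Scheme.Etale.mk f.left.hom ⟶ Scheme.Etale.mk f.right.hom :=
    MorphismProperty.Over.homMk f.hom.left (Over.w f.hom.hom) trivial
  exact ⟨Arrow.mk f₁, rfl, id⟩

theorem cExact_of_etale {P : X.Etaleᵒᵖ ⥤ AddCommGrpCat.{u + 1}} (hP : EtExact P)
    (f : Arrow X.ProEt) (hl : Etale f.left.hom) (hr : Etale f.right.hom)
    (hs : Function.Surjective f.hom.left) : CExact f (Gp P) := by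
  obtain ⟨f', rfl, h⟩ := exists_etale_arrow f hl hr
  exact cExact_eps P f' (hP f' (h hs))

theorem cZero_of_etale {P : X.Etaleᵒᵖ ⥤ AddCommGrpCat.{u + 1}} (hP : EtZero P)
    (f : Arrow X.ProEt) (hl : Etale f.left.hom) (hr : Etale f.right.hom)
    (hs : Function.Surjective f.hom.left) : CZero f (Gp P) := by
  obtain ⟨f', rfl, h⟩ := exists_etale_arrow f hl hr
  exact cZero_eps P f' (hP f' (h hs))

/-- cartesian squares of underlying schemes -/
theorem isPullback_left {A B C D : X.ProEt} {f : A ⟶ B} {g : A ⟶ C} {h : B ⟶ D} {i : C ⟶ D}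
    (H : IsPullback f g h i) :
    IsPullback ((sch X).map f) ((sch X).map g) ((sch X).map h) ((sch X).map i) :=
  H.map (sch X)

theorem surjective_of_isPullback {A B C D : Scheme.{u}} {f : A ⟶ B} {g : A ⟶ C} {h : B ⟶ D}
    {i : C ⟶ D} (H : IsPullback f g h i) (hi : Function.Surjective i) : Function.Surjective f := by
  have : Surjective i := ⟨hi⟩
  have : Surjective f := MorphismProperty.of_isPullback (P := @Surjective) H.flip ‹_›
  exact this.surj

theorem etale_of_isPullback {A B C D : Scheme.{u}} {f : A ⟶ B} {g : A ⟶ C} {h : B ⟶ D}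
    {i : C ⟶ D} (H : IsPullback f g h i) (hi : Etale i) : Etale f :=
  MorphismProperty.of_isPullback (P := @Etale) H.flip hi

theorem qc_of_isPullback {A B C D : Scheme.{u}} {f : A ⟶ B} {g : A ⟶ C} {h : B ⟶ D}
    {i : C ⟶ D} (H : IsPullback f g h i) (hC : CompactSpace C) (hD : QuasiSeparatedSpace D)
    (hB : CompactSpace B) : CompactSpace A := by
  have : QuasiCompact i := inferInstance
  exact compactSpace_of f (MorphismProperty.of_isPullback (P := @QuasiCompact) H.flip ‹_›) hB

theorem qs_of_isPullback {A B C D : Scheme.{u}} {f : A ⟶ B} {g : A ⟶ C} {h : B ⟶ D}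
    {i : C ⟶ D} (H : IsPullback f g h i) (hC : QuasiSeparatedSpace C)
    (hB : QuasiSeparatedSpace B) : QuasiSeparatedSpace A := by
  have : QuasiSeparated i := inferInstance
  exact quasiSeparatedSpace_of f (MorphismProperty.of_isPullback (P := @QuasiSeparated) H.flip ‹_›)
    hB

theorem aff_of_isPullback {A B C D : Scheme.{u}} {f : A ⟶ B} {g : A ⟶ C} {h : B ⟶ D}
    {i : C ⟶ D} (H : IsPullback f g h i) (hi : IsAffineHom i) : IsAffineHom f :=
  MorphismProperty.of_isPullback (P := @IsAffineHom) H.flip hi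

theorem etale_comp_scheme {A B C : Scheme.{u}} (f : A ⟶ B) (g : B ⟶ C) (h : A ⟶ C)
    (w : f ≫ g = h) (hf : Etale f) (hg : Etale g) : Etale h := by
  subst w
  infer_instance

set_option backward.isDefEq.respectTransparency.types false in
theorem etale_hom_of {A B : X.ProEt} (f : A ⟶ B) (hf : Etale ((sch X).map f)) (hB : Etale B.hom) :
    Etale A.hom :=
  etale_comp_scheme f.left B.hom A.hom (Over.w f.hom) hf hB

section

variable {K : Type u} [SmallCategory K] [IsCofiltered K] {D : K ⥤ X.ProEt} {c : Cone D}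
  (h : IsProLim D c) {j : K} {E₀ : X.ProEt} (e : E₀ ⟶ D.obj j) {E : X.ProEt} (p : E ⟶ c.pt)
  (q : E ⟶ E₀) (hpb : IsPullback p q (c.π.app j) e)

include h in
theorem isProLim_right : IsProLim (AF D e ⋙ Arrow.rightFunc)
    (Arrow.rightFunc.mapCone (cone D e p q hpb)) where
  lim := isLimit_right (Scheme.ProEt.forget X) D e p q hpb h.lim.some
  aff f := h.aff f.left
  qc a := h.qc a.left
  qs a := h.qs a.left

include h in
theorem isProLim_left (hqc : CompactSpace E₀.left) (hqs : QuasiSeparatedSpace E₀.left) :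
    IsProLim (AF D e ⋙ Arrow.leftFunc) (Arrow.leftFunc.mapCone (cone D e p q hpb)) where
  lim := isLimit_left (Scheme.ProEt.forget X) D e p q hpb h.lim.some
  aff f := aff_of_isPullback (isPullback_left (isPullback_Lmap D e f)) (h.aff f.left)
  qc a := qc_of_isPullback (isPullback_left (isPullback D e a)) hqc (h.qs j) (h.qc a.left)
  qs a := qs_of_isPullback (isPullback_left (isPullback D e a)) hqs (h.qs a.left)

variable {P : X.Etaleᵒᵖ ⥤ AddCommGrpCat.{u + 1}}

include h hpb in
theorem cExact_pullback (hD : ∀ k, Etale (D.obj k).hom) (he : Etale ((sch X).map e))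
    (hs : Function.Surjective ((sch X).map e))
    (hqc : CompactSpace E₀.left) (hqs : QuasiSeparatedSpace E₀.left) (hP : EtExact P) :
    CExact (Arrow.mk p) (Gp P) := by
  refine cExact_lim P (isProLim_left h e p q hpb hqc hqs) (isProLim_right h e p q hpb) ?_
  intro a
  have H := isPullback_left (isPullback D e a)
  exact cExact_of_etale hP _ (etale_hom_of (fst D e a) (etale_of_isPullback H he) (hD _)) (hD _)
    (surjective_of_isPullback H hs)

include h hpb in
theorem cZero_pullback (hD : ∀ k, Etale (D.obj k).hom) (he : Etale ((sch X).map e))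
    (hs : Function.Surjective ((sch X).map e))
    (hqc : CompactSpace E₀.left) (hqs : QuasiSeparatedSpace E₀.left) (hP : EtZero P) :
    CZero (Arrow.mk p) (Gp P) := by
  refine cZero_lim P (isProLim_left h e p q hpb hqc hqs) (isProLim_right h e p q hpb) ?_
  intro a
  have H := isPullback_left (isPullback D e a)
  exact cZero_of_etale hP _ (etale_hom_of (fst D e a) (etale_of_isPullback H he) (hD _)) (hD _)
    (surjective_of_isPullback H hs)

end

theorem exists_point_of_isPullback {A B C D : Scheme.{u}} {f : A ⟶ B} {g : A ⟶ C} {h : B ⟶ D}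
    {i : C ⟶ D} (H : IsPullback f g h i) (x : B) (y : C) (hxy : h x = i y) :
    ∃ z : A, f z = x ∧ g z = y := by
  obtain ⟨w, hw1, hw2⟩ := Scheme.Pullback.exists_preimage_pullback x y hxy
  refine ⟨H.isoPullback.inv w, ?_, ?_⟩
  · rw [← hw1, ← Scheme.Hom.comp_apply, H.isoPullback_inv_fst]
  · rw [← hw2, ← Scheme.Hom.comp_apply, H.isoPullback_inv_snd]

theorem isOpen_range_of_etale {A B : Scheme.{u}} (f : A ⟶ B) (hf : Etale f) :
    IsOpen (Set.range f) := f.isOpenMap.isOpen_range

set_option backward.isDefEq.respectTransparency.types false in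
/-- Descending surjectivity to a finite level. -/
theorem exists_surjective_fst {K : Type u} [SmallCategory K] [IsCofiltered K] {D : K ⥤ X.ProEt}
    {c : Cone D} (h : IsProLim D c) (hD : ∀ k, Etale (D.obj k).hom) {j : K} {E₀ : X.ProEt}
    (e : E₀ ⟶ D.obj j) (he : Etale ((sch X).map e))
    {E : X.ProEt} (p : E ⟶ c.pt) (q : E ⟶ E₀) (hpb : IsPullback p q (c.π.app j) e)
    (hp : Function.Surjective ((sch X).map p)) :
    ∃ a : Over j, Function.Surjective ((sch X).map (fst D e a)) := by
  have := hD j
  let U : X.Etale := Scheme.Etale.mk (D.obj j).hom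
  let O : U.left.Opens := ⟨Set.range ((sch X).map e), isOpen_range_of_etale _ he⟩
  let g : c.pt ⟶ (ProEtS.eps X).obj U := c.π.app j
  have hg : Set.range g.left ⊆ (O : Set U.left) := by
    rintro _ ⟨v, rfl⟩
    obtain ⟨w, rfl⟩ := hp v
    exact ⟨(sch X).map q w, (comp_apply_scheme ((sch X).map p) ((sch X).map (c.π.app j))
      ((sch X).map q) ((sch X).map e) (isPullback_left hpb).w w).symm⟩
  obtain ⟨g', hg'⟩ := exists_lift_opn' O g hg
  obtain ⟨k₁, g₁, hg₁⟩ := h.exists_hom g'
  obtain ⟨k₂, a, b, -⟩ := IsCofilteredOrEmpty.cone_objs k₁ j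
  obtain ⟨k₃, f, hf⟩ := h.exists_hom_eq (U := U) (k := k₂)
    (D.map a ≫ g₁ ≫ (ProEtS.eps X).map (opnι U O)) (D.map b) (by
      have e1 : c.π.app k₂ ≫ D.map a = c.π.app k₁ := c.w a
      have e2 : c.π.app k₂ ≫ D.map b = c.π.app j := c.w b
      refine Eq.trans ?_ e2.symm
      rw [reassoc_of% e1, reassoc_of% hg₁]
      exact hg')
  refine ⟨Over.mk (f ≫ b), fun x => ?_⟩
  have H := isPullback_left (isPullback D e (Over.mk (f ≫ b)))
  have hx : ∃ y : E₀.left, (sch X).map (D.map (f ≫ b)) x = (sch X).map e y := by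
    have e3 : (D.map f ≫ D.map a ≫ g₁) ≫ (ProEtS.eps X).map (opnι U O) = D.map (f ≫ b) := by
      refine Eq.trans ?_ (hf.trans (D.map_comp f b).symm)
      simp only [Category.assoc]
    have e4 := comp_apply_scheme' ((sch X).map (D.map f ≫ D.map a ≫ g₁))
      ((sch X).map ((ProEtS.eps X).map (opnι U O))) ((sch X).map (D.map (f ≫ b)))
      (congrArg (sch X).map e3) x
    have e5 : (sch X).map ((ProEtS.eps X).map (opnι U O))
      ((sch X).map (D.map f ≫ D.map a ≫ g₁) x) ∈ (O : Set U.left) :=
      Subtype.property (p := fun z => z ∈ O) ((sch X).map (D.map f ≫ D.map a ≫ g₁) x)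
    rw [e4] at e5
    obtain ⟨y, hy⟩ := e5
    exact ⟨y, hy.symm⟩
  obtain ⟨y, hy⟩ := hx
  obtain ⟨z, hz, -⟩ := exists_point_of_isPullback H x y hy
  exact ⟨z, hz⟩

end Groth.Agent.Proet.EtStep
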