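import Groth.Prelude.Def_PBC
import Groth.Agent.Proet.Fac
import Mathlib.Algebra.Category.Ring.FinitePresentation
import Mathlib.Algebra.Category.Ring.Under.Basic
import Mathlib.RingTheory.Ideal.IdempotentFG
import Mathlib.RingTheory.Smooth.Flat

/-!
# The coreflection of an algebra into ind-`P` algebras

Let `P` be a property of `A`-algebras (étale, local isomorphism) satisfying `Good P`.
For an `A`-algebra `B` we form the small filtered category `Nb P B` of `P`-algebras over `B`
(objects: quotients of `A[X_1..X_n]` satisfying `P` with a map to `B`) and its colimit `C`: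

* `exists_coreflection`: `C → B` with `C` ind-`P`, universal for maps from `P`-algebras.
* `isInd_of_fac`: if every map from a f.p. algebra to `B` factors through a `P`-algebra then `B` is ind-`P`.
* `fac_of_isInd`: the converse.
* `good_etale`: étale algebras are `Good`.
-/

set_option autoImplicit false
universe u
open TensorProduct CategoryTheory CategoryTheory.Limits

namespace Groth.Agent.Proet.EtaleCoref

open Groth.Agent.Proet.FacM

variable {A : Type u} [CommRing A]

/-- Closure properties of a class of `A`-algebras. -/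
structure Good (P : ∀ (W : Type u) [CommRing W] [Algebra A W], Prop) : Prop where
  equiv : ∀ (W W' : Type u) [CommRing W] [Algebra A W] [CommRing W'] [Algebra A W'], (W ≃ₐ[A] W') → P W → P W'
  self : P A
  tensor : ∀ (W W' : Type u) [CommRing W] [Algebra A W] [CommRing W'] [Algebra A W'], P W → P W' → P (W ⊗[A] W')
  coeq : ∀ (W W' : Type u) [CommRing W] [Algebra A W] [CommRing W'] [Algebra A W'] (f g : W →ₐ[A] W'),
    P W → P W' → P (W' ⧸ Ideal.span (Set.range fun w => f w - g w))
  fp : ∀ (W : Type u) [CommRing W] [Algebra A W], P W → Algebra.FinitePresentation A W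

/-- `B` is a filtered colimit of `P`-algebras. -/
def IsInd (P : ∀ (W : Type u) [CommRing W] [Algebra A W], Prop) (B : Type u) [CommRing B] [Algebra A B] : Prop :=
  ∃ (J : Type u) (_ : SmallCategory J) (_ : IsFiltered J) (D : J ⥤ Under (CommRingCat.of A))
    (c : Cocone D) (_ : IsColimit c),
    (∀ j, letI := (D.obj j).hom.hom.toAlgebra; P (D.obj j).right) ∧
    Nonempty (c.pt ≅ Under.mk (CommRingCat.ofHom (algebraMap A B)))

/-- Objects of the small category of `P`-algebras over `B`. -/
structure Nb (P : ∀ (W : Type u) [CommRing W] [Algebra A W], Prop) (B : Type u) [CommRing B] [Algebra A B] :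
    Type u where
  n : ℕ
  I : Ideal (MvPolynomial (Fin n) A)
  prop : P (MvPolynomial (Fin n) A ⧸ I)
  π : (MvPolynomial (Fin n) A ⧸ I) →ₐ[A] B

variable {P : ∀ (W : Type u) [CommRing W] [Algebra A W], Prop} {B : Type u} [CommRing B] [Algebra A B]

/-- The underlying algebra. -/
abbrev Nb.ring (X : Nb P B) : Type u := MvPolynomial (Fin X.n) A ⧸ X.I

noncomputable instance instCat : SmallCategory (Nb P B) where
  Hom X Y := {f : X.ring →ₐ[A] Y.ring // Y.π.comp f = X.π}
  id X := ⟨AlgHom.id A _, AlgHom.comp_id _⟩
  comp f g := ⟨g.1.comp f.1, by rw [← AlgHom.comp_assoc, g.2, f.2]⟩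

theorem exists_model (hP : Good P) (W : Type u) [CommRing W] [Algebra A W] (hW : P W) (g : W →ₐ[A] B) :
    ∃ (X : Nb P B) (e : W ≃ₐ[A] X.ring), X.π.comp e.toAlgHom = g := by
  have := hP.fp W hW
  obtain ⟨n, f, hf, -⟩ := Algebra.FinitePresentation.out (R := A) (A := W)
  let e : W ≃ₐ[A] (MvPolynomial (Fin n) A ⧸ RingHom.ker f) :=
    (Ideal.quotientKerAlgEquivOfSurjective hf).symm
  refine ⟨⟨n, RingHom.ker f, hP.equiv _ _ e hW, g.comp e.symm.toAlgHom⟩, e, ?_⟩
  ext w
  simp

theorem isFiltered_nb (hP : Good P) : IsFiltered (Nb P B) where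
  nonempty := by
    obtain ⟨X, -, -⟩ := exists_model (B := B) hP A hP.self (Algebra.ofId A B)
    exact ⟨X⟩
  cocone_objs X Y := by
    obtain ⟨Z, e, he⟩ := exists_model hP (X.ring ⊗[A] Y.ring) (hP.tensor _ _ X.prop Y.prop)
      (Algebra.TensorProduct.lift X.π Y.π (fun _ _ => Commute.all _ _))
    refine ⟨Z, ⟨e.toAlgHom.comp Algebra.TensorProduct.includeLeft, ?_⟩,
      ⟨e.toAlgHom.comp Algebra.TensorProduct.includeRight, ?_⟩, trivial⟩
    · rw [← AlgHom.comp_assoc, he, Algebra.TensorProduct.lift_comp_includeLeft]
    · rw [← AlgHom.comp_assoc, he]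
      exact Algebra.TensorProduct.lift_comp_includeRight' ..
  cocone_maps X Y f g := by
    have hk : ∀ a ∈ Ideal.span (Set.range fun w => f.1 w - g.1 w), Y.π a = 0 := by
      intro a ha
      have : Ideal.span (Set.range fun w => f.1 w - g.1 w) ≤ RingHom.ker Y.π := by
        rw [Ideal.span_le]
        rintro _ ⟨w, rfl⟩
        rw [SetLike.mem_coe, RingHom.mem_ker, map_sub, ← AlgHom.comp_apply, ← AlgHom.comp_apply, f.2, g.2,
          sub_self]
      exact this ha
    obtain ⟨Z, e, he⟩ := exists_model hP (Y.ring ⧸ Ideal.span (Set.range fun w => f.1 w - g.1 w))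
      (hP.coeq _ _ f.1 g.1 X.prop Y.prop) (Ideal.Quotient.liftₐ _ Y.π hk)
    refine ⟨Z, ⟨e.toAlgHom.comp (Ideal.Quotient.mkₐ A _), ?_⟩, ?_⟩
    · rw [← AlgHom.comp_assoc, he]
      exact Ideal.Quotient.liftₐ_comp ..
    · apply Subtype.ext
      apply AlgHom.ext
      intro w
      change e (Ideal.Quotient.mk _ (f.1 w)) = e (Ideal.Quotient.mk _ (g.1 w))
      congr 1
      rw [Ideal.Quotient.eq]
      exact Ideal.subset_span ⟨w, rfl⟩

/-- The diagram of `P`-algebras over `B`. -/
noncomputable def diag (P : ∀ (W : Type u) [CommRing W] [Algebra A W], Prop) (B : Type u) [CommRing B] [Algebra A B] :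
    Nb P B ⥤ Under (CommRingCat.of A) where
  obj X := CommRingCat.mkUnder (CommRingCat.of A) X.ring
  map f := AlgHom.toUnder (R := CommRingCat.of A) f.1
  map_id X := rfl
  map_comp f g := rfl

theorem exists_factor {J : Type u} [SmallCategory J] [IsFiltered J] (D : J ⥤ Under (CommRingCat.of A))
    (c : Cocone D) (hc : IsColimit c) (S : Under (CommRingCat.of A)) (hS : S.hom.hom.FinitePresentation)
    (f : S ⟶ c.pt) : ∃ (j : J) (a : S ⟶ D.obj j), a ≫ c.ι.app j = f := by
  have := CommRingCat.preservesColimit_coyoneda_of_finitePresentation (CommRingCat.of A) S hS D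
  have h := isColimitOfPreserves (coyoneda.obj (Opposite.op S)) hc
  obtain ⟨j, a, ha⟩ := Types.jointly_surjective_of_isColimit h f
  exact ⟨j, a, ha⟩

/-- Algebra maps from compatible ring maps. -/
def mkAH {Z T : Type u} [CommRing Z] [CommRing T] [Algebra A Z] [Algebra A T] (f : Z →+* T)
    (h : f.comp (algebraMap A Z) = algebraMap A T) : Z →ₐ[A] T :=
  { toRingHom := f
    commutes' := fun r => congrArg (fun g => g r) h }

/-- Maps from finitely presented algebras to an ind-`P` algebra factor through a `P`-algebra. -/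
theorem fac_of_isInd (h : IsInd P B) : Fac A P B := by
  intro Z _ _ _ g
  obtain ⟨J, _, _, D, c, hc, hD, ⟨i⟩⟩ := h
  let S : Under (CommRingCat.of A) := Under.mk (CommRingCat.ofHom (algebraMap A Z))
  have hS : S.hom.hom.FinitePresentation :=
    (RingHom.finitePresentation_algebraMap (A := A) (B := Z)).mpr inferInstance
  obtain ⟨j, a, ha⟩ := exists_factor D c hc S hS (AlgHom.toUnder (R := CommRingCat.of A) g ≫ i.inv)
  let inst : Algebra A (D.obj j).right := (D.obj j).hom.hom.toAlgebra
  let a' : Z →ₐ[A] (D.obj j).right := mkAH a.right.hom (by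
    have := Under.w a
    exact congrArg (fun f => f.hom) this)
  let b' : (D.obj j).right →ₐ[A] B := mkAH (c.ι.app j ≫ i.hom).right.hom (by
    have := Under.w (c.ι.app j ≫ i.hom)
    exact congrArg (fun f => f.hom) this)
  refine ⟨(D.obj j).right, _, inst, a', b', hD j, ?_⟩
  have h2 : a ≫ c.ι.app j ≫ i.hom = AlgHom.toUnder (R := CommRingCat.of A) g := by
    rw [← Category.assoc, ha, Category.assoc, i.inv_hom_id]
    exact Category.comp_id _
  ext z
  exact congrArg (fun f => f.right.hom z) h2

/-- The coreflection of `B` into ind-`P` algebras. -/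
theorem exists_coreflection (hP : Good P) (B : Type u) [CommRing B] [Algebra A B] :
    ∃ (C : Type u) (_ : CommRing C) (_ : Algebra A C) (π : C →ₐ[A] B),
      IsInd P C ∧ ∀ (W : Type u) [CommRing W] [Algebra A W], P W → ∀ g : W →ₐ[A] B,
        ∃! h : W →ₐ[A] C, π.comp h = g := by
  have := isFiltered_nb (B := B) hP
  let D := diag P B
  let c := colimit.cocone D
  let hc : IsColimit c := colimit.isColimit D
  let C : Type u := c.pt.right
  let iC : Algebra A C := c.pt.hom.hom.toAlgebra
  -- the cocone with point `B`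
  let cB : Cocone D :=
    { pt := Under.mk (CommRingCat.ofHom (algebraMap A B))
      ι :=
        { app := fun X => AlgHom.toUnder (R := CommRingCat.of A) X.π
          naturality := fun X Y f => by
            have := f.2
            apply Under.UnderMorphism.ext
            apply CommRingCat.hom_ext
            apply RingHom.ext
            intro x
            exact congrArg (fun (g : X.ring →ₐ[A] B) => g x) this } }
  let πU : c.pt ⟶ cB.pt := hc.desc cB
  let π : C →ₐ[A] B := mkAH πU.right.hom (by
    have := Under.w πU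
    exact congrArg (fun f => f.hom) this)
  let ι : ∀ X : Nb P B, X.ring →ₐ[A] C := fun X => mkAH (c.ι.app X).right.hom (by
    have := Under.w (c.ι.app X)
    exact congrArg (fun f => f.hom) this)
  have hπι : ∀ X : Nb P B, π.comp (ι X) = X.π := by
    intro X
    have h := hc.fac cB X
    apply AlgHom.ext
    intro x
    exact congrArg (fun f => f.right.hom x) h
  have hι : ∀ {X Y : Nb P B} (f : X ⟶ Y), (ι Y).comp f.1 = ι X := by
    intro X Y f
    have h := c.w f
    apply AlgHom.ext
    intro x
    exact congrArg (fun f => f.right.hom x) h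
  -- factorization
  have hfac : ∀ (X : Nb P B) (h : X.ring →ₐ[A] C), π.comp h = X.π → h = ι X := by
    intro X h hh
    have := hP.fp _ X.prop
    let S : Under (CommRingCat.of A) := Under.mk (CommRingCat.ofHom (algebraMap A X.ring))
    have hS : S.hom.hom.FinitePresentation :=
      (RingHom.finitePresentation_algebraMap (A := A) (B := X.ring)).mpr inferInstance
    let hU : S ⟶ c.pt := Under.homMk (CommRingCat.ofHom h.toRingHom) (by
      apply CommRingCat.hom_ext
      apply RingHom.ext
      intro r
      exact h.commutes r)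
    obtain ⟨Y, a, ha⟩ := exists_factor D c hc S hS hU
    let a' : X.ring →ₐ[A] Y.ring := mkAH a.right.hom (by
      have := Under.w a
      exact congrArg (fun f => f.hom) this)
    have h1 : (ι Y).comp a' = h := by
      apply AlgHom.ext
      intro x
      exact congrArg (fun f => f.right.hom x) ha
    let f : X ⟶ Y := ⟨a', by rw [← hπι Y, AlgHom.comp_assoc, h1, hh]⟩
    rw [← hι f, ← h1]
  refine ⟨C, inferInstance, iC, π, ⟨Nb P B, inferInstance, inferInstance, D, c, hc, fun X => ?_, ⟨?_⟩⟩, ?_⟩
  · change @P X.ring _ (algebraMap A X.ring).toAlgebra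
    rw [toAlgebra_algebraMap]
    exact X.prop
  · exact Iso.refl _
  · intro W _ _ hW g
    obtain ⟨X, e, he⟩ := exists_model hP W hW g
    refine ⟨(ι X).comp e.toAlgHom, ?_, ?_⟩
    · change π.comp ((ι X).comp e.toAlgHom) = g
      rw [← AlgHom.comp_assoc, hπι, he]
    · intro h hh
      have h1 : h.comp e.symm.toAlgHom = ι X := by
        apply hfac
        rw [← AlgHom.comp_assoc, hh, ← he]
        ext x
        simp
      rw [← h1]
      ext x
      simp

theorem etale_coeq {W W' : Type u} [CommRing W] [Algebra A W] [CommRing W'] [Algebra A W']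
    (f g : W →ₐ[A] W') [Algebra.Etale A W] [Algebra.Etale A W'] :
    Algebra.Etale A (W' ⧸ Ideal.span (Set.range fun w => f w - g w)) := by
  obtain ⟨e, he, hke⟩ : ∃ e : W ⊗[A] W, IsIdempotentElem e ∧ KaehlerDifferential.ideal A W = Ideal.span {e} := by
    apply (Ideal.isIdempotentElem_iff_of_fg _ (KaehlerDifferential.ideal_fg A W)).mp
    exact (Ideal.cotangent_subsingleton_iff _).mp (inferInstanceAs (Subsingleton (Ω[W⁄A])))
  let h : W ⊗[A] W →ₐ[A] W' := Algebra.TensorProduct.lift f g (fun _ _ => Commute.all _ _)
  have hh : ∀ x y, h (x ⊗ₜ y) = f x * g y := fun x y => Algebra.TensorProduct.lift_tmul ..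
  have hI : Ideal.span (Set.range fun w => f w - g w) = Ideal.span {h e} := by
    have h1 : (KaehlerDifferential.ideal A W).map h = Ideal.span {h e} := by
      rw [hke, Ideal.map_span, Set.image_singleton]
    rw [← h1, ← KaehlerDifferential.span_range_eq_ideal, Ideal.map_span, ← Set.range_comp]
    apply le_antisymm
    · rw [Ideal.span_le]
      rintro _ ⟨w, rfl⟩
      rw [SetLike.mem_coe, ← neg_mem_iff]
      refine Ideal.subset_span ⟨w, ?_⟩
      simp only [Function.comp_apply, map_sub, hh, map_one]
      ring
    · rw [Ideal.span_le]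
      rintro _ ⟨w, rfl⟩
      rw [SetLike.mem_coe, ← neg_mem_iff]
      refine Ideal.subset_span ⟨w, ?_⟩
      simp only [Function.comp_apply, map_sub, hh, map_one]
      ring
  have he' : IsIdempotentElem (1 - h e) := (he.map h).one_sub
  have hloc : IsLocalization.Away (1 - h e) (W' ⧸ Ideal.span (Set.range fun w => f w - g w)) := by
    apply IsLocalization.away_of_isIdempotentElem he' _ Ideal.Quotient.mk_surjective
    rw [sub_sub_cancel, ← hI]
    exact Ideal.mk_ker
  have : Algebra.Etale W' (W' ⧸ Ideal.span (Set.range fun w => f w - g w)) := .of_isLocalizationAway (1 - h e)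
  exact Algebra.Etale.comp A W' _

theorem good_etale : Good (A := A) (Et A) where
  equiv W W' _ _ _ _ e h := .of_equiv e
  self := inferInstanceAs (Algebra.Etale A A)
  tensor W W' _ _ _ _ h h' := by
    have : Algebra.Etale A W := h
    have : Algebra.Etale A W' := h'
    exact Algebra.Etale.comp A W (W ⊗[A] W')
  coeq W W' _ _ _ _ f g h h' := by
    have : Algebra.Etale A W := h
    have : Algebra.Etale A W' := h'
    exact etale_coeq f g
  fp W _ _ h := by
    have : Algebra.Etale A W := h
    infer_instance

end Groth.Agent.Proet.EtaleCoref
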