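import Groth.Agent.Proet.EtaleLift
import Mathlib.RingTheory.Ideal.IdempotentFG
import Mathlib.LinearAlgebra.TensorProduct.RightExactness

/-!
# Lifting maps of étale algebras along surjections

`A → R` surjective with kernel `I`.
* `ker_includeRight`: the kernel of `P → R ⊗[A] P` is `I P`.
* `exists_etale_lift'`: an étale `R`-algebra `T` is a quotient `W / I W` of an étale `A`-algebra `W`.
* `exists_etale_lift_map`: for `W` étale over `A` and `φ : W → T` an `A`-algebra map to an étale `R`-algebra `T`
  there are an étale `A`-algebra `W₂`, a map `W → W₂` and a surjection `W₂ → T` with kernel `I W₂` compatible with `φ`.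
-/

set_option autoImplicit false
universe u
open TensorProduct

namespace Groth.Agent.Proet.EtaleLiftMap

theorem includeRight_surjective {A R P : Type*} [CommRing A] [CommRing R] [CommRing P] [Algebra A R]
    [Algebra A P] (hs : Function.Surjective (algebraMap A R)) :
    Function.Surjective (Algebra.TensorProduct.includeRight : P →ₐ[A] R ⊗[A] P) := by
  intro x
  induction x using TensorProduct.induction_on with
  | zero => exact ⟨0, map_zero _⟩
  | tmul r p =>
    obtain ⟨a, rfl⟩ := hs r
    refine ⟨a • p, ?_⟩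
    rw [Algebra.TensorProduct.includeRight_apply, Algebra.algebraMap_eq_smul_one,
      TensorProduct.smul_tmul]
  | add x y hx hy =>
    obtain ⟨x', rfl⟩ := hx
    obtain ⟨y', rfl⟩ := hy
    exact ⟨x' + y', map_add _ _ _⟩

theorem ker_includeRight {A R P : Type*} [CommRing A] [CommRing R] [CommRing P] [Algebra A R]
    [Algebra A P] (hs : Function.Surjective (algebraMap A R)) :
    RingHom.ker (Algebra.TensorProduct.includeRight : P →ₐ[A] R ⊗[A] P) =
      (RingHom.ker (algebraMap A R)).map (algebraMap A P) := by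
  have h1 := Algebra.TensorProduct.rTensor_ker (R := A) (S := A) (C := P) (f := Algebra.ofId A R) hs
  ext x
  constructor
  · intro hx
    have h2 : (1 : A) ⊗ₜ[A] x ∈ RingHom.ker (Algebra.TensorProduct.map (Algebra.ofId A R) (AlgHom.id A P)) := by
      rw [RingHom.mem_ker] at hx ⊢
      simpa using hx
    rw [h1] at h2
    have h3 : Ideal.map (Algebra.TensorProduct.includeLeft : A →ₐ[A] A ⊗[A] P) (RingHom.ker (Algebra.ofId A R)) ≤
        ((RingHom.ker (algebraMap A R)).map (algebraMap A P)).comap (Algebra.TensorProduct.lid A P) := by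
      rw [Ideal.map_le_iff_le_comap]
      intro a ha
      rw [Ideal.mem_comap, Ideal.mem_comap, Algebra.TensorProduct.includeLeft_apply,
        Algebra.TensorProduct.lid_tmul, ← Algebra.algebraMap_eq_smul_one]
      exact Ideal.mem_map_of_mem _ ha
    have h4 := h3 h2
    rw [Ideal.mem_comap, Algebra.TensorProduct.lid_tmul, one_smul] at h4
    exact h4
  · intro hx
    revert x
    rw [← SetLike.le_def, Ideal.map_le_iff_le_comap]
    intro a ha
    rw [Ideal.mem_comap, RingHom.mem_ker, Algebra.TensorProduct.includeRight_apply,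
      Algebra.algebraMap_eq_smul_one, ← TensorProduct.smul_tmul, ← Algebra.algebraMap_eq_smul_one]
    rw [RingHom.mem_ker] at ha
    rw [ha, TensorProduct.zero_tmul]

/-- Stacks 04D1 in the form `T = W / I W`. -/
theorem exists_etale_lift' {A R T : Type u} [CommRing A] [CommRing R] [Algebra A R]
    (hs : Function.Surjective (algebraMap A R)) [CommRing T] [Algebra R T] [Algebra A T]
    [IsScalarTower A R T] [Algebra.Etale R T] :
    ∃ (W : Type u) (_ : CommRing W) (_ : Algebra A W) (π : W →ₐ[A] T),
      Algebra.Etale A W ∧ Function.Surjective π ∧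
        RingHom.ker π = (RingHom.ker (algebraMap A R)).map (algebraMap A W) := by
  obtain ⟨W, _, _, hW, ⟨e⟩⟩ := EtaleLift.exists_etale_lift A R T hs
  refine ⟨W, _, _, (e.toAlgHom.restrictScalars A).comp Algebra.TensorProduct.includeRight, hW,
    e.surjective.comp (includeRight_surjective hs), ?_⟩
  rw [← ker_includeRight hs]
  ext x
  rw [RingHom.mem_ker, RingHom.mem_ker]
  change e (Algebra.TensorProduct.includeRight x) = 0 ↔ _
  rw [EmbeddingLike.map_eq_zero_iff]

theorem exists_etale_lift_map {A R T W : Type u} [CommRing A] [CommRing R] [Algebra A R]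
    (hs : Function.Surjective (algebraMap A R)) [CommRing T] [Algebra R T] [Algebra A T]
    [IsScalarTower A R T] [Algebra.Etale R T] [CommRing W] [Algebra A W] [Algebra.Etale A W]
    (φ : W →ₐ[A] T) :
    ∃ (W₂ : Type u) (_ : CommRing W₂) (_ : Algebra A W₂) (u : W →ₐ[A] W₂) (π : W₂ →ₐ[A] T),
      Algebra.Etale A W₂ ∧ Function.Surjective π ∧
        RingHom.ker π = (RingHom.ker (algebraMap A R)).map (algebraMap A W₂) ∧ π.comp u = φ := by
  obtain ⟨W₁, _, _, π₁, hW₁, hπ₁, -⟩ := exists_etale_lift' (A := A) (R := R) (T := T) hs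
  let P := W ⊗[A] W₁
  have hP : Algebra.Etale A P := .comp A W P
  let μ : P →ₐ[A] T := Algebra.TensorProduct.lift φ π₁ (fun _ _ => Commute.all _ _)
  have hμ : Function.Surjective μ := by
    intro t
    obtain ⟨w, rfl⟩ := hπ₁ t
    exact ⟨1 ⊗ₜ w, by
      change (Algebra.TensorProduct.lift φ π₁ _) (1 ⊗ₜ w) = _
      rw [Algebra.TensorProduct.lift_tmul, map_one, one_mul]⟩
  let Q := R ⊗[A] P
  let ν : Q →ₐ[R] T := Algebra.TensorProduct.lift (Algebra.ofId R T) μ (fun _ _ => Commute.all _ _)
  have hν : ∀ x : P, ν (1 ⊗ₜ x) = μ x := fun x => by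
    change (Algebra.TensorProduct.lift (Algebra.ofId R T) μ _) (1 ⊗ₜ x) = _
    rw [Algebra.TensorProduct.lift_tmul, map_one, one_mul]
  have hνs : Function.Surjective ν := fun t => by
    obtain ⟨p, rfl⟩ := hμ t
    exact ⟨1 ⊗ₜ p, hν p⟩
  -- the kernel of `ν` is generated by an idempotent
  obtain ⟨e, he, hke⟩ : ∃ e : Q, IsIdempotentElem e ∧ RingHom.ker ν = Ideal.span {e} := by
    let : Algebra Q T := ν.toRingHom.toAlgebra
    have : IsScalarTower R Q T := IsScalarTower.of_algebraMap_eq' ν.comp_algebraMap.symm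
    have hQT : Algebra.Etale Q T := Algebra.Etale.of_restrictScalars R Q T
    have h1 : IsIdempotentElem (RingHom.ker (algebraMap Q T)) :=
      (Algebra.FormallyEtale.iff_of_surjective hνs).mp inferInstance
    have h2 : (RingHom.ker (algebraMap Q T)).FG :=
      Algebra.FinitePresentation.ker_fG_of_surjective (R := R) ν hνs
    exact (Ideal.isIdempotentElem_iff_of_fg _ h2).mp h1
  obtain ⟨f, hf⟩ := includeRight_surjective (A := A) (R := R) (P := P) hs (1 - e)
  rw [Algebra.TensorProduct.includeRight_apply] at hf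
  have hμf : μ f = 1 := by
    rw [← hν, hf, map_sub, map_one]
    have : e ∈ RingHom.ker ν := by rw [hke]; exact Ideal.mem_span_singleton_self e
    rw [RingHom.mem_ker.mp this, sub_zero]
  let W₂ := Localization.Away f
  let π : W₂ →ₐ[A] T :=
    IsLocalization.Away.liftAlgHom (f := μ) f (by rw [hμf]; exact isUnit_one)
  have hπ : ∀ x : P, π (algebraMap P W₂ x) = μ x := fun x => by
    simp [π]
  refine ⟨W₂, inferInstance, inferInstance,
    (IsScalarTower.toAlgHom A P W₂).comp Algebra.TensorProduct.includeLeft, π, inferInstance, ?_, ?_, ?_⟩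
  · intro t
    obtain ⟨p, rfl⟩ := hμ t
    exact ⟨algebraMap P W₂ p, hπ p⟩
  · apply le_antisymm
    · intro x hx
      obtain ⟨⟨p, s⟩, hps⟩ := IsLocalization.surj (Submonoid.powers f) x
      obtain ⟨n, hn⟩ := s.2
      simp only at hps hn
      have hmp : μ p = 0 := by
        rw [← hπ, ← hps, map_mul, RingHom.mem_ker.mp hx, zero_mul]
      have hpk : (1 : R) ⊗ₜ[A] p ∈ RingHom.ker ν := by rw [RingHom.mem_ker, hν, hmp]
      rw [hke, Ideal.mem_span_singleton'] at hpk
      obtain ⟨c, hc⟩ := hpk
      have h0 : (1 : R) ⊗ₜ[A] (f * p) = 0 := by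
        have : (1 : R) ⊗ₜ[A] (f * p) = ((1 : R) ⊗ₜ[A] f) * ((1 : R) ⊗ₜ[A] p) := by
          rw [Algebra.TensorProduct.tmul_mul_tmul, mul_one]
        rw [this, hf, ← hc]
        have : e * e = e := he
        linear_combination (-c) * this
      have hfp : f * p ∈ (RingHom.ker (algebraMap A R)).map (algebraMap A P) := by
        rw [← ker_includeRight hs, RingHom.mem_ker]
        exact h0
      have hfp' := Ideal.mem_map_of_mem (algebraMap P W₂) hfp
      rw [Ideal.map_map, ← IsScalarTower.algebraMap_eq] at hfp'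
      have hu1 : IsUnit (algebraMap P W₂ (s : P)) := IsLocalization.map_units W₂ s
      have hu2 : IsUnit (algebraMap P W₂ f) := IsLocalization.Away.algebraMap_isUnit f
      rw [map_mul, ← hps] at hfp'
      rw [Ideal.unit_mul_mem_iff_mem _ hu2, Ideal.mul_unit_mem_iff_mem _ hu1] at hfp'
      exact hfp'
    · rw [Ideal.map_le_iff_le_comap]
      intro a ha
      rw [Ideal.mem_comap, RingHom.mem_ker, AlgHom.commutes, IsScalarTower.algebraMap_apply A R T,
        RingHom.mem_ker.mp ha, map_zero]
  · ext w
    simp only [AlgHom.comp_apply, IsScalarTower.coe_toAlgHom']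
    rw [hπ]
    change (Algebra.TensorProduct.lift φ π₁ _) (w ⊗ₜ 1) = _
    rw [Algebra.TensorProduct.lift_tmul, map_one, mul_one]

end Groth.Agent.Proet.EtaleLiftMap
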