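import Mathlib.Algebra.Homology.DerivedCategory.Ext.ExactSequences
import Mathlib.Algebra.Homology.DerivedCategory.Ext.EnoughProjectives
import Mathlib.CategoryTheory.Abelian.Projective.Basic

/-!
# Ext vanishing for the cokernel of a monomorphism
-/

set_option autoImplicit false
universe w v u

open CategoryTheory CategoryTheory.Limits Abelian

namespace Groth.Agent.Proet.ExtTwo

variable {C : Type u} [Category.{v} C] [Abelian C] [HasExt.{w} C]

/-- If `Ext^0(X₃, Y) = Ext^1(X₃, Y) = 0` then `Hom(X₂, Y) → Hom(X₁, Y)` is bijective. -/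
theorem bijective_precomp {S : ShortComplex C} (hS : S.ShortExact) (Y : C)
    (h0 : Subsingleton (Ext.{w} S.X₃ Y 0)) (h1 : Subsingleton (Ext.{w} S.X₃ Y 1)) :
    Function.Bijective (fun g : S.X₂ ⟶ Y => S.f ≫ g) := by
  constructor
  · intro g g' hgg
    have h2 : S.f ≫ (g - g') = 0 := by
      rw [Preadditive.comp_sub, sub_eq_zero]
      exact hgg
    have h3 : (Ext.mk₀ S.f).comp (Ext.mk₀ (g - g')) (zero_add 0) = 0 := by
      rw [Ext.mk₀_comp_mk₀, h2, Ext.mk₀_zero]
    obtain ⟨x, hx⟩ := Ext.contravariant_sequence_exact₂ hS Y _ h3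
    have h4 : x = 0 := Subsingleton.elim _ _
    rw [h4, Ext.comp_zero] at hx
    have h5 : g - g' = 0 := (Ext.mk₀_eq_zero_iff _).1 hx.symm
    exact sub_eq_zero.1 h5
  · intro g
    obtain ⟨x, hx⟩ := Ext.contravariant_sequence_exact₁ hS Y (Ext.mk₀ g) (add_zero 1)
      (Subsingleton.elim _ _)
    obtain ⟨g', rfl⟩ := (Ext.mk₀_bijective _ _).2 x
    refine ⟨g', ?_⟩
    rw [Ext.mk₀_comp_mk₀] at hx
    exact (Ext.mk₀_bijective _ _).1 hx

/-- Two-term projective resolutions and vanishing of all Ext groups. -/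
theorem subsingleton_ext {S : ShortComplex C} (hS : S.ShortExact) (Y : C)
    [Projective S.X₁] [Projective S.X₂]
    (hb : Function.Bijective (fun g : S.X₂ ⟶ Y => S.f ≫ g)) (n : ℕ) :
    Subsingleton (Ext.{w} S.X₃ Y n) := by
  refine ⟨fun a b => ?_⟩
  rw [← sub_eq_zero]
  generalize a - b = x
  match n, x with
  | 0, x =>
    obtain ⟨g, rfl⟩ := (Ext.mk₀_bijective _ _).2 x
    have := hS.epi_g
    have h1 : S.g ≫ g = 0 := hb.1 (by simp)
    have h2 : g = 0 := by rw [← cancel_epi S.g, h1, comp_zero]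
    rw [h2, Ext.mk₀_zero]
  | n + 1, x =>
    have h1 : (Ext.mk₀ S.g).comp x (zero_add (n + 1)) = 0 :=
      Ext.eq_zero_of_projective _
    obtain ⟨y, rfl⟩ := Ext.contravariant_sequence_exact₃ hS Y x h1 (n₀ := n) (by omega)
    match n, y with
    | 0, y =>
      obtain ⟨g, rfl⟩ := (Ext.mk₀_bijective _ _).2 y
      obtain ⟨g', hg'⟩ := hb.2 g
      dsimp only at hg'
      rw [← hg', ← Ext.mk₀_comp_mk₀, ← Ext.comp_assoc_of_second_deg_zero,
        ShortComplex.ShortExact.extClass_comp, Ext.zero_comp]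
    | n + 1, y =>
      rw [Ext.eq_zero_of_projective y, Ext.comp_zero]

end Groth.Agent.Proet.ExtTwo
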