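import Groth.Agent.Proet.CechAcyclic
import Groth.Agent.CohtopA.FiltColim
import Groth.Agent.CohtopA.ExtColim
import Mathlib.CategoryTheory.Sites.Limits
import Mathlib.CategoryTheory.Sites.LocallyBijective
import Mathlib.CategoryTheory.Sites.EpiMono
import Mathlib.CategoryTheory.Abelian.GrothendieckAxioms.Sheaf

/-!
# Filtered colimits of abelian sheaves on sites with finite covers (general universes)

`FinBasis J B Cov`: a class `B` of objects and a class `Cov` of one-morphism covers such that every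
covering sieve of an object of `B` is refined by a finite family whose "disjoint union" is in `Cov`.
* `rep`, `eq_zero`: sections over objects of `B` commute with filtered colimits of sheaves;
* `cechExact_colimit`: filtered colimits of Cech exact sheaves are Cech exact;
* `ext_colimit_injective`, `preservesColimitsOfShape_ext`: `Ext^n(Z_U, -)` commutes with filtered
  colimits for `U` in `B`.
-/

set_option autoImplicit false
universe w' w v u v₁ u₁

open CategoryTheory Category Limits Opposite Simplicial Abelian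

noncomputable section

namespace Groth.Agent.Proet.FiltSheaf

open ZU CechEl CechAcyclic

variable {C : Type u} [Category.{v} C] {J : GrothendieckTopology C}

section Local

variable [HasSheafify J AddCommGrpCat.{w}] [J.WEqualsLocallyBijective AddCommGrpCat.{w}]
  {K : Type u₁} [Category.{v₁} K] [HasColimitsOfShape K AddCommGrpCat.{w}]
  [PreservesColimitsOfShape K (forget AddCommGrpCat.{w})]
  (D : K ⥤ Sheaf J AddCommGrpCat.{w}) {c : Cocone D} (hc : IsColimit c)

include hc

/-- sections of a filtered colimit of sheaves come locally from a finite stage -/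
theorem exists_sieve_rep (U : C) (s : c.pt.obj.obj (op U)) :
    ∃ S ∈ J U, ∀ ⦃V : C⦄ (f : V ⟶ U), S f → ∃ (k : K) (t : (D.obj k).obj.obj (op V)),
      (c.ι.app k).hom.app (op V) t = c.pt.obj.map f.op s := by
  let E : Cocone (D ⋙ sheafToPresheaf J AddCommGrpCat.{w}) := colimit.cocone _
  have hE : IsColimit E := colimit.isColimit _
  let e := hc.coconePointUniqueUpToIso (Sheaf.isColimitSheafifyCocone E hE)
  have he (k : K) : c.ι.app k = (Sheaf.sheafifyCocone E).ι.app k ≫ e.inv :=
    (IsColimit.comp_coconePointUniqueUpToIso_inv hc (Sheaf.isColimitSheafifyCocone E hE) k).symm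
  refine ⟨Presheaf.imageSieve (toSheafify J E.pt) (e.hom.hom.app (op U) s),
    Presheaf.imageSieve_mem J _ _, ?_⟩
  intro V f hf
  obtain ⟨p, hp⟩ := hf
  obtain ⟨k, t, ht⟩ := CohtopA.FiltColim.exists_rep
    (isColimitOfPreserves ((evaluation Cᵒᵖ AddCommGrpCat.{w}).obj (op V)) hE) p
  refine ⟨k, t, ?_⟩
  have h1 : (c.ι.app k).hom = E.ι.app k ≫ toSheafify J E.pt ≫ e.inv.hom := by
    rw [he, ← Category.assoc, ← Sheaf.sheafifyCocone_ι_app_val]
    rfl
  rw [h1]
  change e.inv.hom.app (op V) ((toSheafify J E.pt).app (op V) ((E.ι.app k).app (op V) t)) = _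
  have h2 : (E.ι.app k).app (op V) t = p := ht
  rw [h2, hp]
  have h3 := ConcreteCategory.congr_hom (e.hom.hom.naturality f.op) s
  change e.hom.hom.app (op V) (c.pt.obj.map f.op s) = _ at h3
  refine (congrArg (e.inv.hom.app (op V)) h3.symm).trans ?_
  change (e.hom ≫ e.inv).hom.app (op V) (c.pt.obj.map f.op s) = _
  rw [e.hom_inv_id]
  rfl

/-- sections dying in a filtered colimit of sheaves die locally at a finite stage -/
theorem exists_sieve_eq_zero [IsFiltered K] (U : C) (k : K) (s : (D.obj k).obj.obj (op U))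
    (hs : (c.ι.app k).hom.app (op U) s = 0) :
    ∃ S ∈ J U, ∀ ⦃V : C⦄ (f : V ⟶ U), S f → ∃ (l : K) (h : k ⟶ l),
      (D.map h).hom.app (op V) ((D.obj k).obj.map f.op s) = 0 := by
  let E : Cocone (D ⋙ sheafToPresheaf J AddCommGrpCat.{w}) := colimit.cocone _
  have hE : IsColimit E := colimit.isColimit _
  let e := hc.coconePointUniqueUpToIso (Sheaf.isColimitSheafifyCocone E hE)
  have he (k : K) : c.ι.app k ≫ e.hom = (Sheaf.sheafifyCocone E).ι.app k :=
    (IsColimit.comp_coconePointUniqueUpToIso_hom hc (Sheaf.isColimitSheafifyCocone E hE) k)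
  have h1 : (c.ι.app k).hom ≫ e.hom.hom = E.ι.app k ≫ toSheafify J E.pt := by
    rw [← Sheaf.sheafifyCocone_ι_app_val, ← he]
    rfl
  have h2 : (toSheafify J E.pt).app (op U) ((E.ι.app k).app (op U) s) = 0 := by
    change (E.ι.app k ≫ toSheafify J E.pt).app (op U) s = 0
    rw [← h1]
    change e.hom.hom.app (op U) ((c.ι.app k).hom.app (op U) s) = 0
    rw [hs, map_zero]
  refine ⟨Presheaf.equalizerSieve ((E.ι.app k).app (op U) s) 0,
    Presheaf.equalizerSieve_mem J (toSheafify J E.pt) _ _ (by rw [h2, map_zero]), ?_⟩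
  intro V f hf
  change E.pt.map f.op ((E.ι.app k).app (op U) s) = E.pt.map f.op 0 at hf
  rw [map_zero] at hf
  have h3 : (E.ι.app k).app (op V) ((D.obj k).obj.map f.op s) = 0 := by
    rw [← hf]
    exact ConcreteCategory.congr_hom ((E.ι.app k).naturality f.op) s
  obtain ⟨l, h, hl⟩ := CohtopA.FiltColim.exists_map_eq_zero
    (isColimitOfPreserves ((evaluation Cᵒᵖ AddCommGrpCat.{w}).obj (op V)) hE) k
    ((D.obj k).obj.map f.op s) h3
  exact ⟨l, h, hl⟩

end Local

section Filt

variable {K : Type u₁} [Category.{v₁} K] [IsFiltered K]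

theorem exists_common (k : K) (n : ℕ) (l : Fin n → K) (h : ∀ i, k ⟶ l i) :
    ∃ (m : K) (q : k ⟶ m) (r : ∀ i, l i ⟶ m), ∀ i, h i ≫ r i = q := by
  induction n with
  | zero => exact ⟨k, 𝟙 k, fun i => i.elim0, fun i => i.elim0⟩
  | succ n ih =>
    obtain ⟨m, q, r, hr⟩ := ih (fun i => l i.castSucc) (fun i => h i.castSucc)
    obtain ⟨m', a, b, hab⟩ := IsFiltered.span q (h (Fin.last n))
    refine ⟨m', q ≫ a, Fin.lastCases b (fun i => r i ≫ a), ?_⟩
    intro i
    refine Fin.lastCases ?_ (fun i => ?_) i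
    · simp [hab]
    · simp [← hr i]

theorem exists_upper (n : ℕ) (l : Fin n → K) : ∃ m : K, ∀ i, Nonempty (l i ⟶ m) := by
  classical
  refine ⟨IsFiltered.sup (Finset.univ.image l) ∅, fun i => ?_⟩
  exact ⟨IsFiltered.toSup _ _ (Finset.mem_image_of_mem l (Finset.mem_univ i))⟩

end Filt

theorem map_comp_apply (F : Cᵒᵖ ⥤ AddCommGrpCat.{w}) {U V W : C} (f : V ⟶ U) (g : W ⟶ V)
    (s : F.obj (op U)) : F.map (g ≫ f).op s = F.map g.op (F.map f.op s) := by
  rw [op_comp, F.map_comp]
  rfl

theorem app_map_apply {F G : Sheaf J AddCommGrpCat.{w}} (φ : F ⟶ G) {U V : C} (f : V ⟶ U)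
    (s : F.obj.obj (op U)) :
    φ.hom.app (op V) (F.obj.map f.op s) = G.obj.map f.op (φ.hom.app (op U) s) :=
  ConcreteCategory.congr_hom (φ.hom.naturality f.op) s

section Basis

variable [HasFiniteWidePullbacks C]

/-- A class `B` of objects with a class `Cov` of one-morphism covers refining, via finite
"disjoint unions", every covering sieve. -/
structure FinBasis (J : GrothendieckTopology C) (B : C → Prop)
    (Cov : ∀ ⦃V U : C⦄, (V ⟶ U) → Prop) : Prop where
  mem : ∀ ⦃V U : C⦄ (f : V ⟶ U), Cov f → Sieve.generate (Presieve.singleton f) ∈ J U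
  nerve_mem : ∀ ⦃V U : C⦄ (f : V ⟶ U), Cov f → ∀ n : ℕ, B ((nerve f) _⦋n⦌)
  exists_cov : ∀ (U : C), B U → ∀ S ∈ J U, ∃ (V : C) (f : V ⟶ U) (_ : Cov f) (n : ℕ)
    (W : Fin n → C) (g : ∀ i, W i ⟶ V), (∀ i, S (g i ≫ f)) ∧
      ∀ F : Sheaf J AddCommGrpCat.{w},
        Function.Bijective (fun (s : F.obj.obj (op V)) (i : Fin n) => F.obj.map (g i).op s)

variable [HasSheafify J AddCommGrpCat.{w}] [J.WEqualsLocallyBijective AddCommGrpCat.{w}]
  {B : C → Prop} {Cov : ∀ ⦃V U : C⦄, (V ⟶ U) → Prop}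

section

variable {K : Type u₁} [Category.{v₁} K] [IsFiltered K] [HasColimitsOfShape K AddCommGrpCat.{w}]
  [PreservesColimitsOfShape K (forget AddCommGrpCat.{w})]
  (D : K ⥤ Sheaf J AddCommGrpCat.{w}) {c : Cocone D} (hc : IsColimit c)
  (hB : FinBasis.{w} J B Cov)

omit [HasFiniteWidePullbacks C] [HasSheafify J AddCommGrpCat.{w}]
  [J.WEqualsLocallyBijective AddCommGrpCat.{w}] [IsFiltered K]
  [HasColimitsOfShape K AddCommGrpCat.{w}]
  [PreservesColimitsOfShape K (forget AddCommGrpCat.{w})] in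
theorem D_map_comp_apply {k l m : K} (a : k ⟶ l) (b : l ⟶ m) (W : C)
    (s : (D.obj k).obj.obj (op W)) :
    (D.map (a ≫ b)).hom.app (op W) s = (D.map b).hom.app (op W) ((D.map a).hom.app (op W) s) := by
  rw [D.map_comp]
  rfl

omit [HasFiniteWidePullbacks C] [HasSheafify J AddCommGrpCat.{w}]
  [J.WEqualsLocallyBijective AddCommGrpCat.{w}] [IsFiltered K]
  [HasColimitsOfShape K AddCommGrpCat.{w}]
  [PreservesColimitsOfShape K (forget AddCommGrpCat.{w})] in
theorem ι_D_map_apply {k l : K} (a : k ⟶ l) (W : C) (s : (D.obj k).obj.obj (op W)) :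
    (c.ι.app l).hom.app (op W) ((D.map a).hom.app (op W) s) = (c.ι.app k).hom.app (op W) s := by
  rw [← c.w a]
  rfl

include hc hB

/-- A section over an object of `B` dying in a filtered colimit of sheaves dies at a finite
stage. -/
theorem eq_zero (U : C) (hU : B U) (k : K) (s : (D.obj k).obj.obj (op U))
    (hs : (c.ι.app k).hom.app (op U) s = 0) :
    ∃ (l : K) (h : k ⟶ l), (D.map h).hom.app (op U) s = 0 := by
  obtain ⟨S, hS, hS'⟩ := exists_sieve_eq_zero D hc U k s hs
  obtain ⟨V, f, hf, n, W, g, hg, hbij⟩ := hB.exists_cov U hU S hS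
  choose l h hl using fun i => hS' _ (hg i)
  obtain ⟨m, q, r, hr⟩ := exists_common k n l h
  refine ⟨m, q, sep (D.obj m) f (hB.mem f hf) ((hbij (D.obj m)).1 ?_)⟩
  funext i
  change (D.obj m).obj.map (g i).op ((D.obj m).obj.map f.op _) =
    (D.obj m).obj.map (g i).op ((D.obj m).obj.map f.op 0)
  rw [map_zero, map_zero, ← map_comp_apply, ← app_map_apply, ← hr i, D_map_comp_apply, hl i,
    map_zero]

/-- Sections over an object of `B` of a filtered colimit of sheaves come from a finite stage. -/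
theorem rep (U : C) (hU : B U) (s : c.pt.obj.obj (op U)) :
    ∃ (k : K) (t : (D.obj k).obj.obj (op U)), (c.ι.app k).hom.app (op U) t = s := by
  obtain ⟨S, hS, hS'⟩ := exists_sieve_rep D hc U s
  obtain ⟨V, f, hf, n, W, g, hg, hbij⟩ := hB.exists_cov U hU S hS
  choose l t ht using fun i => hS' _ (hg i)
  obtain ⟨k, hk⟩ := exists_upper n l
  obtain ⟨t', ht'⟩ := (hbij (D.obj k)).2 (fun i => (D.map (hk i).some).hom.app _ (t i))
  have h1 : (c.ι.app k).hom.app (op V) t' = c.pt.obj.map f.op s := by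
    apply (hbij c.pt).1
    funext i
    change c.pt.obj.map (g i).op _ = c.pt.obj.map (g i).op (c.pt.obj.map f.op s)
    rw [← app_map_apply, ← map_comp_apply, ← ht i]
    have := congrFun ht' i
    change (D.obj k).obj.map (g i).op t' = _ at this
    rw [this, ι_D_map_apply]
  let t₀ : (D.obj k).obj.obj (op ((nerve f) _⦋0⦌)) := (D.obj k).obj.map (nπ f 0 0).op t'
  have h2 : (c.ι.app k).hom.app _ t₀ = c.pt.obj.map (nbase f 0).op s := by
    refine (app_map_apply (c.ι.app k) (nπ f 0 0) t').trans ?_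
    change c.pt.obj.map (nπ f 0 0).op ((c.ι.app k).hom.app (op V) t') = _
    rw [h1, ← map_comp_apply, nπ_comp]
  have h3 : cd (nerve f) c.pt.obj 0 (c.pt.obj.map (nbase f 0).op s) = 0 := by
    rw [cd_apply, Fin.sum_univ_two]
    simp only [Fin.val_zero, pow_zero, one_zsmul, Fin.val_one, pow_one, neg_smul]
    rw [← map_comp_apply, ← map_comp_apply, nδ_base, nδ_base, add_neg_cancel]
  obtain ⟨l', h, hl'⟩ := eq_zero D hc hB _ (hB.nerve_mem f hf 1) k (cd (nerve f) _ 0 t₀) (by
    rw [← cd_naturality, h2]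
    exact h3)
  rw [← cd_naturality] at hl'
  obtain ⟨y, hy⟩ := exists_of_cd_zero (D.obj l') f (hB.mem f hf) _ hl'
  refine ⟨l', y, sep_nbase c.pt f (hB.mem f hf) ?_⟩
  rw [← app_map_apply, hy, ι_D_map_apply, h2]

/-- Filtered colimits of Cech exact sheaves are Cech exact. -/
theorem cechExact_colimit (X : SimplicialObject C) (hX : ∀ n, B (X _⦋n⦌))
    (h : ∀ k, CechExact X (D.obj k).obj) : CechExact X c.pt.obj := by
  intro n x hx
  obtain ⟨k, t, rfl⟩ := rep D hc hB _ (hX (n + 1)) x
  rw [cd_naturality] at hx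
  obtain ⟨l, a, hl⟩ := eq_zero D hc hB _ (hX (n + 2)) k _ hx
  rw [← cd_naturality] at hl
  obtain ⟨y, hy⟩ := h l n _ hl
  refine ⟨(c.ι.app l).hom.app _ y, ?_⟩
  rw [cd_naturality, hy, ι_D_map_apply]

end

theorem FinBasis.isCechBasis (hB : FinBasis.{w} J B Cov) : IsCechBasis.{w} J B Cov where
  mem := hB.mem
  nerve_mem := hB.nerve_mem
  lift F G φ _ U hU s := by
    have : Sheaf.IsLocallySurjective φ := (Sheaf.isLocallySurjective_iff_epi' AddCommGrpCat.{w} φ).2 inferInstance
    obtain ⟨V, f, hf, n, W, g, hg, hbij⟩ :=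
      hB.exists_cov U hU _ (Presheaf.imageSieve_mem J φ.hom s)
    choose t ht using hg
    obtain ⟨t', ht'⟩ := (hbij F).2 t
    refine ⟨V, f, hf, t', (hbij G).1 ?_⟩
    funext i
    change G.obj.map (g i).op (φ.hom.app (op V) t') = G.obj.map (g i).op (G.obj.map f.op s)
    rw [← app_map_apply, ← map_comp_apply, ← ht i]
    exact congrArg _ (congrFun ht' i)

section Ext

variable [LocallySmall.{w} C] [IsGrothendieckAbelian.{w} (Sheaf J AddCommGrpCat.{w})]
  [HasExt.{w'} (Sheaf J AddCommGrpCat.{w})]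
  {K : Type u₁} [Category.{v₁} K] [IsFiltered K] [HasColimitsOfShape K AddCommGrpCat.{w}]
  [PreservesColimitsOfShape K (forget AddCommGrpCat.{w})]
  (hB : FinBasis.{w} J B Cov) (U : C) (hU : B U)

include hB hU

/-- Filtered colimits of injectives are acyclic on objects of `B`. -/
theorem ext_colimit_injective (D : K ⥤ Sheaf J AddCommGrpCat.{w}) {c : Cocone D}
    (hc : IsColimit c) (hD : ∀ k, Injective (D.obj k)) (n : ℕ)
    (x : Ext.{w'} ((zF.{w} J).obj U) c.pt (n + 1)) : x = 0 :=
  ext_eq_zero_of_cech hB.isCechBasis c.pt (fun _ _ f hf =>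
    cechExact_colimit D hc hB _ (hB.nerve_mem f hf)
      (fun _ => cechExact_of_injective_sheaf _ (nerve_coneOp f) _)) U hU n x

variable [HasColimitsOfShape K AddCommGrpCat.{w'}]
  [PreservesColimitsOfShape K (forget AddCommGrpCat.{w'})]

omit [IsGrothendieckAbelian.{w} (Sheaf J AddCommGrpCat.{w})] in
/-- `Hom(Z_U, -)` commutes with filtered colimits for `U` in `B`. -/
theorem preservesColimitsOfShape_ext_zero :
    PreservesColimitsOfShape K (extFunctorObj.{w'} ((zF.{w} J).obj U) 0) := by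
  refine ⟨fun {D} => preservesColimit_of_preserves_colimit_cocone (colimit.isColimit D) ?_⟩
  apply Classical.choice
  refine CohtopA.FiltColim.nonempty_isColimit_of_elements _ ?_ ?_
  · intro (x : Ext ((zF.{w} J).obj U) (colimit D) 0)
    obtain ⟨f, rfl⟩ := (Ext.mk₀_bijective _ _).2 x
    obtain ⟨k, t, ht⟩ := rep D (colimit.isColimit D) hB U hU (ev J U _ f)
    refine ⟨k, Ext.mk₀ ((ev J U _).symm t), ?_⟩
    change (Ext.mk₀ ((ev J U _).symm t)).comp (Ext.mk₀ (colimit.ι D k)) (add_zero _) = Ext.mk₀ f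
    rw [Ext.mk₀_comp_mk₀, ev_symm_comp]
    congr 1
    apply (ev J U _).injective
    rw [AddEquiv.apply_symm_apply]
    exact ht
  · intro k (x : Ext ((zF.{w} J).obj U) (D.obj k) 0)
      (hx : x.comp (Ext.mk₀ (colimit.ι D k)) (add_zero _) = 0)
    obtain ⟨f, rfl⟩ := (Ext.mk₀_bijective _ _).2 x
    rw [Ext.mk₀_comp_mk₀, Ext.mk₀_eq_zero_iff] at hx
    obtain ⟨l, a, ha⟩ := eq_zero D (colimit.isColimit D) hB U hU k (ev J U _ f) (by
      have := congrArg (ev J U _) hx
      rw [ev_comp, map_zero] at this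
      exact this)
    refine ⟨l, a, ?_⟩
    change (Ext.mk₀ f).comp (Ext.mk₀ (D.map a)) (add_zero _) = 0
    rw [Ext.mk₀_comp_mk₀, Ext.mk₀_eq_zero_iff]
    apply (ev J U _).injective
    rw [ev_comp, map_zero]
    exact ha

variable [HasExactColimitsOfShape K (Sheaf J AddCommGrpCat.{w})]

/-- `Ext^n(Z_U, -)` commutes with filtered colimits for `U` in `B`. -/
theorem preservesColimitsOfShape_ext (n : ℕ) :
    PreservesColimitsOfShape K (extFunctorObj.{w'} ((zF.{w} J).obj U) n) :=
  CohtopA.ExtColim.preservesColimitsOfShape_ext _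
    (preservesColimitsOfShape_ext_zero hB U hU)
    (fun D hD n => subsingleton_of_forall_eq 0
      (ext_colimit_injective hB U hU D (colimit.isColimit D) hD n)) n

end Ext

end Basis

end Groth.Agent.Proet.FiltSheaf
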