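import Mathlib.RingTheory.Localization.AtPrime.Basic
import Groth.Prelude.Def_EtBase
import Groth.Agent.Hensel.LocalSplit
import Groth.Agent.S0505

/-!
# Finite algebras over rings whose local rings (at maximal ideals) are (strictly) henselian
-/

set_option autoImplicit false
universe u v

open TensorProduct

namespace Groth.Agent.Proet.FinWLocal

section

variable {A B : Type u} [CommRing A] [CommRing B] [Algebra A B] (m : Ideal A) [m.IsPrime]

/-- The map from `A_m ⊗ B` to the localization of `B` at a prime contained in a prime over `m`. -/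
noncomputable def toLoc (q : Ideal B) [q.IsPrime] (hq : q.comap (algebraMap A B) ≤ m) :
    (Localization.AtPrime m ⊗[A] B) →ₐ[A] Localization.AtPrime q :=
  Algebra.TensorProduct.lift
    (IsLocalization.liftAlgHom (M := m.primeCompl)
      (f := (Algebra.ofId A (Localization.AtPrime q))) (fun y => by
        have hy : algebraMap A B y ∈ q.primeCompl := fun h => y.2 (hq h)
        have h1 := IsLocalization.map_units (Localization.AtPrime q) (⟨_, hy⟩ : q.primeCompl)
        change IsUnit (algebraMap A (Localization.AtPrime q) y)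
        rw [IsScalarTower.algebraMap_apply A B]
        exact h1))
    (IsScalarTower.toAlgHom A B (Localization.AtPrime q)) (fun _ _ => Commute.all _ _)

theorem toLoc_tmul (q : Ideal B) [q.IsPrime] (hq : q.comap (algebraMap A B) ≤ m) (b : B) :
    toLoc m q hq ((1 : Localization.AtPrime m) ⊗ₜ[A] b) = algebraMap B _ b := by
  simp [toLoc]

/-- `toLoc` is compatible with localizing further. -/
theorem toLoc_comp (q n : Ideal B) [q.IsPrime] [n.IsPrime] (hqn : q ≤ n)
    (hn : n.comap (algebraMap A B) ≤ m) (φ : Localization.AtPrime n →ₐ[B] Localization.AtPrime q) :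
    (φ.restrictScalars A).comp (toLoc m n hn) = toLoc m q ((Ideal.comap_mono hqn).trans hn) := by
  apply Algebra.TensorProduct.ext
  · apply IsLocalization.algHom_ext m.primeCompl
    ext
  · ext b
    simp [toLoc]

end

section

variable {A B : Type u} [CommRing A] [CommRing B] [Algebra A B] [Module.Finite A B]

theorem comap_isMaximal (m : Ideal A) [hm : m.IsMaximal] (n : Ideal B) [n.IsPrime]
    (hn : n.comap (algebraMap A B) = m) :
    (Ideal.comap (toLoc m n hn.le).toRingHom
      (IsLocalRing.maximalIdeal (Localization.AtPrime n))).IsMaximal := by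
  set R := Localization.AtPrime m
  set C := R ⊗[A] B
  have hint : Algebra.IsIntegral R C := inferInstance
  have hp : (Ideal.comap (toLoc m n hn.le).toRingHom
      (IsLocalRing.maximalIdeal (Localization.AtPrime n))).IsPrime := Ideal.comap_isPrime _ _
  refine Ideal.isMaximal_of_isIntegral_of_isMaximal_comap (R := R) _ ?_
  have h1 : (Ideal.comap (algebraMap R C) (Ideal.comap (toLoc m n hn.le).toRingHom
      (IsLocalRing.maximalIdeal (Localization.AtPrime n)))) = IsLocalRing.maximalIdeal R := by
    have hp2 : (Ideal.comap (algebraMap R C) (Ideal.comap (toLoc m n hn.le).toRingHom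
      (IsLocalRing.maximalIdeal (Localization.AtPrime n)))).IsPrime := Ideal.comap_isPrime _ _
    apply le_antisymm (IsLocalRing.le_maximalIdeal hp2.ne_top)
    rw [← Localization.AtPrime.map_eq_maximalIdeal, Ideal.map_le_iff_le_comap]
    intro a ha
    change toLoc m n hn.le (algebraMap R C (algebraMap A R a)) ∈
      IsLocalRing.maximalIdeal (Localization.AtPrime n)
    rw [← IsScalarTower.algebraMap_apply A R C, AlgHom.commutes,
      IsScalarTower.algebraMap_apply A B (Localization.AtPrime n)]
    rw [← hn] at ha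
    exact (IsLocalization.AtPrime.to_map_mem_maximal_iff _ n _).2 ha
  rw [h1]
  infer_instance

/-- If `q ⊆ n₁, n₂` with `n₁`, `n₂` over the same maximal ideal `m` with `A_m` henselian, then
`n₁ = n₂`. -/
theorem eq_of_le_of_le (m : Ideal A) [hm : m.IsMaximal] (hh : HenselianLocalRing (Localization.AtPrime m))
    (q n₁ n₂ : Ideal B) [q.IsPrime] [n₁.IsPrime] [n₂.IsPrime]
    (h₁ : n₁.comap (algebraMap A B) = m) (h₂ : n₂.comap (algebraMap A B) = m) (hq₁ : q ≤ n₁)
    (hq₂ : q ≤ n₂) : n₁ = n₂ := by
  have hm1 := comap_isMaximal m n₁ h₁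
  have hm2 := comap_isMaximal m n₂ h₂
  set N₁ := (Ideal.comap (toLoc m n₁ h₁.le).toRingHom
      (IsLocalRing.maximalIdeal (Localization.AtPrime n₁)))
  set N₂ := (Ideal.comap (toLoc m n₂ h₂.le).toRingHom
      (IsLocalRing.maximalIdeal (Localization.AtPrime n₂)))
  obtain ⟨e, he, he1, he2⟩ := Groth.Agent.Hensel.LocalSplit.exists_isIdempotentElem_of_isMaximal
    (Localization.AtPrime m) (S := Localization.AtPrime m ⊗[A] B) N₁
  have hN : N₂ = N₁ := by
    by_contra hne
    have he3 : e ∈ N₂ := he2 N₂ hm2 hne
    -- `e` becomes `1` in `B_{n₁}` and `0` in `B_{n₂}`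
    have e1 : toLoc m n₁ h₁.le e = 1 := by
      have hu : IsUnit (toLoc m n₁ h₁.le e) := by
        by_contra hn
        exact he1 ((IsLocalRing.mem_maximalIdeal _).2 hn)
      have hid : toLoc m n₁ h₁.le e * toLoc m n₁ h₁.le e = toLoc m n₁ h₁.le e * 1 := by
        rw [← map_mul, he.eq, mul_one]
      exact hu.mul_left_cancel hid
    have e2 : toLoc m n₂ h₂.le e = 0 := by
      have hu : IsUnit (1 - toLoc m n₂ h₂.le e) := by
        by_contra hn
        have h3 : (1 - toLoc m n₂ h₂.le e) ∈ IsLocalRing.maximalIdeal (Localization.AtPrime n₂) :=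
          (IsLocalRing.mem_maximalIdeal _).2 hn
        have h4 : toLoc m n₂ h₂.le e ∈ IsLocalRing.maximalIdeal (Localization.AtPrime n₂) := he3
        have h5 := Ideal.add_mem _ h3 h4
        rw [sub_add_cancel] at h5
        exact (Ideal.ne_top_iff_one _).1 (IsLocalRing.maximalIdeal.isMaximal _).ne_top h5
      have hid : (1 - toLoc m n₂ h₂.le e) * toLoc m n₂ h₂.le e = 0 := by
        rw [sub_mul, one_mul, ← map_mul, he.eq, sub_self]
      exact (hu.mul_right_eq_zero).1 hid
    have key : ∀ (n : Ideal B) [n.IsPrime] (hn : n.comap (algebraMap A B) = m) (hqn : q ≤ n),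
        ∃ φ : Localization.AtPrime n →ₐ[B] Localization.AtPrime q,
          ∀ x, φ (toLoc m n hn.le x) = toLoc m q ((Ideal.comap_mono hqn).trans hn.le) x := by
      intro n _ hn hqn
      let φ : Localization.AtPrime n →ₐ[B] Localization.AtPrime q :=
        IsLocalization.liftAlgHom (M := n.primeCompl) (f := Algebra.ofId B (Localization.AtPrime q))
          (fun y => IsLocalization.map_units (Localization.AtPrime q)
            (⟨y.1, fun h => y.2 (hqn h)⟩ : q.primeCompl))
      exact ⟨φ, fun x => DFunLike.congr_fun (toLoc_comp m q n hqn hn.le φ) x⟩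
    obtain ⟨φ₁, hφ₁⟩ := key n₁ h₁ hq₁
    obtain ⟨φ₂, hφ₂⟩ := key n₂ h₂ hq₂
    have e3 := hφ₁ e
    have e4 := hφ₂ e
    rw [e1, map_one] at e3
    rw [e2, map_zero] at e4
    exact one_ne_zero (e3.trans e4.symm)
  have hc : ∀ (n : Ideal B) [n.IsPrime] (hn : n.comap (algebraMap A B) = m),
      Ideal.comap (Algebra.TensorProduct.includeRight : B →ₐ[A] Localization.AtPrime m ⊗[A] B).toRingHom
        (Ideal.comap (toLoc m n hn.le).toRingHom
          (IsLocalRing.maximalIdeal (Localization.AtPrime n))) = n := by
    intro n _ hn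
    ext b
    change toLoc m n hn.le ((1 : Localization.AtPrime m) ⊗ₜ[A] b) ∈
      IsLocalRing.maximalIdeal (Localization.AtPrime n) ↔ _
    rw [toLoc_tmul]
    exact IsLocalization.AtPrime.to_map_mem_maximal_iff _ n _
  rw [← hc n₁ h₁, ← hc n₂ h₂]
  change _ = Ideal.comap _ N₂
  rw [hN]

theorem toLoc_surjective (m : Ideal A) [hm : m.IsMaximal] (hh : HenselianLocalRing (Localization.AtPrime m))
    (n : Ideal B) [n.IsPrime] (hn : n.comap (algebraMap A B) = m) :
    Function.Surjective (toLoc m n hn.le) := by
  have hm1 := comap_isMaximal m n hn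
  set N := (Ideal.comap (toLoc m n hn.le).toRingHom
      (IsLocalRing.maximalIdeal (Localization.AtPrime n)))
  obtain ⟨e, he, he1, he2⟩ := Groth.Agent.Hensel.LocalSplit.exists_isIdempotentElem_of_isMaximal
    (Localization.AtPrime m) (S := Localization.AtPrime m ⊗[A] B) N
  have e1 : toLoc m n hn.le e = 1 := by
    have hu : IsUnit (toLoc m n hn.le e) := by
      by_contra hn
      exact he1 ((IsLocalRing.mem_maximalIdeal _).2 hn)
    have hid : toLoc m n hn.le e * toLoc m n hn.le e = toLoc m n hn.le e * 1 := by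
      rw [← map_mul, he.eq, mul_one]
    exact hu.mul_left_cancel hid
  intro d
  obtain ⟨b, s, rfl⟩ := IsLocalization.exists_mk'_eq n.primeCompl d
  let s' : Localization.AtPrime m ⊗[A] B := 1 ⊗ₜ[A] s.1
  let t := s' * e + (1 - e)
  have ht1 : toLoc m n hn.le t = algebraMap B _ s.1 := by
    simp only [t, s', map_add, map_mul, map_sub, map_one, e1, toLoc_tmul, mul_one, sub_self, add_zero]
  have ht : IsUnit t := by
    by_contra hnu
    obtain ⟨N', hN', htN'⟩ := exists_max_ideal_of_mem_nonunits hnu
    by_cases hNN : N' = N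
    · subst hNN
      have h1 : toLoc m n hn.le t ∈ IsLocalRing.maximalIdeal (Localization.AtPrime n) := htN'
      rw [ht1] at h1
      exact s.2 ((IsLocalization.AtPrime.to_map_mem_maximal_iff _ n _).1 h1)
    · have h1 : e ∈ N' := he2 N' hN' hNN
      have h2 : (1 : Localization.AtPrime m ⊗[A] B) = t - s' * e + e := by
        simp only [t]; ring
      apply (Ideal.ne_top_iff_one _).1 hN'.ne_top
      rw [h2]
      exact N'.add_mem (N'.sub_mem htN' (N'.mul_mem_left _ h1)) h1
  refine ⟨ht.unit⁻¹.1 * (1 ⊗ₜ[A] b), ?_⟩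
  rw [IsLocalization.eq_mk'_iff_mul_eq, map_mul, toLoc_tmul, ← ht1, mul_comm, ← mul_assoc, ← map_mul]
  simp

theorem isStrictlyHenselian (m : Ideal A) [hm : m.IsMaximal]
    (hh : EtCoh.IsStrictlyHenselianLocalRing (Localization.AtPrime m))
    (n : Ideal B) [n.IsPrime] (hn : n.comap (algebraMap A B) = m) :
    EtCoh.IsStrictlyHenselianLocalRing (Localization.AtPrime n) := by
  obtain ⟨h1, h2⟩ := hh
  have hsurj := toLoc_surjective m h1 n hn
  let R := Localization.AtPrime m
  let C := R ⊗[A] B
  let D := Localization.AtPrime n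
  let g : R →+* D := (toLoc m n hn.le).toRingHom.comp (algebraMap R C)
  let : Algebra R D := g.toAlgebra
  let φ : C →ₐ[R] D := { (toLoc m n hn.le).toRingHom with commutes' := fun r => rfl }
  have hfin : Module.Finite R D := Module.Finite.of_surjective φ.toLinearMap hsurj
  have h3 : HenselianLocalRing D := Groth.Agent.S0505.result R D
  have hloc : IsLocalHom (algebraMap R D) := by
    refine ((IsLocalRing.local_hom_TFAE (algebraMap R D)).out 0 4).mpr ?_
    exact IsLocalRing.eq_maximalIdeal
      (Ideal.isMaximal_comap_of_isIntegral_of_isMaximal (R := R) (IsLocalRing.maximalIdeal D))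
  have h4 : Algebra.IsAlgebraic (IsLocalRing.ResidueField R) (IsLocalRing.ResidueField D) := inferInstance
  exact ⟨h3, Algebra.IsAlgebraic.isSepClosed (F := IsLocalRing.ResidueField R)
    (E := IsLocalRing.ResidueField D)⟩

end

end Groth.Agent.Proet.FinWLocal
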