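import Mathlib.RingTheory.Flat.EquationalCriterion
import Mathlib.RingTheory.FinitePresentation
import Mathlib.RingTheory.Flat.FaithfullyFlat.Basic

/-!
# Flatness from factorizations of maps from finitely presented algebras
-/

universe u

namespace Groth.Agent.Proet.FlatFactor

/-- If every map from a finitely presented `A`-algebra to `B` factors through a flat `A`-algebra,
then `B` is flat over `A`. -/
theorem flat_of_factor {A B : Type u} [CommRing A] [CommRing B] [Algebra A B]
    (H : ∀ (Z : Type u) [CommRing Z] [Algebra A Z] [Algebra.FinitePresentation A Z]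
      (g : Z →ₐ[A] B), ∃ (W : Type u) (_ : CommRing W) (_ : Algebra A W) (u : Z →ₐ[A] W)
        (v : W →ₐ[A] B), Module.Flat A W ∧ v.comp u = g) : Module.Flat A B := by
  refine Module.Flat.of_forall_isTrivialRelation fun {l f x} hfx => ?_
  let r : MvPolynomial (Fin l) A := ∑ i, f i • MvPolynomial.X i
  let Z := MvPolynomial (Fin l) A ⧸ Ideal.span {r}
  have : Algebra.FinitePresentation A Z :=
    Algebra.FinitePresentation.quotient ⟨{r}, by simp⟩
  let g0 : MvPolynomial (Fin l) A →ₐ[A] B := MvPolynomial.aeval x
  have hg0 : g0 r = 0 := by simpa [g0, r] using hfx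
  let g : Z →ₐ[A] B := Ideal.Quotient.liftₐ _ g0 (by
    intro a ha
    have : Ideal.span {r} ≤ RingHom.ker g0.toRingHom := by
      rw [Ideal.span_le, Set.singleton_subset_iff]
      exact hg0
    exact this ha)
  obtain ⟨W, _, _, u, v, hW, huv⟩ := H Z g
  have h1 : ∑ i, f i • u (Ideal.Quotient.mk _ (MvPolynomial.X i)) = 0 := by
    have : u (Ideal.Quotient.mk _ r) = 0 := by
      rw [Ideal.Quotient.eq_zero_iff_mem.2 (Ideal.mem_span_singleton_self r), map_zero]
    rw [← this]
    simp only [r, map_sum]
    refine Finset.sum_congr rfl fun i _ => ?_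
    rw [← Ideal.Quotient.mkₐ_eq_mk A, map_smul, map_smul]
  obtain ⟨k, a, y, hy, hy'⟩ := Module.Flat.isTrivialRelation_of_sum_smul_eq_zero h1
  refine ⟨k, a, fun j => v (y j), fun i => ?_, hy'⟩
  have h2 : x i = v (u (Ideal.Quotient.mk _ (MvPolynomial.X i))) := by
    have := DFunLike.congr_fun huv (Ideal.Quotient.mk _ (MvPolynomial.X i))
    rw [AlgHom.comp_apply] at this
    rw [this]
    change x i = g0 (MvPolynomial.X i)
    simp [g0]
  have h3 := congrArg v (hy i)
  simp only [map_sum, map_smul] at h3
  rw [h2, h3]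

end Groth.Agent.Proet.FlatFactor
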