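import Groth.Agent.Proet.QcqsBasis

/-!
# Pro-etale cohomology of quasi-compact quasi-separated schemes and filtered colimits
-/

set_option autoImplicit false
universe v₁ u₁ w' w v u

open CategoryTheory Category Limits Opposite Simplicial AlgebraicGeometry Abelian

noncomputable section

namespace Groth.Agent.Proet.HPFColim

open ZU CechEl FiltSheaf WCBasic QcqsBasis

section General

variable {C : Type u} [Category.{v} C] [LocallySmall.{w} C] (J : GrothendieckTopology C)
  [HasSheafify J AddCommGrpCat.{w}] [HasExt.{w'} (Sheaf J AddCommGrpCat.{w})]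

/-- `H^n(C, -)` is `Ext^n(ℤ, -)`. -/
def functorHIsoExt (n : ℕ) : Sheaf.functorH.{w'} J n ≅
    extFunctorObj.{w'} ((constantSheaf J AddCommGrpCat.{w}).obj
      (AddCommGrpCat.of (ULift ℤ))) n :=
  Iso.refl _

/-- `H^n(C, -)` is `Ext^n(Z_T, -)` for `T` terminal. -/
def functorHIso {T : C} (hT : IsTerminal T) (n : ℕ) :
    Sheaf.functorH.{w'} J n ≅ extFunctorObj.{w'} ((zF.{w} J).obj T) n :=
  functorHIsoExt J n ≪≫ ((extFunctor.{w'} n).mapIso (isoConst J hT).symm.op)

theorem additive_ext {A : Type u} [Category.{v} A] [Abelian A] [HasExt.{w} A] (X : A) (n : ℕ) :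
    (extFunctorObj.{w} X n).Additive where
  map_add {F G f g} := by
    apply ConcreteCategory.hom_ext
    intro x
    change Ext.comp x (Ext.mk₀ (f + g)) (add_zero n) =
      Ext.comp x (Ext.mk₀ f) (add_zero n) + Ext.comp x (Ext.mk₀ g) (add_zero n)
    rw [Ext.mk₀_add, Ext.comp_add]

theorem preservesFiniteCoproducts_ext {A : Type u} [Category.{v} A] [Abelian A] [HasExt.{w} A]
    (X : A) (n : ℕ) : PreservesFiniteCoproducts (extFunctorObj.{w} X n) := by
  have := additive_ext X n
  infer_instance

end General

section ProEt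

variable (X : Scheme.{u})

/-- sheafification on the small pro-etale site (universe-pinned) -/
theorem hasSheafify : HasSheafify (Scheme.ProEt.topology X) AddCommGrpCat.{u + 1} :=
  inferInstance

attribute [local instance 3000] hasSheafify

theorem hasExt : HasExt.{u + 1} (ProEtS.AbP X) := inferInstance

attribute [local instance 3000] hasExt

/-- the final object of the small pro-etale site -/
def isTerminalTop : IsTerminal (ProEtS.topP X) :=
  MorphismProperty.Over.mkIdTerminal _ _

/-- `Z_U` on the small pro-etale site -/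
abbrev zP : X.ProEt ⥤ ProEtS.AbP X := zF.{u + 1} (Scheme.ProEt.topology X)

/-- The cohomology functor is `Ext^n(Z_T, -)`. -/
def HPFIso (n : ℕ) :
    ProEtS.HPF X n ≅ extFunctorObj.{u + 1} ((zP X).obj (ProEtS.topP X)) n :=
  functorHIso.{u + 1, u + 1} (Scheme.ProEt.topology X) (isTerminalTop X) n

variable [CompactSpace X] [QuasiSeparatedSpace X]

omit [CompactSpace X] [QuasiSeparatedSpace X] in
theorem hasExactColimits (K : Type (u + 1)) [SmallCategory K] [IsFiltered K] :
    HasExactColimitsOfShape K (ProEtS.AbP X) := inferInstance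

theorem preservesFiltered (n : ℕ) (K : Type (u + 1)) [SmallCategory K] [IsFiltered K] :
    PreservesColimitsOfShape K (ProEtS.HPF X n) := by
  have := hasExactColimits X K
  have h := preservesColimitsOfShape_ext.{u + 1, u + 1} (K := K) (finBasis X) (ProEtS.topP X)
    ⟨‹_›, ‹_›⟩ n
  exact preservesColimitsOfShape_of_natIso (HPFIso X n).symm

omit [CompactSpace X] [QuasiSeparatedSpace X] in
theorem preservesFiniteCoproducts_HPF (n : ℕ) : PreservesFiniteCoproducts (ProEtS.HPF X n) := by
  have := preservesFiniteCoproducts_ext ((zP X).obj (ProEtS.topP X)) n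
  exact ⟨fun k => preservesColimitsOfShape_of_natIso (HPFIso X n).symm⟩

omit [CompactSpace X] [QuasiSeparatedSpace X] in
theorem hasColimitsOfShape (K : Type (u + 1)) [SmallCategory K] :
    HasColimitsOfShape K (ProEtS.AbP X) :=
  have : HasColimitsOfShape K AddCommGrpCat.{u + 1} := inferInstance
  CategoryTheory.Sheaf.instHasColimitsOfShape

omit [CompactSpace X] [QuasiSeparatedSpace X] in
theorem hasFiniteCoproducts : HasFiniteCoproducts (ProEtS.AbP X) := inferInstance

theorem preservesCoproducts (n : ℕ) (ι : Type (u + 1)) :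
    PreservesColimitsOfShape (Discrete ι) (ProEtS.HPF X n) := by
  have h1 := preservesFiltered X n (Finset (Discrete ι))
  have := hasColimitsOfShape X (Finset (Discrete ι))
  have := hasColimitsOfShape X (Discrete ι)
  have := preservesFiniteCoproducts_HPF X n
  exact CoprodFilt.preservesColimitsOfShape_discrete (α := ι) (ProEtS.HPF X n)

theorem preservesCoproducts' (n : ℕ) (ι : Type u) :
    PreservesColimitsOfShape (Discrete ι) (ProEtS.HPF X n) := by
  have := preservesCoproducts X n (ULift.{u + 1} ι)
  exact preservesColimitsOfShape_of_equiv (Discrete.equivalence Equiv.ulift.{u + 1}) _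

end ProEt

end Groth.Agent.Proet.HPFColim
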