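import Groth.Agent.Proet.EtaleCoref
import Groth.Agent.Proet.EtaleLiftMap

/-!
# Ind-étale algebras lift along surjections (Stacks 097P)

* `exists_indEtale_lift`: `A → R` surjective with kernel `I`, `Cb` ind-étale over `R`; then there is an ind-étale
  `A`-algebra `C` and `π : C → Cb` surjective with kernel `I C`, universal among maps from étale `A`-algebras to `Cb`.
* `existsUnique_of_isInd`: the universal property of the coreflection for all ind-`P` algebras.
-/

set_option autoImplicit false
universe u
open TensorProduct CategoryTheory CategoryTheory.Limits Polynomial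

namespace Groth.Agent.Proet.IndEtaleLift

open Groth.Agent.Proet.FacM Groth.Agent.Proet.EtaleCoref

theorem exists_indEtale_lift {A R Cb : Type u} [CommRing A] [CommRing R] [Algebra A R]
    (hs : Function.Surjective (algebraMap A R)) [CommRing Cb] [Algebra R Cb] [Algebra A Cb]
    [IsScalarTower A R Cb] (h : EtPBC.IsIndEtale R Cb) :
    ∃ (C : Type u) (_ : CommRing C) (_ : Algebra A C) (π : C →ₐ[A] Cb),
      EtPBC.IsIndEtale A C ∧ Function.Surjective π ∧
      RingHom.ker π = (RingHom.ker (algebraMap A R)).map (algebraMap A C) ∧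
      ∀ (W : Type u) [CommRing W] [Algebra A W], Algebra.Etale A W → ∀ g : W →ₐ[A] Cb,
        ∃! h : W →ₐ[A] C, π.comp h = g := by
  obtain ⟨C, _, _, π, hC, hπ⟩ := exists_coreflection (A := A) (P := Et A) good_etale Cb
  have hfac : Fac R (Et R) Cb := fac_of_isInd (P := Et R) h
  have hfacC : Fac A (Et A) C := fac_of_isInd hC
  refine ⟨C, _, _, π, hC, ?_, ?_, hπ⟩
  · intro c
    obtain ⟨Wb, _, _, a, b, hWb, hab⟩ := hfac R[X] (aeval c)
    let : Algebra A Wb := ((algebraMap R Wb).comp (algebraMap A R)).toAlgebra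
    have : IsScalarTower A R Wb := IsScalarTower.of_algebraMap_eq' rfl
    have : Algebra.Etale R Wb := hWb
    obtain ⟨W, _, _, π₁, hW, hπ₁, -⟩ := EtaleLiftMap.exists_etale_lift' (A := A) (R := R) (T := Wb) hs
    obtain ⟨h1, hh1, -⟩ := hπ W hW ((b.restrictScalars A).comp π₁)
    obtain ⟨w, hw⟩ := hπ₁ (a X)
    refine ⟨h1 w, ?_⟩
    have := congrArg (fun f => f w) hh1
    simp only [AlgHom.comp_apply, AlgHom.restrictScalars_apply] at this
    rw [this, hw, ← AlgHom.comp_apply, hab, aeval_X]
  · apply le_antisymm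
    · intro c hc
      rw [RingHom.mem_ker] at hc
      obtain ⟨W, _, _, a, v, hW, hav⟩ := hfacC A[X] (aeval c)
      have hW' : Algebra.Etale A W := hW
      have hvc : v (a X) = c := by rw [← AlgHom.comp_apply, hav, aeval_X]
      let w := a X
      let g : W →ₐ[A] Cb := π.comp v
      have hgw : g w = 0 := by simp only [g, AlgHom.comp_apply, w, hvc, hc]
      let G : R ⊗[A] W →ₐ[R] Cb := Algebra.TensorProduct.lift (Algebra.ofId R Cb) g (fun _ _ => Commute.all _ _)
      have hG : ∀ x, G (1 ⊗ₜ x) = g x := fun x => by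
        change (Algebra.TensorProduct.lift (Algebra.ofId R Cb) g _) (1 ⊗ₜ x) = _
        rw [Algebra.TensorProduct.lift_tmul, map_one, one_mul]
      let T₀ := (R ⊗[A] W) ⧸ Ideal.span {(1 : R) ⊗ₜ[A] w}
      have hT₀ : Algebra.FinitePresentation R T₀ :=
        Algebra.FinitePresentation.quotient ⟨{(1 : R) ⊗ₜ[A] w}, by simp⟩
      let G₀ : T₀ →ₐ[R] Cb := Ideal.Quotient.liftₐ _ G (by
        intro x hx
        have : Ideal.span {(1 : R) ⊗ₜ[A] w} ≤ RingHom.ker G := by
          rw [Ideal.span_le, Set.singleton_subset_iff, SetLike.mem_coe, RingHom.mem_ker, hG, hgw]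
        exact this hx)
      obtain ⟨T, _, _, a', b, hT, hab⟩ := hfac T₀ G₀
      let : Algebra A T := ((algebraMap R T).comp (algebraMap A R)).toAlgebra
      have : IsScalarTower A R T := IsScalarTower.of_algebraMap_eq' rfl
      have hT' : Algebra.Etale R T := hT
      let φ : W →ₐ[A] T := ((a'.comp (Ideal.Quotient.mkₐ R _)).restrictScalars A).comp
        Algebra.TensorProduct.includeRight
      have hφw : φ w = 0 := by
        change a' (Ideal.Quotient.mk _ ((1 : R) ⊗ₜ[A] w)) = 0
        rw [Ideal.Quotient.eq_zero_iff_mem.mpr (Ideal.mem_span_singleton_self _), map_zero]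
      have hbφ : (b.restrictScalars A).comp φ = g := by
        ext x
        change b (a' (Ideal.Quotient.mk _ ((1 : R) ⊗ₜ[A] x))) = g x
        rw [← AlgHom.comp_apply, hab, ← hG]
        rfl
      obtain ⟨W₂, _, _, uu, π₂, hW₂, -, hk, hu⟩ := EtaleLiftMap.exists_etale_lift_map (A := A) (R := R) (T := T) hs φ
      obtain ⟨h₂, hh₂, -⟩ := hπ W₂ hW₂ ((b.restrictScalars A).comp π₂)
      have hv : h₂.comp uu = v := by
        apply (hπ W hW g).unique
        · rw [← AlgHom.comp_assoc, hh₂, AlgHom.comp_assoc, hu, hbφ]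
        · rfl
      have h1 : uu w ∈ (RingHom.ker (algebraMap A R)).map (algebraMap A W₂) := by
        rw [← hk, RingHom.mem_ker, ← AlgHom.comp_apply, hu, hφw]
      have h2 := Ideal.mem_map_of_mem h₂.toRingHom h1
      rw [Ideal.map_map] at h2
      have h3 : h₂.toRingHom.comp (algebraMap A W₂) = algebraMap A C := h₂.comp_algebraMap
      rw [h3] at h2
      have h4 : h₂.toRingHom (uu w) = c := by
        change h₂ (uu w) = c
        rw [← AlgHom.comp_apply, hv]
        exact hvc
      rwa [h4] at h2
    · rw [Ideal.map_le_iff_le_comap]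
      intro a ha
      rw [Ideal.mem_comap, RingHom.mem_ker, AlgHom.commutes, IsScalarTower.algebraMap_apply A R Cb,
        RingHom.mem_ker.mp ha, map_zero]

end Groth.Agent.Proet.IndEtaleLift
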