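import Groth.Agent.Proet.LocIsoSpread

/-!
# Ind-Zariski algebras: composition, base change, cancellation, localizations
-/

set_option autoImplicit false
set_option linter.unusedVariables false
set_option linter.unusedSectionVars false
universe u

open CategoryTheory CategoryTheory.Limits TensorProduct

namespace Groth.Agent.Proet

namespace IndZariski

open IndAlg

/-- cancellation for standard open immersions -/
theorem isStandardOpenImmersion_cancel (A S T : Type*) [CommRing A] [CommRing S] [CommRing T]
    [Algebra A S] [Algebra A T] [Algebra S T] [IsScalarTower A S T]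
    [h1 : Algebra.IsStandardOpenImmersion A S] [h2 : Algebra.IsStandardOpenImmersion A T] :
    Algebra.IsStandardOpenImmersion S T := by
  obtain ⟨f', hf'⟩ := h1
  obtain ⟨f, hf⟩ := h2
  refine ⟨algebraMap A S f, ?_, ?_, ?_⟩
  · rintro ⟨_, n, rfl⟩
    change IsUnit (algebraMap S T (algebraMap A S f ^ n))
    rw [map_pow, ← IsScalarTower.algebraMap_apply]
    exact (IsLocalization.Away.algebraMap_isUnit f).pow n
  · intro t
    obtain ⟨⟨a, ⟨w, n, hn⟩⟩, h⟩ := IsLocalization.surj (Submonoid.powers f) t
    have hn : f ^ n = w := hn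
    have h : t * algebraMap A T w = algebraMap A T a := h
    refine ⟨⟨algebraMap A S a, ⟨_, n, rfl⟩⟩, ?_⟩
    change t * algebraMap S T (algebraMap A S f ^ n) = algebraMap S T (algebraMap A S a)
    rw [map_pow, ← IsScalarTower.algebraMap_apply, ← IsScalarTower.algebraMap_apply, ← h, ← hn,
      map_pow]
  · intro x y hxy
    obtain ⟨⟨a, ⟨w, n, hn⟩⟩, ha⟩ := IsLocalization.surj (Submonoid.powers f') x
    obtain ⟨⟨b, ⟨w', m, hm⟩⟩, hb⟩ := IsLocalization.surj (Submonoid.powers f') y
    have hn : f' ^ n = w := hn
    have hm : f' ^ m = w' := hm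
    have ha : x * algebraMap A S w = algebraMap A S a := ha
    have hb : y * algebraMap A S w' = algebraMap A S b := hb
    have key : algebraMap A T (a * w') = algebraMap A T (b * w) := by
      rw [IsScalarTower.algebraMap_apply A S T, IsScalarTower.algebraMap_apply A S T,
        map_mul (algebraMap A S) a w', map_mul (algebraMap A S) b w, ← ha, ← hb, map_mul, map_mul,
        map_mul, map_mul, hxy]
      ring
    obtain ⟨⟨v, l, hl⟩, hv⟩ := (IsLocalization.eq_iff_exists (Submonoid.powers f) T).mp key
    have hl : f ^ l = v := hl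
    have hv : v * (a * w') = v * (b * w) := hv
    refine ⟨⟨_, l, rfl⟩, ?_⟩
    change algebraMap A S f ^ l * x = algebraMap A S f ^ l * y
    have hu : IsUnit (algebraMap A S w * algebraMap A S w') := by
      rw [← hn, ← hm, map_pow, map_pow]
      exact ((IsLocalization.Away.algebraMap_isUnit f').pow n).mul
        ((IsLocalization.Away.algebraMap_isUnit f').pow m)
    apply hu.mul_left_injective
    have := congrArg (algebraMap A S) hv
    rw [map_mul, map_mul, map_mul, map_mul, ← ha, ← hb, ← hl, map_pow] at this
    change algebraMap A S f ^ l * x * (algebraMap A S w * algebraMap A S w') =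
      algebraMap A S f ^ l * y * (algebraMap A S w * algebraMap A S w')
    linear_combination this

/-- cancellation for local isomorphisms -/
theorem isLocalIso_cancel (A B C : Type*) [CommRing A] [CommRing B] [CommRing C]
    [Algebra A B] [Algebra A C] [Algebra B C] [IsScalarTower A B C]
    [h1 : Algebra.IsLocalIso A B] [h2 : Algebra.IsLocalIso A C] : Algebra.IsLocalIso B C := by
  constructor
  intro q hq
  obtain ⟨g, hg, hgs⟩ := Algebra.IsLocalIso.exists_notMem_isStandardOpenImmersion (R := A)
    (q.comap (algebraMap B C))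
  obtain ⟨h, hh, hhs⟩ := Algebra.IsLocalIso.exists_notMem_isStandardOpenImmersion (R := A) q
  refine ⟨h * algebraMap B C g, fun hmem => ?_, ?_⟩
  · rcases hq.mem_or_mem hmem with h' | h'
    · exact hh h'
    · exact hg h'
  let Ch := Localization.Away h
  let L := Localization.Away (algebraMap C Ch (algebraMap B C g))
  have hL : IsLocalization.Away (h * algebraMap B C g) L := IsLocalization.Away.mul' Ch L h _
  have s1 : Algebra.IsStandardOpenImmersion A L := Algebra.IsStandardOpenImmersion.trans A Ch L
  have hu1 : IsUnit (algebraMap B L g) := by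
    rw [IsScalarTower.algebraMap_apply B C L, IsScalarTower.algebraMap_apply C Ch L]
    exact IsLocalization.Away.algebraMap_isUnit _
  let φ : Localization.Away g →ₐ[B] L :=
    IsLocalization.liftAlgHom (M := Submonoid.powers g) (f := Algebra.ofId B L) (by
      rintro ⟨_, n, rfl⟩
      change IsUnit (algebraMap B L (g ^ n))
      rw [map_pow]
      exact hu1.pow n)
  let := φ.toRingHom.toAlgebra
  have t1 : IsScalarTower B (Localization.Away g) L := .of_algebraMap_eq fun x =>
    (φ.commutes x).symm
  have t2 : IsScalarTower A (Localization.Away g) L := .of_algebraMap_eq fun x => by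
    rw [IsScalarTower.algebraMap_apply A B (Localization.Away g), ← t1.algebraMap_apply]
    have e1 := IsScalarTower.algebraMap_apply A C L x
    have e2 := IsScalarTower.algebraMap_apply A B C x
    have e3 := IsScalarTower.algebraMap_apply B C L (algebraMap A B x)
    rw [e1, e2, e3]
  have s2 : Algebra.IsStandardOpenImmersion (Localization.Away g) L :=
    isStandardOpenImmersion_cancel A (Localization.Away g) L
  have s3 : Algebra.IsStandardOpenImmersion B L :=
    Algebra.IsStandardOpenImmersion.trans B (Localization.Away g) L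
  let e : L ≃ₐ[C] Localization.Away (h * algebraMap B C g) :=
    IsLocalization.algEquiv (Submonoid.powers (h * algebraMap B C g)) _ _
  exact Algebra.IsStandardOpenImmersion.of_algEquiv (e.restrictScalars B)

/-- ind-Zariski is stable under composition (cf. Stacks 096S). -/
theorem isIndZariski_trans (A B C : Type u) [CommRing A] [CommRing B] [CommRing C] [Algebra A B]
    [Algebra B C] [Algebra A C] [IsScalarTower A B C] (hAB : EtPBC.IsIndZariski A B)
    (hBC : EtPBC.IsIndZariski B C) : EtPBC.IsIndZariski A C :=
  good_locIso.indAlg_trans A B C hAB hBC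

/-- ind-Zariski is stable under base change. -/
theorem isIndZariski_baseChange (A B A' : Type u) [CommRing A] [CommRing B] [CommRing A']
    [Algebra A B] [Algebra A A'] (h : EtPBC.IsIndZariski A B) :
    EtPBC.IsIndZariski A' (A' ⊗[A] B) :=
  good_locIso.indAlg_baseChange A A' B h

theorem isIndZariski_cancel (A B C : Type u) [CommRing A] [CommRing B]
    [CommRing C] [Algebra A B] [Algebra B C] [Algebra A C] [IsScalarTower A B C]
    (hB : EtPBC.IsIndZariski A B) (hC : EtPBC.IsIndZariski A C) : EtPBC.IsIndZariski B C :=
  good_locIso.indAlg_cancel good_fp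
    (fun A B C _ _ _ _ _ _ _ _ _ => isLocalIso_cancel A B C) A B C hB hC

theorem isIndZariski_of_algEquiv {A B B' : Type u} [CommRing A] [CommRing B] [CommRing B']
    [Algebra A B] [Algebra A B'] (e : B ≃ₐ[A] B') (h : EtPBC.IsIndZariski A B) :
    EtPBC.IsIndZariski A B' :=
  good_locIso.indAlg_of_algEquiv e h

theorem isIndZariski_of_isLocalIso (A B : Type u) [CommRing A] [CommRing B] [Algebra A B]
    [Algebra.IsLocalIso A B] : EtPBC.IsIndZariski A B :=
  good_locIso.indAlg_of_prop (A := A) (B := B) ‹_›

theorem isIndZariski_of_bijective (A B : Type u) [CommRing A] [CommRing B] [Algebra A B]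
    (h : Function.Bijective (algebraMap A B)) : EtPBC.IsIndZariski A B :=
  good_locIso.indAlg_of_bijective h

theorem isIndZariski_self (A : Type u) [CommRing A] : EtPBC.IsIndZariski A A :=
  isIndZariski_of_bijective A A Function.bijective_id

/-- An algebra all of whose finitely presented approximations factor through ind-Zariski algebras is
ind-Zariski. -/
theorem isIndZariski_of_factor_ind (A B : Type u) [CommRing A] [CommRing B] [Algebra A B]
    (h : ∀ (Z : Type u) [CommRing Z] [Algebra A Z], Algebra.FinitePresentation A Z →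
      ∀ g : Z →ₐ[A] B, ∃ (W : Type u) (_ : CommRing W) (_ : Algebra A W) (u : Z →ₐ[A] W)
        (v : W →ₐ[A] B), EtPBC.IsIndZariski A W ∧ v.comp u = g) : EtPBC.IsIndZariski A B := by
  rw [isIndZariski_iff_factor]
  intro Z _ _ hZ g
  obtain ⟨W, _, _, u, v, hW, huv⟩ := h Z hZ g
  obtain ⟨W', i1, i2, u', v', hW', huv'⟩ := (isIndZariski_iff_factor A W).mp hW Z hZ u
  exact ⟨W', i1, i2, u', v.comp v', hW', by rw [AlgHom.comp_assoc, huv', huv]⟩

theorem isIndEtale_of_factor_ind (A B : Type u) [CommRing A] [CommRing B] [Algebra A B]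
    (h : ∀ (Z : Type u) [CommRing Z] [Algebra A Z], Algebra.FinitePresentation A Z →
      ∀ g : Z →ₐ[A] B, ∃ (W : Type u) (_ : CommRing W) (_ : Algebra A W) (u : Z →ₐ[A] W)
        (v : W →ₐ[A] B), EtPBC.IsIndEtale A W ∧ v.comp u = g) : EtPBC.IsIndEtale A B := by
  rw [IndEtale.isIndEtale_iff_factor]
  intro Z _ _ hZ g
  obtain ⟨W, _, _, u, v, hW, huv⟩ := h Z hZ g
  obtain ⟨W', i1, i2, u', v', hW', huv'⟩ := (IndEtale.isIndEtale_iff_factor A W).mp hW Z hZ u
  exact ⟨W', i1, i2, u', v.comp v', hW', by rw [AlgHom.comp_assoc, huv', huv]⟩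

end IndZariski

end Groth.Agent.Proet
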