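import Groth.Agent.Proet.PullElem
import Mathlib.CategoryTheory.Sites.Abelian
import Mathlib.Algebra.Category.Grp.Abelian
import Mathlib.Algebra.Category.Grp.EpiMono
import Mathlib.CategoryTheory.Abelian.Exact
import Mathlib.Algebra.Homology.ShortComplex.ExactFunctor

/-!
# The pullback of abelian sheaves along a flat continuous functor is exact

General (arbitrary size) version, from the description of elements.
-/

set_option autoImplicit false
set_option linter.unusedSectionVars false
universe w v₁ v₂ u₁ u₂

open CategoryTheory CategoryTheory.Limits Opposite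

namespace Groth.Agent.Proet.PullExact

variable {C : Type u₁} [Category.{v₁} C] {D : Type u₂} [Category.{v₂} D] (G : C ⥤ D)
  (J : GrothendieckTopology C) (K : GrothendieckTopology D) [G.IsContinuous J K]
  [HasWeakSheafify K AddCommGrpCat.{w}] [K.WEqualsLocallyBijective AddCommGrpCat.{w}]
  [∀ P : Cᵒᵖ ⥤ AddCommGrpCat.{w}, G.op.HasPointwiseLeftKanExtension P]
  {L : Sheaf J AddCommGrpCat.{w} ⥤ Sheaf K AddCommGrpCat.{w}}
  (adj : L ⊣ G.sheafPushforwardContinuous AddCommGrpCat.{w} J K)
  [K.HasSheafCompose (forget AddCommGrpCat.{w})]
  [RepresentablyFlat G]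
  [∀ T : D, PreservesColimitsOfShape (CostructuredArrow G.op (op T)) (forget AddCommGrpCat.{w})]

/-- A monomorphism of sheaves of abelian groups is injective on sections. -/
theorem injective_of_mono {E : Type u₁} [Category.{v₁} E] {J : GrothendieckTopology E}
    {F F' : Sheaf J AddCommGrpCat.{w}} (f : F ⟶ F') [Mono f] (U : Eᵒᵖ) :
    Function.Injective (f.hom.app U) := by
  have h1 : Mono f.hom := inferInstanceAs (Mono ((sheafToPresheaf J _).map f))
  have h2 : Mono (f.hom.app U) := inferInstance
  exact (AddCommGrpCat.mono_iff_injective _).1 h2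

/-- A morphism of sheaves of abelian groups injective on sections is a monomorphism. -/
theorem mono_of_injective {E : Type u₁} [Category.{v₁} E] {J : GrothendieckTopology E}
    {F F' : Sheaf J AddCommGrpCat.{w}} (f : F ⟶ F')
    (h : ∀ U : Eᵒᵖ, Function.Injective (f.hom.app U)) : Mono f := by
  have h2 : ∀ U, Mono (f.hom.app U) := fun U => (AddCommGrpCat.mono_iff_injective _).2 (h U)
  have h1 : Mono ((sheafToPresheaf J _).map f) := NatTrans.mono_of_mono_app f.hom
  exact (sheafToPresheaf J _).mono_of_mono_map h1

include adj in
/-- The pullback preserves monomorphisms. -/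
theorem preservesMono : L.PreservesMonomorphisms where
  preserves {F F'} f hf := by
    apply mono_of_injective
    intro T
    rw [injective_iff_map_eq_zero]
    intro t ht
    obtain ⟨S, hS, H⟩ := PullElem.locally_rep G J K adj F T.unop t
    refine (L.obj F).isSeparated T.unop S hS t 0 ?_
    intro T' a ha
    obtain ⟨W, g, x, hx⟩ := H T' a ha
    have hnat : adj.unit.app F ≫ (G.sheafPushforwardContinuous AddCommGrpCat.{w} J K).map (L.map f) =
        f ≫ adj.unit.app F' := (adj.unit.naturality f).symm
    have h1 : (L.map f).hom.app (op (G.obj W)) ((adj.unit.app F).hom.app (op W) x) =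
        (adj.unit.app F').hom.app (op W) (f.hom.app (op W) x) :=
      congrArg (fun φ => φ.hom.app (op W) x) hnat
    have h2 : (L.obj F').obj.map g.op ((adj.unit.app F').hom.app (op W) (f.hom.app (op W) x)) = 0 := by
      have h3 : (L.obj F').obj.map g.op ((L.map f).hom.app (op (G.obj W))
          ((adj.unit.app F).hom.app (op W) x)) =
          (L.map f).hom.app (op T') ((L.obj F).obj.map g.op ((adj.unit.app F).hom.app (op W) x)) :=
        (ConcreteCategory.congr_hom ((L.map f).hom.naturality g.op) _).symm
      have h4 : (L.map f).hom.app (op T') ((L.obj F).obj.map a.op t) =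
          (L.obj F').obj.map a.op ((L.map f).hom.app T t) :=
        ConcreteCategory.congr_hom ((L.map f).hom.naturality a.op) t
      refine (congrArg _ h1.symm).trans (h3.trans ?_)
      have h5 := congrArg ((L.map f).hom.app (op T')) hx.symm
      refine h5.trans (h4.trans ?_)
      rw [ht, map_zero]
    obtain ⟨S', hS', H'⟩ := PullElem.locally_zero G J K adj F' T' W g (f.hom.app (op W) x) h2
    refine (L.obj F).isSeparated T' S' hS' _ _ ?_
    intro T'' b hb
    obtain ⟨W', k, g', hg', hk⟩ := H' T'' b hb
    have hk' : f.hom.app (op W') (F.obj.map k.op x) = 0 :=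
      (ConcreteCategory.congr_hom (f.hom.naturality k.op) x).trans hk
    have hk0 : F.obj.map k.op x = 0 := by
      apply injective_of_mono f (op W')
      rw [hk', map_zero]
    have h6 : (L.obj F).obj.map b.op ((L.obj F).obj.map a.op t) =
        (L.obj F).obj.map (b ≫ g).op ((adj.unit.app F).hom.app (op W) x) :=
      (congrArg _ hx).trans (ConcreteCategory.congr_hom ((L.obj F).obj.map_comp g.op b.op) _).symm
    rw [h6, map_zero, map_zero, ← hg']
    have h7 : (L.obj F).obj.map (G.map k).op ((adj.unit.app F).hom.app (op W) x) =
        (adj.unit.app F).hom.app (op W') (F.obj.map k.op x) :=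
      (ConcreteCategory.congr_hom ((adj.unit.app F).hom.naturality k.op) x).symm
    have h8 : (L.obj F).obj.map (g' ≫ G.map k).op ((adj.unit.app F).hom.app (op W) x) =
        (L.obj F).obj.map g'.op ((L.obj F).obj.map (G.map k).op ((adj.unit.app F).hom.app (op W) x)) :=
      ConcreteCategory.congr_hom ((L.obj F).obj.map_comp (G.map k).op g'.op) _
    rw [h8, h7, hk0, map_zero]
    exact map_zero ((L.obj F).obj.map g'.op).hom

include adj in
/-- The pullback preserves finite limits. -/
theorem preservesFiniteLimits [HasSheafify J AddCommGrpCat.{w}] [HasSheafify K AddCommGrpCat.{w}] :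
    PreservesFiniteLimits L := by
  have hadj := adj
  have : L.IsLeftAdjoint := adj.isLeftAdjoint
  have : PreservesColimits L := adj.leftAdjoint_preservesColimits
  have : L.PreservesZeroMorphisms := inferInstance
  have := preservesBinaryBiproducts_of_preservesBinaryCoproducts L
  have : L.Additive := Functor.additive_of_preservesBinaryBiproducts L
  have := preservesMono G J K adj
  have := L.preservesHomology_of_preservesMonos_and_cokernels
  exact L.preservesFiniteLimits_of_preservesHomology

end Groth.Agent.Proet.PullExact
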