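import Groth.Agent.Proet.SuppZ2
import Groth.Agent.Proet.PullExact

/-!
# Joint conservativity of `(i⁻¹, j⁻¹)` on pro-etale sheaves, exactness of `i⁻¹`, `j⁻¹`
-/

set_option autoImplicit false
universe u

open CategoryTheory CategoryTheory.Limits AlgebraicGeometry Opposite

namespace Groth.Agent.Proet.JointCons

set_option backward.isDefEq.respectTransparency.types false

/-- The affine open cover of an object generates a covering sieve. -/
theorem affineCover_mem {X : Scheme.{u}} (V : X.ProEt) :
    Sieve.ofArrows (fun k => Scheme.ProEt.mk (V.left.affineCover.f k ≫ V.hom))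
      (fun k => (MorphismProperty.Over.homMk (V.left.affineCover.f k) :
        Scheme.ProEt.mk (V.left.affineCover.f k ≫ V.hom) ⟶ V)) ∈ Scheme.ProEt.topology X V := by
  apply Precoverage.generate_mem_toGrothendieck
  have h : Presieve.ofArrows (fun k => Scheme.ProEt.mk (V.left.affineCover.f k ≫ V.hom))
      (fun k => (MorphismProperty.Over.homMk (V.left.affineCover.f k) :
        Scheme.ProEt.mk (V.left.affineCover.f k ≫ V.hom) ⟶ V)) ∈
        (Scheme.ProEt.precoverage X).coverings V := by
    rw [Cont.ofArrows_mem_precoverage_iff]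
    apply Scheme.etalePrecoverage_le_proetalePrecoverage
    rw [Scheme.etalePrecoverage, Scheme.ofArrows_mem_precoverage_iff]
    refine ⟨fun v => ?_, fun k => ?_⟩
    · obtain ⟨k, y, hy⟩ := V.left.affineCover.exists_eq v
      exact ⟨k, y, hy⟩
    · have : IsOpenImmersion (V.left.affineCover.f k) := inferInstance
      have : Etale (V.left.affineCover.f k) := inferInstance
      exact this
  exact h

/-- Sections are determined by their restriction to affine objects. -/
theorem eq_zero_of_affine {X : Scheme.{u}} (G : ProEtS.AbP X)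
    (h : ∀ (V : X.ProEt) [IsAffine V.left] (s : ProEtS.sectP G V), s = 0) (V : X.ProEt)
    (s : ProEtS.sectP G V) : s = 0 := by
  refine G.isSeparated V _ (affineCover_mem V) s 0 ?_
  rintro T f ⟨Y, a, b, ⟨k⟩, rfl⟩
  set g := (MorphismProperty.Over.homMk (V.left.affineCover.f k) :
        Scheme.ProEt.mk (V.left.affineCover.f k ≫ V.hom) ⟶ V) with hg
  have h1 : G.obj.map (a ≫ g).op s = G.obj.map a.op (G.obj.map g.op s) :=
    ConcreteCategory.congr_hom (G.obj.map_comp g.op a.op) s
  have h2 : G.obj.map g.op s = 0 := by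
    have : IsAffine (Scheme.ProEt.mk (V.left.affineCover.f k ≫ V.hom)).left :=
      inferInstanceAs (IsAffine (V.left.affineCover.X k))
    exact h _ _
  have h3 : G.obj.map a.op (G.obj.map g.op s) = G.obj.map a.op 0 :=
    congrArg (G.obj.map a.op).hom h2
  have h4 : G.obj.map (a ≫ g).op s = 0 := h1.trans (h3.trans (map_zero (G.obj.map a.op).hom))
  exact h4.trans (map_zero (G.obj.map (a ≫ g).op).hom).symm

theorem isZero_of_sections {X : Scheme.{u}} (G : ProEtS.AbP X)
    (h : ∀ (V : X.ProEt) [IsAffine V.left] (s : ProEtS.sectP G V), s = 0) : IsZero G := by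
  rw [IsZero.iff_id_eq_zero]
  apply Sheaf.hom_ext
  apply NatTrans.ext
  funext V
  ext s
  exact (eq_zero_of_affine G h V.unop _).trans (eq_zero_of_affine G h V.unop _).symm

/-- `i⁻¹` and `j⁻¹` are jointly conservative (on objects) when `j` is a quasi-compact open immersion
with image the complement of the closed immersion `i`. -/
theorem isZero_of_pull_of_restr {X Z U : Scheme.{u}} (i : Z ⟶ X) [IsClosedImmersion i] (j : U ⟶ X)
    [IsOpenImmersion j] [QuasiCompact j] (hc : Set.range j = (Set.range i)ᶜ) [ProEtS.JPCont j]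
    [ProEtS.PCont i] (G : ProEtS.AbP X) (hi : IsZero ((ProEtS.pullP i).obj G))
    (hj : IsZero ((ProEtS.restrP j).obj G)) : IsZero G := by
  apply isZero_of_sections
  intro V hVa s
  have hZ2 : IsZero ((ProEtS.pushP i).obj ((ProEtS.pullP i).obj G)) := (ProEtS.pushP i).map_isZero hi
  have hs : ((ProEtS.pullPushAdjP i).unit.app G).hom.app (op V) s = 0 := by
    have h0 : (ProEtS.pullPushAdjP i).unit.app G = 0 := hZ2.eq_of_tgt _ _
    rw [h0]
    rfl
  have hcl : IsClosedImmersion (pullback.fst V.hom i) := inferInstance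
  have hVc : CompactSpace ↥((𝟭 Scheme).obj V.left) := by
    have : CompactSpace ↥V.left := inferInstance
    exact this
  have hc' : CompactSpace ((ProEtS.bcP i).obj V).left := by
    have : CompactSpace ↥(pullback V.hom i) :=
      (pullback.fst V.hom i).isClosedEmbedding.compactSpace
    exact this
  obtain ⟨n, Q, g, hQ, hsurj, h0⟩ := SuppZ.exists_cover_of_unit_eq_zero i G V s hs
  let UV : X.ProEt := (ProEtS.compP j).obj ((ProEtS.bcP j).obj V)
  let e : UV ⟶ V := (RestrPush.compBcAdj j).counit.app V
  have he : e.left = pullback.fst V.hom j := rfl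
  have hcov : Sieve.ofArrows (fun k : Option (Fin n) => k.elim UV Q)
      (fun k => match k with
        | none => e
        | some k => g k) ∈ Scheme.ProEt.topology X V := by
    apply CoverFin.sieve_mem_of_finite
    · rintro (_ | k)
      · have : QuasiCompact (pullback.fst V.hom j) := inferInstance
        exact this
      · have := hQ k
        have : QuasiSeparatedSpace ↥V.left := inferInstance
        exact quasiCompact_of_compactSpace (g k).left
    · intro v
      by_cases hv : V.hom v ∈ Set.range i
      · obtain ⟨k, q, h⟩ := hsurj v hv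
        exact ⟨some k, q, h⟩
      · have hv' : V.hom v ∈ Set.range j := by rw [hc]; exact hv
        obtain ⟨u, hu⟩ := hv'
        obtain ⟨w, hw, -⟩ := Scheme.Pullback.exists_preimage_pullback v u hu.symm
        exact ⟨none, w, hw⟩
  refine G.isSeparated V _ hcov s 0 ?_
  rintro T f ⟨Y, a, b, hb, rfl⟩
  obtain ⟨k⟩ := hb
  have h1 : ∀ {Y : X.ProEt} (a : T ⟶ Y) (b : Y ⟶ V), G.obj.map b.op s = 0 →
      G.obj.map (a ≫ b).op s = G.obj.map (a ≫ b).op 0 := by
    intro Y a b hb
    have : G.obj.map (a ≫ b).op s = G.obj.map a.op (G.obj.map b.op s) :=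
      ConcreteCategory.congr_hom (G.obj.map_comp b.op a.op) s
    rw [this, hb, map_zero, map_zero]
  match k with
  | none =>
    refine h1 a e ?_
    have h2 : IsZero (((ProEtS.restrP j).obj G).obj.obj (op ((ProEtS.bcP j).obj V))) :=
      ((sheafToPresheaf _ _ ⋙ (evaluation _ _).obj (op ((ProEtS.bcP j).obj V))).map_isZero hj)
    have h3 : Subsingleton (((ProEtS.restrP j).obj G).obj.obj (op ((ProEtS.bcP j).obj V))) :=
      AddCommGrpCat.subsingleton_of_isZero h2
    exact @Subsingleton.elim _ h3 _ _
  | some k => exact h1 a (g k) (h0 k)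

end Groth.Agent.Proet.JointCons
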