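import Groth.Agent.Proet.JointCons

/-!
# Exactness can be checked after applying `i⁻¹` and `j⁻¹`
-/

set_option autoImplicit false
universe u v₁ v₂ v₃ u₁ u₂ u₃

open CategoryTheory CategoryTheory.Limits AlgebraicGeometry Opposite

namespace Groth.Agent.Proet.JointExact

section General

variable {A : Type u₁} [Category.{v₁} A] [Abelian A] {B : Type u₂} [Category.{v₂} B] [Abelian B]
  {C : Type u₃} [Category.{v₃} C] [Abelian C] (F : A ⥤ B) (G : A ⥤ C)
  [F.PreservesZeroMorphisms] [G.PreservesZeroMorphisms] [F.PreservesHomology] [G.PreservesHomology]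

/-- Short exactness can be checked on a jointly conservative pair of exact functors. -/
theorem shortExact_of_jointly (h : ∀ X : A, IsZero (F.obj X) → IsZero (G.obj X) → IsZero X)
    (S : ShortComplex A) (hF : (S.map F).ShortExact) (hG : (S.map G).ShortExact) : S.ShortExact := by
  have hex : S.Exact := by
    rw [ShortComplex.exact_iff_isZero_homology]
    apply h
    · exact ((ShortComplex.exact_iff_isZero_homology _).1 hF.exact).of_iso (S.mapHomologyIso F).symm
    · exact ((ShortComplex.exact_iff_isZero_homology _).1 hG.exact).of_iso (S.mapHomologyIso G).symm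
  have := Functor.PreservesHomology.preservesKernel F S.f
  have := Functor.PreservesHomology.preservesKernel G S.f
  have := Functor.PreservesHomology.preservesCokernel F S.g
  have := Functor.PreservesHomology.preservesCokernel G S.g
  have hmono : Mono S.f := by
    have h1 : IsZero (kernel S.f) := by
      apply h
      · have : Mono (F.map S.f) := hF.mono_f
        exact (IsZero.of_iso (isZero_kernel_of_mono (F.map S.f)) (PreservesKernel.iso F S.f))
      · have : Mono (G.map S.f) := hG.mono_f
        exact (IsZero.of_iso (isZero_kernel_of_mono (G.map S.f)) (PreservesKernel.iso G S.f))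
    exact Preadditive.mono_of_isZero_kernel S.f h1
  have hepi : Epi S.g := by
    have h1 : IsZero (cokernel S.g) := by
      apply h
      · have : Epi (F.map S.g) := hF.epi_g
        exact (IsZero.of_iso (isZero_cokernel_of_epi (F.map S.g)) (PreservesCokernel.iso F S.g))
      · have : Epi (G.map S.g) := hG.epi_g
        exact (IsZero.of_iso (isZero_cokernel_of_epi (G.map S.g)) (PreservesCokernel.iso G S.g))
    exact Preadditive.epi_of_isZero_cokernel S.g h1
  exact { exact := hex, mono_f := hmono, epi_g := hepi }

theorem shortExact_of_isIso_f (S : ShortComplex A) (hf : IsIso S.f) (h3 : IsZero S.X₃) :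
    S.ShortExact where
  exact := (S.exact_iff_epi (h3.eq_of_tgt _ _)).2 inferInstance
  mono_f := inferInstance
  epi_g := by
    rw [Preadditive.epi_iff_cancel_zero]
    intro P g _
    exact h3.eq_of_src _ _

theorem shortExact_of_isIso_g (S : ShortComplex A) (hg : IsIso S.g) (h1 : IsZero S.X₁) :
    S.ShortExact where
  exact := (S.exact_iff_mono (h1.eq_of_src _ _)).2 inferInstance
  mono_f := by
    rw [Preadditive.mono_iff_cancel_zero]
    intro P g _
    exact h1.eq_of_tgt _ _
  epi_g := inferInstance

end General

set_option backward.isDefEq.respectTransparency.types false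

/-- `i⁻¹` preserves finite limits. -/
theorem preservesFiniteLimits_pullP {X Z : Scheme.{u}} (i : Z ⟶ X) [ProEtS.PCont i] :
    PreservesFiniteLimits (ProEtS.pullP i) := by
  have := SuppZ.flat_bcP i
  have := SuppZ.pres_bcP i
  exact PullExact.preservesFiniteLimits.{u+1} (ProEtS.bcP i) _ _ (ProEtS.pullPushAdjP i)

instance preservesColimits_pullP {X Z : Scheme.{u}} (i : Z ⟶ X) [ProEtS.PCont i] :
    PreservesColimits (ProEtS.pullP i) :=
  (ProEtS.pullPushAdjP i).leftAdjoint_preservesColimits

instance additive_pullP {X Z : Scheme.{u}} (i : Z ⟶ X) [ProEtS.PCont i] :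
    (ProEtS.pullP i).Additive := (ProEtS.pullPushAdjP i).left_adjoint_additive

theorem preservesHomology_pullP {X Z : Scheme.{u}} (i : Z ⟶ X) [ProEtS.PCont i] :
    (ProEtS.pullP i).PreservesHomology := by
  have := preservesFiniteLimits_pullP i
  have := preservesColimits_pullP i
  have := additive_pullP i
  infer_instance

theorem preservesLimits_restrP {U X : Scheme.{u}} (j : U ⟶ X) [WeaklyEtale j] [ProEtS.JPCont j] :
    PreservesLimits (ProEtS.restrP j) :=
  (ProEtS.extZeroPAdj j).rightAdjoint_preservesLimits

theorem preservesColimits_restrP {U X : Scheme.{u}} (j : U ⟶ X) [WeaklyEtale j] [ProEtS.JPCont j] :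
    PreservesColimits (ProEtS.restrP j) := by
  have := Cont.pCont j
  exact (RestrPush.restrPushAdj j).leftAdjoint_preservesColimits

instance additive_restrP {U X : Scheme.{u}} (j : U ⟶ X) [WeaklyEtale j] [ProEtS.JPCont j] :
    (ProEtS.restrP j).Additive where

theorem preservesHomology_restrP {U X : Scheme.{u}} (j : U ⟶ X) [WeaklyEtale j] [ProEtS.JPCont j] :
    (ProEtS.restrP j).PreservesHomology := by
  have := preservesLimits_restrP j
  have := preservesColimits_restrP j
  infer_instance

end Groth.Agent.Proet.JointExact
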