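import Mathlib.CategoryTheory.Limits.Preserves.Basic
import Mathlib.CategoryTheory.Limits.Shapes.Kernels
import Mathlib.Algebra.Homology.ShortComplex.ShortExact
import Mathlib.AlgebraicGeometry.IdealSheaf.Subscheme
import Mathlib.AlgebraicGeometry.Morphisms.ClosedImmersion

/-!
# A functor which is the kernel of a map between limit-preserving functors preserves limits
-/

set_option autoImplicit false
universe w w' v₁ v₂ u₁ u₂ u

open CategoryTheory CategoryTheory.Limits

namespace Groth.Agent.Proet.KernelLim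

/-- If `0 → T₁ → T₂ → T₃` is exact on every object and `T₂`, `T₃` preserve limits of shape `J`, so
does `T₁`. -/
theorem preservesLimitsOfShape_of_kernel {A : Type u₁} [Category.{v₁} A] {B : Type u₂}
    [Category.{v₂} B] [HasZeroMorphisms B] {T₁ T₂ T₃ : A ⥤ B} (α : T₁ ⟶ T₂) (β : T₂ ⟶ T₃)
    (zero : ∀ X, α.app X ≫ β.app X = 0)
    (hk : ∀ X, Nonempty (IsLimit (KernelFork.ofι (α.app X) (zero X))))
    (J : Type w) [Category.{w'} J] [PreservesLimitsOfShape J T₂] [PreservesLimitsOfShape J T₃] :
    PreservesLimitsOfShape J T₁ where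
  preservesLimit {K} := by
    constructor
    intro c hc
    have h₂ : IsLimit (T₂.mapCone c) := isLimitOfPreserves T₂ hc
    have h₃ : IsLimit (T₃.mapCone c) := isLimitOfPreserves T₃ hc
    have hmono : ∀ X, Mono (α.app X) := fun X => by
      obtain ⟨h⟩ := hk X
      exact mono_of_isLimit_fork h
    refine ⟨?_⟩
    -- the lift to `T₂ c.pt`
    let s₂ : ∀ s : Cone (K ⋙ T₁), Cone (K ⋙ T₂) := fun s =>
      { pt := s.pt
        π := { app := fun j => s.π.app j ≫ α.app (K.obj j)
               naturality := fun j j' f => by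
                have h1 := s.w f
                dsimp at h1 ⊢
                rw [Category.id_comp, Category.assoc, ← α.naturality, ← Category.assoc, h1] } }
    have hz : ∀ s, h₂.lift (s₂ s) ≫ β.app c.pt = 0 := by
      intro s
      apply h₃.hom_ext
      intro j
      have h1 : β.app c.pt ≫ T₃.map (c.π.app j) = T₂.map (c.π.app j) ≫ β.app (K.obj j) :=
        (β.naturality _).symm
      have h2 : h₂.lift (s₂ s) ≫ T₂.map (c.π.app j) = s.π.app j ≫ α.app (K.obj j) :=
        h₂.fac (s₂ s) j
      dsimp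
      rw [Category.assoc, h1, ← Category.assoc, h2, Category.assoc, zero, comp_zero, zero_comp]
    let l : ∀ s : Cone (K ⋙ T₁), s.pt ⟶ T₁.obj c.pt := fun s =>
      (hk c.pt).some.lift (KernelFork.ofι (h₂.lift (s₂ s)) (hz s))
    have hl : ∀ s, l s ≫ α.app c.pt = h₂.lift (s₂ s) := fun s =>
      (hk c.pt).some.fac (KernelFork.ofι (h₂.lift (s₂ s)) (hz s)) WalkingParallelPair.zero
    refine ⟨l, ?_, ?_⟩
    · intro s j
      rw [← cancel_mono (α.app (K.obj j))]
      have h2 : h₂.lift (s₂ s) ≫ T₂.map (c.π.app j) = s.π.app j ≫ α.app (K.obj j) :=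
        h₂.fac (s₂ s) j
      have h3 : T₁.map (c.π.app j) ≫ α.app (K.obj j) = α.app c.pt ≫ T₂.map (c.π.app j) :=
        α.naturality _
      change (l s ≫ T₁.map (c.π.app j)) ≫ α.app (K.obj j) = _
      rw [Category.assoc, h3, ← Category.assoc, hl, h2]
    · intro s m hm
      rw [← cancel_mono (α.app c.pt), hl]
      apply h₂.hom_ext
      intro j
      have h2 : h₂.lift (s₂ s) ≫ T₂.map (c.π.app j) = s.π.app j ≫ α.app (K.obj j) :=
        h₂.fac (s₂ s) j
      have h3 : T₁.map (c.π.app j) ≫ α.app (K.obj j) = α.app c.pt ≫ T₂.map (c.π.app j) :=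
        α.naturality _
      have h4 : m ≫ T₁.map (c.π.app j) = s.π.app j := hm j
      change (m ≫ α.app c.pt) ≫ T₂.map (c.π.app j) = h₂.lift (s₂ s) ≫ T₂.map (c.π.app j)
      rw [h2, Category.assoc, ← h3, ← Category.assoc, h4]

open AlgebraicGeometry in
/-- Every closed subset of a scheme is the image of a closed immersion. -/
theorem exists_closedImmersion (X : Scheme.{u}) (Z : Set X) (hZ : IsClosed Z) :
    ∃ (Y : Scheme.{u}) (i : Y ⟶ X) (_ : IsClosedImmersion i), Set.range i = Z := by
  let I := Scheme.IdealSheafData.vanishingIdeal (⟨Z, hZ⟩ : TopologicalSpace.Closeds X)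
  refine ⟨I.subscheme, I.subschemeι, inferInstance, ?_⟩
  rw [Scheme.IdealSheafData.range_subschemeι]
  simp [I]

end Groth.Agent.Proet.KernelLim
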