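import Groth.Agent.Proet.DCExt
import Mathlib.RingTheory.Finiteness.Cardinality

/-!
# Global generation of locally constant sheaves of finite presentation on weakly contractible
affine schemes
-/

set_option autoImplicit false
universe u v w v' u'

open CategoryTheory CategoryTheory.Limits AlgebraicGeometry Opposite

namespace Groth.Agent.Proet.LocGen

open WCBasic WC WCClopen WCExist WCExact WCSheafify ConstSec DCExt

variable {X : Scheme.{u}} {Λ : Type (u + 1)} [CommRing Λ]

/-- A sheaf which is constant on the over-site of `U` is generated there by the constant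
sections. -/
theorem local_gen (Q : EtModW.ModP Λ X) (U : X.ProEt) (M : Type (u + 1)) [AddCommGroup M]
    [Module Λ M] (e : Q.over U ≅
      (constantSheaf ((Scheme.ProEt.topology X).over U) (ModuleCat.{u + 1} Λ)).obj
        (ModuleCat.of Λ M)) :
    ∃ ξ : M →ₗ[Λ] Q.obj.obj (op U), ∀ (V : X.ProEt) (h : V ⟶ U) (x : Q.obj.obj (op V)),
      ∃ R ∈ Scheme.ProEt.topology X V, ∀ (W : X.ProEt) (g : W ⟶ V), R g →
        ∃ m : M, Q.obj.map g.op x = Q.obj.map (g ≫ h).op (ξ m) := by
  let P : (Over U)ᵒᵖ ⥤ ModuleCat.{u + 1} Λ := (Functor.const _).obj (ModuleCat.of Λ M)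
  let η : P ⟶ _ := toSheafify ((Scheme.ProEt.topology X).over U) P
  let ξ : M →ₗ[Λ] Q.obj.obj (op U) := (η.app (op (Over.mk (𝟙 U))) ≫
    e.inv.hom.app (op (Over.mk (𝟙 U)))).hom
  refine ⟨ξ, fun V h x => ?_⟩
  have hS := Presheaf.imageSieve_mem ((Scheme.ProEt.topology X).over U) η (U := op (Over.mk h))
    (e.hom.hom.app (op (Over.mk h)) x)
  rw [GrothendieckTopology.mem_over_iff] at hS
  refine ⟨_, hS, fun W g hg => ?_⟩
  rw [Sieve.overEquiv_iff] at hg
  obtain ⟨m, hm⟩ := hg
  refine ⟨m, ?_⟩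
  let g' : Over.mk (g ≫ h) ⟶ Over.mk h := Over.homMk g
  let k' : Over.mk (g ≫ h) ⟶ Over.mk (𝟙 U) := Over.homMk (g ≫ h)
  have h1 : e.inv.hom.app (op (Over.mk (g ≫ h))) (η.app (op (Over.mk (g ≫ h))) m) =
      Q.obj.map g.op x := by
    have e1 : η.app (op (Over.mk (g ≫ h))) m =
        ((constantSheaf ((Scheme.ProEt.topology X).over U) (ModuleCat.{u + 1} Λ)).obj
        (ModuleCat.of Λ M)).obj.map g'.op (e.hom.hom.app (op (Over.mk h)) x) := hm
    rw [e1]
    have e2 := NatTrans.naturality_apply e.inv.hom g'.op (e.hom.hom.app (op (Over.mk h)) x)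
    rw [e2]
    have e3 : e.inv.hom.app (op (Over.mk h)) (e.hom.hom.app (op (Over.mk h)) x) = x := by
      have := congrArg (fun t => t.hom.app (op (Over.mk h))) e.hom_inv_id
      exact ConcreteCategory.congr_hom this x
    rw [e3]
    rfl
  rw [← h1]
  have e4 : η.app (op (Over.mk (g ≫ h))) m =
      ((constantSheaf ((Scheme.ProEt.topology X).over U) (ModuleCat.{u + 1} Λ)).obj
        (ModuleCat.of Λ M)).obj.map k'.op (η.app (op (Over.mk (𝟙 U))) m) :=
    NatTrans.naturality_apply η k'.op m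
  rw [e4]
  exact NatTrans.naturality_apply e.inv.hom k'.op _

theorem exists_generators (hT : IsAffine (ProEtS.topP X).left) (hwc : ProEtS.IsWC (ProEtS.topP X))
    (Q : EtModW.ModP Λ X) (hQ : EtModW.IsFPLocConstP Λ Q) :
    ∃ (ι : Type) (_ : Fintype ι) (q : ι → Q.obj.obj (op (ProEtS.topP X))),
      ∀ (V : X.ProEt) (p : V ⟶ ProEtS.topP X) (x : Q.obj.obj (op V)),
        ∃ R ∈ Scheme.ProEt.topology X V, ∀ (W : X.ProEt) (g : W ⟶ V), R g →
          ∃ c : ι → Λ, Q.obj.map g.op x = ∑ j, c j • Q.obj.map (g ≫ p).op (q j) := by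
  obtain ⟨κ, U, hcov, hU⟩ := hQ
  obtain ⟨n, W, -, hdisj, hcovW, hW⟩ := exists_clopen_of_isWC hwc hcov
  obtain ⟨h1, h2, h3⟩ := openHom_props W hdisj hcovW
  have hb : ∀ k : Fin n, ∃ (i : κ) (b : openObj (ProEtS.topP X) (W k) ⟶ U i), True := by
    intro k
    obtain ⟨Y, b, c, hc, -⟩ := hW k
    obtain ⟨i⟩ := hc
    exact ⟨i, b, trivial⟩
  choose i b _ using hb
  choose M i1 i2 i3 e using hU
  have e' := fun i => (e i).some
  choose ξ hξ using fun k => local_gen Q (U (i k)) (M (i k)) (e' (i k))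
  have hfin : ∀ j, ∃ (s : ℕ) (v : Fin s → M j), Submodule.span Λ (Set.range v) = ⊤ := by
    intro j
    have : Module.Finite Λ (M j) := inferInstance
    exact Module.Finite.exists_fin
  choose s v hv using hfin
  -- extend the sections on the pieces
  have hext : ∀ (k : Fin n) (y : Q.obj.obj (op (openObj (ProEtS.topP X) (W k)))),
      ∃ z : Q.obj.obj (op (ProEtS.topP X)),
        Q.obj.map (openHom (ProEtS.topP X) (W k)).op z = y := by
    intro k y
    obtain ⟨z, hz⟩ := (bijective_of_disjoint_mod (fun k => openHom (ProEtS.topP X) (W k)) h1 h2 h3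
      Q).2 (Function.update 0 k y)
    refine ⟨z, ?_⟩
    have := congrFun hz k
    rw [Function.update_self] at this
    exact this
  choose q hq using fun (jk : Σ k : Fin n, Fin (s (i k))) =>
    hext jk.1 (Q.obj.map (b jk.1).op (ξ jk.1 (v (i jk.1) jk.2)))
  refine ⟨Σ k : Fin n, Fin (s (i k)), inferInstance, q, fun V p x => ?_⟩
  -- the sieve of all maps on which the section is a combination
  let S : Sieve V :=
    { arrows := fun Y g => ∃ c : (Σ k : Fin n, Fin (s (i k))) → Λ,
        Q.obj.map g.op x = ∑ j, c j • Q.obj.map (g ≫ p).op (q j)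
      downward_closed := by
        rintro Y Z g ⟨c, hc⟩ h
        refine ⟨c, ?_⟩
        rw [op_comp, Functor.map_comp, ModuleCat.comp_apply, hc, map_sum]
        refine Finset.sum_congr rfl fun j _ => ?_
        rw [map_smul, Category.assoc, op_comp (f := h), Functor.map_comp, ModuleCat.comp_apply] }
  refine ⟨S, ?_, fun W g hg => hg⟩
  have hR1 := (Scheme.ProEt.topology X).pullback_stable p
    (ofArrows_openImmersion_mem (fun k => openHom (ProEtS.topP X) (W k)) h1 h2)
  refine (Scheme.ProEt.topology X).transitive hR1 S ?_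
  intro Y g hg
  obtain ⟨k, c, hc⟩ : ∃ (k : Fin n) (c : Y ⟶ openObj (ProEtS.topP X) (W k)),
      c ≫ openHom (ProEtS.topP X) (W k) = g ≫ p := by
    obtain ⟨_, c, _, ⟨k⟩, hc⟩ := hg
    exact ⟨k, c, hc⟩
  obtain ⟨R2, hR2, hR2'⟩ := hξ k Y (c ≫ b k) (Q.obj.map g.op x)
  refine (Scheme.ProEt.topology X).superset_covering ?_ hR2
  intro Z g' hg'
  obtain ⟨m, hm⟩ := hR2' Z g' hg'
  have hm' : m ∈ Submodule.span Λ (Set.range (v (i k))) := by
    rw [hv]
    trivial
  obtain ⟨d, rfl⟩ := (Submodule.mem_span_range_iff_exists_fun Λ).1 hm'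
  refine ⟨fun jk => Function.update (fun l => (0 : Fin (s (i l)) → Λ)) k d jk.1 jk.2, ?_⟩
  rw [Fintype.sum_sigma, Finset.sum_eq_single k]
  · rw [op_comp, Functor.map_comp, ModuleCat.comp_apply, hm, map_sum, map_sum]
    refine Finset.sum_congr rfl fun j _ => ?_
    have e0 : (fun jk : (Σ k : Fin n, Fin (s (i k))) =>
        Function.update (fun l => (0 : Fin (s (i l)) → Λ)) k d jk.1 jk.2) ⟨k, j⟩ = d j := by
      dsimp only
      rw [Function.update_self]
    rw [e0, map_smul, map_smul]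
    congr 1
    have e1 : (g' ≫ g) ≫ p = (g' ≫ c) ≫ openHom (ProEtS.topP X) (W k) := by
      rw [Category.assoc, ← hc, Category.assoc]
    rw [e1, op_comp (g := openHom (ProEtS.topP X) (W k)), Functor.map_comp, ModuleCat.comp_apply,
      hq ⟨k, j⟩, ← Category.assoc, op_comp (g := b k), Functor.map_comp, ModuleCat.comp_apply]
  · intro l _ hl
    refine Finset.sum_eq_zero fun j _ => ?_
    dsimp only
    rw [Function.update_of_ne hl, Pi.zero_apply, zero_smul]
  · intro h
    exact absurd (Finset.mem_univ _) h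

end Groth.Agent.Proet.LocGen
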