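import Groth.Agent.Proet.IndZariski

/-!
# Spreading out local isomorphisms
-/

set_option autoImplicit false
set_option linter.unusedVariables false
set_option linter.unusedSectionVars false
universe u

open TensorProduct

namespace Groth.Agent.Proet

namespace LocIsoSpread

section Key

variable {A B A₁ B₁ : Type*} [CommRing A] [CommRing B] [CommRing A₁] [CommRing B₁]
  [Algebra A B] [Algebra A₁ A] [Algebra A₁ B₁] [Algebra B₁ B] [Algebra A₁ B]
  [IsScalarTower A₁ A B] [IsScalarTower A₁ B₁ B]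

/-- elements of the form `a / f^n` -/
def fracSub (C : Type*) [CommRing C] [Algebra A₁ C] (f₁ : A₁) : Subalgebra A₁ C where
  carrier := {z | ∃ (n : ℕ) (a : A₁), algebraMap A₁ C f₁ ^ n * z = algebraMap A₁ C a}
  mul_mem' := by
    rintro x y ⟨n, a, h⟩ ⟨m, b, h'⟩
    refine ⟨n + m, a * b, ?_⟩
    rw [map_mul, ← h, ← h']
    ring
  add_mem' := by
    rintro x y ⟨n, a, h⟩ ⟨m, b, h'⟩
    refine ⟨n + m, f₁ ^ m * a + f₁ ^ n * b, ?_⟩
    rw [map_add, map_mul, map_mul, ← h, ← h', map_pow, map_pow]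
    ring
  algebraMap_mem' := fun r => ⟨0, r, by simp⟩

theorem key (hA : Function.Injective (algebraMap A₁ A)) (f₁ : A₁) (g₁ : B₁) (Y : Set B₁)
    (hY : Algebra.adjoin A₁ Y = ⊤)
    (hloc : IsLocalization.Away (algebraMap A₁ A f₁) (Localization.Away (algebraMap B₁ B g₁)))
    (ha : ∃ (b : B₁) (N : ℕ), algebraMap A₁ B₁ f₁ * b = g₁ ^ N)
    (hb : ∀ y ∈ Y, ∃ (a : A₁) (n M : ℕ),
      g₁ ^ M * (algebraMap A₁ B₁ f₁ ^ n * y) = g₁ ^ M * (algebraMap A₁ B₁ a))
    (hc : ∃ (a : A₁) (n M : ℕ), g₁ ^ M * (g₁ * algebraMap A₁ B₁ a) =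
      g₁ ^ M * (algebraMap A₁ B₁ f₁) ^ n) :
    IsLocalization.Away f₁ (Localization.Away g₁) := by
  have hunit : IsUnit (algebraMap B₁ (Localization.Away g₁) g₁) :=
    IsLocalization.Away.algebraMap_isUnit g₁
  have hB (x : A₁) : algebraMap A₁ (Localization.Away g₁) x =
      algebraMap B₁ (Localization.Away g₁) (algebraMap A₁ B₁ x) :=
    IsScalarTower.algebraMap_apply _ _ _ _
  refine ⟨?_, ?_, ?_⟩
  · rintro ⟨_, n, rfl⟩
    obtain ⟨b, N, h⟩ := ha
    rw [map_pow]
    apply IsUnit.pow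
    apply isUnit_of_mul_isUnit_left (y := algebraMap B₁ (Localization.Away g₁) b)
    rw [hB, ← map_mul, h, map_pow]
    exact hunit.pow N
  · have h1 : (⊤ : Subalgebra A₁ B₁) ≤ (fracSub (Localization.Away g₁) f₁).comap
        (IsScalarTower.toAlgHom A₁ B₁ (Localization.Away g₁)) := by
      rw [← hY, Algebra.adjoin_le_iff]
      intro y hy
      obtain ⟨a, n, M, h⟩ := hb y hy
      refine ⟨n, a, ?_⟩
      have := congrArg (algebraMap B₁ (Localization.Away g₁)) h
      rw [map_mul, map_mul, map_mul, map_pow, map_pow] at this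
      have := (hunit.pow M).mul_left_cancel this
      rw [hB, hB]
      exact this
    have h2 : (IsLocalization.Away.invSelf g₁ : Localization.Away g₁) ∈
        fracSub (Localization.Away g₁) f₁ := by
      obtain ⟨a, n, M, h⟩ := hc
      refine ⟨n, a, ?_⟩
      have := congrArg (algebraMap B₁ (Localization.Away g₁)) h
      rw [map_mul, map_mul, map_mul, map_pow, map_pow] at this
      have := (hunit.pow M).mul_left_cancel this
      rw [hB, hB, ← this]
      have h3 := IsLocalization.Away.mul_invSelf (S := Localization.Away g₁) g₁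
      rw [mul_right_comm, h3, one_mul]
    intro z
    obtain ⟨k, b, hz⟩ : ∃ (k : ℕ) (b : B₁), z = algebraMap B₁ (Localization.Away g₁) b *
        (IsLocalization.Away.invSelf g₁) ^ k := by
      obtain ⟨b, ⟨_, k, rfl⟩, rfl⟩ := IsLocalization.exists_mk'_eq (Submonoid.powers g₁) z
      refine ⟨k, b, ?_⟩
      rw [IsLocalization.mk'_eq_iff_eq_mul]
      have h3 := IsLocalization.Away.mul_invSelf (S := Localization.Away g₁) g₁
      rw [map_pow, mul_assoc, ← mul_pow, mul_comm _ (algebraMap B₁ _ g₁), h3, one_pow, mul_one]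
    have hz' : z ∈ fracSub (Localization.Away g₁) f₁ := by
      rw [hz]
      exact Subalgebra.mul_mem _ (h1 (Algebra.mem_top (x := b))) (Subalgebra.pow_mem _ h2 k)
    obtain ⟨n, a, h⟩ := hz'
    exact ⟨⟨a, ⟨f₁ ^ n, n, rfl⟩⟩, by rw [← h, map_pow, mul_comm]⟩
  · intro x y hxy
    rw [hB, hB] at hxy
    obtain ⟨⟨_, k, rfl⟩, hk⟩ := (IsLocalization.eq_iff_exists (Submonoid.powers g₁) _).mp hxy
    have h1 : algebraMap B₁ B (g₁ ^ k * algebraMap A₁ B₁ x) =
        algebraMap B₁ B (g₁ ^ k * algebraMap A₁ B₁ y) := congrArg (algebraMap B₁ B) hk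
    rw [map_mul, map_mul, map_pow] at h1
    have hC (x : A₁) : algebraMap A (Localization.Away (algebraMap B₁ B g₁)) (algebraMap A₁ A x) =
        algebraMap B (Localization.Away (algebraMap B₁ B g₁))
          (algebraMap B₁ B (algebraMap A₁ B₁ x)) := by
      rw [IsScalarTower.algebraMap_apply A B (Localization.Away (algebraMap B₁ B g₁)),
        ← IsScalarTower.algebraMap_apply A₁ A B, IsScalarTower.algebraMap_apply A₁ B₁ B]
    have h2 : algebraMap A (Localization.Away (algebraMap B₁ B g₁)) (algebraMap A₁ A x) =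
        algebraMap A (Localization.Away (algebraMap B₁ B g₁)) (algebraMap A₁ A y) := by
      rw [hC, hC, IsLocalization.eq_iff_exists (Submonoid.powers (algebraMap B₁ B g₁))]
      exact ⟨⟨_, k, rfl⟩, h1⟩
    obtain ⟨⟨w, n, hw⟩, hn⟩ := (IsLocalization.eq_iff_exists
      (Submonoid.powers (algebraMap A₁ A f₁)) _).mp h2
    refine ⟨⟨_, n, rfl⟩, hA ?_⟩
    have hw : algebraMap A₁ A f₁ ^ n = w := hw
    have hn : w * algebraMap A₁ A x = w * algebraMap A₁ A y := hn
    rw [← hw] at hn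
    rw [map_mul, map_mul, map_pow]
    exact hn

end Key

section Extract

variable {A B : Type*} [CommRing A] [CommRing B] [Algebra A B] (f : A) (g : B)
  [hloc : IsLocalization.Away f (Localization.Away g)]
include hloc

theorem extract_a : ∃ (b : B) (N : ℕ), algebraMap A B f * b = g ^ N := by
  have h1 : IsUnit (algebraMap A (Localization.Away g) f) := IsLocalization.Away.algebraMap_isUnit f
  obtain ⟨z, hz⟩ := h1.exists_right_inv
  obtain ⟨b, ⟨w, k, hk⟩, rfl⟩ := IsLocalization.exists_mk'_eq (Submonoid.powers g) z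
  have hk : g ^ k = w := hk
  rw [IsScalarTower.algebraMap_apply A B, ← IsLocalization.mk'_one (M := Submonoid.powers g)
    (S := Localization.Away g), ← IsLocalization.mk'_mul, ← IsLocalization.mk'_one
    (M := Submonoid.powers g) (S := Localization.Away g) (1 : B) |>.trans (map_one _),
    IsLocalization.mk'_eq_iff_eq, IsLocalization.eq_iff_exists (Submonoid.powers g)] at hz
  obtain ⟨⟨v, m, hm⟩, hv⟩ := hz
  have hm : g ^ m = v := hm
  simp only [OneMemClass.coe_one, one_mul, mul_one] at hv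
  rw [← hm, ← hk] at hv
  refine ⟨g ^ m * b, m + k, ?_⟩
  rw [pow_add, ← hv]
  ring

theorem extract_b (y : B) : ∃ (a : A) (n M : ℕ),
    g ^ M * (algebraMap A B f ^ n * y) = g ^ M * algebraMap A B a := by
  obtain ⟨⟨a, ⟨w, n, hn⟩⟩, h⟩ := IsLocalization.surj (Submonoid.powers f)
    (algebraMap B (Localization.Away g) y)
  have hn : f ^ n = w := hn
  have h : algebraMap B (Localization.Away g) y * algebraMap A (Localization.Away g) w =
    algebraMap A (Localization.Away g) a := h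
  rw [IsScalarTower.algebraMap_apply A B (Localization.Away g),
    IsScalarTower.algebraMap_apply A B (Localization.Away g), ← map_mul,
    IsLocalization.eq_iff_exists (Submonoid.powers g)] at h
  obtain ⟨⟨v, m, hm⟩, hv⟩ := h
  have hm : g ^ m = v := hm
  have hv : v * (y * algebraMap A B w) = v * algebraMap A B a := hv
  refine ⟨a, n, m, ?_⟩
  rw [hm, ← hv, ← hn, map_pow]
  ring

theorem extract_c : ∃ (a : A) (n M : ℕ),
    g ^ M * (g * algebraMap A B a) = g ^ M * (algebraMap A B f) ^ n := by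
  obtain ⟨⟨a, ⟨w, n, hn⟩⟩, h⟩ := IsLocalization.surj (Submonoid.powers f)
    (IsLocalization.Away.invSelf (S := Localization.Away g) g)
  have hn : f ^ n = w := hn
  have h : IsLocalization.Away.invSelf (S := Localization.Away g) g *
    algebraMap A (Localization.Away g) w = algebraMap A (Localization.Away g) a := h
  have h' : algebraMap B (Localization.Away g) g * algebraMap A (Localization.Away g) a =
      algebraMap A (Localization.Away g) w := by
    rw [← h, ← mul_assoc, IsLocalization.Away.mul_invSelf, one_mul]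
  rw [IsScalarTower.algebraMap_apply A B (Localization.Away g),
    IsScalarTower.algebraMap_apply A B (Localization.Away g), ← map_mul,
    IsLocalization.eq_iff_exists (Submonoid.powers g)] at h'
  obtain ⟨⟨v, m, hm⟩, hv⟩ := h'
  have hm : g ^ m = v := hm
  have hv : v * (g * algebraMap A B a) = v * algebraMap A B w := hv
  refine ⟨a, n, m, ?_⟩
  rw [hm, hv, ← hn, map_pow]

end Extract

/-- Elements of a tensor product come from a finite stage. -/
lemma exists_finset_lift {R : Type*} {A B₀ : Type*} [CommRing R] [CommRing A] [CommRing B₀]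
    [Algebra R A] [Algebra R B₀] (b : A ⊗[R] B₀) : ∃ s : Set A, s.Finite ∧
      ∀ (C : Type u) [CommRing C] [Algebra R C] (φ : C →ₐ[R] A), (s ⊆ Set.range φ) →
        b ∈ Set.range (Algebra.TensorProduct.map φ (AlgHom.id R B₀)) := by
  induction b with
  | zero => exact ⟨∅, Set.finite_empty, fun C _ _ φ _ => ⟨0, map_zero _⟩⟩
  | tmul x y =>
    refine ⟨{x}, Set.finite_singleton x, fun C _ _ φ h => ?_⟩
    obtain ⟨c, rfl⟩ := h (Set.mem_singleton x)
    exact ⟨c ⊗ₜ y, by simp⟩
  | add x y hx hy =>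
    obtain ⟨s, hs, h⟩ := hx
    obtain ⟨t, ht, h'⟩ := hy
    refine ⟨s ∪ t, hs.union ht, fun C _ _ φ h3 => ?_⟩
    obtain ⟨c, hc⟩ := h C φ (Set.subset_union_left.trans h3)
    obtain ⟨d, hd⟩ := h' C φ (Set.subset_union_right.trans h3)
    exact ⟨c + d, by rw [map_add, hc, hd]⟩

/-- The descended statement. `A₁ → A` injective, `B₁ → B` injective. -/
lemma isLocalIso_of_data {A B A₁ B₁ : Type*} [CommRing A] [CommRing B] [CommRing A₁] [CommRing B₁]
    [Algebra A B] [Algebra A₁ A] [Algebra A₁ B₁] [Algebra B₁ B] [Algebra A₁ B]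
    [IsScalarTower A₁ A B] [IsScalarTower A₁ B₁ B]
    (hA : Function.Injective (algebraMap A₁ A)) (hB : Function.Injective (algebraMap B₁ B))
    (Y : Set B₁) (hY : Algebra.adjoin A₁ Y = ⊤)
    (G : Finset B) (hG : ∀ g ∈ G, g ∈ Set.range (algebraMap B₁ B))
    (h : B → B) (hh : ∀ g ∈ G, h g ∈ Set.range (algebraMap B₁ B))
    (hsum : ∑ g ∈ G, h g * g = 1)
    (f : B → A) (hf : ∀ g ∈ G, f g ∈ Set.range (algebraMap A₁ A))
    (hloc : ∀ g ∈ G, IsLocalization.Away (f g) (Localization.Away g))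
    (ha : ∀ g ∈ G, ∃ (b : B) (N : ℕ), b ∈ Set.range (algebraMap B₁ B) ∧
      algebraMap A B (f g) * b = g ^ N)
    (hb : ∀ g ∈ G, ∀ y ∈ Y, ∃ (a : A) (n M : ℕ), a ∈ Set.range (algebraMap A₁ A) ∧
      g ^ M * (algebraMap A B (f g) ^ n * algebraMap B₁ B y) = g ^ M * algebraMap A B a)
    (hc : ∀ g ∈ G, ∃ (a : A) (n M : ℕ), a ∈ Set.range (algebraMap A₁ A) ∧
      g ^ M * (g * algebraMap A B a) = g ^ M * (algebraMap A B (f g)) ^ n) :
    Algebra.IsLocalIso A₁ B₁ := by
  rw [Algebra.IsLocalIso.iff_span_isStandardOpenImmersion_eq_top, Ideal.eq_top_iff_one]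
  choose! g₁ hg₁ using hG
  choose! h₁ hh₁ using hh
  choose! f₁ hf₁ using hf
  have hone : (1 : B₁) = ∑ g ∈ G, h₁ g * g₁ g := by
    apply hB
    rw [map_one, map_sum, ← hsum]
    refine Finset.sum_congr rfl fun g hg => ?_
    rw [map_mul, hg₁ g hg, hh₁ g hg]
  have hcomp (x : A₁) : algebraMap B₁ B (algebraMap A₁ B₁ x) = algebraMap A B (algebraMap A₁ A x) := by
    rw [← IsScalarTower.algebraMap_apply, ← IsScalarTower.algebraMap_apply]
  rw [hone]
  refine Ideal.sum_mem _ fun g hg => Ideal.mul_mem_left _ _ (Ideal.subset_span ?_)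
  refine ⟨f₁ g, ?_⟩
  refine key (A := A) (B := B) hA (f₁ g) (g₁ g) Y hY ?_ ?_ ?_ ?_
  · rw [hf₁ g hg, hg₁ g hg]
    exact hloc g hg
  · obtain ⟨_, N, ⟨b, rfl⟩, h⟩ := ha g hg
    refine ⟨b, N, hB ?_⟩
    rw [map_mul, map_pow, hcomp, hf₁ g hg, hg₁ g hg, h]
  · intro y hy
    obtain ⟨_, n, M, ⟨a, rfl⟩, h⟩ := hb g hg y hy
    refine ⟨a, n, M, hB ?_⟩
    simp only [map_mul, map_pow, hcomp, hf₁ g hg, hg₁ g hg]
    exact h
  · obtain ⟨_, n, M, ⟨a, rfl⟩, h⟩ := hc g hg
    refine ⟨a, n, M, hB ?_⟩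
    simp only [map_mul, map_pow, hcomp, hf₁ g hg, hg₁ g hg]
    exact h

/-- Local isomorphisms spread out over finitely generated subrings. -/
theorem isLocalIso_spread (A B : Type u) [CommRing A] [CommRing B] [Algebra A B]
    (h : Algebra.IsLocalIso A B) :
    ∃ (A₀ : Subalgebra ℤ A) (B₀ : Type u) (_ : CommRing B₀) (_ : Algebra A₀ B₀),
      A₀.FG ∧ Algebra.IsLocalIso A₀ B₀ ∧ Nonempty (B ≃ₐ[A] A ⊗[A₀] B₀) := by
  classical
  have := IndZariski.etale_of_isLocalIso A B
  obtain ⟨A₀, B₀, _, _, hfg, het, ⟨e⟩⟩ := Algebra.Etale.exists_subalgebra_fg ℤ A B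
  let B' := A ⊗[A₀] B₀
  have hB' : Algebra.IsLocalIso A B' := Algebra.IsLocalIso.of_algEquiv e
  have hspan := Algebra.IsLocalIso.span_isStandardOpenImmersion_eq_top A B'
  rw [Ideal.eq_top_iff_one] at hspan
  obtain ⟨h, G, hG, -, hsum⟩ := Submodule.mem_span_iff_exists_finset_subset.mp hspan
  have hf : ∀ g ∈ G, ∃ f : A, IsLocalization.Away f (Localization.Away g) := fun g hg => (hG hg).1
  choose! f hf using hf
  -- generators of `B₀`
  obtain ⟨Y, hY⟩ := (inferInstance : Algebra.FiniteType A₀ B₀).out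
  have ha : ∀ g ∈ G, ∃ (b : B') (N : ℕ), algebraMap A B' (f g) * b = g ^ N := by
    intro g hg
    have := hf g hg
    exact extract_a (f g) g
  choose! ab aN ha using ha
  have hb : ∀ g ∈ G, ∀ y : B₀, ∃ (a : A) (n M : ℕ), g ^ M * (algebraMap A B' (f g) ^ n *
      ((1 : A) ⊗ₜ[A₀] y)) = g ^ M * algebraMap A B' a := by
    intro g hg y
    have := hf g hg
    exact extract_b (f g) g _
  choose! ba bn bM hb using hb
  have hc : ∀ g ∈ G, ∃ (a : A) (n M : ℕ),
      g ^ M * (g * algebraMap A B' a) = g ^ M * (algebraMap A B' (f g)) ^ n := by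
    intro g hg
    have := hf g hg
    exact extract_c (f g) g
  choose! ca cn cM hc using hc
  choose L hLfin hL using fun b : B' => exists_finset_lift.{u} b
  let S : Set A := (f '' G) ∪ (⋃ g ∈ G, L g) ∪ (⋃ g ∈ G, L (h g)) ∪ (⋃ g ∈ G, L (ab g)) ∪
    (⋃ g ∈ G, (ba g) '' Y) ∪ (ca '' G)
  have hS : S.Finite := by
    refine Set.Finite.union (Set.Finite.union (Set.Finite.union (Set.Finite.union
      (Set.Finite.union ?_ ?_) ?_) ?_) ?_) ?_
    · exact G.finite_toSet.image _
    · exact G.finite_toSet.biUnion fun g _ => hLfin g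
    · exact G.finite_toSet.biUnion fun g _ => hLfin _
    · exact G.finite_toSet.biUnion fun g _ => hLfin _
    · exact G.finite_toSet.biUnion fun g _ => Y.finite_toSet.image _
    · exact G.finite_toSet.image _
  let A₁ : Subalgebra ℤ A := A₀ ⊔ Algebra.adjoin ℤ S
  have h01 : A₀ ≤ A₁ := le_sup_left
  have hSA₁ : S ⊆ A₁ := Algebra.subset_adjoin.trans (SetLike.coe_subset_coe.mpr le_sup_right)
  have hA₁fg : A₁.FG := hfg.sup ⟨hS.toFinset, by simp⟩
  let : Algebra A₀ A₁ := (Subalgebra.inclusion h01).toRingHom.toAlgebra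
  have : IsScalarTower A₀ A₁ A := .of_algebraMap_eq fun x => rfl
  let B₁ := A₁ ⊗[A₀] B₀
  let φ : A₁ →ₐ[A₀] A := IsScalarTower.toAlgHom A₀ A₁ A
  have hφ : Function.Injective φ := Subtype.val_injective
  let ψ : B₁ →ₐ[A₀] B' := Algebra.TensorProduct.map φ (AlgHom.id A₀ B₀)
  have hψ : Function.Injective ψ := by
    have : Module.Flat A₀ B₀ := inferInstance
    exact Module.Flat.rTensor_preserves_injective_linearMap φ.toLinearMap hφ
  let : Algebra B₁ B' := ψ.toRingHom.toAlgebra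
  have : IsScalarTower A₁ B₁ B' := .of_algebraMap_eq fun x => by
    change _ = ψ (x ⊗ₜ 1)
    exact (Algebra.TensorProduct.map_tmul φ (AlgHom.id A₀ B₀) x 1).symm
  have hrange {b : B'} (hb : L b ⊆ A₁) : b ∈ Set.range (algebraMap B₁ B') := by
    refine hL b A₁ φ (hb.trans ?_)
    intro x hx
    exact ⟨⟨x, hx⟩, rfl⟩
  have hrangeA {a : A} (ha : a ∈ A₁) : a ∈ Set.range (algebraMap A₁ A) := ⟨⟨a, ha⟩, rfl⟩
  refine ⟨A₁, B₁, inferInstance, inferInstance, hA₁fg, ?_, ⟨?_⟩⟩
  · refine isLocalIso_of_data (A := A) (B := B') (A₁ := A₁) (B₁ := B₁) hφ hψ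
      ((fun y : B₀ => (1 : A₁) ⊗ₜ[A₀] y) '' Y) ?_ G ?_ h ?_ hsum f ?_ hf ?_ ?_ ?_
    · exact Algebra.TensorProduct.adjoin_one_tmul_image_eq_top _ hY
    · intro g hg
      refine hrange (subset_trans ?_ hSA₁)
      intro x hx
      exact Or.inl (Or.inl (Or.inl (Or.inl (Or.inr (Set.mem_biUnion hg hx)))))
    · intro g hg
      refine hrange (subset_trans ?_ hSA₁)
      intro x hx
      exact Or.inl (Or.inl (Or.inl (Or.inr (Set.mem_biUnion hg hx))))
    · intro g hg
      exact hrangeA (hSA₁ (Or.inl (Or.inl (Or.inl (Or.inl (Or.inl ⟨g, hg, rfl⟩))))))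
    · intro g hg
      refine ⟨ab g, aN g, hrange (subset_trans ?_ hSA₁), ha g hg⟩
      intro x hx
      exact Or.inl (Or.inl (Or.inr (Set.mem_biUnion hg hx)))
    · rintro g hg _ ⟨y, hy, rfl⟩
      refine ⟨ba g y, bn g y, bM g y, hrangeA (hSA₁ (Or.inl (Or.inr
        (Set.mem_biUnion hg ⟨y, hy, rfl⟩)))), ?_⟩
      have h1 : algebraMap B₁ B' ((1 : A₁) ⊗ₜ[A₀] y) = (1 : A) ⊗ₜ[A₀] y := by
        change ψ ((1 : A₁) ⊗ₜ[A₀] y) = _
        exact (Algebra.TensorProduct.map_tmul φ (AlgHom.id A₀ B₀) 1 y).trans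
          (by rw [map_one]; rfl)
      rw [h1]
      exact hb g hg y
    · intro g hg
      exact ⟨ca g, cn g, cM g, hrangeA (hSA₁ (Or.inr ⟨g, hg, rfl⟩)), hc g hg⟩
  · exact e.trans (Algebra.TensorProduct.cancelBaseChange A₀ A₁ A A B₀).symm

end LocIsoSpread

namespace IndAlg

theorem good_locIso : Good.{u} (fun R S => Algebra.IsLocalIso R S) where
  fp := IndZariski.implies_fp_isLocalIso
  self A _ := inferInstance
  of_algEquiv A B B' _ _ _ _ _ e h := Algebra.IsLocalIso.of_algEquiv e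
  baseChange A A' B _ _ _ _ _ h := inferInstance
  trans A B C _ _ _ _ _ _ _ h1 h2 := Algebra.IsLocalIso.trans A B C
  spread A B _ _ _ h := LocIsoSpread.isLocalIso_spread A B h

end IndAlg

end Groth.Agent.Proet
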