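import Mathlib.RingTheory.Flat.FaithfullyFlat.Algebra
import Mathlib.RingTheory.Spectrum.Prime.Topology
import Mathlib.LinearAlgebra.TensorProduct.Prod
import Groth.Agent.Proet.WEtale2

/-!
# Localization along a closed subset, and retractions (Stacks 097W, 0987)

`B` is a localization of `A` whose spectrum is the set of points of `Spec A` specializing into `Z`.

* `mem_maximal`: elements of `A` vanishing on `Z` lie in all maximal ideals of `B`.
* `exists_algHom_away`, `exists_algHom_pi`: a retraction of `C × A_f` (`C × ∏ A_f`) gives `C →ₐ[A] B`.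
* `flat_prod`, `flat_pi`, `weaklyEtale_prod`, `weaklyEtale_pi`.
* `faithfullyFlat_cover`.
-/

set_option autoImplicit false
universe u v w

open scoped TensorProduct

namespace Groth.Agent.Proet.LocZ

/-- An element of `A` vanishing on `Z` lies in the Jacobson radical of the localization `A_Z`. -/
theorem mem_maximal {A B : Type*} [CommRing A] [CommRing B]
    [Algebra A B] (S : Submonoid A) [IsLocalization S B] (Z : Set (PrimeSpectrum A))
    (hB : Set.range (PrimeSpectrum.comap (algebraMap A B)) = {x | ∃ z : PrimeSpectrum A, z ∈ Z ∧ x ⤳ z})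
    (f : A) (hf : ∀ z ∈ Z, f ∈ z.asIdeal) (m : Ideal B) (hm : m.IsMaximal) :
    algebraMap A B f ∈ m := by
  let x : PrimeSpectrum B := ⟨m, hm.isPrime⟩
  have hx : PrimeSpectrum.comap (algebraMap A B) x ∈
      {x | ∃ z : PrimeSpectrum A, z ∈ Z ∧ x ⤳ z} := hB ▸ ⟨x, rfl⟩
  obtain ⟨z, hz, hxz⟩ := hx
  have hz' : z ∈ Set.range (PrimeSpectrum.comap (algebraMap A B)) := by
    rw [hB]; exact ⟨z, hz, specializes_rfl⟩
  obtain ⟨y, hy⟩ := hz'
  have hle : x.asIdeal ≤ y.asIdeal := by
    have h1 : (PrimeSpectrum.comap (algebraMap A B) x).asIdeal ≤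
        (PrimeSpectrum.comap (algebraMap A B) y).asIdeal := by
      rw [hy]
      exact (PrimeSpectrum.le_iff_specializes _ _).2 hxz
    have h2 := IsLocalization.map_under S B x.asIdeal
    have h3 := IsLocalization.map_under S B y.asIdeal
    rw [← h2, ← h3]
    exact Ideal.map_mono h1
  have hxy : x.asIdeal = y.asIdeal := hm.eq_of_le y.2.ne_top hle
  have : f ∈ (PrimeSpectrum.comap (algebraMap A B) y).asIdeal := by
    rw [hy]; exact hf z hz
  change algebraMap A B f ∈ x.asIdeal
  rw [hxy]
  exact this

/-- An idempotent in all maximal ideals is zero. -/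
theorem idem_eq_zero {B : Type*} [CommRing B] (e : B) (he : IsIdempotentElem e)
    (h : ∀ m : Ideal B, m.IsMaximal → e ∈ m) : e = 0 := by
  have h1 : IsUnit (1 - e) := by
    by_contra hn
    obtain ⟨m, hm, hmem⟩ := exists_max_ideal_of_mem_nonunits hn
    exact hm.ne_top (Ideal.eq_top_of_isUnit_mem _ (by
      have := m.add_mem hmem (h m hm)
      rwa [sub_add_cancel] at this) isUnit_one)
  have h2 : (1 - e) * e = 0 := by rw [sub_mul, one_mul, he.eq, sub_self]
  exact (h1.mul_right_eq_zero).1 h2

/-- If `ρ : C × D → A` is an `A`-algebra map such that `ρ (0, 1)` maps to zero in `B`, then there is an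
`A`-algebra map `C → B`. -/
theorem exists_algHom {A B : Type*} [CommRing A] [CommRing B] [Algebra A B]
    (C D : Type*) [CommRing C] [Algebra A C] [CommRing D] [Algebra A D]
    (ρ : (C × D) →ₐ[A] A) (hD : algebraMap A B (ρ (0, 1)) = 0) :
    Nonempty (C →ₐ[A] B) := by
  have h1 : algebraMap A B (ρ (1, 0)) = 1 := by
    have : ((1, 0) : C × D) + (0, 1) = 1 := by ext <;> simp
    have h2 := congrArg (fun x => algebraMap A B (ρ x)) this
    simp only [map_add, map_one, hD, add_zero] at h2
    exact h2
  refine ⟨{ toFun := fun c => algebraMap A B (ρ (c, 0)), map_one' := h1, map_mul' := ?_,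
            map_zero' := ?_, map_add' := ?_, commutes' := ?_ }⟩
  · intro x y
    rw [← map_mul, ← map_mul]
    congr 2
    ext <;> simp
  · have : ((0, 0) : C × D) = 0 := rfl
    simp [this]
  · intro x y
    rw [← map_add, ← map_add]
    congr 2
    ext <;> simp
  · intro a
    have : ((algebraMap A C a, 0) : C × D) = a • (1, 0) := by
      ext <;> simp [Algebra.smul_def]
    rw [this, map_smul, smul_eq_mul, map_mul, h1, mul_one]

theorem exists_algHom_away {A B : Type*} [CommRing A] [CommRing B] [Algebra A B] (f : A)
    (C D : Type*) [CommRing C] [Algebra A C] [CommRing D] [Algebra A D] [IsLocalization.Away f D]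
    (hf : ∀ m : Ideal B, m.IsMaximal → algebraMap A B f ∈ m)
    (ρ : (C × D) →ₐ[A] A) :
    Nonempty (C →ₐ[A] B) := by
  refine exists_algHom C D ρ (idem_eq_zero _ ?_ ?_)
  · rw [IsIdempotentElem, ← map_mul, ← map_mul]
    congr 2
    ext <;> simp
  · intro m hm
    have hinv : (0, 1) = f • ((0, IsLocalization.Away.invSelf (S := D) f) : C × D) := by
      ext
      · simp
      · simp [Algebra.smul_def, IsLocalization.Away.mul_invSelf]
    rw [hinv, map_smul, smul_eq_mul, map_mul]
    exact m.mul_mem_right _ (hf m hm)

/-- If `C × ∏_{f ∈ E} A_f → A` is an `A`-algebra map, and all `f ∈ E` go to the Jacobson radical of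
`B`, then there is an `A`-algebra map `C → B`. -/
theorem exists_algHom_pi {A B : Type*} [CommRing A] [CommRing B] [Algebra A B] (E : Finset A)
    (C : Type*) [CommRing C] [Algebra A C]
    (hE : ∀ f ∈ E, ∀ m : Ideal B, m.IsMaximal → algebraMap A B f ∈ m)
    (ρ : (C × (∀ f : E, Localization.Away (f : A))) →ₐ[A] A) :
    Nonempty (C →ₐ[A] B) := by
  classical
  -- the idempotents
  have key : ∀ f : E, algebraMap A B (ρ (0, Pi.single f 1)) = 0 := by
    intro f
    apply idem_eq_zero
    · rw [IsIdempotentElem, ← map_mul, ← map_mul]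
      congr 2
      ext g
      · simp
      · by_cases h : g = f
        · subst h; simp
        · simp [Pi.single_eq_of_ne h]
    · intro m hm
      have hinv : (0, Pi.single f 1) = (f : A) •
          ((0, Pi.single f (IsLocalization.Away.invSelf (S := Localization.Away (f : A)) (f : A))) :
            C × (∀ f : E, Localization.Away (f : A))) := by
        ext g
        · simp
        · by_cases h : g = f
          · subst h
            simp only [Pi.single_eq_same, Prod.smul_mk, Pi.smul_apply]
            rw [Algebra.smul_def, IsLocalization.Away.mul_invSelf]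
          · simp only [Prod.smul_mk, Pi.smul_apply, Pi.single_eq_of_ne h, smul_zero]
      rw [hinv, map_smul, smul_eq_mul, map_mul]
      exact m.mul_mem_right _ (hE f f.2 m hm)
  refine exists_algHom C _ ρ ?_
  have : ((0, 1) : C × (∀ f : E, Localization.Away (f : A))) = ∑ f : E, (0, Pi.single f 1) := by
    ext g
    · simp [Prod.fst_sum]
    · simp [Prod.snd_sum, Finset.sum_apply]
  rw [this, map_sum, map_sum]
  exact Finset.sum_eq_zero fun f _ => key f

/-- Flatness of finite products. -/
theorem flat_pi {R : Type*} [CommRing R] {ι : Type*} [Finite ι] (M : ι → Type*)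
    [∀ i, AddCommGroup (M i)] [∀ i, Module R (M i)] [∀ i, Module.Flat R (M i)] :
    Module.Flat R (∀ i, M i) := by
  classical
  have := Fintype.ofFinite ι
  exact Module.Flat.of_linearEquiv (DFinsupp.linearEquivFunOnFintype (R := R) (M := M)).symm

theorem flat_prod {R : Type*} [CommRing R] (M N : Type*)
    [AddCommGroup M] [AddCommGroup N] [Module R M] [Module R N] [Module.Flat R M] [Module.Flat R N] :
    Module.Flat R (M × N) := by
  rw [Module.Flat.iff_rTensor_preserves_injective_linearMap]
  intro P Q _ _ _ _ f hf
  have h1 := Module.Flat.rTensor_preserves_injective_linearMap (M := M) f hf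
  have h2 := Module.Flat.rTensor_preserves_injective_linearMap (M := N) f hf
  have : (TensorProduct.prodRight R R Q M N).toLinearMap ∘ₗ (f.rTensor (M × N)) =
      ((f.rTensor M).prodMap (f.rTensor N)) ∘ₗ (TensorProduct.prodRight R R P M N).toLinearMap := by
    ext <;> simp
  have h3 : Function.Injective ((TensorProduct.prodRight R R Q M N).toLinearMap ∘ₗ (f.rTensor (M × N))) := by
    rw [this, LinearMap.coe_comp]
    exact (Prod.map_injective.2 ⟨h1, h2⟩).comp (TensorProduct.prodRight R R P M N).injective
  rw [LinearMap.coe_comp] at h3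
  exact h3.of_comp

theorem flat_ringHom_prod {R B C : Type*} [CommRing R] [CommRing B] [CommRing C] (f : R →+* B × C)
    (h1 : ((RingHom.fst B C).comp f).Flat) (h2 : ((RingHom.snd B C).comp f).Flat) : f.Flat := by
  let := ((RingHom.fst B C).comp f).toAlgebra
  let := ((RingHom.snd B C).comp f).toAlgebra
  have : Module.Flat R B := h1
  have : Module.Flat R C := h2
  have h3 : Module.Flat R (B × C) := flat_prod B C
  have : f.toAlgebra = (inferInstance : Algebra R (B × C)) := by
    apply Algebra.algebra_ext
    intro r
    rfl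
  rw [RingHom.Flat, this]
  exact h3

theorem flat_ringHom_pi {R : Type*} [CommRing R] {ι : Type*} [Finite ι] {B : ι → Type*}
    [∀ i, CommRing (B i)] (f : R →+* ∀ i, B i)
    (h : ∀ i, ((Pi.evalRingHom B i).comp f).Flat) : f.Flat := by
  let := fun i => ((Pi.evalRingHom B i).comp f).toAlgebra
  have : ∀ i, Module.Flat R (B i) := h
  have h3 : Module.Flat R (∀ i, B i) := flat_pi B
  have : f.toAlgebra = (inferInstance : Algebra R (∀ i, B i)) := by
    apply Algebra.algebra_ext
    intro r
    rfl
  rw [RingHom.Flat, this]
  exact h3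

theorem flat_fst (B C : Type*) [CommRing B] [CommRing C] : (RingHom.fst B C).Flat := by
  algebraize [RingHom.fst B C]
  have : Algebra.Etale (B × C) B := inferInstance
  exact (inferInstance : Module.Flat (B × C) B)

theorem flat_snd (B C : Type*) [CommRing B] [CommRing C] : (RingHom.snd B C).Flat := by
  algebraize [RingHom.snd B C]
  have : Algebra.Etale (B × C) C := inferInstance
  exact (inferInstance : Module.Flat (B × C) C)

theorem flat_eval {ι : Type*} (B : ι → Type*) [∀ i, CommRing (B i)] (i : ι) :
    (Pi.evalRingHom B i).Flat := by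
  classical
  algebraize [Pi.evalRingHom B i]
  have : IsLocalization.Away (Pi.single i 1 : ∀ i, B i) (B i) := by
    refine IsLocalization.away_of_isIdempotentElem ?_ ?_ ?_
    · rw [IsIdempotentElem, ← Pi.single_mul, one_mul]
    · ext x
      rw [RingHom.mem_ker, Ideal.mem_span_singleton]
      constructor
      · intro hx
        refine ⟨x, ?_⟩
        rw [sub_mul, one_mul, eq_comm, sub_eq_self]
        ext j
        by_cases h : j = i
        · subst h
          have hx' : x j = 0 := hx
          simp [hx']
        · simp [Pi.single_eq_of_ne h]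
      · rintro ⟨y, rfl⟩
        change ((1 - Pi.single i 1 : ∀ i, B i) * y) i = 0
        simp
    · exact Function.surjective_eval i
  exact IsLocalization.flat _ (Submonoid.powers (Pi.single i 1 : ∀ i, B i))

/-- Products of weakly étale algebras. -/
theorem weaklyEtale_prod (A B C : Type*) [CommRing A] [CommRing B] [CommRing C] [Algebra A B] [Algebra A C]
    [Algebra.WeaklyEtale A B] [Algebra.WeaklyEtale A C] : Algebra.WeaklyEtale A (B × C) where
  flat := flat_prod B C
  flat_lmul' := by
    apply flat_ringHom_prod
    · have h1 : (Algebra.TensorProduct.map (AlgHom.fst A B C) (AlgHom.fst A B C)).Flat :=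
        RingHom.Flat.tensorProductMap (flat_fst B C) (flat_fst B C)
      have h2 := RingHom.Flat.comp h1 (Algebra.WeaklyEtale.flat_lmul' A B)
      convert h2 using 1
      have : (AlgHom.fst A B C).comp (Algebra.TensorProduct.lmul' A (S := B × C)) =
          (Algebra.TensorProduct.lmul' A (S := B)).comp
            (Algebra.TensorProduct.map (AlgHom.fst A B C) (AlgHom.fst A B C)) := by
        ext <;> simp
      exact congrArg AlgHom.toRingHom this
    · have h1 : (Algebra.TensorProduct.map (AlgHom.snd A B C) (AlgHom.snd A B C)).Flat :=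
        RingHom.Flat.tensorProductMap (flat_snd B C) (flat_snd B C)
      have h2 := RingHom.Flat.comp h1 (Algebra.WeaklyEtale.flat_lmul' A C)
      convert h2 using 1
      have : (AlgHom.snd A B C).comp (Algebra.TensorProduct.lmul' A (S := B × C)) =
          (Algebra.TensorProduct.lmul' A (S := C)).comp
            (Algebra.TensorProduct.map (AlgHom.snd A B C) (AlgHom.snd A B C)) := by
        ext <;> simp
      exact congrArg AlgHom.toRingHom this

theorem weaklyEtale_pi (A : Type*) [CommRing A] {ι : Type*} [Finite ι] (B : ι → Type*) [∀ i, CommRing (B i)]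
    [∀ i, Algebra A (B i)] [∀ i, Algebra.WeaklyEtale A (B i)] : Algebra.WeaklyEtale A (∀ i, B i) where
  flat := flat_pi B
  flat_lmul' := by
    apply flat_ringHom_pi
    intro i
    have h1 : (Algebra.TensorProduct.map (Pi.evalAlgHom A B i) (Pi.evalAlgHom A B i)).Flat :=
      RingHom.Flat.tensorProductMap (flat_eval B i) (flat_eval B i)
    have h2 := RingHom.Flat.comp h1 (Algebra.WeaklyEtale.flat_lmul' A (B i))
    convert h2 using 1
    have : (Pi.evalAlgHom A B i).comp (Algebra.TensorProduct.lmul' A (S := ∀ i, B i)) =
        (Algebra.TensorProduct.lmul' A (S := B i)).comp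
          (Algebra.TensorProduct.map (Pi.evalAlgHom A B i) (Pi.evalAlgHom A B i)) := by
      ext <;> simp
    exact congrArg AlgHom.toRingHom this

/-- The cover `C × ∏_{f ∈ E} A_f` of `A` is faithfully flat if `Spec C` covers the complement of
`⋃_{f ∈ E} D(f)`. -/
theorem faithfullyFlat_cover {A : Type*} [CommRing A] (E : Finset A)
    (C : Type*) [CommRing C] [Algebra A C] [Module.Flat A C]
    (hE : ∀ p : PrimeSpectrum A, (∀ f ∈ E, f ∈ p.asIdeal) →
      p ∈ Set.range (PrimeSpectrum.comap (algebraMap A C))) :
    Module.FaithfullyFlat A (C × (∀ f : E, Localization.Away (f : A))) := by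
  classical
  have : ∀ f : E, Module.Flat A (Localization.Away (f : A)) := fun f =>
    IsLocalization.flat _ (Submonoid.powers (f : A))
  have : Module.Flat A (∀ f : E, Localization.Away (f : A)) := flat_pi _
  have : Module.Flat A (C × (∀ f : E, Localization.Away (f : A))) := flat_prod _ _
  refine Module.FaithfullyFlat.of_comap_surjective fun p => ?_
  by_cases h : ∀ f ∈ E, f ∈ p.asIdeal
  · obtain ⟨q, rfl⟩ := hE p h
    exact ⟨PrimeSpectrum.comap (RingHom.fst C _) q, by
      rw [← PrimeSpectrum.comap_comp_apply]; rfl⟩
  · push Not at h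
    obtain ⟨f, hf, hfp⟩ := h
    have : p ∈ Set.range (PrimeSpectrum.comap (algebraMap A (Localization.Away f))) := by
      rw [PrimeSpectrum.localization_away_comap_range (Localization.Away f) f]
      exact hfp
    obtain ⟨q, rfl⟩ := this
    refine ⟨PrimeSpectrum.comap ((Pi.evalRingHom (fun f : E => Localization.Away (f : A)) ⟨f, hf⟩).comp
      (RingHom.snd C _)) q, ?_⟩
    rw [← PrimeSpectrum.comap_comp_apply]; rfl

end Groth.Agent.Proet.LocZ
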