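import Groth.Agent.EtpbcB.IdLoc

/-!
# Bijectivity of `A/I → B/IB` from local rings
-/

set_option autoImplicit false
universe u v
open Groth.Agent.EtpbcB.IdLoc

namespace Groth.Agent.Proet.ModIdeal

/-- Let `f : A → B` identify local rings and let `I` be an ideal of `A`.  Suppose that over every
maximal ideal `m` containing `I` there is a prime `n` of `B` over `m` which contains
every prime `q ⊇ IB` with `q ∩ A ⊆ m`.  Then `A/I → B/IB` is bijective. -/
theorem quotientMap_bijective {A : Type u} {B : Type v} [CommRing A] [CommRing B] (f : A →+* B)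
    (I : Ideal A) (hf : IdLoc f)
    (h : ∀ m : Ideal A, m.IsMaximal → I ≤ m → ∃ n : Ideal B, n.IsPrime ∧ n.comap f = m ∧
      ∀ q : Ideal B, q.IsPrime → I.map f ≤ q → q.comap f ≤ m → q ≤ n) :
    Function.Bijective (Ideal.quotientMap (I.map f) f Ideal.le_comap_map) := by
  constructor
  · rw [injective_iff_map_eq_zero]
    intro x hx
    obtain ⟨a, rfl⟩ := Ideal.Quotient.mk_surjective x
    rw [Ideal.quotientMap_mk, Ideal.Quotient.eq_zero_iff_mem] at hx
    rw [Ideal.Quotient.eq_zero_iff_mem]
    -- the ideal of `c` with `c * a ∈ I`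
    by_contra ha
    let D : Ideal A := (Submodule.comap (LinearMap.mulRight A a) I)
    have hD : ∀ c, c ∈ D ↔ c * a ∈ I := fun c => Iff.rfl
    have hDtop : D ≠ ⊤ := by
      intro h1
      apply ha
      have : (1 : A) ∈ D := by rw [h1]; trivial
      simpa [hD] using this
    obtain ⟨m, hm, hDm⟩ := Ideal.exists_le_maximal D hDtop
    have hIm : I ≤ m := fun c hc => hDm (by rw [hD]; exact I.mul_mem_right _ hc)
    obtain ⟨n, hn, hnm, -⟩ := h m hm hIm
    -- localize at `n`
    have key : ∀ b ∈ I.map f, ∃ s ∉ m, ∃ i ∈ I, ∃ t ∉ n, t * (f s * b) = t * f i := by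
      intro b hb
      induction hb using Submodule.span_induction with
      | mem b hb =>
        obtain ⟨i, hi, rfl⟩ := hb
        exact ⟨1, m.ne_top_iff_one.1 hm.ne_top, i, hi, 1, n.ne_top_iff_one.1 hn.ne_top, by simp⟩
      | zero =>
        exact ⟨1, m.ne_top_iff_one.1 hm.ne_top, 0, I.zero_mem, 1,
          n.ne_top_iff_one.1 hn.ne_top, by simp⟩
      | add x y _ _ hx hy =>
        obtain ⟨s, hs, i, hi, t, ht, he⟩ := hx
        obtain ⟨s', hs', i', hi', t', ht', he'⟩ := hy
        refine ⟨s * s', hm.isPrime.mul_notMem hs hs', s' * i + s * i',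
          I.add_mem (I.mul_mem_left _ hi) (I.mul_mem_left _ hi'), t * t',
          hn.mul_notMem ht ht', ?_⟩
        have h1 := congrArg (fun z => t' * f s' * z) he
        have h2 := congrArg (fun z => t * f s * z) he'
        simp only [map_mul, map_add]
        linear_combination h1 + h2
      | smul c x _ hx =>
        obtain ⟨s, hs, i, hi, t, ht, he⟩ := hx
        obtain ⟨a', s', hs', t', ht', he'⟩ := (hf.exists_of n).2 c
        have hs'm : s' ∉ m := by
          rw [← hnm]; exact hs'
        refine ⟨s * s', hm.isPrime.mul_notMem hs hs'm, a' * i, I.mul_mem_left _ hi,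
          t * t', hn.mul_notMem ht ht', ?_⟩
        simp only [map_mul, smul_eq_mul]
        have h1 := congrArg (fun z => t' * f s' * c * z) he
        have h2 := congrArg (fun z => t * f i * z) he'
        linear_combination h1 + h2
    obtain ⟨s, hs, i, hi, t, ht, he⟩ := key _ hx
    -- `t * f (s * a - i) = 0`
    have h1 : t * f (s * a - i) = 0 := by
      rw [map_sub, map_mul, mul_sub, he, sub_self]
    obtain ⟨c, hc, hc'⟩ := (hf.exists_of n).1 _ _ ht h1
    have hcm : c ∉ m := by rw [← hnm]; exact hc
    have : c * s ∈ D := by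
      rw [hD]
      have : c * s * a = c * i := by linear_combination hc'
      rw [this]
      exact I.mul_mem_left _ hi
    exact hm.isPrime.mul_notMem hcm hs (hDm this)
  · intro y
    obtain ⟨b, rfl⟩ := Ideal.Quotient.mk_surjective y
    -- the ideal of `c` such that `c b ∈ f(A) + IB`
    let D : Ideal A :=
      { carrier := {c | ∃ a : A, f c * b - f a ∈ I.map f}
        add_mem' := by
          rintro c c' ⟨a, ha⟩ ⟨a', ha'⟩
          refine ⟨a + a', ?_⟩
          have : f (c + c') * b - f (a + a') = (f c * b - f a) + (f c' * b - f a') := by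
            rw [map_add, map_add]; ring
          rw [this]
          exact Ideal.add_mem _ ha ha'
        zero_mem' := ⟨0, by simp⟩
        smul_mem' := by
          rintro r c ⟨a, ha⟩
          refine ⟨r * a, ?_⟩
          have : f (r • c) * b - f (r * a) = f r * (f c * b - f a) := by
            rw [smul_eq_mul, map_mul, map_mul]; ring
          rw [this]
          exact Ideal.mul_mem_left _ _ ha }
    have hD : ∀ c, c ∈ D ↔ ∃ a : A, f c * b - f a ∈ I.map f := fun c => Iff.rfl
    have hDtop : D = ⊤ := by
      by_contra hne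
      obtain ⟨m, hm, hDm⟩ := Ideal.exists_le_maximal D hne
      have hIm : I ≤ m := fun c hc => hDm (by
        rw [hD]
        refine ⟨0, ?_⟩
        rw [map_zero, sub_zero]
        exact Ideal.mul_mem_right _ _ (Ideal.mem_map_of_mem f hc))
      obtain ⟨n, hn, hnm, hq⟩ := h m hm hIm
      obtain ⟨a, s, hs, t, ht, he⟩ := (hf.exists_of n).2 b
      -- some `s' ∉ m` has `f s' ∈ (t) + IB`
      have hs' : ∃ s' ∉ m, f s' ∈ Ideal.span {t} ⊔ I.map f := by
        by_contra! hcon
        have hdisj : Disjoint ((Ideal.span {t} ⊔ I.map f : Ideal B) : Set B)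
            (Submonoid.map f m.primeCompl : Set B) := by
          rw [Set.disjoint_left]
          rintro _ h1 ⟨s', hs', rfl⟩
          exact hcon s' hs' h1
        obtain ⟨q, hqp, hle, hqd⟩ := Ideal.exists_le_prime_disjoint _ _ hdisj
        have h1 : q ≤ n := by
          refine hq q hqp (le_trans le_sup_right hle) ?_
          intro c hc
          by_contra hcm
          exact Set.disjoint_left.1 hqd hc ⟨c, hcm, rfl⟩
        exact ht (h1 (hle (Ideal.mem_sup_left (Ideal.mem_span_singleton_self t))))
      obtain ⟨s', hs', hmem⟩ := hs'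
      rw [Ideal.mem_span_singleton_sup] at hmem
      obtain ⟨b', i, hi, hb'⟩ := hmem
      have hsm : s ∉ m := by rw [← hnm]; exact hs
      refine hm.isPrime.mul_notMem hs' hsm (hDm ?_)
      rw [hD]
      refine ⟨s' * a, ?_⟩
      have : f (s' * s) * b - f (s' * a) = i * (f s * b - f a) := by
        rw [map_mul, map_mul, ← hb']
        linear_combination b' * he
      rw [this]
      exact Ideal.mul_mem_right _ _ hi
    have : (1 : A) ∈ D := by rw [hDtop]; trivial
    obtain ⟨a, ha⟩ := this
    refine ⟨Ideal.Quotient.mk _ a, ?_⟩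
    rw [Ideal.quotientMap_mk, eq_comm, Ideal.Quotient.eq]
    simpa using ha

end Groth.Agent.Proet.ModIdeal
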