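import Mathlib.AlgebraicTopology.CechNerve
import Mathlib.CategoryTheory.Limits.Preserves.Basic
import Mathlib.CategoryTheory.Limits.Preserves.Finite
import Mathlib.CategoryTheory.Comma.Arrow

/-!
# Cech nerves commute with limits of arrows

`isLimit_nerve`: if a cone `c` over `D : K ⥤ Arrow 𝒜` becomes a limit cone in `ℬ` on both sources
and targets after applying `Φ : 𝒜 ⥤ ℬ`, and `Φ` preserves finite wide pullbacks, then so does
each level of the Cech nerve.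
-/

set_option autoImplicit false
universe v₁ v₂ v₃ u₁ u₂ u₃

open CategoryTheory CategoryTheory.Limits Opposite

namespace Groth.Agent.Proet.NerveLim

variable {𝒜 : Type u₁} [Category.{v₁} 𝒜] {ℬ : Type u₂} [Category.{v₂} ℬ] (Φ : 𝒜 ⥤ ℬ)

section

variable (J : Type) [HasLimitsOfShape (WidePullbackShape J) 𝒜]
  [PreservesLimitsOfShape (WidePullbackShape J) Φ]

theorem exists_hom_widePullback {V W : 𝒜} (f : W ⟶ V) {T : ℬ} (a : T ⟶ Φ.obj V)
    (b : J → (T ⟶ Φ.obj W)) (h : ∀ i, b i ≫ Φ.map f = a) :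
    ∃ t : T ⟶ Φ.obj (widePullback V (fun _ : J => W) (fun _ => f)),
      t ≫ Φ.map (WidePullback.base _) = a ∧ ∀ i, t ≫ Φ.map (WidePullback.π _ i) = b i := by
  let F := WidePullbackShape.wideCospan V (fun _ : J => W) (fun _ => f)
  let hl := isLimitOfPreserves Φ (limit.isLimit F)
  let c : Cone (F ⋙ Φ) := WidePullbackShape.mkCone (F := F ⋙ Φ) a b h
  refine ⟨hl.lift c, hl.fac c none, fun i => hl.fac c (some i)⟩

theorem hom_ext_widePullback {V W : 𝒜} (f : W ⟶ V) {T : ℬ}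
    {t t' : T ⟶ Φ.obj (widePullback V (fun _ : J => W) (fun _ => f))}
    (h : t ≫ Φ.map (WidePullback.base _) = t' ≫ Φ.map (WidePullback.base _))
    (h' : ∀ i, t ≫ Φ.map (WidePullback.π _ i) = t' ≫ Φ.map (WidePullback.π _ i)) : t = t' := by
  let F := WidePullbackShape.wideCospan V (fun _ : J => W) (fun _ => f)
  let hl := isLimitOfPreserves Φ (limit.isLimit F)
  refine hl.hom_ext ?_
  rintro (_ | i)
  · exact h
  · exact h' i

end

variable [HasFiniteWidePullbacks 𝒜] [PreservesFiniteLimits Φ]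
  {K : Type u₃} [Category.{v₃} K]

/-- The `n`-th level of the Cech nerve as a functor. -/
noncomputable abbrev nerveAt (𝒜 : Type u₁) [Category.{v₁} 𝒜] [HasFiniteWidePullbacks 𝒜] (n : ℕ) :
    Arrow 𝒜 ⥤ 𝒜 :=
  SimplicialObject.cechNerve ⋙ (evaluation _ _).obj (op (SimplexCategory.mk n))

/-- The `i`-th projection, natural in the arrow. -/
noncomputable def pr (𝒜 : Type u₁) [Category.{v₁} 𝒜] [HasFiniteWidePullbacks 𝒜] (n : ℕ)
    (i : Fin (n + 1)) : nerveAt 𝒜 n ⟶ Arrow.leftFunc where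
  app f := WidePullback.π (fun _ : Fin (n + 1) => f.hom) i
  naturality _ _ _ := WidePullback.lift_π _ _ _ _ _

/-- The projection to the base, natural in the arrow. -/
noncomputable def bs (𝒜 : Type u₁) [Category.{v₁} 𝒜] [HasFiniteWidePullbacks 𝒜] (n : ℕ) :
    nerveAt 𝒜 n ⟶ Arrow.rightFunc where
  app f := WidePullback.base (fun _ : Fin (n + 1) => f.hom)
  naturality _ _ _ := WidePullback.lift_base _ _ _ _

theorem pr_leftToRight (n : ℕ) (i : Fin (n + 1)) (f : Arrow 𝒜) :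
    (pr 𝒜 n i).app f ≫ Arrow.leftToRight.app f = (bs 𝒜 n).app f :=
  WidePullback.π_arrow _ _

omit [HasFiniteWidePullbacks 𝒜] [PreservesFiniteLimits Φ] in
theorem exists_hom_nerve [HasFiniteWidePullbacks 𝒜] [PreservesFiniteLimits Φ] (n : ℕ)
    (f : Arrow 𝒜) {T : ℬ} (a : T ⟶ Φ.obj (Arrow.rightFunc.obj f))
    (b : Fin (n + 1) → (T ⟶ Φ.obj (Arrow.leftFunc.obj f)))
    (h : ∀ i, b i ≫ Φ.map (Arrow.leftToRight.app f) = a) :
    ∃ t : T ⟶ Φ.obj ((nerveAt 𝒜 n).obj f),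
      t ≫ Φ.map ((bs 𝒜 n).app f) = a ∧ ∀ i, t ≫ Φ.map ((pr 𝒜 n i).app f) = b i :=
  exists_hom_widePullback Φ (Fin (n + 1)) f.hom a b h

theorem hom_ext_nerve (n : ℕ) (f : Arrow 𝒜) {T : ℬ} {t t' : T ⟶ Φ.obj ((nerveAt 𝒜 n).obj f)}
    (h : t ≫ Φ.map ((bs 𝒜 n).app f) = t' ≫ Φ.map ((bs 𝒜 n).app f))
    (h' : ∀ i, t ≫ Φ.map ((pr 𝒜 n i).app f) = t' ≫ Φ.map ((pr 𝒜 n i).app f)) : t = t' :=
  hom_ext_widePullback Φ (Fin (n + 1)) f.hom h h'

theorem isLimit_nerve (n : ℕ) {D : K ⥤ Arrow 𝒜} (c : Cone D)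
    (hl : IsLimit ((Arrow.leftFunc ⋙ Φ).mapCone c))
    (hr : IsLimit ((Arrow.rightFunc ⋙ Φ).mapCone c)) :
    Nonempty (IsLimit ((nerveAt 𝒜 n ⋙ Φ).mapCone c)) := by
  refine ⟨IsLimit.ofExistsUnique ?_⟩
  intro s
  let cr : Cone (D ⋙ Arrow.rightFunc ⋙ Φ) :=
    (Cone.postcompose (Functor.whiskerLeft D (Functor.whiskerRight (bs 𝒜 n) Φ))).obj s
  let cl (i : Fin (n + 1)) : Cone (D ⋙ Arrow.leftFunc ⋙ Φ) :=
    (Cone.postcompose (Functor.whiskerLeft D (Functor.whiskerRight (pr 𝒜 n i) Φ))).obj s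
  have hcr (k : K) : cr.π.app k = s.π.app k ≫ Φ.map ((bs 𝒜 n).app (D.obj k)) := rfl
  have hcl (i : Fin (n + 1)) (k : K) :
    (cl i).π.app k = s.π.app k ≫ Φ.map ((pr 𝒜 n i).app (D.obj k)) := rfl
  have facr (k : K) : hr.lift cr ≫ Φ.map (Arrow.rightFunc.map (c.π.app k)) =
    s.π.app k ≫ Φ.map ((bs 𝒜 n).app (D.obj k)) := hr.fac cr k
  have facl (i : Fin (n + 1)) (k : K) :
    hl.lift (cl i) ≫ Φ.map (Arrow.leftFunc.map (c.π.app k)) =
      s.π.app k ≫ Φ.map ((pr 𝒜 n i).app (D.obj k)) := hl.fac (cl i) k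
  have natr (k : K) : Φ.map ((nerveAt 𝒜 n).map (c.π.app k)) ≫ Φ.map ((bs 𝒜 n).app (D.obj k)) =
      Φ.map ((bs 𝒜 n).app c.pt) ≫ Φ.map (Arrow.rightFunc.map (c.π.app k)) := by
    rw [← Functor.map_comp, (bs 𝒜 n).naturality, Functor.map_comp]
    rfl
  have natl (i : Fin (n + 1)) (k : K) :
      Φ.map ((nerveAt 𝒜 n).map (c.π.app k)) ≫ Φ.map ((pr 𝒜 n i).app (D.obj k)) =
      Φ.map ((pr 𝒜 n i).app c.pt) ≫ Φ.map (Arrow.leftFunc.map (c.π.app k)) := by
    rw [← Functor.map_comp, (pr 𝒜 n i).naturality, Functor.map_comp]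
    rfl
  have nath (k : K) : Φ.map (Arrow.leftToRight.app c.pt) ≫ Φ.map (Arrow.rightFunc.map (c.π.app k)) =
      Φ.map (Arrow.leftFunc.map (c.π.app k)) ≫ Φ.map (Arrow.leftToRight.app (D.obj k)) := by
    rw [← Functor.map_comp, ← Functor.map_comp]
    congr 1
    exact (Arrow.leftToRight.naturality (c.π.app k)).symm
  have hcomp (i : Fin (n + 1)) :
      hl.lift (cl i) ≫ Φ.map (Arrow.leftToRight.app c.pt) = hr.lift cr := by
    refine hr.hom_ext ?_
    intro k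
    refine Eq.trans ?_ (facr k).symm
    change (hl.lift (cl i) ≫ Φ.map (Arrow.leftToRight.app c.pt)) ≫
      Φ.map (Arrow.rightFunc.map (c.π.app k)) = _
    rw [Category.assoc, nath k, reassoc_of% (facl i k), ← Functor.map_comp, pr_leftToRight]
  obtain ⟨t, ht, ht'⟩ := exists_hom_nerve Φ n c.pt (hr.lift cr)
    (fun i => hl.lift (cl i)) hcomp
  refine ⟨t, ?_, ?_⟩
  · intro k
    apply hom_ext_nerve Φ n (D.obj k)
    · change (t ≫ Φ.map ((nerveAt 𝒜 n).map (c.π.app k))) ≫ Φ.map ((bs 𝒜 n).app (D.obj k)) = _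
      rw [Category.assoc, natr k, reassoc_of% ht]
      exact facr k
    · intro i
      change (t ≫ Φ.map ((nerveAt 𝒜 n).map (c.π.app k))) ≫ Φ.map ((pr 𝒜 n i).app (D.obj k)) = _
      rw [Category.assoc, natl i k, reassoc_of% (ht' i)]
      exact facl i k
  · intro t' ht2
    replace ht2 : ∀ k, t' ≫ Φ.map ((nerveAt 𝒜 n).map (c.π.app k)) = s.π.app k := ht2
    apply hom_ext_nerve Φ n c.pt
    · refine Eq.trans ?_ ht.symm
      refine hr.hom_ext ?_
      intro k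
      refine Eq.trans ?_ (facr k).symm
      change (t' ≫ Φ.map ((bs 𝒜 n).app c.pt)) ≫ Φ.map (Arrow.rightFunc.map (c.π.app k)) = _
      rw [Category.assoc, ← natr k, ← Category.assoc, ht2 k]
    · intro i
      refine Eq.trans ?_ (ht' i).symm
      refine hl.hom_ext ?_
      intro k
      refine Eq.trans ?_ (facl i k).symm
      change (t' ≫ Φ.map ((pr 𝒜 n i).app c.pt)) ≫ Φ.map (Arrow.leftFunc.map (c.π.app k)) = _
      rw [Category.assoc, ← natl i k, ← Category.assoc, ht2 k]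

end Groth.Agent.Proet.NerveLim
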