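import Groth.Agent.Proet.CechEl

/-!
# Terms of Cech nerves by iterated pullbacks
-/

set_option autoImplicit false
universe w v u

open CategoryTheory Category Limits Opposite Simplicial

noncomputable section

namespace Groth.Agent.Proet.NerveMem

open CechEl

variable {C : Type u} [Category.{v} C] {V U : C} (f : V ⟶ U)
  [∀ n : ℕ, HasWidePullback.{0} (Arrow.mk f).right
    (fun _ : Fin (n + 1) => (Arrow.mk f).left) fun _ => (Arrow.mk f).hom]

/-- `N_0(f)` is isomorphic to `V`. -/
def nerveZeroIso : (nerve f) _⦋0⦌ ≅ V where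
  hom := nπ f 0 0
  inv := nlift f 0 f (fun _ => 𝟙 V) (fun _ => id_comp _)
  hom_inv_id := by
    apply nhom_ext
    intro j
    obtain rfl : j = 0 := Fin.fin_one_eq_zero j
    rw [assoc, nlift_π, comp_id, id_comp]
  inv_hom_id := nlift_π f 0 _ _ _ 0

theorem nerveZeroIso_hom_comp : (nerveZeroIso f).hom ≫ f = nbase f 0 := nπ_comp f 0 0

/-- `N_{n+1}(f)` is the pullback of `N_n(f)` and `V` over `U`. -/
theorem isPullback_nerve (n : ℕ) :
    IsPullback ((nerve f).δ (0 : Fin (n + 2))) (nπ f (n + 1) 0) (nbase f n) f := by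
  refine ⟨⟨by rw [nδ_base, nπ_comp]⟩, ⟨PullbackCone.IsLimit.mk _
    (fun s => nlift f (n + 1) (s.snd ≫ f) (Fin.cases s.snd (fun j => s.fst ≫ nπ f n j)) ?_)
    ?_ ?_ ?_⟩⟩
  · intro j
    refine Fin.cases rfl (fun j => ?_) j
    change (s.fst ≫ nπ f n j) ≫ f = _
    rw [assoc, nπ_comp]
    exact s.condition
  · intro s
    apply nhom_ext
    intro j
    rw [assoc, nδ_π, nlift_π, Fin.succAbove_zero]
    rfl
  · intro s
    rw [nlift_π]
    rfl
  · intro s m h1 h2
    apply nhom_ext
    intro j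
    rw [nlift_π]
    refine Fin.cases h2 (fun j => ?_) j
    change m ≫ nπ f (n + 1) j.succ = s.fst ≫ nπ f n j
    rw [← h1, assoc, nδ_π, Fin.succAbove_zero]

/-- Properties of the terms of a Cech nerve by induction. -/
theorem nerve_mem (B : C → Prop) (h0 : ∀ {X Y : C} (_ : X ≅ Y), B X → B Y) (hV : B V)
    (hpb : ∀ {P W : C} (a : P ⟶ W) (b : P ⟶ V) (c : W ⟶ U), IsPullback a b c f → B W → B P)
    (n : ℕ) : B ((nerve f) _⦋n⦌) := by
  induction n with
  | zero => exact h0 (nerveZeroIso f).symm hV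
  | succ n ih => exact hpb _ _ _ (isPullback_nerve f n) ih

end Groth.Agent.Proet.NerveMem
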