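import Groth.Agent.Proet.NerveLim
import Mathlib.AlgebraicGeometry.Morphisms.Separated
import Mathlib.AlgebraicGeometry.Morphisms.Affine

/-!
# Properties of Cech nerve levels

* `isPullback_nerve`: `N_{n+1} = W ×_V N_n`.
* `bs_mem`: properties of `N_n ⟶ V`.
* `isAffineHom_of_isPullback`: maps between fibre products are affine.
-/

set_option autoImplicit false
universe v₁ v₂ v₃ u₁ u₂ u₃ u

open CategoryTheory CategoryTheory.Limits Opposite

namespace Groth.Agent.Proet.NerveProp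

open NerveLim

section General

variable {𝒜 : Type u₁} [Category.{v₁} 𝒜] [HasFiniteWidePullbacks 𝒜]

/-- Forget the last vertex. -/
noncomputable def dr (𝒜 : Type u₁) [Category.{v₁} 𝒜] [HasFiniteWidePullbacks 𝒜] (n : ℕ) :
    nerveAt 𝒜 (n + 1) ⟶ nerveAt 𝒜 n :=
  Functor.whiskerLeft SimplicialObject.cechNerve
    ((evaluation _ _).map (SimplexCategory.δ (Fin.last (n + 1))).op)

theorem dr_pr (n : ℕ) (f : Arrow 𝒜) (i : Fin (n + 1)) :
    (dr 𝒜 n).app f ≫ (pr 𝒜 n i).app f = (pr 𝒜 (n + 1) i.castSucc).app f := by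
  refine (WidePullback.lift_π _ _ _ _ _).trans ?_
  have : (SimplexCategory.δ (Fin.last (n + 1))).toOrderHom i = i.castSucc :=
    Fin.succAbove_last_apply i
  change (pr 𝒜 (n + 1) _).app f = _
  congr 2

theorem dr_bs (n : ℕ) (f : Arrow 𝒜) :
    (dr 𝒜 n).app f ≫ (bs 𝒜 n).app f = (bs 𝒜 (n + 1)).app f := by
  rw [← pr_leftToRight n 0, ← Category.assoc, dr_pr, pr_leftToRight]

theorem exists_lift (n : ℕ) (f : Arrow 𝒜) {T : 𝒜} (a : T ⟶ Arrow.rightFunc.obj f)
    (b : Fin (n + 1) → (T ⟶ Arrow.leftFunc.obj f))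
    (h : ∀ i, b i ≫ Arrow.leftToRight.app f = a) :
    ∃ t : T ⟶ (nerveAt 𝒜 n).obj f,
      t ≫ (bs 𝒜 n).app f = a ∧ ∀ i, t ≫ (pr 𝒜 n i).app f = b i := by
  refine ⟨WidePullback.lift a b h, WidePullback.lift_base _ _ _ _, fun i =>
    WidePullback.lift_π _ _ _ _ _⟩

theorem hom_ext_pr (n : ℕ) (f : Arrow 𝒜) {T : 𝒜} {t t' : T ⟶ (nerveAt 𝒜 n).obj f}
    (h' : ∀ i, t ≫ (pr 𝒜 n i).app f = t' ≫ (pr 𝒜 n i).app f) : t = t' := by
  refine WidePullback.hom_ext _ _ _ h' ?_
  change t ≫ (bs 𝒜 n).app f = t' ≫ (bs 𝒜 n).app f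
  rw [← pr_leftToRight n 0, ← Category.assoc, ← Category.assoc, h']

theorem isPullback_nerve (n : ℕ) (f : Arrow 𝒜) :
    IsPullback ((pr 𝒜 (n + 1) (Fin.last (n + 1))).app f) ((dr 𝒜 n).app f)
      (Arrow.leftToRight.app f) ((bs 𝒜 n).app f) := by
  have key (T : 𝒜) (x : T ⟶ Arrow.leftFunc.obj f) (y : T ⟶ (nerveAt 𝒜 n).obj f)
      (hxy : x ≫ Arrow.leftToRight.app f = y ≫ (bs 𝒜 n).app f) :
      ∃ t : T ⟶ (nerveAt 𝒜 (n + 1)).obj f,
        t ≫ (pr 𝒜 (n + 1) (Fin.last (n + 1))).app f = x ∧ t ≫ (dr 𝒜 n).app f = y := by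
    obtain ⟨t, -, ht⟩ := exists_lift (n + 1) f (y ≫ (bs 𝒜 n).app f)
      (Fin.lastCases (motive := fun _ => T ⟶ Arrow.leftFunc.obj f) x
        (fun i => y ≫ (pr 𝒜 n i).app f)) (by
        intro i
        refine Fin.lastCases ?_ (fun i => ?_) i
        · rw [Fin.lastCases_last, hxy]
        · rw [Fin.lastCases_castSucc, Category.assoc, pr_leftToRight])
    refine ⟨t, ?_, ?_⟩
    · rw [ht, Fin.lastCases_last]
    · apply hom_ext_pr
      intro i
      rw [Category.assoc, dr_pr, ht, Fin.lastCases_castSucc]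
  refine ⟨⟨?_⟩, ⟨PullbackCone.IsLimit.mk _
    (fun s => (key s.pt s.fst s.snd s.condition).choose)
    (fun s => (key s.pt s.fst s.snd s.condition).choose_spec.1)
    (fun s => (key s.pt s.fst s.snd s.condition).choose_spec.2) ?_⟩⟩
  · rw [pr_leftToRight, dr_bs]
  · intro s m h1 h2
    apply hom_ext_pr
    intro i
    refine Fin.lastCases ?_ (fun i => ?_) i
    · rw [h1, (key s.pt s.fst s.snd s.condition).choose_spec.1]
    · rw [← dr_pr, ← Category.assoc, ← Category.assoc, h2,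
        (key s.pt s.fst s.snd s.condition).choose_spec.2]

instance isIso_pr_zero (f : Arrow 𝒜) : IsIso ((pr 𝒜 0 0).app f) := by
  obtain ⟨t, ht, ht'⟩ := exists_lift 0 f (Arrow.leftToRight.app f) (fun _ => 𝟙 _)
    (fun _ => Category.id_comp _)
  refine ⟨t, ?_, ht' 0⟩
  apply hom_ext_pr
  intro i
  obtain rfl := Fin.fin_one_eq_zero i
  rw [Category.assoc, ht' 0, Category.id_comp, Category.comp_id]

/-- A property stable under base change and composition holds for `N_n ⟶ V` if it holds for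
`W ⟶ V`. -/
theorem map_bs_mem {ℬ : Type u₂} [Category.{v₂} ℬ] (Ψ : 𝒜 ⥤ ℬ)
    [PreservesLimitsOfShape WalkingCospan Ψ] (P : MorphismProperty ℬ)
    [P.IsStableUnderBaseChange] [P.IsStableUnderComposition]
    (f : Arrow 𝒜) (hf : P (Ψ.map f.hom)) (n : ℕ) : P (Ψ.map ((bs 𝒜 n).app f)) := by
  induction n with
  | zero =>
    rw [← pr_leftToRight 0 0 f, Functor.map_comp]
    exact (P.cancel_left_of_respectsIso _ _).2 hf
  | succ n ih =>
    rw [← dr_bs, Functor.map_comp]
    refine P.comp_mem _ _ ?_ ih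
    exact P.of_isPullback ((isPullback_nerve n f).map Ψ) hf

end General

section Scheme

open AlgebraicGeometry

theorem isAffineHom_pullback_map {A B V A' B' V' : Scheme.{u}} (a : A ⟶ V) (b : B ⟶ V)
    (a' : A' ⟶ V') (b' : B' ⟶ V') (α : A ⟶ A') (β : B ⟶ B') (γ : V ⟶ V')
    (ha : a ≫ γ = α ≫ a') (hb : b ≫ γ = β ≫ b')
    [hα : IsAffineHom α] [hβ : IsAffineHom β] [IsAffineHom γ] :
    IsAffineHom (pullback.map a b a' b' α β γ ha hb) := by
  have h0 : MorphismProperty.IsStableUnderComposition (@IsAffineHom : MorphismProperty Scheme.{u}) :=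
    ⟨fun f g hf hg => by have := hf; have := hg; infer_instance⟩
  have h1 : IsAffineHom (pullback.mapDesc a b γ) := inferInstance
  have h2 : IsAffineHom (pullback.map (a ≫ γ) (b ≫ γ) a' b' α β (𝟙 _)
      ((Category.comp_id _).trans ha) ((Category.comp_id _).trans hb)) :=
    MorphismProperty.pullbackMap (P := (@IsAffineHom : MorphismProperty Scheme.{u})) hα hβ ha hb
  have e : pullback.map a b a' b' α β γ ha hb = pullback.mapDesc a b γ ≫
      pullback.map (a ≫ γ) (b ≫ γ) a' b' α β (𝟙 _)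
      ((Category.comp_id _).trans ha) ((Category.comp_id _).trans hb) := by
    apply pullback.hom_ext
    · rw [Category.assoc, pullback.lift_fst, pullback.lift_fst, ← Category.assoc,
        pullback.lift_fst, Category.comp_id]
    · rw [Category.assoc, pullback.lift_snd, pullback.lift_snd, ← Category.assoc,
        pullback.lift_snd, Category.comp_id]
  rw [e]
  infer_instance

theorem isAffineHom_of_isPullback {P A B V P' A' B' V' : Scheme.{u}}
    {p : P ⟶ A} {q : P ⟶ B} {a : A ⟶ V} {b : B ⟶ V} (h : IsPullback p q a b)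
    {p' : P' ⟶ A'} {q' : P' ⟶ B'} {a' : A' ⟶ V'} {b' : B' ⟶ V'} (h' : IsPullback p' q' a' b')
    (δ : P ⟶ P') (α : A ⟶ A') (β : B ⟶ B') (γ : V ⟶ V')
    (hp : δ ≫ p' = p ≫ α) (hq : δ ≫ q' = q ≫ β) (ha : α ≫ a' = a ≫ γ) (hb : β ≫ b' = b ≫ γ)
    (hα : IsAffineHom α) (hβ : IsAffineHom β) (hγ : IsAffineHom γ) : IsAffineHom δ := by
  have := isAffineHom_pullback_map a b a' b' α β γ ha.symm hb.symm
  have e : δ = (h.isoPullback.hom ≫ pullback.map a b a' b' α β γ ha.symm hb.symm) ≫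
      h'.isoPullback.inv := by
    apply h'.hom_ext
    · rw [hp, Category.assoc, h'.isoPullback_inv_fst, Category.assoc, pullback.lift_fst,
        ← Category.assoc, h.isoPullback_hom_fst]
    · rw [hq, Category.assoc, h'.isoPullback_inv_snd, Category.assoc, pullback.lift_snd,
        ← Category.assoc, h.isoPullback_hom_snd]
  rw [e]
  infer_instance

end Scheme

/-- Maps of Cech nerves induced by affine maps are affine. -/
theorem isAffineHom_map_nerve {𝒜 : Type u₁} [Category.{v₁} 𝒜] [HasFiniteWidePullbacks 𝒜]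
    (Ψ : 𝒜 ⥤ AlgebraicGeometry.Scheme.{u}) [PreservesLimitsOfShape WalkingCospan Ψ]
    {f f' : Arrow 𝒜} (g : f ⟶ f')
    (hl : AlgebraicGeometry.IsAffineHom (Ψ.map (Arrow.leftFunc.map g)))
    (hr : AlgebraicGeometry.IsAffineHom (Ψ.map (Arrow.rightFunc.map g))) (n : ℕ) :
    AlgebraicGeometry.IsAffineHom (Ψ.map ((nerveAt 𝒜 n).map g)) := by
  induction n with
  | zero =>
    have h1 : IsIso ((pr 𝒜 0 0).app f) := isIso_pr_zero f
    have h2 : IsIso ((pr 𝒜 0 0).app f') := isIso_pr_zero f'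
    have e : (nerveAt 𝒜 0).map g =
        (pr 𝒜 0 0).app f ≫ Arrow.leftFunc.map g ≫ inv ((pr 𝒜 0 0).app f') := by
      rw [← Category.assoc, IsIso.eq_comp_inv]
      exact (pr 𝒜 0 0).naturality g
    rw [e, Functor.map_comp, Functor.map_comp]
    infer_instance
  | succ n ih =>
    refine isAffineHom_of_isPullback ((isPullback_nerve n f).map Ψ) ((isPullback_nerve n f').map Ψ)
      (Ψ.map ((nerveAt 𝒜 (n + 1)).map g)) (Ψ.map (Arrow.leftFunc.map g))
      (Ψ.map ((nerveAt 𝒜 n).map g)) (Ψ.map (Arrow.rightFunc.map g)) ?_ ?_ ?_ ?_ hl ih hr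
    · rw [← Functor.map_comp, ← Functor.map_comp, (pr 𝒜 (n + 1) (Fin.last _)).naturality g]
    · rw [← Functor.map_comp, ← Functor.map_comp, (dr 𝒜 n).naturality g]
    · rw [← Functor.map_comp, ← Functor.map_comp, Arrow.leftToRight.naturality g]
    · rw [← Functor.map_comp, ← Functor.map_comp, (bs 𝒜 n).naturality g]

end Groth.Agent.Proet.NerveProp
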