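import Mathlib.CategoryTheory.Sites.Pullback
import Mathlib.CategoryTheory.Sites.LocallyBijective
import Mathlib.CategoryTheory.Sites.DenseSubsite.Basic
import Mathlib.CategoryTheory.Functor.KanExtension.Adjunction
import Mathlib.CategoryTheory.Adjunction.PartialAdjoint

/-!
# Inverse image of sheaves along a functor with a partial left adjoint on good objects

`u : C ⥤ D` is a functor between sites and `𝒢` is a class of objects of `C` such that
* `u` is bijective on morphisms out of objects of `𝒢`,
* the images of the objects of `𝒢` cover all objects of `D`,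
* coverings of `u V` (`V ∈ 𝒢`) can be refined by images of disjoint decompositions of `V` with
  pieces in `𝒢`.

Then for `V ∈ 𝒢` the unit `G(V) → (u⁻¹G)(u V)` is an isomorphism, the direct image functor is fully
faithful, and the inverse image functor preserves limits.
-/

set_option autoImplicit false

universe w v₁ v₂ v₃ u₁ u₂ u₃

open CategoryTheory CategoryTheory.Limits Opposite

namespace Groth.Agent.Proet.PartialAdj

variable {C : Type u₁} [Category.{v₁} C] {D : Type u₂} [Category.{v₂} D]
  (J : GrothendieckTopology C) (K : GrothendieckTopology D) (u : C ⥤ D)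

/-- A family of monomorphisms `g k : X k ⟶ V` which covers `V` and has disjoint pieces. -/
structure Decomp {V : C} {ι : Type} (X : ι → C) (g : ∀ k, X k ⟶ V) : Prop where
  mem : Sieve.ofArrows X g ∈ J V
  mono : ∀ k, Mono (g k)
  disj : ∀ k l, k ≠ l → ∀ (T : C) (a : T ⟶ X k) (b : T ⟶ X l), a ≫ g k = b ≫ g l → ⊥ ∈ J T

/-- A good class of objects for the functor `u`. -/
structure Good (𝒢 : ObjectProperty C) : Prop where
  coverPreserving : CoverPreserving J K u
  bij : ∀ V, 𝒢 V → ∀ U, Function.Bijective (fun f : V ⟶ U => u.map f)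
  dense : ∀ W : D, Sieve.coverByImage (𝒢.ι ⋙ u) W ∈ K W
  decomp : ∀ V, 𝒢 V → ∀ S ∈ K (u.obj V), ∃ (ι : Type) (X : ι → C) (g : ∀ k, X k ⟶ V),
    Decomp J X g ∧ (∀ k, 𝒢 (X k)) ∧ (∀ k, S (u.map (g k)))

section Types

variable {J}

theorem subsingleton_of_bot_mem (F : Sheaf J (Type w)) {T : C} (h : ⊥ ∈ J T) :
    Subsingleton (F.obj.obj (op T)) := by
  have hF : Presieve.IsSheaf J F.obj := (isSheaf_iff_isSheaf_of_type _ _).1 F.property
  constructor
  intro a b
  refine (hF ⊥ h).isSeparatedFor.ext ?_
  intro Y f hf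
  exact hf.elim

theorem Decomp.existsUnique (F : Sheaf J (Type w)) {V : C} {ι : Type} {X : ι → C}
    {g : ∀ k, X k ⟶ V} (hg : Decomp J X g) (x : ∀ k, F.obj.obj (op (X k))) :
    ∃! y : F.obj.obj (op V), ∀ k, F.obj.map (g k).op y = x k := by
  have hF : Presieve.IsSheaf J F.obj := (isSheaf_iff_isSheaf_of_type _ _).1 F.property
  have h1 : Presieve.IsSheafFor F.obj (Presieve.ofArrows X g) := by
    have := hF _ hg.mem
    rwa [Sieve.ofArrows, ← Presieve.isSheafFor_iff_generate] at this
  rw [Presieve.isSheafFor_arrows_iff] at h1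
  refine h1 x ?_
  intro k l T a b hab
  by_cases hkl : k = l
  · subst hkl
    have := hg.mono k
    rw [cancel_mono] at hab
    rw [hab]
  · have := subsingleton_of_bot_mem F (hg.disj k l hkl T a b hab)
    exact Subsingleton.elim _ _

end Types

section General

variable {A : Type u₃} [Category.{v₃} A] {FA : A → A → Type*} {CA : A → Type w}
  [∀ X Y, FunLike (FA X Y) (CA X) (CA Y)] [ConcreteCategory.{w} A FA]

/-- Sections of the sheafification on an object all of whose coverings can be refined by
families for which the presheaf has the gluing property. -/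
theorem toSheafify_bijective [HasWeakSheafify K A] [K.WEqualsLocallyBijective A]
    [K.HasSheafCompose (forget A)]
    (P : Dᵒᵖ ⥤ A) (W : D)
    (h : ∀ S ∈ K W, ∃ (ι : Type) (X : ι → D) (g : ∀ k, X k ⟶ W), Sieve.ofArrows X g ∈ K W ∧
      (∀ k, S (g k)) ∧
      (∀ x y : ToType (P.obj (op W)), (∀ k, P.map (g k).op x = P.map (g k).op y) → x = y) ∧
      (∀ x : ∀ k, ToType (P.obj (op (X k))), ∃ y, ∀ k, P.map (g k).op y = x k)) :
    Function.Bijective ((toSheafify K P).app (op W)) := by
  constructor
  · intro x y hxy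
    obtain ⟨ι, X, g, -, hS, hinj, -⟩ :=
      h _ (Presheaf.equalizerSieve_mem K (toSheafify K P) x y hxy)
    exact hinj x y hS
  · intro s
    obtain ⟨ι, X, g, hmem, hS, -, hsurj⟩ :=
      h _ (Presheaf.imageSieve_mem K (toSheafify K P) s)
    choose x hx using hS
    obtain ⟨y, hy⟩ := hsurj x
    refine ⟨y, ?_⟩
    let F : Sheaf K (Type w) := (sheafCompose K (forget A)).obj ((presheafToSheaf K A).obj P)
    have hF : Presieve.IsSheaf K F.obj := (isSheaf_iff_isSheaf_of_type _ _).1 F.property
    refine (Presieve.isSeparatedFor_iff_generate.2 (hF _ hmem).isSeparatedFor).ext ?_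
    rintro _ _ ⟨k⟩
    have h1 := NatTrans.naturality_apply (toSheafify K P) (g k).op y
    have h2 := hx k
    rw [← hy k] at h2
    exact (h1.symm.trans h2)

end General

section Lan

variable {u}
variable {A : Type u₃} [Category.{v₃} A]

/-- If `u` is bijective on morphisms out of `V`, then the unit of the left Kan extension along
`u.op` is an isomorphism at `V`. -/
theorem isIso_lanUnit_app_app {V : C}
    (hV : ∀ U, Function.Bijective (fun f : V ⟶ U => u.map f)) (G : Cᵒᵖ ⥤ A)
    [∀ F : Cᵒᵖ ⥤ A, u.op.HasLeftKanExtension F] [u.op.HasPointwiseLeftKanExtension G] :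
    IsIso ((u.op.lanUnit.app G).app (op V)) := by
  let E := Functor.LeftExtension.mk _ (u.op.leftKanExtensionUnit G)
  have h : E.IsPointwiseLeftKanExtensionAt (u.op.obj (op V)) :=
    u.op.isPointwiseLeftKanExtensionLeftKanExtensionUnit G (u.op.obj (op V))
  have ht : IsTerminal (CostructuredArrow.mk (𝟙 (u.op.obj (op V))) :
      CostructuredArrow u.op (u.op.obj (op V))) := by
    refine IsTerminal.ofUniqueHom (fun Y => CostructuredArrow.homMk
      ((Function.surjInv (hV Y.left.unop).2 Y.hom.unop).op) ?_) ?_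
    · have := Function.surjInv_eq (hV Y.left.unop).2 Y.hom.unop
      dsimp at this ⊢
      rw [Category.comp_id, this]
      rfl
    · intro Y m
      ext
      apply Quiver.Hom.unop_inj
      apply (hV Y.left.unop).1
      have h1 := Function.surjInv_eq (hV Y.left.unop).2 Y.hom.unop
      have h2 := CostructuredArrow.w m
      dsimp at h1 h2
      rw [Category.comp_id] at h2
      exact (congrArg Quiver.Hom.unop h2).trans h1.symm
  have := h.isIso_ι_app_of_isTerminal _ ht
  have h3 : E.hom.app (op V) ≫ E.right.map (𝟙 _) = (u.op.lanUnit.app G).app (op V) := by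
    refine Eq.trans (congrArg (fun t => E.hom.app (op V) ≫ t) (E.right.map_id _)) ?_
    exact Category.comp_id _
  rw [← h3]
  exact this

end Lan

section Unit

variable {J K u}
variable {A : Type u₃} [Category.{v₃} A] {FA : A → A → Type*} {CA : A → Type w}
  [∀ X Y, FunLike (FA X Y) (CA X) (CA Y)] [instCC : ConcreteCategory.{w} A FA]
  [(forget A).ReflectsIsomorphisms]
  [HasWeakSheafify K A] [instW : K.WEqualsLocallyBijective A]
  [K.HasSheafCompose (forget A)] [J.HasSheafCompose (forget A)]
  [∀ F : Cᵒᵖ ⥤ A, u.op.HasPointwiseLeftKanExtension F]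
  {𝒢 : ObjectProperty C} (h𝒢 : Good J K u 𝒢)

include h𝒢 instCC instW

theorem isIso_toSheafify_lan (V : C) (hV : 𝒢 V) (G : Sheaf J A) :
    IsIso ((toSheafify K (u.op.lan.obj G.obj)).app (op (u.obj V))) := by
  let η : ∀ V : C, G.obj.obj (op V) ⟶ (u.op.lan.obj G.obj).obj (op (u.obj V)) :=
    fun V => (u.op.lanUnit.app G.obj).app (op V)
  have hiso : ∀ V, 𝒢 V → IsIso (η V) := fun V hV =>
    isIso_lanUnit_app_app (h𝒢.bij V hV) G.obj
  let GT : Sheaf J (Type w) := (sheafCompose J (forget A)).obj G
  have hbij : ∀ V, 𝒢 V → Function.Bijective (η V) := by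
    intro V hV
    have := hiso V hV
    exact ConcreteCategory.bijective_of_isIso (η V)
  have hnat : ∀ {V W : C} (g : W ⟶ V) (x : ToType (G.obj.obj (op V))),
      (u.op.lan.obj G.obj).map (u.map g).op (η V x) = η W (G.obj.map g.op x) := by
    intro V W g x
    exact (NatTrans.naturality_apply (u.op.lanUnit.app G.obj) g.op x).symm
  rw [ConcreteCategory.isIso_iff_bijective]
  refine toSheafify_bijective K _ _ ?_
  intro S hS
  obtain ⟨ι, X, g, hg, hX, hSg⟩ := h𝒢.decomp V hV S hS
  refine ⟨ι, fun k => u.obj (X k), fun k => u.map (g k), ?_, hSg, ?_, ?_⟩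
  · have := h𝒢.coverPreserving.cover_preserve hg.mem
    refine K.superset_covering ?_ this
    rintro Y f ⟨Z, a, b, ⟨W, c, _, ⟨k⟩, rfl⟩, rfl⟩
    rw [Functor.map_comp, ← Category.assoc]
    exact (Sieve.ofArrows _ _).downward_closed (Sieve.ofArrows_mk _ _ k) _
  · intro x y hxy
    obtain ⟨x', rfl⟩ := (hbij V hV).2 x
    obtain ⟨y', rfl⟩ := (hbij V hV).2 y
    congr 1
    refine (hg.existsUnique GT (fun k => GT.obj.map (g k).op y')).unique ?_ (fun k => rfl)
    intro k
    apply (hbij (X k) (hX k)).1
    have := hxy k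
    rw [hnat, hnat] at this
    exact this
  · intro x
    choose x' hx' using fun k => (hbij (X k) (hX k)).2 (x k)
    obtain ⟨y, hy, -⟩ := hg.existsUnique GT x'
    refine ⟨η V y, fun k => ?_⟩
    rw [hnat, ← hx' k, ← hy k]
    rfl

end Unit

section Unit2

variable {J K u}
variable {A : Type u₃} [Category.{v₃} A]
  [HasWeakSheafify K A] [∀ F : Cᵒᵖ ⥤ A, u.op.HasLeftKanExtension F] [u.IsContinuous J K]

set_option backward.isDefEq.respectTransparency false in
theorem construction_unit_app_hom (G : Sheaf J A) :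
    ((Functor.sheafPullbackConstruction.sheafAdjunctionContinuous u A J K).unit.app G).hom =
      u.op.lanUnit.app G.obj ≫ Functor.whiskerLeft u.op (toSheafify K (u.op.lan.obj G.obj)) := by
  have := Adjunction.map_restrictFullyFaithful_unit_app
    (adj := (u.op.lanAdjunction A).comp (sheafificationAdjunction K A))
    (fullyFaithfulSheafToPresheaf J A) (Functor.FullyFaithful.id _)
    (L := Functor.sheafPullbackConstruction.sheafPullback u A J K)
    (R := u.sheafPushforwardContinuous A J K) (Iso.refl _) (Iso.refl _) G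
  refine this.trans ?_
  simp

end Unit2

section Unit3

variable {J K u}
variable {A : Type u₃} [Category.{v₃} A] {FA : A → A → Type*} {CA : A → Type w}
  [∀ X Y, FunLike (FA X Y) (CA X) (CA Y)] [instCC : ConcreteCategory.{w} A FA]
  [(forget A).ReflectsIsomorphisms]
  [HasWeakSheafify K A] [instW : K.WEqualsLocallyBijective A]
  [K.HasSheafCompose (forget A)] [J.HasSheafCompose (forget A)]
  [∀ F : Cᵒᵖ ⥤ A, u.op.HasPointwiseLeftKanExtension F]
  [u.IsContinuous J K]
  {𝒢 : ObjectProperty C} (h𝒢 : Good J K u 𝒢)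

include h𝒢 instCC instW

/-- For a good object `V`, the unit `G(V) → (u⁻¹G)(u V)` is an isomorphism. -/
theorem isIso_unit_app (V : C) (hV : 𝒢 V) (G : Sheaf J A) :
    IsIso (((u.sheafAdjunctionContinuous A J K).unit.app G).hom.app (op V)) := by
  have h1 := isIso_toSheafify_lan (A := A) h𝒢 V hV G
  have h2 := isIso_lanUnit_app_app (u := u) (h𝒢.bij V hV) G.obj
  have h3 := Adjunction.unit_leftAdjointUniq_hom_app
    (u.sheafAdjunctionContinuous A J K)
    (Functor.sheafPullbackConstruction.sheafAdjunctionContinuous u A J K) G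
  have h4 := construction_unit_app_hom (u := u) (J := J) (K := K) G
  have h5 : ((Functor.sheafPullbackConstruction.sheafAdjunctionContinuous u A J K).unit.app
      G).hom.app (op V) =
      (u.op.lanUnit.app G.obj).app (op V) ≫
        (toSheafify K (u.op.lan.obj G.obj)).app (op (u.obj V)) := by
    rw [h4]; rfl
  have h6 : ((u.sheafAdjunctionContinuous A J K).unit.app G).hom.app (op V) ≫
      (((Adjunction.leftAdjointUniq (u.sheafAdjunctionContinuous A J K)
    (Functor.sheafPullbackConstruction.sheafAdjunctionContinuous u A J K)).hom.app G).hom.app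
      (op (u.obj V))) = (u.op.lanUnit.app G.obj).app (op V) ≫
        (toSheafify K (u.op.lan.obj G.obj)).app (op (u.obj V)) := by
    rw [← h5, ← h3]
    rfl
  have h7 : IsIso ((((Adjunction.leftAdjointUniq (u.sheafAdjunctionContinuous A J K)
    (Functor.sheafPullbackConstruction.sheafAdjunctionContinuous u A J K)).hom.app G).hom.app
      (op (u.obj V)))) := by
    have : IsIso ((sheafToPresheaf K A).map ((Adjunction.leftAdjointUniq
      (u.sheafAdjunctionContinuous A J K)
      (Functor.sheafPullbackConstruction.sheafAdjunctionContinuous u A J K)).hom.app G)) :=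
      inferInstance
    exact NatIso.isIso_app_of_isIso ((sheafToPresheaf K A).map ((Adjunction.leftAdjointUniq
      (u.sheafAdjunctionContinuous A J K)
      (Functor.sheafPullbackConstruction.sheafAdjunctionContinuous u A J K)).hom.app G)) _
  have h8 : IsIso ((u.op.lanUnit.app G.obj).app (op V) ≫
        (toSheafify K (u.op.lan.obj G.obj)).app (op (u.obj V))) := inferInstance
  rw [← h6] at h8
  exact @IsIso.of_isIso_comp_right _ _ _ _ _ _ _ h7 h8

end Unit3

section Dense

variable {J K u} {𝒢 : ObjectProperty C} (h𝒢 : Good J K u 𝒢)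

include h𝒢

theorem isCoverDense_comp : (𝒢.ι ⋙ u).IsCoverDense K := ⟨h𝒢.dense⟩

theorem full_comp : (𝒢.ι ⋙ u).Full where
  map_surjective {V W} f := by
    obtain ⟨g, hg⟩ := (h𝒢.bij V.obj V.property W.obj).2 f
    exact ⟨ObjectProperty.homMk g, hg⟩

theorem isCoverDense : u.IsCoverDense K where
  is_cover W := by
    refine K.superset_covering ?_ (h𝒢.dense W)
    rintro T f ⟨⟨V, a, b, h⟩⟩
    exact ⟨⟨V.obj, a, b, h⟩⟩

theorem isLocallyFull : u.IsLocallyFull K where
  functorPushforward_imageSieve_mem {U V} f := by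
    refine K.superset_covering ?_ (h𝒢.dense (u.obj U))
    rintro T _ ⟨⟨W, a, b, rfl⟩⟩
    obtain ⟨b', hb'⟩ := (h𝒢.bij W.obj W.property U).2 b
    obtain ⟨c, hc⟩ := (h𝒢.bij W.obj W.property V).2 (b ≫ f)
    refine ⟨W.obj, b', a, ⟨c, ?_⟩, ?_⟩
    · dsimp at hb' hc ⊢
      rw [hc, hb']
    · dsimp at hb' ⊢
      rw [hb']

theorem isLocallyFaithful : u.IsLocallyFaithful K where
  functorPushforward_equalizer_mem {U V} f₁ f₂ h := by
    refine K.superset_covering ?_ (h𝒢.dense (u.obj U))
    rintro T _ ⟨⟨W, a, b, rfl⟩⟩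
    obtain ⟨b', hb'⟩ := (h𝒢.bij W.obj W.property U).2 b
    refine ⟨W.obj, b', a, ?_, ?_⟩
    · apply (h𝒢.bij W.obj W.property V).1
      dsimp
      rw [u.map_comp, u.map_comp, h]
    · dsimp at hb' ⊢
      rw [hb']

variable (A : Type u₃) [Category.{v₃} A] [u.IsContinuous J K]

theorem full_pushforward : (u.sheafPushforwardContinuous A J K).Full := by
  have := isCoverDense h𝒢
  have := isLocallyFull h𝒢
  infer_instance

theorem faithful_pushforward : (u.sheafPushforwardContinuous A J K).Faithful := by
  have := isCoverDense h𝒢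
  have := isLocallyFull h𝒢
  infer_instance

omit h𝒢 in
variable (K u 𝒢) in
/-- Restriction of sheaves on `D` to presheaves on the full subcategory of good objects. -/
abbrev restrGood : Sheaf K A ⥤ (𝒢.FullSubcategoryᵒᵖ ⥤ A) :=
  sheafToPresheaf K A ⋙ (Functor.whiskeringLeft _ _ A).obj (𝒢.ι ⋙ u).op

/-- The restriction functor `restrGood` is fully faithful. -/
noncomputable def fullyFaithfulRestrGood : (restrGood K u 𝒢 A).FullyFaithful := by
  have := isCoverDense_comp h𝒢
  have := full_comp h𝒢
  exact
    { preimage := fun {F F'} f => ⟨(Functor.IsCoverDense.restrictHomEquivHom (K := K)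
        (G := 𝒢.ι ⋙ u) (ℱ := F.obj) (ℱ' := F')) f⟩
      map_preimage := fun {F F'} f => (Functor.IsCoverDense.restrictHomEquivHom (K := K)
        (G := 𝒢.ι ⋙ u) (ℱ := F.obj) (ℱ' := F')).symm_apply_apply f
      preimage_map := fun {F F'} f => Sheaf.hom_ext
        ((Functor.IsCoverDense.restrictHomEquivHom (K := K)
        (G := 𝒢.ι ⋙ u) (ℱ := F.obj) (ℱ' := F')).apply_symm_apply f.hom) }

end Dense

section Adj

variable {J K u}
variable {A : Type u₃} [Category.{v₃} A] {FA : A → A → Type*} {CA : A → Type w}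
  [∀ X Y, FunLike (FA X Y) (CA X) (CA Y)] [instCC : ConcreteCategory.{w} A FA]
  [(forget A).ReflectsIsomorphisms]
  [HasWeakSheafify K A] [instW : K.WEqualsLocallyBijective A]
  [K.HasSheafCompose (forget A)] [J.HasSheafCompose (forget A)]
  [∀ F : Cᵒᵖ ⥤ A, u.op.HasPointwiseLeftKanExtension F]
  [u.IsContinuous J K]
  {𝒢 : ObjectProperty C} (h𝒢 : Good J K u 𝒢)

include h𝒢 instCC instW

/-- The inverse image functor, restricted to good objects, is the evaluation at good objects. -/
noncomputable def pullbackRestrIso :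
    sheafToPresheaf J A ⋙ (Functor.whiskeringLeft _ _ A).obj 𝒢.ι.op ≅
      u.sheafPullback A J K ⋙ restrGood K u 𝒢 A := by
  let α : sheafToPresheaf J A ⋙ (Functor.whiskeringLeft _ _ A).obj 𝒢.ι.op ⟶
      u.sheafPullback A J K ⋙ restrGood K u 𝒢 A :=
    { app := fun G => Functor.whiskerLeft 𝒢.ι.op
        ((u.sheafAdjunctionContinuous A J K).unit.app G).hom
      naturality := fun G G' f => by
        have := congrArg (fun t => Functor.whiskerLeft 𝒢.ι.op t.hom)
          ((u.sheafAdjunctionContinuous A J K).unit.naturality f)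
        exact this }
  have : ∀ G, IsIso (α.app G) := fun G => by
    have : ∀ V, IsIso ((α.app G).app V) := fun V =>
      isIso_unit_app h𝒢 V.unop.obj V.unop.property G
    exact NatIso.isIso_of_isIso_app _
  have : IsIso α := NatIso.isIso_of_isIso_app _
  exact asIso α

/-- The inverse image functor of sheaves is a right adjoint. -/
theorem isRightAdjoint_sheafPullback [HasWeakSheafify J A]
    [∀ F : 𝒢.FullSubcategoryᵒᵖ ⥤ A, 𝒢.ι.op.HasLeftKanExtension F] :
    (u.sheafPullback A J K).IsRightAdjoint := by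
  let adj := (𝒢.ι.op.lanAdjunction A).comp (sheafificationAdjunction J A)
  exact (adj.restrictFullyFaithful (fullyFaithfulRestrGood h𝒢 A) (Functor.FullyFaithful.id _)
    (L := restrGood K u 𝒢 A ⋙ 𝒢.ι.op.lan ⋙ presheafToSheaf J A)
    (R := u.sheafPullback A J K) (Iso.refl _)
    (Functor.leftUnitor _ ≪≫ pullbackRestrIso h𝒢)).isRightAdjoint

end Adj

end Groth.Agent.Proet.PartialAdj
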