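import Groth.Agent.Proet.QcqsCech

/-!
# Presentations `T = lim T_i` over an étale scheme `T0`, base change and nerves

* `Pres t`: `t : T ⟶ eps T0` is the limit of étale schemes affine over `T0`.
* `Pres.baseChange`, `isPullback_nerve_map`, `exists_pres_over`, `pres_bcP`.
* `cechOK_of_pres`: `CechOK` from `Pres`.
-/

set_option autoImplicit false
universe u

open CategoryTheory CategoryTheory.Limits AlgebraicGeometry Opposite Simplicial

namespace Groth.Agent.Proet.PresBC

set_option backward.isDefEq.respectTransparency.types false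

open CechEl EpsB0 EpsPres CechAcyclic Eps228 QcqsAcyc

section NerveMap

universe v₁ u₁

variable {C : Type u₁} [Category.{v₁} C] {V U V' U' : C} {f : V ⟶ U} {f' : V' ⟶ U'} {p : V ⟶ V'}
  {r : U ⟶ U'}
  [∀ n : ℕ, HasWidePullback.{0} (Arrow.mk f).right
    (fun _ : Fin (n + 1) => (Arrow.mk f).left) fun _ => (Arrow.mk f).hom]
  [∀ n : ℕ, HasWidePullback.{0} (Arrow.mk f').right
    (fun _ : Fin (n + 1) => (Arrow.mk f').left) fun _ => (Arrow.mk f').hom]

/-- The map on nerve levels induced by a commutative square. -/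
noncomputable def nmap (h : f ≫ r = p ≫ f') (n : ℕ) : (nerve f) _⦋n⦌ ⟶ (nerve f') _⦋n⦌ :=
  nlift f' n (nbase f n ≫ r) (fun k => nπ f n k ≫ p) (fun k => by
    rw [Category.assoc, ← h, ← Category.assoc, nπ_comp])

theorem nmap_π (h : f ≫ r = p ≫ f') (n : ℕ) (k : Fin (n + 1)) :
    nmap h n ≫ nπ f' n k = nπ f n k ≫ p := nlift_π _ _ _ _ _ _

theorem nmap_base (h : f ≫ r = p ≫ f') (n : ℕ) : nmap h n ≫ nbase f' n = nbase f n ≫ r := by
  rw [← nπ_comp f' n 0, ← Category.assoc, nmap_π, Category.assoc, ← h, ← Category.assoc, nπ_comp]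

theorem nlift_base (n : ℕ) {W : C} (u : W ⟶ U) (g : Fin (n + 1) → (W ⟶ V))
    (h : ∀ j, g j ≫ f = u) : nlift f n u g h ≫ nbase f n = u := by
  rw [← nπ_comp f n 0, ← Category.assoc, nlift_π, h]

/-- Čech nerves commute with base change. -/
theorem isPullback_nerve_map (h : IsPullback f p r f') (n : ℕ) :
    IsPullback (nbase f n) (nmap h.w n) r (nbase f' n) := by
  refine ⟨⟨(nmap_base h.w n).symm⟩, ⟨?_⟩⟩
  refine PullbackCone.IsLimit.mk _
    (fun s => nlift f n s.fst (fun k => h.lift s.fst (s.snd ≫ nπ f' n k) (by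
      rw [Category.assoc, nπ_comp, s.condition])) (fun k => h.lift_fst _ _ _)) ?_ ?_ ?_
  · intro s
    exact nlift_base n _ _ _
  · intro s
    apply nhom_ext
    intro k
    rw [Category.assoc, nmap_π, ← Category.assoc, nlift_π, h.lift_snd]
  · intro s m h1 h2
    apply nhom_ext
    intro k
    rw [nlift_π]
    apply h.hom_ext
    · rw [h.lift_fst, Category.assoc, nπ_comp, h1]
    · rw [h.lift_snd, Category.assoc, ← nmap_π h.w, ← Category.assoc, h2]

end NerveMap

variable {X : Scheme.{u}}

/-- `t : T ⟶ eps T0` is the limit of étale schemes affine over `T0`. -/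
def Pres {T : X.ProEt} {T0 : X.Etale} (t : T ⟶ (ProEtS.eps X).obj T0) : Prop :=
  ∃ (I : Type u) (_ : SmallCategory I) (_ : IsCofiltered I) (D : I ⥤ X.Etale)
    (δ : D ⟶ (Functor.const I).obj T0) (π : (Functor.const I).obj T ⟶ D ⋙ ProEtS.eps X),
    (∀ i, π.app i ≫ (ProEtS.eps X).map (δ.app i) = t) ∧ (∀ i, IsAffineHom (δ.app i).left) ∧
    Nonempty (IsLimit ((Φs X).mapCone (Cone.mk T π)))

section BaseChange

variable {I : Type u} [SmallCategory I] {D : I ⥤ X.Etale} {T0 B : X.Etale}
  (δ : D ⟶ (Functor.const I).obj T0) (b : B ⟶ T0)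

/-- the base change of a diagram over `T0` along `b : B ⟶ T0` -/
noncomputable def bcD : I ⥤ X.Etale where
  obj i := pullback (δ.app i) b
  map {i j} a := pullback.lift (pullback.fst (δ.app i) b ≫ D.map a) (pullback.snd (δ.app i) b) (by
    have h : D.map a ≫ δ.app j = δ.app i := (δ.naturality a).trans (Category.comp_id _)
    rw [Category.assoc, h, pullback.condition])
  map_id i := by
    apply pullback.hom_ext
    · rw [pullback.lift_fst, D.map_id, Category.comp_id, Category.id_comp]
    · rw [pullback.lift_snd, Category.id_comp]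
  map_comp a c := by
    apply pullback.hom_ext
    · rw [pullback.lift_fst, Category.assoc, pullback.lift_fst, ← Category.assoc,
        pullback.lift_fst, D.map_comp, Category.assoc]
    · rw [pullback.lift_snd, Category.assoc, pullback.lift_snd, pullback.lift_snd]

/-- first projection -/
noncomputable def bcFst : bcD δ b ⟶ D where
  app i := pullback.fst (δ.app i) b
  naturality _ _ _ := pullback.lift_fst _ _ _

/-- second projection -/
noncomputable def bcSnd : bcD δ b ⟶ (Functor.const I).obj B where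
  app i := pullback.snd (δ.app i) b
  naturality _ _ _ := (pullback.lift_snd _ _ _).trans (Category.comp_id _).symm

theorem isPullback_bc (i : I) :
    IsPullback ((bcFst δ b).app i) ((bcSnd δ b).app i) (δ.app i) b := IsPullback.of_hasPullback _ _

variable {T S : X.ProEt} {t : T ⟶ (ProEtS.eps X).obj T0} {s : S ⟶ T}
  {q : S ⟶ (ProEtS.eps X).obj B} (h : IsPullback s q t ((ProEtS.eps X).map b))
  (π : (Functor.const I).obj T ⟶ D ⋙ ProEtS.eps X)
  (w : ∀ i, π.app i ≫ (ProEtS.eps X).map (δ.app i) = t)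

include h w in
theorem exists_bcπ (i : I) : ∃ l : S ⟶ (ProEtS.eps X).obj ((bcD δ b).obj i),
    l ≫ (ProEtS.eps X).map ((bcFst δ b).app i) = s ≫ π.app i ∧
      l ≫ (ProEtS.eps X).map ((bcSnd δ b).app i) = q := by
  have hp := (isPullback_bc δ b i).map (ProEtS.eps X)
  refine ⟨hp.lift (s ≫ π.app i) q ?_, hp.lift_fst _ _ _, hp.lift_snd _ _ _⟩
  rw [Category.assoc, w, h.w]

/-- the maps to the base changed diagram -/
noncomputable def bcπapp (i : I) : S ⟶ (ProEtS.eps X).obj ((bcD δ b).obj i) :=
  (exists_bcπ δ b h π w i).choose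

theorem bcπapp_fst (i : I) : bcπapp δ b h π w i ≫ (ProEtS.eps X).map ((bcFst δ b).app i) =
    s ≫ π.app i := (exists_bcπ δ b h π w i).choose_spec.1

theorem bcπapp_snd (i : I) : bcπapp δ b h π w i ≫ (ProEtS.eps X).map ((bcSnd δ b).app i) = q :=
  (exists_bcπ δ b h π w i).choose_spec.2

theorem bcπapp_map {i j : I} (a : i ⟶ j) :
    bcπapp δ b h π w i ≫ (ProEtS.eps X).map ((bcD δ b).map a) = bcπapp δ b h π w j := by
  have h1 : (bcD δ b).map a ≫ (bcFst δ b).app j = (bcFst δ b).app i ≫ D.map a :=
    (bcFst δ b).naturality a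
  have h2 : (bcD δ b).map a ≫ (bcSnd δ b).app j = (bcSnd δ b).app i :=
    ((bcSnd δ b).naturality a).trans (Category.comp_id _)
  have h3 : π.app i ≫ (ProEtS.eps X).map (D.map a) = π.app j :=
    (π.naturality a).symm.trans (Category.id_comp _)
  apply ((isPullback_bc δ b j).map (ProEtS.eps X)).hom_ext
  · rw [Category.assoc, ← Functor.map_comp, h1, Functor.map_comp, ← Category.assoc, bcπapp_fst,
      bcπapp_fst, Category.assoc, h3]
  · rw [Category.assoc, ← Functor.map_comp, h2, bcπapp_snd, bcπapp_snd]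

/-- the base changed cone -/
noncomputable def bcπ : (Functor.const I).obj S ⟶ bcD δ b ⋙ ProEtS.eps X where
  app i := bcπapp δ b h π w i
  naturality i j a := by
    refine (Category.id_comp _).trans ?_
    exact (bcπapp_map δ b h π w a).symm

theorem isLimit_bcπ [IsConnected I] (hπ : IsLimit ((Φs X).mapCone (Cone.mk T π))) :
    Nonempty (IsLimit ((Φs X).mapCone (Cone.mk S (bcπ δ b h π w)))) := by
  have hT : IsLimit (constCone I ((Φs X).obj ((ProEtS.eps X).obj T0))) := isLimitConstCone _ _
  have hB : IsLimit (constCone I ((Φs X).obj ((ProEtS.eps X).obj B))) := isLimitConstCone _ _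
  refine isLimit_of_isPullback (𝒮 := Scheme.{u}) (I := I)
    (A := (D ⋙ ProEtS.eps X) ⋙ Φs X)
    (B := (Functor.const I).obj ((Φs X).obj ((ProEtS.eps X).obj B)))
    (C := (Functor.const I).obj ((Φs X).obj ((ProEtS.eps X).obj T0)))
    (P := (bcD δ b ⋙ ProEtS.eps X) ⋙ Φs X)
    { app := fun i => (Φs X).map ((ProEtS.eps X).map (δ.app i))
      naturality := fun i j a => ?_ }
    { app := fun i => (Φs X).map ((ProEtS.eps X).map b)
      naturality := fun i j a => ?_ }
    (Functor.whiskerRight (Functor.whiskerRight (bcFst δ b) (ProEtS.eps X)) (Φs X))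
    { app := fun i => (Φs X).map ((ProEtS.eps X).map ((bcSnd δ b).app i))
      naturality := fun i j a => ?_ }
    (fun i => ?_) hπ hB hT (a0 := (Φs X).map t) (b0 := (Φs X).map ((ProEtS.eps X).map b))
    (p0 := (Φs X).map s) (q0 := (Φs X).map q) (h.map (Φs X)) (fun i => ?_) (fun i => ?_)
    (fun i => ?_) (fun i => ?_)
  · have h1 : D.map a ≫ δ.app j = δ.app i := (δ.naturality a).trans (Category.comp_id _)
    change (Φs X).map ((ProEtS.eps X).map (D.map a)) ≫ (Φs X).map ((ProEtS.eps X).map (δ.app j)) =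
      (Φs X).map ((ProEtS.eps X).map (δ.app i)) ≫ 𝟙 _
    rw [← Functor.map_comp, ← Functor.map_comp, h1]
    exact (Category.comp_id _).symm
  · exact (Category.id_comp _).trans (Category.comp_id _).symm
  · have h1 : (bcD δ b).map a ≫ (bcSnd δ b).app j = (bcSnd δ b).app i :=
      ((bcSnd δ b).naturality a).trans (Category.comp_id _)
    change (Φs X).map ((ProEtS.eps X).map ((bcD δ b).map a)) ≫
      (Φs X).map ((ProEtS.eps X).map ((bcSnd δ b).app j)) =
      (Φs X).map ((ProEtS.eps X).map ((bcSnd δ b).app i)) ≫ 𝟙 _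
    rw [← Functor.map_comp, ← Functor.map_comp, h1]
    exact (Category.comp_id _).symm
  · exact ((isPullback_bc δ b i).map (ProEtS.eps X)).map (Φs X)
  · have h1 : (Φs X).map (π.app i) ≫ (Φs X).map ((ProEtS.eps X).map (δ.app i)) = (Φs X).map t := by
      rw [← Functor.map_comp, w]
    exact (Category.comp_id _).trans h1.symm
  · exact (Category.comp_id _).trans (Category.id_comp _).symm
  · exact Φ_sq (bcπapp_fst δ b h π w i).symm
  · have h1 : (Φs X).map (bcπapp δ b h π w i) ≫ (Φs X).map ((ProEtS.eps X).map ((bcSnd δ b).app i)) =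
      (Φs X).map q := by
      rw [← Functor.map_comp, bcπapp_snd]
    exact (Category.comp_id _).trans h1.symm

end BaseChange

/-- Presentations are stable under base change. -/
theorem Pres.baseChange {T : X.ProEt} {T0 : X.Etale} {t : T ⟶ (ProEtS.eps X).obj T0} (ht : Pres t)
    {B : X.Etale} {b : B ⟶ T0} {S : X.ProEt} {s : S ⟶ T} {q : S ⟶ (ProEtS.eps X).obj B}
    (h : IsPullback s q t ((ProEtS.eps X).map b)) : Pres q := by
  obtain ⟨I, _, _, D, δ, π, w, hδ, ⟨hπ⟩⟩ := ht
  have : IsConnected I := IsCofiltered.isConnected _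
  refine ⟨I, inferInstance, inferInstance, bcD δ b, bcSnd δ b, bcπ δ b h π w,
    fun i => bcπapp_snd δ b h π w i, fun i => ?_, isLimit_bcπ δ b h π w hπ⟩
  exact MorphismProperty.of_isPullback (isPullback_left_et (isPullback_bc δ b i)) (hδ i)

section Levels

variable {T0 W0 : X.Etale} (u : W0 ⟶ T0)

theorem quasiCompact_nbase (hu : QuasiCompact u.left) (n : ℕ) :
    QuasiCompact (nbase u n).left := by
  induction n with
  | zero =>
    exact MorphismProperty.of_isPullback (isPullback_left_et (isPullback_nerve_zero u)).flip hu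
  | succ n ih =>
    have h1 : QuasiCompact ((nerve u).δ (Fin.last (n + 1))).left :=
      MorphismProperty.of_isPullback (isPullback_left_et (EpsB0.isPullback_nerve u n)).flip hu
    rw [← nδ_base u n (Fin.last (n + 1))]
    exact inferInstanceAs (QuasiCompact (((nerve u).δ (Fin.last (n + 1))).left ≫ (nbase u n).left))

theorem quasiSeparated_nbase (hu : QuasiSeparated u.left) (n : ℕ) :
    QuasiSeparated (nbase u n).left := by
  induction n with
  | zero =>
    exact MorphismProperty.of_isPullback (isPullback_left_et (isPullback_nerve_zero u)).flip hu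
  | succ n ih =>
    have h1 : QuasiSeparated ((nerve u).δ (Fin.last (n + 1))).left :=
      MorphismProperty.of_isPullback (isPullback_left_et (EpsB0.isPullback_nerve u n)).flip hu
    rw [← nδ_base u n (Fin.last (n + 1))]
    exact inferInstanceAs
      (QuasiSeparated (((nerve u).δ (Fin.last (n + 1))).left ≫ (nbase u n).left))

variable {I : Type u} [SmallCategory I] {D : I ⥤ X.Etale} (δ : D ⟶ (Functor.const I).obj T0)

/-- nerve levels of the base changed arrows are affine over the nerve of `u` -/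
noncomputable abbrev lev (n : ℕ) (i : I) :
    (nerve ((bcFst δ u).app i)) _⦋n⦌ ⟶ (nerve u) _⦋n⦌ :=
  nmap (isPullback_bc δ u i).w n

theorem isAffineHom_lev (hδ : ∀ i, IsAffineHom (δ.app i).left) (n : ℕ) (i : I) :
    IsAffineHom (lev u δ n i).left :=
  MorphismProperty.of_isPullback
    (isPullback_left_et (isPullback_nerve_map (isPullback_bc δ u i) n)) (hδ i)

theorem map_lev (n : ℕ) {i j : I} (a : i ⟶ j) :
    nMap (bcFst δ u) n a ≫ lev u δ n j = lev u δ n i := by
  have h2 : (bcD δ u).map a ≫ (bcSnd δ u).app j = (bcSnd δ u).app i :=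
    ((bcSnd δ u).naturality a).trans (Category.comp_id _)
  apply nhom_ext
  intro k
  have e1 : lev u δ n j ≫ nπ u n k = nπ ((bcFst δ u).app j) n k ≫ (bcSnd δ u).app j :=
    nmap_π (isPullback_bc δ u j).w n k
  have e2 : lev u δ n i ≫ nπ u n k = nπ ((bcFst δ u).app i) n k ≫ (bcSnd δ u).app i :=
    nmap_π (isPullback_bc δ u i).w n k
  have e3 : nMap (bcFst δ u) n a ≫ nπ ((bcFst δ u).app j) n k =
    nπ ((bcFst δ u).app i) n k ≫ (bcD δ u).map a := nMap_π (bcFst δ u) n a k
  refine (Category.assoc _ _ _).trans ?_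
  refine (congrArg (fun z => nMap (bcFst δ u) n a ≫ z) e1).trans ?_
  refine (Category.assoc _ _ _).symm.trans ?_
  refine (congrArg (fun z => z ≫ (bcSnd δ u).app j) e3).trans ?_
  refine (Category.assoc _ _ _).trans ?_
  exact (congrArg (fun z => nπ ((bcFst δ u).app i) n k ≫ z) h2).trans e2.symm

theorem isAffineHom_N (hδ : ∀ i, IsAffineHom (δ.app i).left) (n : ℕ) ⦃i j : I⦄ (a : i ⟶ j) :
    IsAffineHom ((N (bcFst δ u) n).map a).left := by
  have h1 := isAffineHom_lev u δ hδ n i
  have h2 := isAffineHom_lev u δ hδ n j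
  have h3 : (nMap (bcFst δ u) n a).left ≫ (lev u δ n j).left = (lev u δ n i).left :=
    congrArg (fun t => t.left) (map_lev u δ n a)
  have h4 : IsAffineHom ((nMap (bcFst δ u) n a).left ≫ (lev u δ n j).left) := by
    rw [h3]; exact h1
  have h5 : IsSeparated (lev u δ n j).left := inferInstance
  exact IsAffineHom.of_comp (nMap (bcFst δ u) n a).left (lev u δ n j).left

theorem compactSpace_N (hδ : ∀ i, IsAffineHom (δ.app i).left) (hu : QuasiCompact u.left)
    (hT : CompactSpace T0.left) (n : ℕ) (i : I) : CompactSpace ((N (bcFst δ u) n).obj i).left := by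
  have h1 := isAffineHom_lev u δ hδ n i
  have h2 := quasiCompact_nbase u hu n
  have h3 : CompactSpace ((nerve u) _⦋n⦌).left := QuasiCompact.compactSpace_of_compactSpace
    (nbase u n).left
  have h4 : QuasiCompact (lev u δ n i).left := inferInstance
  have h5 := QuasiCompact.compactSpace_of_compactSpace (lev u δ n i).left
  exact h5

theorem quasiSeparatedSpace_N (hδ : ∀ i, IsAffineHom (δ.app i).left)
    (hu : QuasiSeparated u.left) (hT : QuasiSeparatedSpace T0.left) (n : ℕ) (i : I) :
    QuasiSeparatedSpace ((N (bcFst δ u) n).obj i).left := by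
  have h1 := isAffineHom_lev u δ hδ n i
  have h2 := quasiSeparated_nbase u hu n
  have h3 : QuasiSeparatedSpace ((nerve u) _⦋n⦌).left :=
    quasiSeparatedSpace_of_quasiSeparated (nbase u n).left
  have h4 : QuasiSeparated (lev u δ n i).left := inferInstance
  have h5 := quasiSeparatedSpace_of_quasiSeparated (lev u δ n i).left
  exact h5

end Levels

section BcP

/-- An ind-étale map to an affine étale scheme has a presentation over it. -/
theorem exists_pres_over {Y : Scheme.{u}} {V : Y.ProEt} {V0 : Y.Etale}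
    (g : V ⟶ (ProEtS.eps Y).obj V0) (hg : IndEt g) :
    ∃ (I : Type u) (_ : SmallCategory I) (_ : IsCofiltered I) (D : I ⥤ Y.Etale)
      (δ : D ⟶ (Functor.const I).obj V0) (π : (Functor.const I).obj V ⟶ D ⋙ ProEtS.eps Y),
      (∀ i, π.app i ≫ (ProEtS.eps Y).map (δ.app i) = g) ∧ (∀ i, IsAffine (D.obj i).left) ∧
      Nonempty (IsLimit ((Φs Y).mapCone (Cone.mk V π))) := by
  obtain ⟨J, _, _, D, π, hD, -, ⟨hπ⟩⟩ := exists_pres g hg
  have := locallyOfFinitePresentation_eps V0
  obtain ⟨j, b, hb⟩ := exists_factor (D ⋙ ProEtS.eps Y) (Cone.mk V π) hπ hD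
    ((ProEtS.eps Y).obj V0) g
  let b' : D.obj j ⟶ V0 := (epsFF Y).preimage b
  have hb' : (ProEtS.eps Y).map b' = b := (epsFF Y).map_preimage b
  refine ⟨Over j, inferInstance, inferInstance, Over.forget j ⋙ D,
    { app := fun i => D.map i.hom ≫ b'
      naturality := fun i k a => ?_ }, Functor.whiskerLeft (Over.forget j) π, fun i => ?_,
      fun i => hD _, ⟨(Functor.Initial.isLimitWhiskerEquiv (Over.forget j) _).symm hπ⟩⟩
  · change D.map a.left ≫ D.map k.hom ≫ b' = (D.map i.hom ≫ b') ≫ 𝟙 _
    rw [← Category.assoc, ← D.map_comp, Over.w, Category.comp_id]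
  · change π.app i.left ≫ (ProEtS.eps Y).map (D.map i.hom ≫ b') = g
    have h1 : π.app i.left ≫ (ProEtS.eps Y).map (D.map i.hom) = π.app j :=
      (π.naturality i.hom).symm.trans (Category.id_comp _)
    rw [Functor.map_comp, hb', ← Category.assoc, h1]
    exact hb

/-- Base changes of ind-étale maps have presentations. -/
theorem pres_bcP {Y : Scheme.{u}} (f : X ⟶ Y) {V : Y.ProEt} {V0 : Y.Etale}
    (g : V ⟶ (ProEtS.eps Y).obj V0) (hg : IndEt g) :
    Pres (T0 := (EtCoh.bc f).obj V0) ((ProEtS.bcP f).map g) := by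
  obtain ⟨I, _, _, D, δ, π, hw, hD, ⟨hπ⟩⟩ := exists_pres_over g hg
  have : IsConnected I := IsCofiltered.isConnected _
  refine ⟨I, inferInstance, inferInstance, D ⋙ EtCoh.bc f,
    { app := fun i => (EtCoh.bc f).map (δ.app i)
      naturality := fun i j a => ?_ },
    { app := fun i => (ProEtS.bcP f).map (π.app i)
      naturality := fun i j a => ?_ }, fun i => ?_, fun i => ?_, ?_⟩
  · have h1 : D.map a ≫ δ.app j = δ.app i := (δ.naturality a).trans (Category.comp_id _)
    change (EtCoh.bc f).map (D.map a) ≫ (EtCoh.bc f).map (δ.app j) =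
      (EtCoh.bc f).map (δ.app i) ≫ 𝟙 _
    rw [← Functor.map_comp, h1]
    exact (Category.comp_id _).symm
  · have h1 : π.app i ≫ (ProEtS.eps Y).map (D.map a) = π.app j :=
      (π.naturality a).symm.trans (Category.id_comp _)
    refine (Category.id_comp _).trans ?_
    change (ProEtS.bcP f).map (π.app j) =
      (ProEtS.bcP f).map (π.app i) ≫ (ProEtS.bcP f).map ((ProEtS.eps Y).map (D.map a))
    rw [← Functor.map_comp, h1]
  · change (ProEtS.bcP f).map (π.app i) ≫
      (ProEtS.bcP f).map ((ProEtS.eps Y).map (δ.app i)) = _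
    rw [← Functor.map_comp, hw]
  · have h1 : IsAffine (D.obj i).left := hD i
    have h2 : IsAffine V0.left := hg.2.1
    have h3 : IsAffineHom (δ.app i).left := @isAffineHom_of_isAffine _ _ (δ.app i).left h1 h2
    exact MorphismProperty.of_isPullback (EtCoh.isPullback_bc_map f (δ.app i)).flip h3
  · exact (BcPLim.isLimit_bcP f (Cone.mk V π) hπ).2

end BcP

section CechOK

variable [ProEtS.EpsCont X]

/-- `eps⁻¹ A` satisfies `CechOK` along presented `t`, if sections of `eps⁻¹ A` over presented qcqs objects are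
represented. -/
theorem cechOK_of_pres
    (hrep : ∀ {T : X.ProEt} {T0 : X.Etale} (t : T ⟶ (ProEtS.eps X).obj T0), Pres t → IndAff t →
      CompactSpace T0.left → QuasiSeparatedSpace T0.left → ∀ (A : EtCoh.Ab X)
      (y : ((ProEtS.epsPull X).obj A).obj.obj (op T)), ∃ (U : X.Etale)
        (g : T ⟶ (ProEtS.eps X).obj U) (x : A.obj.obj (op U)), br A g x = y)
    (A : EtCoh.Ab X) (hA : ∀ {U U' : X.Etale} (b : U' ⟶ U), CechExact (nerve b) A.obj)
    {T : X.ProEt} {T0 : X.Etale} (t : T ⟶ (ProEtS.eps X).obj T0) (ht : Pres t) (ht' : IndAff t) :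
    CechOK ((ProEtS.epsPull X).obj A) t := by
  intro B b S s q hB hB' hP W0 u W w w0 hW0 h
  have hq := ht.baseChange hP
  have hi := ht'.baseChange hP
  obtain ⟨I, _, _, D, δ, π, hw, hδ, ⟨hπ⟩⟩ := id hq
  have : IsConnected I := IsCofiltered.isConnected _
  have hu : QuasiCompact u.left := inferInstance
  have hu' : IsSeparated u.left := inferInstance
  have hu'' : QuasiSeparated u.left := inferInstance
  obtain ⟨hs⟩ := isLimit_bcπ δ u h π hw hπ
  refine QcqsCech.cechExact_of_levels w (bcFst δ u) (bcπ δ u h π hw) π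
    (fun i => (bcπapp_fst δ u h π hw i).symm) (compactSpace_N u δ hδ hu hB)
    (quasiSeparatedSpace_N u δ hδ hu'' hB') (isAffineHom_N u δ hδ) hs hπ (fun n y => ?_) hA
  obtain ⟨B', b', q', ⟨hB1, hB2⟩, hq'⟩ := exists_nerve_base
    (fun B : X.Etale => CompactSpace B.left ∧ QuasiSeparatedSpace B.left) u q w w0 h
    ⟨inferInstance, inferInstance⟩ (fun B b hB => by
      have h1 := isPullback_left_et (IsPullback.of_hasPullback b u)
      have := hB.1
      have := hB.2
      have h2 : QuasiCompact (pullback.fst b u).left := MorphismProperty.of_isPullback h1.flip hu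
      have h3 : QuasiSeparated (pullback.fst b u).left :=
        MorphismProperty.of_isPullback h1.flip hu''
      exact ⟨QuasiCompact.compactSpace_of_compactSpace (pullback.fst b u).left,
        quasiSeparatedSpace_of_quasiSeparated (pullback.fst b u).left⟩) n
  exact hrep q' (hq.baseChange hq') (hi.baseChange hq') hB1 hB2 A y

end CechOK

end Groth.Agent.Proet.PresBC
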