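import Groth.Agent.Proet.PresBC
import Groth.Agent.Proet.BCSec229
import Groth.Agent.Proet.EpsUnit

/-!
# Sections of `eps⁻¹ F` over presented objects and acyclicity on `V ×_Y X`

* `rep_of_pres`: sections of `eps⁻¹ A` over `T` with a presentation over a qcqs étale scheme are represented.
* `ext_eq_zero_B0`: `eps⁻¹ I` is acyclic on `B0` for injective `I`.
* `ext_eq_zero_bcP`: `eps⁻¹ I` is acyclic on `V ×_Y X` for `V` in `B0` and `f` qcqs.
-/

set_option autoImplicit false
universe u

open CategoryTheory CategoryTheory.Limits AlgebraicGeometry Opposite Simplicial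

namespace Groth.Agent.Proet.PresRep

set_option backward.isDefEq.respectTransparency.types false

open CechEl EpsB0 EpsPres CechAcyclic Eps228 QcqsAcyc PresBC RepLim229

variable {X : Scheme.{u}} [ProEtS.EpsCont X]

theorem rep_of_pres {T : X.ProEt} {T0 : X.Etale} (t : T ⟶ (ProEtS.eps X).obj T0) (ht : Pres t)
    (ht' : IndAff t) (hT : CompactSpace T0.left) (hT' : QuasiSeparatedSpace T0.left)
    (A : EtCoh.Ab X) (y : ((ProEtS.epsPull X).obj A).obj.obj (op T)) :
    ∃ (U : X.Etale) (g : T ⟶ (ProEtS.eps X).obj U) (x : A.obj.obj (op U)), br A g x = y := by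
  obtain ⟨I, _, _, D, δ, π, hw, hδ, ⟨hπ⟩⟩ := ht
  obtain ⟨j⟩ : Nonempty I := IsCofiltered.nonempty
  have hc (i) : CompactSpace (D.obj i).left := by
    have := hδ i
    have h4 : QuasiCompact (δ.app i).left := inferInstance
    exact QuasiCompact.compactSpace_of_compactSpace (Y := T0.left) (δ.app i).left
  have hqs (i) : QuasiSeparatedSpace (D.obj i).left := by
    have := hδ i
    have h4 : QuasiSeparated (δ.app i).left := inferInstance
    exact quasiSeparatedSpace_of_quasiSeparated (Y := T0.left) (δ.app i).left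
  have haff {i k : I} (a : i ⟶ k) : IsAffineHom (D.map a).left := by
    have h1 := hδ i
    have h2 := hδ k
    have h3 : (D.map a).left ≫ (δ.app k).left = (δ.app i).left :=
      congrArg (fun t => t.left) ((δ.naturality a).trans (Category.comp_id _))
    have h4 : IsAffineHom ((D.map a).left ≫ (δ.app k).left) := by
      rw [h3]; exact h1
    have h5 : IsSeparated (δ.app k).left := inferInstance
    exact IsAffineHom.of_comp (D.map a).left (δ.app k).left
  obtain ⟨W0, w0, hW0, hw0⟩ := exists_affine_cover T0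
  have := Cont.preservesFiniteLimits_eps X
  let W : X.Etale := pullback (δ.app j) w0
  let w : W ⟶ D.obj j := pullback.fst _ _
  let ww : W ⟶ W0 := pullback.snd _ _
  have hW : IsPullback w ww (δ.app j) w0 := IsPullback.of_hasPullback _ _
  have hWl := isPullback_left_et hW
  have hw' : Surjective w.left := MorphismProperty.of_isPullback hWl.flip hw0
  have hwwa : IsAffineHom ww.left := MorphismProperty.of_isPullback hWl (hδ j)
  have hWa : IsAffine W.left := isAffine_of_isAffineHom ww.left
  let P : X.ProEt := pullback (pr D π j) ((ProEtS.eps X).map w)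
  let p : P ⟶ T := pullback.fst _ _
  let r : P ⟶ (ProEtS.eps X).obj W := pullback.snd _ _
  have hP : IsPullback p r (pr D π j) ((ProEtS.eps X).map w) := IsPullback.of_hasPullback _ _
  have hP0 : IsPullback p (r ≫ (ProEtS.eps X).map ww) t ((ProEtS.eps X).map w0) := by
    have h1 := hP.paste_vert (hW.map (ProEtS.eps X))
    have e2 : pr D π j ≫ (ProEtS.eps X).map (δ.app j) = t := hw j
    rw [e2] at h1
    exact h1
  have hPB : B0 P := ⟨W0, r ≫ (ProEtS.eps X).map ww, ht' W0 w0 P p _ hW0 hP0⟩
  obtain ⟨U, g, x, hx⟩ := RepSurj234.repSurj A hPB (((ProEtS.epsPull X).obj A).obj.map p.op y)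
  obtain ⟨k, s, hs⟩ := rep_of_cover A D π hπ hc haff hqs y w hP g x hx.symm
  exact ⟨D.obj k, pr D π k, s, hs.symm⟩

omit [ProEtS.EpsCont X] in
theorem b0_iff {V : X.ProEt} (h : B0 V) : BZero.B0 V := by
  obtain ⟨V0, g, h1, h2, h3⟩ := h
  exact ⟨(ProEtS.eps X).obj V0, g, V0.prop, h1, h2, (CovRef.indEtMP_iff _).2 h3⟩

theorem acy_B0 (I : EtCoh.Ab X) [Injective I] {V : X.ProEt} (hV : B0 V) :
    Acy ((ProEtS.epsPull X).obj I) V := fun q x =>
  EpsUnit.ext_eq_zero I (EpsUnit.etExact_of_injective I) (b0_iff hV) q x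

/-- `eps⁻¹ I` is acyclic on `V ×_Y X` for `V` in `B0`. -/
theorem acy_bcP {Y : Scheme.{u}} (f : X ⟶ Y) [QuasiCompact f] [QuasiSeparated f] {V : Y.ProEt}
    (hV : B0 V) (I : EtCoh.Ab X) [Injective I] :
    Acy ((ProEtS.epsPull X).obj I) ((ProEtS.bcP f).obj V) := by
  obtain ⟨V0, g, hg⟩ := hV
  have hV0 : IsAffine V0.left := hg.2.1
  refine acy (fun V hV => acy_B0 I hV) (T0 := (EtCoh.bc f).obj V0) ((ProEtS.bcP f).map g)
    (BCSec229.compactSpace_bc f V0) (BCSec229.quasiSeparatedSpace_bc f V0) (indAff_bcP f g hg) ?_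
  exact cechOK_of_pres (fun t ht ht' h1 h2 A y => rep_of_pres t ht ht' h1 h2 A y) I
    (fun b => cechExact_of_injective_sheaf _ (nerve_coneOp b) I) _ (pres_bcP f g hg)
    (indAff_bcP f g hg)

end Groth.Agent.Proet.PresRep
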