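import Groth.Agent.PerfA.ProjHom
import Mathlib.Algebra.Homology.SingleHomology

/-!
# Morphisms in the derived category out of a projective object in degree zero

`theta_bijective`: `Hom_{D(C)}(P, M) ≃ Hom_C(P, H^0 M)` for `P` projective.
-/

set_option autoImplicit false

universe w v u

open CategoryTheory CategoryTheory.Limits DerivedCategory

namespace Groth.Agent.Proet.ProjSingle

variable {C : Type u} [Category.{v} C] [Abelian C] [HasDerivedCategory.{w} C]

/-- a complex concentrated in degree zero -/
noncomputable abbrev sg (P : C) : CochainComplex C ℤ :=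
  (HomologicalComplex.single C (ComplexShape.up ℤ) 0).obj P

/-- `H^0` of an object placed in degree zero. -/
noncomputable def s (P : C) : P ⟶ (homologyFunctor C 0).obj ((singleFunctor C 0).obj P) :=
  (HomologicalComplex.homologyFunctorSingleIso C (ComplexShape.up ℤ) 0).inv.app P ≫
    (homologyFunctorFactors C 0).inv.app (sg P)

instance (P : C) : IsIso (s P) := by
  have h1 : IsIso ((HomologicalComplex.homologyFunctorSingleIso C
    (ComplexShape.up ℤ) 0).inv.app P) := inferInstance
  have h2 : IsIso ((homologyFunctorFactors C 0).inv.app (sg P)) := inferInstance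
  exact IsIso.comp_isIso' h1 h2

theorem s_naturality {P P' : C} (t : P' ⟶ P) :
    s P' ≫ (homologyFunctor C 0).map ((singleFunctor C 0).map t) = t ≫ s P := by
  have h1 := (homologyFunctorFactors C 0).inv.naturality
    ((HomologicalComplex.single C (ComplexShape.up ℤ) 0).map t)
  have h2 := (HomologicalComplex.homologyFunctorSingleIso C (ComplexShape.up ℤ) 0).inv.naturality t
  unfold s
  refine (Category.assoc _ _ _).trans ?_
  refine (congrArg (fun x => (HomologicalComplex.homologyFunctorSingleIso C
    (ComplexShape.up ℤ) 0).inv.app P' ≫ x) h1.symm).trans ?_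
  refine (Category.assoc _ _ _).symm.trans ?_
  refine (congrArg (fun x => x ≫ (homologyFunctorFactors C 0).inv.app (sg P)) h2.symm).trans ?_
  exact Category.assoc _ _ _

/-- The map on `H^0` induced by a morphism out of an object placed in degree zero. -/
noncomputable def theta {P : C} {M : DerivedCategory C} (φ : (singleFunctor C 0).obj P ⟶ M) :
    P ⟶ (homologyFunctor C 0).obj M :=
  s P ≫ (homologyFunctor C 0).map φ

theorem theta_comp {P P' : C} (t : P' ⟶ P) {M : DerivedCategory C}
    (φ : (singleFunctor C 0).obj P ⟶ M) :
    theta ((singleFunctor C 0).map t ≫ φ) = t ≫ theta φ := by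
  unfold theta
  rw [Functor.map_comp, ← Category.assoc, ← Category.assoc, s_naturality]

theorem theta_postcomp {P : C} {M N : DerivedCategory C}
    (φ : (singleFunctor C 0).obj P ⟶ M) (f : M ⟶ N) :
    theta (φ ≫ f) = theta φ ≫ (homologyFunctor C 0).map f := by
  unfold theta
  rw [Functor.map_comp, Category.assoc]

theorem theta_sub {P : C} {M : DerivedCategory C} (φ ψ : (singleFunctor C 0).obj P ⟶ M) :
    theta (φ - ψ) = theta φ - theta ψ := by
  unfold theta
  rw [Functor.map_sub, Preadditive.comp_sub]

theorem theta_injective (P : C) [Projective P] (M : DerivedCategory C) :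
    Function.Injective (fun φ : (singleFunctor C 0).obj P ⟶ M => theta φ) := by
  intro φ ψ h
  have h1 : theta (φ - ψ) = 0 := by rw [theta_sub]; exact sub_eq_zero.2 h
  rw [← sub_eq_zero]
  refine PerfA.ProjHom.eq_zero_of_homology_map_eq_zero P 0 M _ ?_
  unfold theta at h1
  exact (cancel_epi (s P)).1 (h1.trans comp_zero.symm)

omit [HasDerivedCategory.{w} C] in
theorem exists_single_map (P : C) [Projective P] (K : CochainComplex C ℤ)
    (a : P ⟶ K.homology 0) :
    ∃ g : (HomologicalComplex.single C (ComplexShape.up ℤ) 0).obj P ⟶ K,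
      (HomologicalComplex.singleObjHomologySelfIso (ComplexShape.up ℤ) 0 P).inv ≫
        HomologicalComplex.homologyMap g 0 = a := by
  let c : P ⟶ K.cycles 0 := Projective.factorThru a (K.homologyπ 0)
  have hc : c ≫ K.homologyπ 0 = a := Projective.factorThru_comp _ _
  let g : (HomologicalComplex.single C (ComplexShape.up ℤ) 0).obj P ⟶ K :=
    HomologicalComplex.mkHomFromSingle (c ≫ K.iCycles 0) (fun k _ => by
      rw [Category.assoc, HomologicalComplex.iCycles_d, comp_zero])
  have hg : (HomologicalComplex.singleObjCyclesSelfIso (ComplexShape.up ℤ) 0 P).inv ≫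
      HomologicalComplex.cyclesMap g 0 = c := by
    rw [← cancel_mono (K.iCycles 0), Category.assoc, HomologicalComplex.cyclesMap_i,
      HomologicalComplex.singleObjCyclesSelfIso_inv_iCycles_assoc,
      HomologicalComplex.mkHomFromSingle_f, Iso.inv_hom_id_assoc]
  refine ⟨g, ?_⟩
  rw [← HomologicalComplex.singleObjCyclesSelfIso_inv_homologyπ, Category.assoc,
    HomologicalComplex.homologyπ_naturality, ← Category.assoc, hg, hc]

theorem theta_surjective (P : C) [Projective P] (M : DerivedCategory C) :
    Function.Surjective (fun φ : (singleFunctor C 0).obj P ⟶ M => theta φ) := by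
  intro a
  let K := Q.objPreimage M
  let e : Q.obj K ≅ M := Q.objObjPreimageIso M
  obtain ⟨g, hg⟩ := exists_single_map P K
    (a ≫ (homologyFunctor C 0).map e.inv ≫ (homologyFunctorFactors C 0).hom.app K)
  let φ : (singleFunctor C 0).obj P ⟶ Q.obj K := Q.map g
  refine ⟨φ ≫ e.hom, ?_⟩
  change theta (φ ≫ e.hom) = a
  rw [theta_postcomp]
  have h1 : theta φ ≫ (homologyFunctorFactors C 0).hom.app K =
      (HomologicalComplex.singleObjHomologySelfIso (ComplexShape.up ℤ) 0 P).inv ≫
        HomologicalComplex.homologyMap g 0 := by
    have h3 := (homologyFunctorFactors C 0).hom.naturality g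
    have h4 : (homologyFunctorFactors C 0).inv.app (sg P) ≫
        ((homologyFunctor C 0).map (Q.map g) ≫ (homologyFunctorFactors C 0).hom.app K) =
          HomologicalComplex.homologyMap g 0 :=
      (Iso.inv_comp_eq ((homologyFunctorFactors C 0).app (sg P))).2 h3
    have h5 : theta φ ≫ (homologyFunctorFactors C 0).hom.app K =
      (HomologicalComplex.homologyFunctorSingleIso C (ComplexShape.up ℤ) 0).inv.app P ≫
        ((homologyFunctorFactors C 0).inv.app (sg P) ≫
        ((homologyFunctor C 0).map (Q.map g) ≫ (homologyFunctorFactors C 0).hom.app K)) := by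
      unfold theta s
      refine (Category.assoc _ _ _).trans ?_
      refine (Category.assoc _ _ _).trans ?_
      rfl
    rw [h5, h4]
    rfl
  rw [← cancel_mono ((homologyFunctor C 0).map e.inv ≫ (homologyFunctorFactors C 0).hom.app K)]
  rw [Category.assoc, ← Functor.map_comp_assoc, Iso.hom_inv_id, CategoryTheory.Functor.map_id,
    Category.id_comp, h1, hg]
  rfl

theorem theta_bijective (P : C) [Projective P] (M : DerivedCategory C) :
    Function.Bijective (fun φ : (singleFunctor C 0).obj P ⟶ M => theta φ) :=
  ⟨theta_injective P M, theta_surjective P M⟩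

end Groth.Agent.Proet.ProjSingle
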