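import Groth.Agent.Proet.EpsAcyc
import Groth.Agent.Ega4B.RpushCompare
import Groth.Agent.CohtopA.RDComp
import Mathlib.CategoryTheory.Sites.LocallySurjective
import Mathlib.CategoryTheory.Sites.EpiMono

/-!
# Bases of sites, acyclicity for pushforward functors, and `R^q f_* eps⁻¹ = eps⁻¹ R^q f_*`

* `IsBasis J B`: every object is covered by objects of the class `B`.
* `epi_of_basis`, `isIso_of_basis`: epimorphisms and isomorphisms of abelian sheaves from sections over a basis.
* `acyclic_of_basis`: for `G : C ⥤ D` continuous and `R = G.sheafPushforwardContinuous`, a sheaf `F` on `D` with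
  `Ext^(q+1)(Z_{G V}, F) = 0` for all `V` in a basis of `C` is `R`-acyclic.
* `nonempty_iso_of_comm`: `R^q G (F X) ≅ L (R^q H X)` from `F ⋙ G ≅ H ⋙ L`, `F` and `L` exact and `F I` acyclic for
  `G` when `I` is injective.
* `bcMap f : eps⁻¹ f_* ⟶ f_* eps⁻¹`, and `nonempty_iso_rpush`: Stacks 09A6 from bijectivity of `bcMap` on a basis
  and vanishing of `Ext^(q+1)(Z_{V ×_Y X}, eps⁻¹ I)`.
-/

set_option autoImplicit false
universe u v w w' v₁ v₂ v₃ v₄ u₁ u₂ u₃ u₄

open CategoryTheory CategoryTheory.Limits AlgebraicGeometry Opposite CategoryTheory.Abelian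

namespace Groth.Agent.Proet.PushAcyc

open ZU

section Basis

variable {C : Type u₁} [Category.{v₁} C] (J : GrothendieckTopology C)

/-- Every object of `C` is covered by objects of the class `B`. -/
def IsBasis (B : C → Prop) : Prop :=
  ∀ T : C, ∃ S ∈ J T, ∀ ⦃V : C⦄ (g : V ⟶ T), S g → ∃ (W : C) (_ : B W) (a : V ⟶ W) (b : W ⟶ T), a ≫ b = g

variable {J}

/-- the sieve of arrows factoring through an object of a basis -/
theorem IsBasis.exists {B : C → Prop} (hB : IsBasis J B) (T : C) :
    ∃ S ∈ J T, ∀ ⦃V : C⦄ (g : V ⟶ T), S g → ∃ (W : C) (_ : B W) (a : V ⟶ W) (b : W ⟶ T), a ≫ b = g := hB T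

variable {F G : Sheaf J AddCommGrpCat.{w}} (φ : F ⟶ G)

/-- local surjectivity from surjectivity on a basis -/
theorem isLocallySurjective_of_basis {B : C → Prop} (hB : IsBasis J B)
    (h : ∀ V : C, B V → ∀ s : G.obj.obj (op V), ∃ t : F.obj.obj (op V), φ.hom.app (op V) t = s) :
    Sheaf.IsLocallySurjective φ := by
  constructor
  intro T s
  obtain ⟨S, hS, hS'⟩ := hB T
  refine J.superset_covering ?_ hS
  intro V g hg
  obtain ⟨W, hW, a, b, rfl⟩ := hS' g hg
  obtain ⟨t, ht⟩ := h W hW (G.obj.map b.op s)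
  refine ⟨F.obj.map a.op t, ?_⟩
  have h1 := ConcreteCategory.congr_hom (φ.hom.naturality a.op) t
  refine h1.trans ?_
  change G.obj.map a.op (φ.hom.app (op W) t) = _
  rw [ht, op_comp, G.obj.map_comp]
  rfl

/-- local injectivity from injectivity on a basis -/
theorem isLocallyInjective_of_basis {B : C → Prop} (hB : IsBasis J B)
    (h : ∀ V : C, B V → Function.Injective (φ.hom.app (op V))) :
    Sheaf.IsLocallyInjective φ := by
  constructor
  intro T x y hxy
  obtain ⟨S, hS, hS'⟩ := hB T.unop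
  refine J.superset_covering ?_ hS
  intro V g hg
  obtain ⟨W, hW, a, b, rfl⟩ := hS' g hg
  have h0 : F.obj.map b.op x = F.obj.map b.op y := by
    apply h W hW
    have h1 := ConcreteCategory.congr_hom (φ.hom.naturality b.op) x
    have h2 := ConcreteCategory.congr_hom (φ.hom.naturality b.op) y
    refine h1.trans (Eq.trans ?_ h2.symm)
    exact congrArg (G.obj.map b.op) hxy
  change F.obj.map (a ≫ b).op x = F.obj.map (a ≫ b).op y
  rw [op_comp, F.obj.map_comp]
  exact congrArg (F.obj.map a.op) h0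

/-- An epimorphism from surjectivity on sections over a basis. -/
theorem epi_of_basis {B : C → Prop} (hB : IsBasis J B)
    (h : ∀ V : C, B V → ∀ s : G.obj.obj (op V), ∃ t : F.obj.obj (op V), φ.hom.app (op V) t = s) :
    Epi φ := by
  have := isLocallySurjective_of_basis φ hB h
  infer_instance

/-- An isomorphism from bijectivity on sections over a basis. -/
theorem isIso_of_basis {B : C → Prop} (hB : IsBasis J B)
    (h : ∀ V : C, B V → Function.Bijective (φ.hom.app (op V))) : IsIso φ := by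
  have : J.HasSheafCompose (forget AddCommGrpCat.{w}) := inferInstance
  exact (Sheaf.isLocallyBijective_iff_isIso (J := J) φ).1
    ⟨isLocallyInjective_of_basis φ hB fun V hV => (h V hV).1,
      isLocallySurjective_of_basis φ hB fun V hV => (h V hV).2⟩

end Basis

section Acyc

variable {C : Type u₁} [Category.{v₁} C] {D : Type u₂} [Category.{v₂} D] [LocallySmall.{w} D]
  (G : C ⥤ D) (J : GrothendieckTopology C) (K : GrothendieckTopology D) [G.IsContinuous J K]
  [HasSheafify J AddCommGrpCat.{w}] [HasSheafify K AddCommGrpCat.{w}]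
  [HasExt.{w'} (Sheaf K AddCommGrpCat.{w})] [EnoughInjectives (Sheaf K AddCommGrpCat.{w})]
  [(G.sheafPushforwardContinuous AddCommGrpCat.{w} J K).Additive]
  [PreservesFiniteLimits (G.sheafPushforwardContinuous AddCommGrpCat.{w} J K)]

/-- A sheaf `F` on `D` with `Ext^(q+1)(Z_{G V}, F) = 0` for all `V` in a basis of `C` is acyclic for the
pushforward along `G`. -/
theorem isZero_rightDerived_of_basis {B : C → Prop} (hB : IsBasis J B) (F : Sheaf K AddCommGrpCat.{w})
    (h : ∀ V : C, B V → ∀ (q : ℕ) (x : Ext.{w'} ((zF.{w} K).obj (G.obj V)) F (q + 1)), x = 0)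
    (q : ℕ) (hq : 0 < q) :
    IsZero (((G.sheafPushforwardContinuous AddCommGrpCat.{w} J K).rightDerived q).obj F) := by
  refine Groth.Agent.Etrest.RAcyc.isZero_rightDerived_of_class
    (G.sheafPushforwardContinuous AddCommGrpCat.{w} J K)
    (fun F : Sheaf K AddCommGrpCat.{w} => ∀ V : C, B V → ∀ (q : ℕ)
      (x : Ext.{w'} ((zF.{w} K).obj (G.obj V)) F (q + 1)), x = 0) ?_ h q hq
  intro S hS hI hP
  refine ⟨fun V hV q x => ?_, ?_⟩
  · exact CohtopA.DimShift.ext_eq_zero_of_left hS _ (q + 1) (hP V hV (q + 1))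
      (fun x => Ext.eq_zero_of_injective x) x
  · apply epi_of_basis _ hB
    intro V hV s
    exact CechAcyclic.exists_section_lift hS (G.obj V) (hP V hV 0) s

end Acyc

section Comm

open Groth.Agent.EtpbcB.Acyc Groth.Agent.Ega4B.RpushCompare

variable {A : Type u₁} [Category.{v₁} A] [Abelian A] [HasInjectiveResolutions A] [EnoughInjectives A]
  {C : Type u₂} [Category.{v₂} C] [Abelian C] [HasInjectiveResolutions C]
  {D : Type u₃} [Category.{v₃} D] [Abelian D]
  {E : Type u₄} [Category.{v₄} E] [Abelian E]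

/-- `R^q G (F X) ≅ L (R^q H X)` from `F ⋙ G ≅ H ⋙ L`, when `F` and `L` are exact and `F I` is acyclic for
`G` for all injective `I`. -/
theorem nonempty_iso_of_comm (F : A ⥤ C) [F.Additive] [PreservesFiniteLimits F]
    [PreservesFiniteColimits F] (G : C ⥤ E) [G.Additive] [PreservesFiniteLimits G]
    (H : A ⥤ D) [H.Additive] [PreservesFiniteLimits H]
    (L : D ⥤ E) [L.Additive] [PreservesFiniteLimits L] [PreservesFiniteColimits L]
    (e : F ⋙ G ≅ H ⋙ L)
    (hI : ∀ I : A, Injective I → ∀ q : ℕ, 0 < q → IsZero ((G.rightDerived q).obj (F.obj I)))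
    (X : A) (q : ℕ) : Nonempty ((G.rightDerived q).obj (F.obj X) ≅ L.obj ((H.rightDerived q).obj X)) := by
  obtain ⟨e₁⟩ := comp_acyclic F G hI X (acyclic_of_exact F X) q
  obtain ⟨e₂⟩ := rightDerived_comp_exact H L X q
  exact ⟨e₁ ≪≫ (Groth.Agent.CohtopA.RDComp.rightDerivedCongr e q).app X ≪≫ e₂.symm⟩

end Comm

end Groth.Agent.Proet.PushAcyc
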