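import Groth.Agent.Proet.WCExist
import Mathlib.CategoryTheory.Sites.EpiMono
import Mathlib.CategoryTheory.Abelian.Exact

/-!
# Exactness of the pushforward on pro-etale sheaves, criterion by weakly contractible objects
-/

set_option autoImplicit false
universe u v w

open CategoryTheory CategoryTheory.Limits AlgebraicGeometry Opposite

namespace Groth.Agent.Proet.PushExact

open Groth.Agent.Proet.WC

variable {X Y : Scheme.{u}}

/-- An epimorphism of abelian sheaves is surjective on sections over weakly contractible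
objects. -/
theorem surjective_of_isWC {U : X.ProEt} (hU : ProEtS.IsWC U) {F G : ProEtS.AbP X} (φ : F ⟶ G)
    [Epi φ] : Function.Surjective (φ.hom.app (op U)) := by
  have h1 : Sheaf.IsLocallySurjective φ := (Sheaf.isLocallySurjective_iff_epi' _ φ).2 inferInstance
  have h2 : Sheaf.IsLocallySurjective ((sheafCompose (Scheme.ProEt.topology X)
    (forget AddCommGrpCat.{u + 1})).map φ) := inferInstance
  exact (isWC_iff U).1 hU _ _ _ h2

/-- If every object of the pro-etale site of `Y` is covered by objects whose base change to `X` is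
weakly contractible then `f_*` preserves epimorphisms. -/
theorem epi_pushP_map (f : X ⟶ Y) [ProEtS.PCont f]
    (H : ∀ V : Y.ProEt, ∃ S ∈ Scheme.ProEt.topology Y V, ∀ ⦃U : Y.ProEt⦄ (g : U ⟶ V), S g →
      ∃ (W : Y.ProEt) (h : U ⟶ W) (k : W ⟶ V), h ≫ k = g ∧ ProEtS.IsWC ((ProEtS.bcP f).obj W))
    {F G : ProEtS.AbP X} (φ : F ⟶ G) [Epi φ] : Epi ((ProEtS.pushP f).map φ) := by
  have : Sheaf.IsLocallySurjective ((ProEtS.pushP f).map φ) := by
    refine ⟨fun {V} t => ?_⟩
    obtain ⟨S, hS, h⟩ := H V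
    refine (Scheme.ProEt.topology Y).superset_covering ?_ hS
    intro U g hg
    obtain ⟨W, a, k, rfl, hW⟩ := h g hg
    obtain ⟨s, hs⟩ := surjective_of_isWC hW φ (G.obj.map ((ProEtS.bcP f).map k).op t)
    refine ⟨F.obj.map ((ProEtS.bcP f).map a).op s, ?_⟩
    change φ.hom.app (op ((ProEtS.bcP f).obj U)) (F.obj.map ((ProEtS.bcP f).map a).op s) =
      G.obj.map ((ProEtS.bcP f).map (a ≫ k)).op t
    rw [NatTrans.naturality_apply, hs, ← ConcreteCategory.comp_apply, ← Functor.map_comp,
      ← op_comp, ← Functor.map_comp]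
  infer_instance

theorem exact_pushP (f : X ⟶ Y) [ProEtS.PCont f]
    (H : ∀ V : Y.ProEt, ∃ S ∈ Scheme.ProEt.topology Y V, ∀ ⦃U : Y.ProEt⦄ (g : U ⟶ V), S g →
      ∃ (W : Y.ProEt) (h : U ⟶ W) (k : W ⟶ V), h ≫ k = g ∧ ProEtS.IsWC ((ProEtS.bcP f).obj W)) :
    PreservesFiniteLimits (ProEtS.pushP f) ∧ PreservesFiniteColimits (ProEtS.pushP f) := by
  have h1 : PreservesFiniteLimits (ProEtS.pushP f) := by
    have := (ProEtS.pullPushAdjP f).rightAdjoint_preservesLimits
    infer_instance
  have h2 : (ProEtS.pushP f).PreservesEpimorphisms := ⟨fun φ _ => epi_pushP_map f H φ⟩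
  refine ⟨h1, ?_⟩
  have := (ProEtS.pushP f).preservesHomology_of_preservesEpis_and_kernels
  exact (ProEtS.pushP f).preservesFiniteColimits_of_preservesHomology

open Groth.Agent.Proet.WCExist Groth.Agent.Proet.WCBasic Groth.Agent.Proet.WCClopen

/-- The sieve of morphisms factoring through an affine weakly contractible object. -/
def wcSieve (V : Y.ProEt) : Sieve V where
  arrows U g := ∃ (W : Y.ProEt) (h : U ⟶ W) (k : W ⟶ V), h ≫ k = g ∧ IsAffine W.left ∧
    ProEtS.IsWC W
  downward_closed := by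
    rintro U U' g ⟨W, h, k, rfl, h1, h2⟩ a
    exact ⟨W, a ≫ h, k, Category.assoc _ _ _, h1, h2⟩

set_option backward.isDefEq.respectTransparency.types false in
theorem wcSieve_mem (hwc : HasWCCover.{u}) (V : Y.ProEt) :
    wcSieve V ∈ Scheme.ProEt.topology Y V := by
  let ι := {T : V.left.Opens // IsAffineOpen T}
  have h1 : Sieve.generate (Presieve.ofArrows _ (fun i : ι => openHom V i.1)) ∈
      Scheme.ProEt.topology Y V := by
    refine ofArrows_openImmersion_mem _ (fun i => inferInstanceAs (IsOpenImmersion (i.1).ι))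
      fun x => ?_
    obtain ⟨T, hT, hx, -⟩ := V.left.isBasis_affineOpens.exists_subset_of_mem_open
      (Set.mem_univ x) isOpen_univ
    obtain ⟨T, hT, rfl⟩ := hT
    exact ⟨⟨T, hT⟩, ⟨x, hx⟩, rfl⟩
  refine (Scheme.ProEt.topology Y).transitive h1 _ ?_
  rintro U f ⟨_, k, _, ⟨i⟩, rfl⟩
  rw [Sieve.pullback_comp]
  apply (Scheme.ProEt.topology _).pullback_stable
  have : IsAffine (openObj V i.1).left := i.2
  obtain ⟨W, g, hW, hg, hWC⟩ := exists_affine_wc_cover hwc (openObj V i.1)
  refine (Scheme.ProEt.topology _).superset_covering ?_ (generate_singleton_mem g)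
  rw [Sieve.generate_le_iff]
  rintro _ _ ⟨⟩
  exact ⟨W, 𝟙 _, g ≫ openHom V i.1, by simp, hW, hWC⟩

theorem exact_pushP_of_affine (hwc : HasWCCover.{u}) (f : X ⟶ Y) [ProEtS.PCont f]
    (H : ∀ W : Y.ProEt, IsAffine W.left → EtPBC.IsWContractible ↥(Γ(W.left, ⊤)) →
      ProEtS.IsWC ((ProEtS.bcP f).obj W)) :
    PreservesFiniteLimits (ProEtS.pushP f) ∧ PreservesFiniteColimits (ProEtS.pushP f) := by
  refine exact_pushP f fun V => ⟨wcSieve V, wcSieve_mem hwc V, ?_⟩
  rintro U g ⟨W, h, k, hk, h1, h2⟩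
  exact ⟨W, h, k, hk, H W h1 ((isWContractible_iff_isWC W).2 h2)⟩

end Groth.Agent.Proet.PushExact
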