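import Groth.Agent.Proet.WCQuot
import Groth.Agent.Proet.PushExact
import Mathlib.AlgebraicGeometry.Morphisms.ClosedImmersion

/-!
# Base change of weakly contractible affine objects along closed immersions
-/

set_option autoImplicit false
universe u

open CategoryTheory CategoryTheory.Limits AlgebraicGeometry Opposite

namespace Groth.Agent.Proet.PushClosed

theorem isCompact_preimage {X W : Scheme.{u}} (h : W ⟶ X) [CompactSpace W] {U : Set X}
    (hU : IsOpen U) (hr : IsRetrocompact U) : IsCompact (h ⁻¹' U) := by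
  have : QuasiCompact (Scheme.Opens.ι (⟨U, hU⟩ : X.Opens)) :=
    quasiCompact_iff_isSpectralMap.mpr (IsRetrocompact_iff_isSpectralMap_subtypeVal.mp hr)
  have h1 : QuasiCompact (pullback.fst h (Scheme.Opens.ι (⟨U, hU⟩ : X.Opens))) := inferInstance
  have h2 : Set.range (pullback.fst h (Scheme.Opens.ι (⟨U, hU⟩ : X.Opens))) = h ⁻¹' U := by
    rw [Scheme.Pullback.range_fst, Scheme.Opens.range_ι]
    rfl
  rw [← h2]
  have h3 : CompactSpace ↥(pullback h (Scheme.Opens.ι (⟨U, hU⟩ : X.Opens))) :=
    QuasiCompact.compactSpace_of_compactSpace (pullback.fst h (Scheme.Opens.ι (⟨U, hU⟩ : X.Opens)))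
  exact isCompact_range (Scheme.Hom.continuous _)

/-- Closed immersions of affine schemes into w-contractible ones with quasi-compact complement
of the image. -/
theorem isWContractible_of_closedImmersion {W T : Scheme.{u}} (p : T ⟶ W) [IsAffine W]
    [IsClosedImmersion p] (hc : IsCompact (Set.range p)ᶜ)
    (h : EtPBC.IsWContractible ↥(Γ(W, ⊤))) : EtPBC.IsWContractible ↥(Γ(T, ⊤)) := by
  obtain ⟨h1, h2⟩ := IsClosedImmersion.isAffine_surjective_of_isAffine p
  have hnat : T.isoSpec.hom ≫ Spec.map p.appTop = p ≫ W.isoSpec.hom :=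
    Scheme.isoSpec_hom_naturality p
  have h3 : Set.range (Spec.map p.appTop) = W.isoSpec.hom '' Set.range p := by
    rw [← Set.range_comp]
    have h4 : Set.range (Spec.map p.appTop) = Set.range (T.isoSpec.hom ≫ Spec.map p.appTop) := by
      rw [Scheme.Hom.comp_base, TopCat.coe_comp, Set.range_comp,
        T.isoSpec.hom.surjective.range_eq, Set.image_univ]
    rw [h4, hnat]
    rfl
  have h5 : IsCompact (Set.range (Spec.map p.appTop))ᶜ := by
    have h7 : Function.Bijective W.isoSpec.hom :=
      (Scheme.Hom.homeomorph W.isoSpec.hom).bijective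
    rw [h3, ← Set.image_compl_eq h7]
    exact hc.image (Scheme.Hom.continuous _)
  have h6 : Set.range (Spec.map p.appTop) =
      PrimeSpectrum.zeroLocus (RingHom.ker p.appTop.hom : Set Γ(W, ⊤)) :=
    range_comap_of_surjective _ _ h2
  rw [h6] at h5
  obtain ⟨E, hE⟩ := PrimeSpectrum.isCompact_isOpen_iff.1
    ⟨h5, (PrimeSpectrum.isClosed_zeroLocus _).isOpen_compl⟩
  exact WCQuot.isWContractible_of_surjective _ _ p.appTop.hom h2 E (compl_injective hE) h

end Groth.Agent.Proet.PushClosed
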