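import Mathlib.RingTheory.Spectrum.Prime.Chevalley
import Mathlib.RingTheory.QuasiFinite.Basic
import Mathlib.FieldTheory.PurelyInseparable.Basic
import Mathlib.Topology.ExtremallyDisconnected
import Mathlib.RingTheory.Kaehler.Basic
import Mathlib.Topology.Separation.Profinite
import Groth.Agent.S0701

/-!
# Quasi-finite algebras over rings with extremally disconnected spectrum (Stacks 0985)

* `isClopen_of_isConstructible`: constructible subsets of a compact Hausdorff space are clopen.
* `extremallyDisconnected_of_locally_injective`.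
* `diag_of_radicial`: a point of `Spec (B ⊗[A] B)` whose projections both equal `y`, with `κ(y)/κ(x)` purely inseparable, lies on the diagonal.
* `exists_comap_tensorProduct`: points of `Spec (S ⊗[R] T)` over compatible points.
* `extremallyDisconnected_of_quasiFinite` : Stacks 0985.
-/

set_option autoImplicit false
universe u v

open TensorProduct Topology

namespace Groth.Agent.Proet.QFExtr

theorem isClopen_of_isConstructible {X : Type*} [TopologicalSpace X] [CompactSpace X] [T2Space X]
    {s : Set X} (hs : IsConstructible s) : IsClopen s := by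
  refine IsConstructible.empty_union_induction (p := fun s _ => IsClopen s) ?_ ?_ ?_ hs
  · intro U hU hU'
    refine ⟨?_, hU⟩
    have := hU' isCompact_univ isOpen_univ
    rw [Set.inter_univ] at this
    exact this.isClosed
  · intro s _ t _ hs ht
    exact hs.union ht
  · intro s _ hs
    exact hs.compl

/-- If `Y` is compact and `f : Y → X` is locally (on clopens) injective with open image, and `X` is Hausdorff
and extremally disconnected, then so is `Y`. -/
theorem extremallyDisconnected_of_locally_injective {X Y : Type*} [TopologicalSpace X] [TopologicalSpace Y]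
    [ExtremallyDisconnected X] [T2Space X] [CompactSpace Y] (f : Y → X) (hf : Continuous f)
    (h : ∀ y, ∃ W : Set Y, IsClopen W ∧ y ∈ W ∧ Set.InjOn f W ∧ IsOpen (f '' W)) :
    ExtremallyDisconnected Y := by
  refine ⟨fun U hU => ?_⟩
  rw [isOpen_iff_mem_nhds]
  intro y hy
  obtain ⟨W, hW, hyW, hinj, hfW⟩ := h y
  have hopen : IsOpen (f '' (U ∩ W)) := by
    have h1 : f '' (U ∩ W) = f '' W \ f '' (W \ U) := by
      ext x
      constructor
      · rintro ⟨z, ⟨hzU, hzW⟩, rfl⟩
        refine ⟨⟨z, hzW, rfl⟩, ?_⟩
        rintro ⟨z', ⟨hz'W, hz'U⟩, hzz'⟩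
        exact hz'U (hinj hz'W hzW hzz' ▸ hzU)
      · rintro ⟨⟨z, hz, rfl⟩, hn⟩
        refine ⟨z, ⟨?_, hz⟩, rfl⟩
        by_contra hzU
        exact hn ⟨z, ⟨hz, hzU⟩, rfl⟩
    rw [h1]
    refine hfW.sdiff ?_
    exact ((hW.isClosed.sdiff hU).isCompact.image hf).isClosed
  have hK : IsOpen (closure (f '' (U ∩ W))) := ExtremallyDisconnected.open_closure _ hopen
  have hsub : W ∩ f ⁻¹' (closure (f '' (U ∩ W))) ⊆ closure U := by
    rintro w ⟨hwW, hw⟩
    -- the image of closure (U ∩ W) is compact, hence closed
    have h2 : closure (f '' (U ∩ W)) ⊆ f '' (closure (U ∩ W)) :=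
      closure_minimal (Set.image_mono subset_closure)
        ((isClosed_closure.isCompact.image hf).isClosed)
    obtain ⟨w', hw', hww'⟩ := h2 hw
    have hw'W : w' ∈ W := by
      have := closure_mono (Set.inter_subset_right (s := U) (t := W)) hw'
      rwa [hW.isClosed.closure_eq] at this
    have := hinj hw'W hwW hww'
    subst this
    exact closure_mono Set.inter_subset_left hw'
  refine Filter.mem_of_superset ((hW.isOpen.inter (hK.preimage hf)).mem_nhds ⟨hyW, ?_⟩) hsub
  have h3 : y ∈ closure (U ∩ W) := by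
    rw [mem_closure_iff_nhds] at hy ⊢
    intro t ht
    obtain ⟨z, hz1, hz2⟩ := hy (t ∩ W) (Filter.inter_mem ht (hW.isOpen.mem_nhds hyW))
    exact ⟨z, hz1.1, hz2, hz1.2⟩
  exact image_closure_subset_closure_image hf ⟨y, h3, rfl⟩

theorem exists_comap_of_ringHom {R S T L : Type*} [CommRing R] [CommRing S] [CommRing T] [CommRing L]
    [Nontrivial L] [Algebra R S] [Algebra R T] (f1 : S →+* L) (f2 : T →+* L)
    (hf : f1.comp (algebraMap R S) = f2.comp (algebraMap R T)) :
    ∃ (m : PrimeSpectrum L) (r : PrimeSpectrum (S ⊗[R] T)),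
      PrimeSpectrum.comap (algebraMap S (S ⊗[R] T)) r = PrimeSpectrum.comap f1 m ∧
      PrimeSpectrum.comap (Algebra.TensorProduct.includeRight (R := R) (A := S) (B := T)).toRingHom r =
        PrimeSpectrum.comap f2 m := by
  obtain ⟨m⟩ : Nonempty (PrimeSpectrum L) := inferInstance
  let : Algebra R L := (f1.comp (algebraMap R S)).toAlgebra
  let g1 : S →ₐ[R] L := { f1 with commutes' := fun r => rfl }
  let g2 : T →ₐ[R] L := { f2 with commutes' := fun r => (RingHom.congr_fun hf r).symm }
  let g : S ⊗[R] T →ₐ[R] L := Algebra.TensorProduct.lift g1 g2 (fun _ _ => Commute.all _ _)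
  refine ⟨m, PrimeSpectrum.comap g.toRingHom m, ?_, ?_⟩
  · rw [← PrimeSpectrum.comap_comp_apply]
    have : g.toRingHom.comp (algebraMap S (S ⊗[R] T)) = f1 := by
      ext s
      simp [g, g1]
    rw [this]
  · rw [← PrimeSpectrum.comap_comp_apply]
    have : g.toRingHom.comp (Algebra.TensorProduct.includeRight (R := R) (A := S) (B := T)).toRingHom
        = f2 := by
      ext s
      simp [g, g2]
    rw [this]

/-- Points of `Spec (S ⊗ T)` over compatible points of `Spec S` and `Spec T`. -/
theorem exists_comap_tensorProduct {R S T : Type*} [CommRing R] [CommRing S] [CommRing T]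
    [Algebra R S] [Algebra R T] (p : PrimeSpectrum S) (q : PrimeSpectrum T)
    (h : PrimeSpectrum.comap (algebraMap R S) p = PrimeSpectrum.comap (algebraMap R T) q) :
    ∃ r : PrimeSpectrum (S ⊗[R] T), PrimeSpectrum.comap (algebraMap S (S ⊗[R] T)) r = p ∧
      PrimeSpectrum.comap (Algebra.TensorProduct.includeRight (R := R) (A := S) (B := T)).toRingHom r = q := by
  let x := PrimeSpectrum.comap (algebraMap R S) p
  let i1 : x.asIdeal.ResidueField →+* p.asIdeal.ResidueField :=
    Ideal.ResidueField.map _ _ (algebraMap R S) rfl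
  let i2 : x.asIdeal.ResidueField →+* q.asIdeal.ResidueField :=
    Ideal.ResidueField.map _ _ (algebraMap R T) (by
      have := congrArg PrimeSpectrum.asIdeal h
      exact this)
  let := i1.toAlgebra
  let := i2.toAlgebra
  have hn : Nontrivial (p.asIdeal.ResidueField ⊗[x.asIdeal.ResidueField] q.asIdeal.ResidueField) :=
    inferInstance
  let L := p.asIdeal.ResidueField ⊗[x.asIdeal.ResidueField] q.asIdeal.ResidueField
  let j1 : p.asIdeal.ResidueField →+* L := algebraMap p.asIdeal.ResidueField L
  let j2 : q.asIdeal.ResidueField →+* L := (Algebra.TensorProduct.includeRight :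
    q.asIdeal.ResidueField →ₐ[x.asIdeal.ResidueField] L).toRingHom
  have hf : (j1.comp (algebraMap S p.asIdeal.ResidueField)).comp (algebraMap R S) =
      (j2.comp (algebraMap T q.asIdeal.ResidueField)).comp (algebraMap R T) := by
    ext r
    have h1 : algebraMap S p.asIdeal.ResidueField (algebraMap R S r) =
        i1 (algebraMap R x.asIdeal.ResidueField r) :=
      (Ideal.ResidueField.map_algebraMap _ _ _ _ _).symm
    have h2 : algebraMap T q.asIdeal.ResidueField (algebraMap R T r) =
        i2 (algebraMap R x.asIdeal.ResidueField r) :=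
      (Ideal.ResidueField.map_algebraMap _ _ _ _ _).symm
    simp only [RingHom.comp_apply, h1, h2]
    have h3 := (Algebra.TensorProduct.includeRight :
      q.asIdeal.ResidueField →ₐ[x.asIdeal.ResidueField] L).commutes
        (algebraMap R x.asIdeal.ResidueField r)
    exact h3.symm
  obtain ⟨m, r, hr1, hr2⟩ := exists_comap_of_ringHom _ _ hf
  refine ⟨r, ?_, ?_⟩
  · rw [hr1, PrimeSpectrum.comap_comp_apply]
    have h4 : PrimeSpectrum.comap j1 m = ⊥ := Subsingleton.elim _ _
    rw [h4]
    ext s
    simp
  · rw [hr2, PrimeSpectrum.comap_comp_apply]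
    have h4 : PrimeSpectrum.comap j2 m = ⊥ := Subsingleton.elim _ _
    rw [h4]
    ext s
    simp

/-- If `κ(y)/κ(x)` is purely inseparable (`y` over `x`) then the only point of `Spec (B ⊗[A] B)` lying
over `(y, y)` is the diagonal one. -/
theorem diag_of_radicial {A B : Type*} [CommRing A] [CommRing B] [Algebra A B]
    (u : PrimeSpectrum (B ⊗[A] B)) (y : PrimeSpectrum B)
    (h1 : PrimeSpectrum.comap (algebraMap B (B ⊗[A] B)) u = y)
    (h2 : PrimeSpectrum.comap (Algebra.TensorProduct.includeRight (R := A) (A := B) (B := B)).toRingHom u = y)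
    (hp : letI := (Ideal.ResidueField.map (y.asIdeal.comap (algebraMap A B)) y.asIdeal (algebraMap A B)
        rfl).toAlgebra
      IsPurelyInseparable (y.asIdeal.comap (algebraMap A B)).ResidueField y.asIdeal.ResidueField) :
    u ∈ PrimeSpectrum.zeroLocus (KaehlerDifferential.ideal A B : Set (B ⊗[A] B)) := by
  let x := y.asIdeal.comap (algebraMap A B)
  let j : x.ResidueField →+* y.asIdeal.ResidueField :=
    Ideal.ResidueField.map x y.asIdeal (algebraMap A B) rfl
  let := j.toAlgebra
  have : IsPurelyInseparable x.ResidueField y.asIdeal.ResidueField := hp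
  let i1 : y.asIdeal.ResidueField →+* u.asIdeal.ResidueField :=
    Ideal.ResidueField.map _ _ (algebraMap B (B ⊗[A] B)) (congrArg PrimeSpectrum.asIdeal h1).symm
  let i2 : y.asIdeal.ResidueField →+* u.asIdeal.ResidueField :=
    Ideal.ResidueField.map _ _ (Algebra.TensorProduct.includeRight (R := A) (A := B) (B := B)).toRingHom
      (congrArg PrimeSpectrum.asIdeal h2).symm
  have hi : i1.comp j = i2.comp j := by
    ext a
    simp only [RingHom.comp_apply]
    have e1 : j (algebraMap A _ a) = algebraMap B _ (algebraMap A B a) :=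
      Ideal.ResidueField.map_algebraMap _ _ _ _ _
    have e2 : i1 (algebraMap B _ (algebraMap A B a)) =
        algebraMap _ _ (algebraMap B (B ⊗[A] B) (algebraMap A B a)) :=
      Ideal.ResidueField.map_algebraMap _ _ _ _ _
    have e3 : i2 (algebraMap B _ (algebraMap A B a)) =
        algebraMap _ _ ((Algebra.TensorProduct.includeRight (R := A) (A := B) (B := B)).toRingHom
          (algebraMap A B a)) :=
      Ideal.ResidueField.map_algebraMap _ _ _ _ _
    rw [e1, e2, e3]
    congr 1
    exact ((Algebra.TensorProduct.includeRight (R := A) (A := B) (B := B)).commutes a).symm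
  have hi' : i1 = i2 := IsPurelyInseparable.injective_comp_algebraMap _ _ _ hi
  change (KaehlerDifferential.ideal A B : Set (B ⊗[A] B)) ⊆ _
  rw [← KaehlerDifferential.span_range_eq_ideal]
  change Ideal.span _ ≤ u.asIdeal
  rw [Ideal.span_le]
  rintro _ ⟨b, rfl⟩
  have e2 : i1 (algebraMap B _ b) = algebraMap _ _ (algebraMap B (B ⊗[A] B) b) :=
    Ideal.ResidueField.map_algebraMap _ _ _ _ _
  have e3 : i2 (algebraMap B _ b) =
      algebraMap _ _ ((Algebra.TensorProduct.includeRight (R := A) (A := B) (B := B)).toRingHom b) :=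
    Ideal.ResidueField.map_algebraMap _ _ _ _ _
  rw [← hi', e2] at e3
  have e4 : algebraMap (B ⊗[A] B) u.asIdeal.ResidueField ((1 : B) ⊗ₜ[A] b - b ⊗ₜ[A] (1 : B)) = 0 := by
    rw [map_sub, sub_eq_zero]
    exact e3.symm
  exact Ideal.algebraMap_residueField_eq_zero.1 e4

/-- Stacks 0985. -/
theorem extremallyDisconnected_of_quasiFinite (A B : Type u) [CommRing A]
    [CommRing B] [Algebra A B] [Algebra.QuasiFinite A B] [Algebra.FinitePresentation A B]
    (hres : ∀ p : PrimeSpectrum A, IsSepClosed p.asIdeal.ResidueField)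
    [T2Space (PrimeSpectrum A)] [ExtremallyDisconnected (PrimeSpectrum A)] :
    ExtremallyDisconnected (PrimeSpectrum B) := by
  have hprof : ProEtW.IsProfinite (PrimeSpectrum B) := by
    refine Groth.Agent.S0701.result A B fun q q' h hle => ?_
    exact PrimeSpectrum.ext (Algebra.QuasiFinite.eq_of_le_of_under_eq (R := A) _ _ hle h)
  obtain ⟨_, _, _⟩ := hprof
  let f := PrimeSpectrum.comap (algebraMap A B)
  have hf : Continuous f := PrimeSpectrum.continuous_comap _
  refine extremallyDisconnected_of_locally_injective f hf fun y => ?_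
  have hfin : (f ⁻¹' {f y}).Finite := Algebra.QuasiFinite.finite_comap_preimage_singleton (f y)
  -- a clopen neighbourhood of `y` avoiding the other points of the fibre
  obtain ⟨Y₁, hY₁, hyY₁, hY₁'⟩ : ∃ Y₁ : Set (PrimeSpectrum B), IsClopen Y₁ ∧ y ∈ Y₁ ∧
      ∀ z ∈ Y₁, f z = f y → z = y := by
    have hopen : IsOpen ((f ⁻¹' {f y}) \ {y})ᶜ := (hfin.subset Set.sdiff_subset).isClosed.isOpen_compl
    have hy : y ∈ ((f ⁻¹' {f y}) \ {y})ᶜ := fun h => h.2 rfl
    obtain ⟨V, hV, hyV, hVsub⟩ := compact_exists_isClopen_in_isOpen hopen hy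
    refine ⟨V, hV, hyV, fun z hz hfz => ?_⟩
    by_contra hne
    exact hVsub hz ⟨hfz, hne⟩
  -- the bad locus
  let P := B ⊗[A] B
  let p1 : PrimeSpectrum P → PrimeSpectrum B := PrimeSpectrum.comap (algebraMap B P)
  let p2 : PrimeSpectrum P → PrimeSpectrum B :=
    PrimeSpectrum.comap (Algebra.TensorProduct.includeRight (R := A) (A := B) (B := B)).toRingHom
  have hfp1 : ∀ u, f (p1 u) = PrimeSpectrum.comap (algebraMap A P) u := fun u => by
    change PrimeSpectrum.comap _ (PrimeSpectrum.comap _ u) = _
    rw [← PrimeSpectrum.comap_comp_apply]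
    rfl
  have hfp2 : ∀ u, f (p2 u) = PrimeSpectrum.comap (algebraMap A P) u := fun u => by
    change PrimeSpectrum.comap _ (PrimeSpectrum.comap _ u) = _
    rw [← PrimeSpectrum.comap_comp_apply]
    rw [show ((Algebra.TensorProduct.includeRight (R := A) (A := B) (B := B)).toRingHom.comp
      (algebraMap A B)) = algebraMap A P from
        (Algebra.TensorProduct.includeRight (R := A) (A := B) (B := B)).comp_algebraMap]
  let U : Set (PrimeSpectrum P) := (p1 ⁻¹' Y₁ ∩ p2 ⁻¹' Y₁) ∩
    (PrimeSpectrum.zeroLocus (KaehlerDifferential.ideal A B : Set P))ᶜ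
  have hfg : (KaehlerDifferential.ideal A B).FG := KaehlerDifferential.ideal_fg A B
  have hclopen : ∀ {R : Type u} [CommRing R] {s : Set (PrimeSpectrum R)}, IsClopen s → IsConstructible s := by
    intro R _ s hs
    obtain ⟨e, -, rfl⟩ := PrimeSpectrum.exists_idempotent_basicOpen_eq_of_isClopen hs
    exact PrimeSpectrum.isConstructible_basicOpen
  have hUc : IsConstructible U := by
    refine IsConstructible.inter (IsConstructible.inter ?_ ?_) ?_
    · exact hclopen (hY₁.preimage (PrimeSpectrum.continuous_comap _))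
    · exact hclopen (hY₁.preimage (PrimeSpectrum.continuous_comap _))
    · exact (PrimeSpectrum.isRetrocompact_zeroLocus_compl_of_fg hfg).isConstructible
        (PrimeSpectrum.isClosed_zeroLocus _).isOpen_compl
  have hfpP : (algebraMap A P).FinitePresentation := by
    rw [RingHom.finitePresentation_algebraMap]
    exact Algebra.FinitePresentation.trans A B P
  have hfpB : (algebraMap A B).FinitePresentation := by
    rw [RingHom.finitePresentation_algebraMap]
    infer_instance
  have hK : IsClopen (PrimeSpectrum.comap (algebraMap A P) '' U) :=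
    isClopen_of_isConstructible (PrimeSpectrum.isConstructible_comap_image hfpP hUc)
  have hyK : f y ∉ PrimeSpectrum.comap (algebraMap A P) '' U := by
    rintro ⟨u, ⟨⟨hu1, hu2⟩, hu3⟩, hu4⟩
    apply hu3
    refine diag_of_radicial u y (hY₁' _ hu1 ((hfp1 u).trans hu4)) (hY₁' _ hu2 ((hfp2 u).trans hu4)) ?_
    let x := y.asIdeal.comap (algebraMap A B)
    have hlo : y.asIdeal.LiesOver x := ⟨rfl⟩
    let := Localization.AtPrime.algebraOfLiesOver x y.asIdeal
    have h1 : Module.Finite x.ResidueField y.asIdeal.ResidueField := inferInstance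
    have h2 : IsSepClosed x.ResidueField := hres (f y)
    have h3 : IsPurelyInseparable x.ResidueField y.asIdeal.ResidueField := inferInstance
    have h4 : (IsLocalRing.ResidueField.instAlgebra : Algebra x.ResidueField y.asIdeal.ResidueField) =
        (Ideal.ResidueField.map x y.asIdeal (algebraMap A B) rfl).toAlgebra :=
      Algebra.algebra_ext _ _ (fun r => rfl)
    rw [h4] at h3
    exact h3
  refine ⟨Y₁ \ f ⁻¹' (PrimeSpectrum.comap (algebraMap A P) '' U), hY₁.diff (hK.preimage hf), ⟨hyY₁, hyK⟩,
    ?_, ?_⟩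
  · intro z hz z' hz' hzz'
    by_contra hne
    obtain ⟨u, hu1, hu2⟩ := exists_comap_tensorProduct z z' hzz'
    apply hz.2
    refine ⟨u, ⟨⟨?_, ?_⟩, ?_⟩, ?_⟩
    · change p1 u ∈ Y₁
      rw [show p1 u = z from hu1]; exact hz.1
    · change p2 u ∈ Y₁
      rw [show p2 u = z' from hu2]; exact hz'.1
    · intro hu
      apply hne
      rw [← hu1, ← hu2]
      ext b
      have hb : (1 : B) ⊗ₜ[A] b - b ⊗ₜ[A] (1 : B) ∈ u.asIdeal :=
        hu (KaehlerDifferential.one_smul_sub_smul_one_mem_ideal A b)
      change b ⊗ₜ[A] (1 : B) ∈ u.asIdeal ↔ (1 : B) ⊗ₜ[A] b ∈ u.asIdeal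
      constructor
      · intro h
        have := u.asIdeal.add_mem hb h
        rwa [sub_add_cancel] at this
      · intro h
        have := u.asIdeal.sub_mem h hb
        rwa [sub_sub_cancel] at this
    · rw [← hfp1, show p1 u = z from hu1]
  · refine (isClopen_of_isConstructible (PrimeSpectrum.isConstructible_comap_image hfpB ?_)).isOpen
    exact hclopen (hY₁.diff (hK.preimage hf))

end Groth.Agent.Proet.QFExtr
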