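import Groth.Agent.Proet.NerveMem
import Groth.Agent.Proet.FiltSheaf
import Groth.Agent.Proet.CoprodFilt
import Groth.Agent.Proet.WCBasic

/-!
# Quasi-compact quasi-separated objects of the small pro-etale site form a finitary basis
-/

set_option autoImplicit false
universe u

open CategoryTheory Category Limits Opposite Simplicial AlgebraicGeometry

noncomputable section

namespace Groth.Agent.Proet.QcqsBasis

open CechEl FiltSheaf WCBasic

variable {X : Scheme.{u}}

/-- quasi-compact and quasi-separated objects of the small pro-etale site -/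
def Qcqs (U : X.ProEt) : Prop := CompactSpace U.left ∧ QuasiSeparatedSpace U.left

/-- surjective morphisms of quasi-compact quasi-separated objects -/
def QCov ⦃V U : X.ProEt⦄ (f : V ⟶ U) : Prop := Qcqs V ∧ Qcqs U ∧ Surjective f.left

set_option backward.isDefEq.respectTransparency.types false in
/-- pullback squares in the small pro-etale site are pullback squares of schemes -/
theorem isPullback_left {P W V U : X.ProEt} {a : P ⟶ W} {b : P ⟶ V} {c : W ⟶ U} {f : V ⟶ U}
    (h : IsPullback a b c f) : IsPullback a.left b.left c.left f.left := by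
  have h1 := h.map (Scheme.ProEt.forget X)
  exact h1.map (Over.forget X)

theorem Qcqs.of_iso {U V : X.ProEt} (e : U ≅ V) (h : Qcqs U) : Qcqs V := by
  have e' : V.left ≅ U.left := (Scheme.ProEt.forget X ⋙ Over.forget X).mapIso e.symm
  obtain ⟨h1, h2⟩ := h
  exact ⟨(quasiCompact_iff_compactSpace e'.hom).1 inferInstance,
    (quasiSeparated_iff_quasiSeparatedSpace e'.hom).1 inferInstance⟩

theorem Qcqs.of_isAffine {U : X.ProEt} (h : IsAffine U.left) : Qcqs U :=
  ⟨inferInstance, inferInstance⟩

theorem Qcqs.pullback {P W V U : X.ProEt} {a : P ⟶ W} {b : P ⟶ V} {c : W ⟶ U} {f : V ⟶ U}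
    (h : IsPullback a b c f) (hV : Qcqs V) (hU : Qcqs U) (hW : Qcqs W) : Qcqs P := by
  obtain ⟨_, _⟩ := hV
  obtain ⟨_, _⟩ := hU
  obtain ⟨_, _⟩ := hW
  have h' := isPullback_left h
  have h1 : QuasiCompact f.left := inferInstance
  have h2 : QuasiSeparated f.left := inferInstance
  have h3 : QuasiCompact a.left := MorphismProperty.of_isPullback h'.flip h1
  have h4 : QuasiSeparated a.left := MorphismProperty.of_isPullback h'.flip h2
  exact ⟨(quasiCompact_iff_compactSpace a.left).1 h3,
    (quasiSeparated_iff_quasiSeparatedSpace a.left).1 h4⟩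

theorem hasFiniteWidePullbacks : HasFiniteWidePullbacks X.ProEt := inferInstance

/-- sections of an abelian sheaf on a finite disjoint union -/
theorem bijective_sigma_ab {n : ℕ} (W : Fin n → X.ProEt) (F : ProEtS.AbP X) :
    Function.Bijective (fun (s : F.obj.obj (op (sigmaObj W))) (i : Fin n) =>
      F.obj.map (sigmaι W i).op s) := by
  refine bijective_sigma W (F := F.obj ⋙ forget AddCommGrpCat.{u + 1}) ?_
  exact ((isSheaf_iff_isSheaf_of_type _ _).1
    (GrothendieckTopology.HasSheafCompose.isSheaf (J := Scheme.ProEt.topology X)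
      (F := forget AddCommGrpCat.{u + 1}) F.obj F.property))

/-- Quasi-compact quasi-separated objects form a finitary basis of the small pro-etale site. -/
theorem finBasis (X : Scheme.{u}) :
    FinBasis.{u + 1} (Scheme.ProEt.topology X) Qcqs (@QCov X) where
  mem V U f hf := by
    obtain ⟨⟨_, _⟩, ⟨_, _⟩, _⟩ := hf
    exact generate_singleton_mem f
  nerve_mem V U f hf n := NerveMem.nerve_mem f Qcqs (fun e h => h.of_iso e) hf.1
    (fun a b c h hW => Qcqs.pullback h hf.1 hf.2.1 hW) n
  exists_cov U hU S hS := by
    obtain ⟨_, _⟩ := hU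
    obtain ⟨n, W, g, haff, hg, hcov⟩ := exists_finite_affine hS
    refine ⟨sigmaObj W, sigmaDesc W g, ⟨Qcqs.of_isAffine (isAffine_sigmaObj W haff),
      ⟨inferInstance, inferInstance⟩, surjective_sigmaDesc W g hcov⟩, n, W, sigmaι W, ?_, ?_⟩
    · intro i
      rw [sigmaι_desc]
      exact hg i
    · intro F
      exact bijective_sigma_ab W F

end Groth.Agent.Proet.QcqsBasis
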