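import Groth.Agent.Proet.Eps228D
import Groth.Agent.Proet.BcPLim
import Mathlib.CategoryTheory.Limits.Connected

/-!
# Čech exactness of `eps⁻¹ A` for limits of quasi-compact quasi-separated étale arrows

* `exists_factor`, `exists_eq`: qcqs versions of the lemmas of `EpsPres`.
* `cechExact_of_levels`.
-/

set_option autoImplicit false
universe u

open CategoryTheory CategoryTheory.Limits AlgebraicGeometry Opposite Simplicial

namespace Groth.Agent.Proet.QcqsCech

set_option backward.isDefEq.respectTransparency.types false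

open CechEl EpsB0 EpsPres CechAcyclic Eps228

variable {X : Scheme.{u}}

section Factor

variable {K : Type u} [SmallCategory K] (E : K ⥤ X.ProEt) (c : Cone E)
  (hc : IsLimit ((Φs X).mapCone c))
  (hqc : ∀ k, CompactSpace (E.obj k).left) (hqs : ∀ k, QuasiSeparatedSpace (E.obj k).left)
  (haff : ∀ ⦃k l : K⦄ (a : k ⟶ l), IsAffineHom (E.map a).left) (U : X.ProEt)

include hc hqc hqs haff in
/-- Morphisms from a cofiltered limit of qcqs objects to an object locally of finite presentation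
over `X` factor through a stage. -/
theorem exists_factor [IsCofiltered K] [LocallyOfFinitePresentation U.hom] (a : c.pt ⟶ U) :
    ∃ (k : K) (b : E.obj k ⟶ U), c.π.app k ≫ b = a := by
  have h1 (i : K) : CompactSpace ((E ⋙ Scheme.ProEt.forget X ⋙ Over.forget X).obj i) := hqc i
  have h1' (i : K) : QuasiSeparatedSpace ((E ⋙ Scheme.ProEt.forget X ⋙ Over.forget X).obj i) :=
    hqs i
  have h2 {i j : K} (f : i ⟶ j) :
    IsAffineHom ((E ⋙ Scheme.ProEt.forget X ⋙ Over.forget X).map f) := haff f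
  obtain ⟨k, g, hg1, hg2⟩ := Scheme.exists_π_app_comp_eq_of_locallyOfFinitePresentation
    (E ⋙ Scheme.ProEt.forget X ⋙ Over.forget X) (structMap E) U.hom _ hc a.left (by
      ext k : 2
      have h3 : a.left ≫ U.hom = c.pt.hom := Over.w a.hom
      have h4 : (c.π.app k).left ≫ (E.obj k).hom = c.pt.hom := Over.w (c.π.app k).hom
      exact h4.trans h3.symm)
  refine ⟨k, MorphismProperty.Over.homMk g hg2, ?_⟩
  apply MorphismProperty.Over.Hom.ext
  exact hg1

include hc hqc haff in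
/-- Two morphisms from a stage which agree on the limit agree at a later stage. -/
theorem exists_eq [IsCofiltered K] [LocallyOfFiniteType U.hom] (k : K) (a b : E.obj k ⟶ U)
    (hab : c.π.app k ≫ a = c.π.app k ≫ b) :
    ∃ (l : K) (t : l ⟶ k), E.map t ≫ a = E.map t ≫ b := by
  have h1 (i : K) : CompactSpace ((E ⋙ Scheme.ProEt.forget X ⋙ Over.forget X).obj i) := hqc i
  have h2 {i j : K} (f : i ⟶ j) :
    IsAffineHom ((E ⋙ Scheme.ProEt.forget X ⋙ Over.forget X).map f) := haff f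
  have h3 : a.left ≫ U.hom = (E.obj k).hom := Over.w a.hom
  have h4 : b.left ≫ U.hom = (E.obj k).hom := Over.w b.hom
  obtain ⟨l, t, ht⟩ := Scheme.exists_hom_comp_eq_comp_of_locallyOfFiniteType
    (E ⋙ Scheme.ProEt.forget X ⋙ Over.forget X) (structMap E) U.hom _ hc a.left b.left
    h3.symm h4.symm (congrArg (fun t => t.left) hab)
  refine ⟨l, t, ?_⟩
  apply MorphismProperty.Over.Hom.ext
  exact ht

end Factor

section Levels

variable {W V : X.ProEt} (f : W ⟶ V) {I : Type u} [SmallCategory I]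
  {F G : I ⥤ X.Etale} (β : F ⟶ G)
  (s : (Functor.const I).obj W ⟶ F ⋙ ProEtS.eps X)
  (t : (Functor.const I).obj V ⟶ G ⋙ ProEtS.eps X)
  (hst : ∀ i, f ≫ t.app i = s.app i ≫ (ProEtS.eps X).map (β.app i))
  [IsCofiltered I]
  (hqc : ∀ n i, CompactSpace ((N β n).obj i).left)
  (hqs : ∀ n i, QuasiSeparatedSpace ((N β n).obj i).left)
  (haff : ∀ n ⦃i j : I⦄ (a : i ⟶ j), IsAffineHom ((N β n).map a).left)
  (hs : IsLimit ((Φs X).mapCone (Cone.mk W s)))
  (ht : IsLimit ((Φs X).mapCone (Cone.mk V t)))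

include hqc hqs haff hs ht in
theorem factor (n : ℕ) (U : X.Etale) (a : (nerve f) _⦋n⦌ ⟶ (ProEtS.eps X).obj U) :
    ∃ (i : I) (b : (nerve (β.app i)) _⦋n⦌ ⟶ U),
      τapp f β s t hst n i ≫ (ProEtS.eps X).map b = a := by
  obtain ⟨hl⟩ := isLimit_τ f β s t hst n hs ht
  have := locallyOfFinitePresentation_eps U
  obtain ⟨i, b, hb⟩ := exists_factor (N β n ⋙ ProEtS.eps X) (Cone.mk _ (τ f β s t hst n)) hl
    (hqc n) (hqs n) (haff n) ((ProEtS.eps X).obj U) a
  refine ⟨i, (epsFF X).preimage b, ?_⟩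
  rw [(epsFF X).map_preimage]
  exact hb

include hqc haff hs ht in
theorem eqn (n : ℕ) (U : X.Etale) (i : I) (a b : (nerve (β.app i)) _⦋n⦌ ⟶ U)
    (h : τapp f β s t hst n i ≫ (ProEtS.eps X).map a =
      τapp f β s t hst n i ≫ (ProEtS.eps X).map b) :
    ∃ (l : I) (r : l ⟶ i), nMap β n r ≫ a = nMap β n r ≫ b := by
  obtain ⟨hl⟩ := isLimit_τ f β s t hst n hs ht
  have := locallyOfFinitePresentation_eps U
  obtain ⟨l, r, hr⟩ := exists_eq (N β n ⋙ ProEtS.eps X) (Cone.mk _ (τ f β s t hst n)) hl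
    (hqc n) (haff n) ((ProEtS.eps X).obj U) i ((ProEtS.eps X).map a)
    ((ProEtS.eps X).map b) h
  refine ⟨l, r, (epsFF X).map_injective ?_⟩
  rw [(ProEtS.eps X).map_comp, (ProEtS.eps X).map_comp]
  exact hr

variable [ProEtS.EpsCont X] {A : EtCoh.Ab X}

include hqc hqs haff hs ht in
theorem die (n : ℕ) (i : I) (c : A.obj.obj (op ((nerve (β.app i)) _⦋n⦌)))
    (hc : br A (τapp f β s t hst n i) c = 0) :
    ∃ (m : I) (a : m ⟶ i), A.obj.map (nMap β n a).op c = 0 := by
  obtain ⟨U', k, g', hg', hk⟩ := repInj _ c hc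
  obtain ⟨j, b, rfl⟩ := factor f β s t hst hqc hqs haff hs ht n U' g'
  let l := IsCofiltered.min i j
  obtain ⟨m, r, hr⟩ := eqn f β s t hst hqc haff hs ht n _ l
    (nMap β n (IsCofiltered.minToRight i j) ≫ b ≫ k) (nMap β n (IsCofiltered.minToLeft i j)) (by
      rw [(ProEtS.eps X).map_comp, (ProEtS.eps X).map_comp, ← Category.assoc, τapp_map,
        ← Category.assoc, hg', τapp_map])
  refine ⟨m, r ≫ IsCofiltered.minToLeft i j, ?_⟩
  have h1 : nMap β n (r ≫ IsCofiltered.minToLeft i j) =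
      nMap β n r ≫ nMap β n (IsCofiltered.minToLeft i j) := (N β n).map_comp _ _
  rw [h1, ← hr, op_comp, A.obj.map_comp, ConcreteCategory.comp_apply, op_comp, A.obj.map_comp,
    ConcreteCategory.comp_apply, op_comp, A.obj.map_comp, ConcreteCategory.comp_apply, hk,
    map_zero, map_zero, map_zero]

include hst hqc hqs haff hs ht in
/-- **Čech exactness** of `eps⁻¹ A` along a limit of étale arrows with qcqs nerve levels. -/
theorem cechExact_of_levels
    (hsurj : ∀ (n : ℕ) (y : ((ProEtS.epsPull X).obj A).obj.obj (op ((nerve f) _⦋n⦌))),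
      ∃ (U : X.Etale) (g : (nerve f) _⦋n⦌ ⟶ (ProEtS.eps X).obj U) (x : A.obj.obj (op U)),
        br A g x = y)
    (hA : ∀ {U U' : X.Etale} (b : U' ⟶ U), CechExact (nerve b) A.obj) :
    CechExact (nerve f) ((ProEtS.epsPull X).obj A).obj := by
  intro n z hz
  obtain ⟨U, g, x, rfl⟩ := hsurj (n + 1) z
  obtain ⟨i, b, rfl⟩ := factor f β s t hst hqc hqs haff hs ht (n + 1) U g
  rw [br_comp] at hz ⊢
  rw [cd_br] at hz
  obtain ⟨m, a, ha⟩ := die f β s t hst hqc hqs haff hs ht _ i _ hz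
  rw [← cd_nMap] at ha
  obtain ⟨y, hy⟩ := hA _ n _ ha
  refine ⟨br A (τapp f β s t hst n m) y, ?_⟩
  rw [cd_br, hy, ← br_comp, τapp_map]

end Levels

end Groth.Agent.Proet.QcqsCech
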