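import Groth.Agent.Proet.BCLim229
import Groth.Agent.Proet.EpsSec229
import Groth.Agent.Proet.QcqsAcyc

/-!
# Sections of `eps⁻¹ F` over cofiltered limits of étale schemes

Let `T = lim D j` in `X.ProEt`, with `D j` qcqs étale over `X` and affine transition maps.

* `zero_limit`: `br F (π j) s = br F (π j) t` implies that `s` and `t` agree at a later stage.
* `rep_of_cover`: a section over `T` which is of the form `br F g x` over `T ×_{D j} W`, `W ⟶ D j` an étale
  surjection, comes from a stage.
-/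

set_option autoImplicit false
universe u

open CategoryTheory CategoryTheory.Limits AlgebraicGeometry Opposite

namespace Groth.Agent.Proet.RepLim229

set_option backward.isDefEq.respectTransparency.types false

open RpushEps EpsSec229 EtpbcA.EqLocus

variable {X : Scheme.{u}} [ProEtS.EpsCont X] (F : EtCoh.Ab X)

/-- Sections of `eps⁻¹ F` are determined on a quasi-compact surjective cover. -/
theorem ext_of_cover {P T : X.ProEt} (p : P ⟶ T) [Surjective p.left] [QuasiCompact p.left]
    (y z : ((ProEtS.epsPull X).obj F).obj.obj (op T))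
    (h : ((ProEtS.epsPull X).obj F).obj.map p.op y = ((ProEtS.epsPull X).obj F).obj.map p.op z) :
    y = z := by
  refine ((ProEtS.epsPull X).obj F).isSeparated T _ (WCBasic.generate_singleton_mem p) y z ?_
  rintro T' _ ⟨Z, k, m, ⟨⟩, rfl⟩
  have e (w : ((ProEtS.epsPull X).obj F).obj.obj (op T)) :
      ((ProEtS.epsPull X).obj F).obj.map (k ≫ p).op w =
        ((ProEtS.epsPull X).obj F).obj.map k.op (((ProEtS.epsPull X).obj F).obj.map p.op w) :=
    ConcreteCategory.congr_hom (((ProEtS.epsPull X).obj F).obj.map_comp p.op k.op) w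
  exact (e y).trans ((congrArg _ h).trans (e z).symm)

variable {J : Type u} [SmallCategory J] [IsCofiltered J] (D : J ⥤ X.Etale) {T : X.ProEt}
  (π : (Functor.const J).obj T ⟶ D ⋙ ProEtS.eps X)
  (hπ : IsLimit ((Scheme.ProEt.forget X ⋙ Over.forget X).mapCone (Cone.mk T π)))
  (hc : ∀ j, CompactSpace (D.obj j).left)
  (haff : ∀ {i j : J} (f : i ⟶ j), IsAffineHom (D.map f).left)

/-- the projections -/
noncomputable abbrev pr (j : J) : T ⟶ (ProEtS.eps X).obj (D.obj j) := π.app j

omit [ProEtS.EpsCont X] [IsCofiltered J] in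
theorem pr_w {i j : J} (f : i ⟶ j) : pr D π i ≫ (ProEtS.eps X).map (D.map f) = pr D π j :=
  (π.naturality f).symm.trans (Category.id_comp _)

/-- the diagram of schemes -/
noncomputable abbrev DS : J ⥤ Scheme.{u} :=
  (D ⋙ ProEtS.eps X) ⋙ Scheme.ProEt.forget X ⋙ Over.forget X

include hπ hc haff in
theorem eq_limit (j : J) (s t : EtCoh.sect F (D.obj j))
    (h : br F (pr D π j) s = br F (pr D π j) t) :
    ∃ (k : J) (f : k ⟶ j), F.obj.map (D.map f).op s = F.obj.map (D.map f).op t := by
  have h1 : ∀ {i j : J} (f : i ⟶ j), IsAffineHom ((DS D).map f) := fun f => haff f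
  have h2 := (br_eq_iff F (pr D π j) s t).1 h
  have h3 : CompactSpace ((D.obj j).left : Scheme.{u}) := hc j
  obtain ⟨k, f, hf⟩ := BCLim229.exists_range_subset (DS D) _ hπ (j := j) (Q := (D.obj j).left)
    (𝟙 _) (eqLocus (F := F) s t) (a := (pr D π j).left) (b := 𝟙 _)
    (IsPullback.id_vert (pr D π j).left) h2
  refine ⟨k, f, (map_eq_iff (D.map f) s t).2 ?_⟩
  exact hf (a' := (D.map f).left) (b' := 𝟙 _)
    ((Category.comp_id _).trans (Category.id_comp _).symm)

include hπ hc haff in
/-- Descent of a section from `T ×_{D j} W` to a stage. -/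
theorem rep_of_cover (hqs : ∀ j, QuasiSeparatedSpace (D.obj j).left)
    (y : ((ProEtS.epsPull X).obj F).obj.obj (op T)) {j : J} {W : X.Etale} (w : W ⟶ D.obj j)
    [CompactSpace W.left] [QuasiSeparatedSpace W.left] [Surjective w.left]
    {P : X.ProEt} {p : P ⟶ T} {r : P ⟶ (ProEtS.eps X).obj W}
    (sq : IsPullback p r (pr D π j) ((ProEtS.eps X).map w))
    {U : X.Etale} (g : P ⟶ (ProEtS.eps X).obj U) (x : EtCoh.sect F U)
    (hy : ((ProEtS.epsPull X).obj F).obj.map p.op y = br F g x) :
    ∃ (k : J) (s : EtCoh.sect F (D.obj k)), y = br F (pr D π k) s := by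
  have := Cont.preservesFiniteLimits_eps X
  have h1 : ∀ {i j : J} (f : i ⟶ j), IsAffineHom ((DS D).map f) := fun f => haff f
  have hU : LocallyOfFinitePresentation U.hom := by
    have : Etale U.hom := U.prop
    infer_instance
  have hsq := EpsB0.isPullback_left sq
  -- properties of `p`
  have hqj : QuasiSeparatedSpace (D.obj j).left := hqs j
  have hwq : QuasiCompact w.left := inferInstance
  have hwq' : QuasiCompact ((ProEtS.eps X).map w).left := hwq
  have hws' : Surjective ((ProEtS.eps X).map w).left := inferInstanceAs (Surjective w.left)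
  have hp1 : Surjective p.left := MorphismProperty.of_isPullback hsq.flip hws'
  have hp2 : QuasiCompact p.left := MorphismProperty.of_isPullback hsq.flip hwq'
  -- step 1
  have e1 : g.left ≫ U.hom = P.hom := Over.w g.hom
  have e2 : r.left ≫ W.hom = P.hom := Over.w r.hom
  obtain ⟨k, t, H⟩ := BCLim229.exists_factor_bc (DS D) _ hπ (j := j) (Q := W.left) w.left
    W.hom U.hom (a := r.left) (b := p.left) hsq.flip g.left (e1.trans e2.symm)
  let Pk : X.Etale := pullback w (D.map t)
  let a : Pk ⟶ W := pullback.fst w (D.map t)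
  let b : Pk ⟶ D.obj k := pullback.snd w (D.map t)
  have hPk : IsPullback a b w (D.map t) := IsPullback.of_hasPullback _ _
  have hPkε := hPk.map (ProEtS.eps X)
  obtain ⟨n, hn1, hn2⟩ := H (QcqsAcyc.isPullback_left_et hPk)
  have hwa : a.left ≫ W.hom = Pk.hom := hom_w a
  let n' : Pk ⟶ U := homMk n (hn1.trans hwa)
  let rk : P ⟶ (ProEtS.eps X).obj Pk := hPkε.lift r (p ≫ pr D π k) (by
    rw [Category.assoc, pr_w, sq.w])
  have hrk1 : rk ≫ (ProEtS.eps X).map a = r := hPkε.lift_fst _ _ _
  have hrk2 : rk ≫ (ProEtS.eps X).map b = p ≫ pr D π k := hPkε.lift_snd _ _ _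
  have hg : rk ≫ (ProEtS.eps X).map n' = g := by
    apply MorphismProperty.Over.Hom.ext
    exact hn2 rk.left (congrArg (fun z => z.left) hrk1) (congrArg (fun z => z.left) hrk2)
  obtain ⟨x', hy1⟩ : ∃ x' : EtCoh.sect F Pk,
      ((ProEtS.epsPull X).obj F).obj.map p.op y = br F rk x' := by
    refine ⟨F.obj.map n'.op x, ?_⟩
    rw [hy, ← hg]
    exact br_comp_map F rk n' x
  -- step 2
  let Qk : X.Etale := pullback b b
  let q1 : Qk ⟶ Pk := pullback.fst b b
  let q2 : Qk ⟶ Pk := pullback.snd b b
  have hQk : IsPullback q1 q2 b b := IsPullback.of_hasPullback _ _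
  let O : Qk.left.Opens := eqLocus (F := F) (F.obj.map q1.op x') (F.obj.map q2.op x')
  let Q : X.ProEt := pullback ((ProEtS.eps X).map (q1 ≫ b)) (pr D π k)
  let e : Q ⟶ (ProEtS.eps X).obj Qk := pullback.fst _ _
  let d : Q ⟶ T := pullback.snd _ _
  have hQ : IsPullback e d ((ProEtS.eps X).map (q1 ≫ b)) (pr D π k) := IsPullback.of_hasPullback _ _
  have key : ∀ (qi : Qk ⟶ Pk), q1 ≫ b = qi ≫ b → br F e (F.obj.map qi.op x') =
      ((ProEtS.epsPull X).obj F).obj.map d.op y := by
    intro qi hqi
    have hc1 : d ≫ pr D π j = (e ≫ (ProEtS.eps X).map (qi ≫ a)) ≫ (ProEtS.eps X).map w := by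
      rw [Category.assoc, ← Functor.map_comp, Category.assoc, hPk.w, ← Category.assoc, ← hqi,
        ← pr_w D π t, ← Category.assoc, ← hQ.w, Category.assoc, ← Functor.map_comp]
    let ui : Q ⟶ P := sq.lift d (e ≫ (ProEtS.eps X).map (qi ≫ a)) hc1
    have hu1 : ui ≫ p = d := sq.lift_fst _ _ _
    have hu2 : ui ≫ r = e ≫ (ProEtS.eps X).map (qi ≫ a) := sq.lift_snd _ _ _
    have hu3 : ui ≫ rk = e ≫ (ProEtS.eps X).map qi := by
      apply hPkε.hom_ext
      · rw [Category.assoc, hrk1, hu2, Category.assoc, ← Functor.map_comp]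
      · rw [Category.assoc, hrk2, ← Category.assoc, hu1, Category.assoc, ← Functor.map_comp,
          ← hqi, hQ.w]
    rw [← br_comp_map, ← hu3, ← map_br, ← hy1, ← hu1]
    exact (ConcreteCategory.congr_hom (((ProEtS.epsPull X).obj F).obj.map_comp p.op ui.op) y).symm
  have hO : Set.range e.left ⊆ (O : Set Qk.left) := by
    refine (br_eq_iff F e _ _).1 ?_
    rw [key q1 rfl, key q2 hQk.w]
  -- step 3
  have hPkc : CompactSpace Pk.left := by
    have h0 : IsAffineHom (D.map t).left := haff t
    have h2 : IsAffineHom a.left :=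
      MorphismProperty.of_isPullback (QcqsAcyc.isPullback_left_et hPk).flip h0
    exact QuasiCompact.compactSpace_of_compactSpace a.left
  have hqk : QuasiSeparatedSpace (D.obj k).left := hqs k
  have hbq : QuasiCompact b.left := inferInstance
  have hbs : Surjective b.left :=
    MorphismProperty.of_isPullback (QcqsAcyc.isPullback_left_et hPk) (inferInstanceAs (Surjective w.left))
  have hQkc : CompactSpace Qk.left := by
    have h2 : QuasiCompact q1.left :=
      MorphismProperty.of_isPullback (QcqsAcyc.isPullback_left_et hQk).flip hbq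
    exact QuasiCompact.compactSpace_of_compactSpace q1.left
  obtain ⟨l, t', H'⟩ := BCLim229.exists_range_subset (DS D) _ hπ (j := k) (Q := Qk.left)
    (q1 ≫ b).left O (a := e.left) (b := d.left) (EpsB0.isPullback_left hQ) hO
  -- step 4
  let Pl : X.Etale := pullback b (D.map t')
  let c : Pl ⟶ Pk := pullback.fst b (D.map t')
  let dl : Pl ⟶ D.obj l := pullback.snd b (D.map t')
  have hPl : IsPullback c dl b (D.map t') := IsPullback.of_hasPullback _ _
  have hPlε := hPl.map (ProEtS.eps X)
  have hdl : Surjective dl.left :=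
    MorphismProperty.of_isPullback (QcqsAcyc.isPullback_left_et hPl) hbs
  obtain ⟨s, hs⟩ := exists_glue F (U := D.obj l) (ι := Unit) (fun _ => Pl) (fun _ => dl)
    (fun z => ⟨(), hdl.surj z⟩) (fun _ => F.obj.map c.op x') (by
      intro _ _ Z α β hαβ
      have hz : (α ≫ c) ≫ b = (β ≫ c) ≫ b := by
        rw [Category.assoc, Category.assoc, hPl.w, ← Category.assoc, hαβ, Category.assoc]
      let z : Z ⟶ Qk := hQk.lift (α ≫ c) (β ≫ c) hz
      have hz1 : z ≫ q1 = α ≫ c := hQk.lift_fst _ _ _
      have hz2 : z ≫ q2 = β ≫ c := hQk.lift_snd _ _ _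
      have hz3 : F.obj.map z.op (F.obj.map q1.op x') = F.obj.map z.op (F.obj.map q2.op x') := by
        rw [map_eq_iff]
        refine H' (a' := z.left) (b' := (α ≫ dl).left) ?_
        have hz4 : z ≫ (q1 ≫ b) = (α ≫ dl) ≫ D.map t' := by
          rw [← Category.assoc, hz1, Category.assoc, hPl.w, Category.assoc]
        exact congrArg (fun z => z.left) hz4
      rw [← EtpbcA.EqLocus.map_comp, ← EtpbcA.EqLocus.map_comp, hz1, hz2,
        EtpbcA.EqLocus.map_comp, EtpbcA.EqLocus.map_comp] at hz3
      exact hz3)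
  -- step 5
  refine ⟨l, s, ext_of_cover F p _ _ ?_⟩
  rw [hy1, map_br]
  let rl : P ⟶ (ProEtS.eps X).obj Pl := hPlε.lift rk (p ≫ pr D π l) (by
    rw [Category.assoc, pr_w, hrk2])
  have hrl1 : rl ≫ (ProEtS.eps X).map c = rk := hPlε.lift_fst _ _ _
  have hrl2 : rl ≫ (ProEtS.eps X).map dl = p ≫ pr D π l := hPlε.lift_snd _ _ _
  rw [← hrl2, br_comp_map, hs (), ← br_comp_map, hrl1]

end Groth.Agent.Proet.RepLim229
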