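import Groth.Agent.Proet.Cont
import Mathlib.CategoryTheory.Adjunction.Triple
import Mathlib.CategoryTheory.MorphismProperty.OverAdjunction

/-!
# The adjoint triple `j_! ⊣ j⁻¹ ⊣ j_*` for weakly etale `j`

* `compBcAdj j : compP j ⊣ bcP j`.
* `restrPushAdj j : restrP j ⊣ pushP j`, `pullIsoRestr j : pullP j ≅ restrP j`.
* for a monomorphism `j`: `pushP j` and `extZeroP j` are fully faithful.
-/

set_option autoImplicit false
universe u

open CategoryTheory CategoryTheory.Limits AlgebraicGeometry Opposite

namespace Groth.Agent.Proet.RestrPush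

set_option backward.isDefEq.respectTransparency.types false in
/-- `compP j ⊣ bcP j`. -/
noncomputable def compBcAdj {U X : Scheme.{u}} (j : U ⟶ X) [hj : WeaklyEtale j] :
    ProEtS.compP j ⊣ ProEtS.bcP j :=
  MorphismProperty.Over.mapPullbackAdj (@WeaklyEtale) ⊤ j hj trivial

set_option backward.isDefEq.respectTransparency.types false in
/-- `compP j` is faithful. -/
instance faithful_compP {U X : Scheme.{u}} (j : U ⟶ X) [hj : WeaklyEtale j] :
    (ProEtS.compP j).Faithful where
  map_injective {_ _} _ _ h :=
    MorphismProperty.Over.Hom.ext (congrArg (fun k => k.left) h :)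

set_option backward.isDefEq.respectTransparency.types false in
/-- `compP j` is full when `j` is a monomorphism. -/
instance full_compP {U X : Scheme.{u}} (j : U ⟶ X) [hj : WeaklyEtale j] [Mono j] :
    (ProEtS.compP j).Full where
  map_surjective {V W} g := by
    have e : ((g.left : V.left ⟶ W.left) ≫ W.hom) ≫ j = V.hom ≫ j := by
      rw [Category.assoc]; exact MorphismProperty.Over.w g
    exact ⟨MorphismProperty.Over.homMk g.left ((cancel_mono j).1 e), MorphismProperty.Over.Hom.ext rfl⟩

set_option backward.isDefEq.respectTransparency.types false in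
/-- `j⁻¹ ⊣ j_*` with `j⁻¹` the restriction, on sheaves of abelian groups. -/
noncomputable def restrPushAdj {U X : Scheme.{u}} (j : U ⟶ X) [hj : WeaklyEtale j]
    [ProEtS.JPCont j] [ProEtS.PCont j] : ProEtS.restrP j ⊣ ProEtS.pushP j :=
  (compBcAdj j).sheafPushforwardContinuous _ _

/-- `pullP j ≅ restrP j` for weakly etale `j`. -/
noncomputable def pullIsoRestr {U X : Scheme.{u}} (j : U ⟶ X) [hj : WeaklyEtale j]
    [ProEtS.JPCont j] [ProEtS.PCont j] : ProEtS.pullP j ≅ ProEtS.restrP j :=
  (ProEtS.pullPushAdjP j).leftAdjointUniq (restrPushAdj j)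

set_option backward.isDefEq.respectTransparency.types false in
/-- The counit `j⁻¹ j_* → id` is an isomorphism for a monomorphism `j`. -/
instance isIso_counit_restrPushAdj {U X : Scheme.{u}} (j : U ⟶ X) [hj : WeaklyEtale j] [Mono j]
    [ProEtS.JPCont j] [ProEtS.PCont j] : IsIso (restrPushAdj j).counit := by
  have hunit : IsIso (compBcAdj j).unit := inferInstance
  have hunit' : ∀ V, IsIso ((compBcAdj j).unit.app V) := fun V => inferInstance
  have : ∀ G, IsIso ((restrPushAdj j).counit.app G) := by
    intro G
    have h1 : IsIso ((sheafToPresheaf _ _).map ((restrPushAdj j).counit.app G)) := by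
      rw [NatTrans.isIso_iff_isIso_app]
      intro V
      have h2 : ((sheafToPresheaf _ _).map ((restrPushAdj j).counit.app G)).app V =
          G.obj.map ((compBcAdj j).unit.app V.unop).op := rfl
      rw [h2]
      have h3 := hunit' V.unop
      have h4 : IsIso ((compBcAdj j).unit.app V.unop).op := isIso_op _
      exact Functor.map_isIso G.obj _
    exact isIso_of_fully_faithful (sheafToPresheaf _ _) _
  exact NatIso.isIso_of_isIso_app _

instance full_pushP {U X : Scheme.{u}} (j : U ⟶ X) [hj : WeaklyEtale j] [Mono j]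
    [ProEtS.JPCont j] [ProEtS.PCont j] : (ProEtS.pushP j).Full :=
  (restrPushAdj j).fullyFaithfulROfIsIsoCounit.full

instance faithful_pushP {U X : Scheme.{u}} (j : U ⟶ X) [hj : WeaklyEtale j] [Mono j]
    [ProEtS.JPCont j] [ProEtS.PCont j] : (ProEtS.pushP j).Faithful :=
  (restrPushAdj j).fullyFaithfulROfIsIsoCounit.faithful

/-- The counit `j⁻¹ j_* → id` is an isomorphism. -/
instance isIso_counit_pullPush {U X : Scheme.{u}} (j : U ⟶ X) [hj : WeaklyEtale j] [Mono j]
    [ProEtS.JPCont j] [ProEtS.PCont j] : IsIso (ProEtS.pullPushAdjP j).counit :=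
  inferInstance

/-- The adjoint triple. -/
noncomputable def triple {U X : Scheme.{u}} (j : U ⟶ X) [hj : WeaklyEtale j]
    [ProEtS.JPCont j] [ProEtS.PCont j] :
    Adjunction.Triple (ProEtS.extZeroP j) (ProEtS.restrP j) (ProEtS.pushP j) where
  adj₁ := ProEtS.extZeroPAdj j
  adj₂ := restrPushAdj j

/-- The unit `id → j⁻¹ j_!` is an isomorphism. -/
theorem isIso_unit_extZeroPAdj {U X : Scheme.{u}} (j : U ⟶ X) [hj : WeaklyEtale j] [Mono j]
    [ProEtS.JPCont j] : IsIso (ProEtS.extZeroPAdj j).unit := by
  have := Cont.pCont j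
  exact (triple j).isIso_unit_iff_isIso_counit.2 (isIso_counit_restrPushAdj j)

end Groth.Agent.Proet.RestrPush
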