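import Groth.Agent.Proet.SuppZ
import Groth.Agent.Proet.RestrPush

/-!
# `i⁻¹ j_! = 0`, `j⁻¹ i_* = 0`, joint conservativity of `(i⁻¹, j⁻¹)`
-/

set_option autoImplicit false
universe u

open CategoryTheory CategoryTheory.Limits AlgebraicGeometry Opposite

namespace Groth.Agent.Proet.SuppZ2

set_option backward.isDefEq.respectTransparency.types false

/-- Sections over an empty object. -/
theorem subsingleton_of_isEmpty {X : Scheme.{u}} (F : ProEtS.AbP X) (T : X.ProEt) (hT : IsEmpty T.left) :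
    Subsingleton (ProEtS.sectP F T) := by
  constructor
  intro a b
  refine F.isSeparated T ⊥ (Scheme.ProEt.bot_mem_topology T) a b ?_
  intro Y f hf
  exact hf.elim

/-- `j⁻¹ i_* H` has zero sections. -/
theorem isZero_restr_push {U X Z : Scheme.{u}} (j : U ⟶ X) [WeaklyEtale j] (i : Z ⟶ X)
    (hUZ : Disjoint (Set.range j) (Set.range i)) [ProEtS.JPCont j] [ProEtS.PCont i]
    (H : ProEtS.AbP Z) : IsZero ((ProEtS.restrP j).obj ((ProEtS.pushP i).obj H)) := by
  rw [IsZero.iff_id_eq_zero]
  apply Sheaf.hom_ext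
  apply NatTrans.ext
  funext V
  have : Subsingleton (((ProEtS.restrP j).obj ((ProEtS.pushP i).obj H)).obj.obj V) := by
    have hE : IsEmpty ((ProEtS.bcP i).obj ((ProEtS.compP j).obj V.unop)).left := by
      have : IsEmpty ↥(pullback (V.unop.hom ≫ j) i) := by
        rw [Scheme.isEmpty_pullback_iff]
        refine Set.disjoint_of_subset_left ?_ hUZ
        rintro _ ⟨x, rfl⟩
        exact ⟨V.unop.hom x, rfl⟩
      exact this
    exact subsingleton_of_isEmpty H _ hE
  ext x
  exact Subsingleton.elim _ _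

/-- `i⁻¹ j_! F = 0` if `i` and `j` have disjoint images. -/
theorem isZero_pull_extZero {U X Z : Scheme.{u}} (j : U ⟶ X) [WeaklyEtale j] (i : Z ⟶ X)
    (hUZ : Disjoint (Set.range j) (Set.range i)) [ProEtS.JPCont j] [ProEtS.PCont i]
    (F : ProEtS.AbP U) : IsZero ((ProEtS.pullP i).obj ((ProEtS.extZeroP j).obj F)) := by
  rw [IsZero.iff_id_eq_zero]
  apply ((ProEtS.pullPushAdjP i).homEquiv _ _).injective
  apply ((ProEtS.extZeroPAdj j).homEquiv _ _).injective
  exact (isZero_restr_push j i hUZ _).eq_of_tgt _ _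

/-- The sections of `G` over an affine `V` all of whose points specialize into `Z` vanish when
`i⁻¹ G = 0`. -/
theorem eq_zero_of_pull_isZero {X Z : Scheme.{u}} (i : Z ⟶ X) [IsClosedImmersion i] [ProEtS.PCont i]
    (G : ProEtS.AbP X) (hZ : IsZero ((ProEtS.pullP i).obj G)) (V : X.ProEt) [hVa : IsAffine V.left]
    (hV : ∀ v : ↥V.left, ∃ z : ↥V.left, V.hom z ∈ Set.range i ∧ v ⤳ z)
    (s : ProEtS.sectP G V) : s = 0 := by
  have hZ2 : IsZero ((ProEtS.pushP i).obj ((ProEtS.pullP i).obj G)) := (ProEtS.pushP i).map_isZero hZ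
  have hs : ((ProEtS.pullPushAdjP i).unit.app G).hom.app (op V) s = 0 := by
    have h0 : (ProEtS.pullPushAdjP i).unit.app G = 0 := hZ2.eq_of_tgt _ _
    rw [h0]
    rfl
  have hcl : IsClosedImmersion (pullback.fst V.hom i) := inferInstance
  have hVc : CompactSpace ↥((𝟭 Scheme).obj V.left) := by
    have : CompactSpace ↥V.left := inferInstance
    exact this
  have hc : CompactSpace ((ProEtS.bcP i).obj V).left := by
    have : CompactSpace ↥(pullback V.hom i) :=
      (pullback.fst V.hom i).isClosedEmbedding.compactSpace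
    exact this
  obtain ⟨n, Q, g, hQ, hsurj, h0⟩ := SuppZ.exists_cover_of_unit_eq_zero i G V s hs
  have hqc : ∀ k, QuasiCompact (g k).left := fun k => by
    have := hQ k
    have : QuasiSeparatedSpace ↥V.left := inferInstance
    exact quasiCompact_of_compactSpace (g k).left
  have hcov := CoverFin.sieve_mem_of_finite Q g hqc (by
    intro v
    obtain ⟨z, hz, hvz⟩ := hV v
    obtain ⟨k, q, rfl⟩ := hsurj z hz
    obtain ⟨q', hq', rfl⟩ := (Flat.generalizingMap (g k).left) hvz
    exact ⟨k, q', rfl⟩)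
  refine G.isSeparated V _ hcov s 0 ?_
  rintro T f ⟨Y, a, b, ⟨k⟩, rfl⟩
  have h1 : G.obj.map (a ≫ g k).op s = G.obj.map a.op (G.obj.map (g k).op s) :=
    ConcreteCategory.congr_hom (G.obj.map_comp (g k).op a.op) s
  rw [h1, h0 k, map_zero, map_zero]

end Groth.Agent.Proet.SuppZ2
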