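import Groth.Agent.Proet.UHRing
import Groth.Agent.Proet.EtaleCoref
import Groth.Agent.Proet.IndEtale
import Groth.Agent.Etbase.UHFinal
import Mathlib.RingTheory.Etale.Pi
import Mathlib.RingTheory.TensorProduct.Pi

/-!
# Lifting w-contractible ind-étale algebras along universal homeomorphisms

* `exists_liftable`: an étale algebra mapping to a w-contractible one factors through a liftable étale algebra.
* `exists_indEtale_lift`: `UH A B` and local descent of étale algebras; `D` ind-étale over `B` and w-contractible; then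
  `D ≅ B ⊗[A] D'` with `D'` ind-étale over `A`.
-/

set_option autoImplicit false
universe u
open TensorProduct

namespace Groth.Agent.Proet.UHLift

open Groth.Agent.Proet.UHRing Groth.Agent.Proet.FacM Groth.Agent.Proet.EtaleCoref
  Groth.Agent.Etbase.UHLocDesc

variable {A B : Type u} [CommRing A] [CommRing B] [Algebra A B]

theorem faithfullyFlat_pi_away {D ι : Type u} [CommRing D] [Finite ι] (g : ι → D)
    (hg : Ideal.span (Set.range g) = ⊤) : Module.FaithfullyFlat D (∀ i, Localization.Away (g i)) := by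
  have (i : ι) : Algebra.Etale D (Localization.Away (g i)) := .of_isLocalizationAway (g i)
  have : Module.Flat D (∀ i, Localization.Away (g i)) := inferInstance
  apply Module.FaithfullyFlat.of_comap_surjective
  intro p
  obtain ⟨i, hi⟩ : ∃ i, g i ∉ p.asIdeal := by
    by_contra! hc
    apply p.2.ne_top
    rw [eq_top_iff, ← hg, Ideal.span_le]
    rintro _ ⟨i, rfl⟩
    exact hc i
  have h1 : p ∈ Set.range (PrimeSpectrum.comap (algebraMap D (Localization.Away (g i)))) := by
    rw [PrimeSpectrum.localization_away_comap_range _ (g i)]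
    exact hi
  obtain ⟨q, hq⟩ := h1
  refine ⟨PrimeSpectrum.comap (Pi.evalRingHom _ i) q, ?_⟩
  rw [← hq, ← PrimeSpectrum.comap_comp_apply]
  rfl

theorem exists_liftable (hLD : LocDesc A B) {C D : Type u} [CommRing C] [Algebra B C] [Algebra.Etale B C]
    [CommRing D] [Algebra B D] (hD : EtPBC.IsWContractible D) (g : C →ₐ[B] D) :
    ∃ (E : Type u) (_ : CommRing E) (_ : Algebra A E) (_ : Algebra.Etale A E)
      (a : C →ₐ[B] B ⊗[A] E) (b : B ⊗[A] E →ₐ[B] D), b.comp a = g := by
  classical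
  choose f hf hdesc using fun q : PrimeSpectrum C => hLD C q.asIdeal
  have hspan : Ideal.span (Set.range f) = ⊤ := by
    by_contra hne
    obtain ⟨m, hm, hle⟩ := Ideal.exists_le_maximal _ hne
    exact hf ⟨m, hm.isPrime⟩ (hle (Ideal.subset_span ⟨_, rfl⟩))
  obtain ⟨s, hs, hs1⟩ := (Ideal.span_eq_top_iff_finite _).mp hspan
  have hdesc' : ∀ i : s, Descends A B (Localization.Away (i : C)) := by
    intro i
    obtain ⟨q, hq⟩ := hs i.2
    rw [← hq]
    exact hdesc q
  choose E i1 i2 i3 he using hdesc'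
  have e : ∀ i : s, B ⊗[A] E i ≃ₐ[B] Localization.Away (i : C) := fun i => (he i).some
  let g' : s → D := fun i => g i
  have hg' : Ideal.span (Set.range g') = ⊤ := by
    have h1 := congrArg (Ideal.map g.toRingHom) hs1
    rw [Ideal.map_span, Ideal.map_top] at h1
    rw [← h1]
    congr 1
    ext x
    simp only [Set.mem_range, Set.mem_image, Subtype.exists, g']
    constructor
    · rintro ⟨a, ha, rfl⟩
      exact ⟨a, ha, rfl⟩
    · rintro ⟨a, ha, rfl⟩
      exact ⟨a, ha, rfl⟩
  have h1 := faithfullyFlat_pi_away g' hg'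
  have (i : s) : Algebra.Etale D (Localization.Away (g' i)) := .of_isLocalizationAway (g' i)
  obtain ⟨ρ⟩ := hD (∀ i, Localization.Away (g' i)) h1 inferInstance
  let lam : ∀ i : s, Localization.Away (i : C) →ₐ[B] Localization.Away (g' i) := fun i =>
    IsLocalization.liftAlgHom (M := Submonoid.powers (i : C))
      (f := (IsScalarTower.toAlgHom B D (Localization.Away (g' i))).comp g) (fun y => by
        obtain ⟨n, hn⟩ := y.2
        have h2 : (y : C) = (i : C) ^ n := hn.symm
        rw [h2, map_pow]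
        exact (IsLocalization.Away.algebraMap_isUnit (g' i)).pow n)
  have hlam : ∀ (i : s) (c : C), lam i (algebraMap C _ c) = algebraMap D _ (g c) := fun i c =>
    IsLocalization.lift_eq _ _
  let Λ : (∀ i : s, Localization.Away (i : C)) →ₐ[B] (∀ i : s, Localization.Away (g' i)) :=
    AlgHom.pi (fun i => (lam i).comp (Pi.evalAlgHom B _ i))
  let e' : B ⊗[A] (∀ i, E i) ≃ₐ[B] (∀ i : s, Localization.Away (i : C)) :=
    (Algebra.TensorProduct.piRight A B B E).trans (AlgEquiv.piCongrRight e)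
  refine ⟨∀ i, E i, inferInstance, inferInstance, inferInstance,
    e'.symm.toAlgHom.comp (IsScalarTower.toAlgHom B C (∀ i : s, Localization.Away (i : C))),
    ((ρ.restrictScalars B).comp Λ).comp e'.toAlgHom, ?_⟩
  ext c
  change ρ (Λ (e' (e'.symm (algebraMap C _ c)))) = g c
  rw [AlgEquiv.apply_symm_apply]
  have h2 : Λ (algebraMap C _ c) = algebraMap D (∀ i : s, Localization.Away (g' i)) (g c) := by
    funext i
    exact hlam i c
  rw [h2, AlgHom.commutes]
  rfl

/-- **Lifting w-contractible ind-étale algebras along universal homeomorphisms.** -/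
theorem exists_indEtale_lift (h : UH A B) (hLD : LocDesc A B) {D : Type u} [CommRing D] [Algebra B D]
    (hD : EtPBC.IsIndEtale B D) (hwc : EtPBC.IsWContractible D) :
    ∃ (D' : Type u) (_ : CommRing D') (_ : Algebra A D'), EtPBC.IsIndEtale A D' ∧
      Nonempty (B ⊗[A] D' ≃ₐ[B] D) := by
  let : Algebra A D := ((algebraMap B D).comp (algebraMap A B)).toAlgebra
  have : IsScalarTower A B D := .of_algebraMap_eq' rfl
  obtain ⟨D', _, _, π, hD', hπ⟩ := exists_coreflection (A := A) (P := Et A) good_etale D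
  have hfacD : Fac B (Et B) D := fac_of_isInd (P := Et B) hD
  have hfacD' : Fac A (Et A) D' := fac_of_isInd hD'
  let φ : B ⊗[A] D' →ₐ[B] D := Algebra.TensorProduct.lift (Algebra.ofId B D) π (fun _ _ => Commute.all _ _)
  have hφ : ∀ x, φ (1 ⊗ₜ x) = π x := fun x => by
    change (Algebra.TensorProduct.lift (Algebra.ofId B D) π _) (1 ⊗ₜ x) = _
    rw [Algebra.TensorProduct.lift_tmul, map_one, one_mul]
  -- maps from étale algebras are determined after composing with `φ`
  have huniq : ∀ (E : Type u) [CommRing E] [Algebra A E] [Algebra.Etale A E]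
      (t₁ t₂ : B ⊗[A] E →ₐ[B] B ⊗[A] D'), φ.comp t₁ = φ.comp t₂ → t₁ = t₂ := by
    intro E _ _ _ t₁ t₂ ht
    obtain ⟨σ₁, hσ₁, -⟩ := existsUnique_lift' h ((t₁.restrictScalars A).comp Algebra.TensorProduct.includeRight)
    obtain ⟨σ₂, hσ₂, -⟩ := existsUnique_lift' h ((t₂.restrictScalars A).comp Algebra.TensorProduct.includeRight)
    have hσ : σ₁ = σ₂ := by
      apply (hπ E ‹_› (π.comp σ₁)).unique rfl
      ext x
      rw [AlgHom.comp_apply, AlgHom.comp_apply, ← hφ, ← hφ, hσ₁, hσ₂]
      exact congrArg (fun f => f (1 ⊗ₜ x)) ht.symm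
    apply Algebra.TensorProduct.ext
    · ext
    · ext x
      exact (hσ₁ x).symm.trans ((by rw [hσ] : (1 : B) ⊗ₜ[A] σ₁ x = 1 ⊗ₜ σ₂ x).trans (hσ₂ x))
  -- maps from étale algebras lift
  have hlift : ∀ (E : Type u) [CommRing E] [Algebra A E] [Algebra.Etale A E]
      (w : B ⊗[A] E →ₐ[B] D), ∃ t : B ⊗[A] E →ₐ[B] B ⊗[A] D', φ.comp t = w := by
    intro E _ _ _ w
    obtain ⟨σ, hσ, -⟩ := hπ E ‹_› ((w.restrictScalars A).comp Algebra.TensorProduct.includeRight)
    refine ⟨Algebra.TensorProduct.map (AlgHom.id B B) σ, ?_⟩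
    apply Algebra.TensorProduct.ext
    · ext
    · ext x
      change φ (1 ⊗ₜ σ x) = _
      rw [hφ]
      exact congrArg (fun f => f x) hσ
  have hfac : ∀ (Z : Type u) [CommRing Z] [Algebra B Z] [Algebra.FinitePresentation B Z] (g : Z →ₐ[B] D),
      ∃ (E : Type u) (_ : CommRing E) (_ : Algebra A E) (_ : Algebra.Etale A E)
        (a : Z →ₐ[B] B ⊗[A] E) (b : B ⊗[A] E →ₐ[B] D), b.comp a = g := by
    intro Z _ _ _ g
    obtain ⟨C, _, _, a, b, hC, hab⟩ := hfacD Z g
    have hC' : Algebra.Etale B C := hC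
    obtain ⟨E, _, _, _, a', b', hab'⟩ := exists_liftable hLD hwc b
    exact ⟨E, _, _, ‹_›, a'.comp a, b', by rw [← AlgHom.comp_assoc, hab', hab]⟩
  refine ⟨D', _, _, hD', ⟨AlgEquiv.ofBijective φ ⟨?_, ?_⟩⟩⟩
  · rw [injective_iff_map_eq_zero]
    intro t ht
    obtain ⟨S, hS⟩ := TensorProduct.exists_finset t
    obtain ⟨E, _, _, a, v, hE, hav⟩ := hfacD' (MvPolynomial S A) (MvPolynomial.aeval fun i : S => (i : B × D').2)
    have hE' : Algebra.Etale A E := hE
    let tE : B ⊗[A] E := ∑ i : S, (i : B × D').1 ⊗ₜ a (MvPolynomial.X i)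
    let V : B ⊗[A] E →ₐ[B] B ⊗[A] D' := Algebra.TensorProduct.map (AlgHom.id B B) v
    have hV : V tE = t := by
      rw [hS, map_sum, ← Finset.sum_coe_sort S]
      refine Finset.sum_congr rfl fun i _ => ?_
      change (i : B × D').1 ⊗ₜ v (a (MvPolynomial.X i)) = _
      rw [← AlgHom.comp_apply, hav, MvPolynomial.aeval_X]
    let T₀ := (B ⊗[A] E) ⧸ Ideal.span {tE}
    have hT₀ : Algebra.FinitePresentation B T₀ :=
      Algebra.FinitePresentation.quotient ⟨{tE}, by simp⟩
    let G₀ : T₀ →ₐ[B] D := Ideal.Quotient.liftₐ _ (φ.comp V) (by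
      intro x hx
      have : Ideal.span {tE} ≤ RingHom.ker (φ.comp V) := by
        rw [Ideal.span_le, Set.singleton_subset_iff, SetLike.mem_coe, RingHom.mem_ker, AlgHom.comp_apply,
          hV, ht]
      exact this hx)
    obtain ⟨E₂, _, _, _, a₂, b₂, hab₂⟩ := hfac T₀ G₀
    obtain ⟨t₂, ht₂⟩ := hlift E₂ b₂
    have h1 : t₂.comp (a₂.comp (Ideal.Quotient.mkₐ B _)) = V := by
      apply huniq E
      rw [← AlgHom.comp_assoc, ht₂, ← AlgHom.comp_assoc, hab₂]
      exact Ideal.Quotient.liftₐ_comp ..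
    rw [← hV, ← h1]
    change t₂ (a₂ (Ideal.Quotient.mk _ tE)) = 0
    rw [Ideal.Quotient.eq_zero_iff_mem.mpr (Ideal.mem_span_singleton_self _), map_zero, map_zero]
  · intro d
    obtain ⟨E, _, _, _, a, b, hab⟩ := hfac (Polynomial B) (Polynomial.aeval d)
    obtain ⟨t, ht⟩ := hlift E b
    refine ⟨t (a Polynomial.X), ?_⟩
    rw [← AlgHom.comp_apply, ht, ← AlgHom.comp_apply, hab, Polynomial.aeval_X]

end Groth.Agent.Proet.UHLift
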