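import Groth.Agent.Proet.UHSite
import Groth.Agent.Proet.UHLift
import Groth.Agent.Proet.IndFlat
import Groth.Agent.S0176
import Groth.Agent.S0177

/-!
# Base change along a universal homeomorphism is cover dense on small pro-étale sites
-/

set_option autoImplicit false
universe u v

open CategoryTheory CategoryTheory.Limits AlgebraicGeometry Opposite TensorProduct

namespace Groth.Agent.Proet.UHDense

open Groth.Agent.Proet.UHSite Groth.Agent.Proet.UHRing WCBasic

/-- Ring theoretic statement. -/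
theorem exists_ring_cover {A B C : Type u} [CommRing A] [CommRing B] [CommRing C] [Algebra A B] [Algebra B C]
    [Algebra.IsIntegral A B]
    (h1 : UniversallyInjective (Spec.map (CommRingCat.ofHom (algebraMap A B))))
    (h2 : Surjective (Spec.map (CommRingCat.ofHom (algebraMap A B)))) [Algebra.WeaklyEtale B C] :
    ∃ (D : Type u) (_ : CommRing D) (_ : Algebra A D) (_ : Algebra C (B ⊗[A] D)),
      IsScalarTower B C (B ⊗[A] D) ∧ Algebra.WeaklyEtale A D ∧ Module.FaithfullyFlat C (B ⊗[A] D) := by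
  obtain ⟨C₁, _, _, _, _, hff, -, hind⟩ := S0176.result B C
  obtain ⟨D, _, _, hff', hind', hwc⟩ := S0177.result C₁
  let : Algebra B D := ((algebraMap C₁ D).comp (algebraMap B C₁)).toAlgebra
  have : IsScalarTower B C₁ D := .of_algebraMap_eq' rfl
  let : Algebra C D := ((algebraMap C₁ D).comp (algebraMap C C₁)).toAlgebra
  have : IsScalarTower C C₁ D := .of_algebraMap_eq' rfl
  have hBD : EtPBC.IsIndEtale B D := IndEtale.isIndEtale_trans B C₁ D hind hind'
  obtain ⟨D', _, _, hD', ⟨e⟩⟩ := UHLift.exists_indEtale_lift (UH.of_scheme h1 h2)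
    (Etbase.UHFinal.locDesc_of_universallyInjective h1) hBD hwc
  have hffD : Module.FaithfullyFlat C D := Module.FaithfullyFlat.trans C C₁ D
  let : Algebra C (B ⊗[A] D') := (e.symm.toRingEquiv.toRingHom.comp (algebraMap C D)).toAlgebra
  refine ⟨D', _, _, inferInstance, ?_, IndFlat.weaklyEtale_of_isIndEtale A D' hD', ?_⟩
  · apply IsScalarTower.of_algebraMap_eq
    intro b
    change algebraMap B (B ⊗[A] D') b = e.symm (algebraMap C₁ D (algebraMap C C₁ (algebraMap B C b)))
    rw [← IsScalarTower.algebraMap_apply B C C₁]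
    exact (e.symm.commutes b).symm
  · let e' : D ≃ₐ[C] B ⊗[A] D' := { e.symm.toRingEquiv with commutes' := fun c => rfl }
    exact Module.FaithfullyFlat.of_linearEquiv C D e'.symm.toLinearEquiv

variable {Z X : Scheme.{u}} (i : Z ⟶ X)

/-- The square of an affine open and its affine preimage. -/
theorem isPullback_fromSpec [IsAffineHom i] {X₀ : X.Opens} (hX₀ : IsAffineOpen X₀) :
    IsPullback (Spec.map (i.appLE X₀ (i ⁻¹ᵁ X₀) le_rfl)) (hX₀.preimage i).fromSpec hX₀.fromSpec i := by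
  refine IsOpenImmersion.isPullback _ _ _ _ (IsAffineOpen.SpecMap_appLE_fromSpec i hX₀ (hX₀.preimage i) le_rfl).symm ?_
  rw [IsAffineOpen.opensRange_fromSpec, IsAffineOpen.opensRange_fromSpec]

set_option backward.isDefEq.respectTransparency.types false in
/-- Local form of cover density. -/
theorem exists_cover [IsIntegralHom i] [UniversallyInjective i] [Surjective i] (V : Z.ProEt) {X₀ : X.Opens}
    (hX₀ : IsAffineOpen X₀) {V₀ : V.left.Opens} (hV₀ : IsAffineOpen V₀) (hle : V₀ ≤ V.hom ⁻¹ᵁ (i ⁻¹ᵁ X₀)) :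
    ∃ (W : X.ProEt) (c : (ProEtS.bcP i).obj W ⟶ Scheme.ProEt.mk (hV₀.fromSpec ≫ V.hom)),
      Surjective c.left ∧ QuasiCompact c.left := by
  let hZ₀ : IsAffineOpen (i ⁻¹ᵁ X₀) := hX₀.preimage i
  let A : Type u := Γ(X, X₀)
  let B : Type u := Γ(Z, i ⁻¹ᵁ X₀)
  let C : Type u := Γ(V.left, V₀)
  let : Algebra A B := (i.appLE X₀ (i ⁻¹ᵁ X₀) le_rfl).hom.toAlgebra
  let : Algebra B C := (V.hom.appLE (i ⁻¹ᵁ X₀) V₀ hle).hom.toAlgebra
  have hsq := isPullback_fromSpec i hX₀
  have h0 : IsIntegralHom (Spec.map (i.appLE X₀ (i ⁻¹ᵁ X₀) le_rfl)) :=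
    MorphismProperty.of_isPullback hsq.flip inferInstance
  have h1 : UniversallyInjective (Spec.map (CommRingCat.ofHom (algebraMap A B))) :=
    MorphismProperty.of_isPullback hsq.flip (inferInstance : UniversallyInjective i)
  have h2 : Surjective (Spec.map (CommRingCat.ofHom (algebraMap A B))) :=
    MorphismProperty.of_isPullback hsq.flip (inferInstance : Surjective i)
  have hint : Algebra.IsIntegral A B := by
    rw [← algebraMap_isIntegral_iff]
    exact IsIntegralHom.SpecMap_iff.mp h0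
  have hC := IsAffineOpen.SpecMap_appLE_fromSpec V.hom hZ₀ hV₀ hle
  have hWE : Algebra.WeaklyEtale B C := by
    rw [← weaklyEtale_Spec_iff]
    have : WeaklyEtale (Spec.map (V.hom.appLE (i ⁻¹ᵁ X₀) V₀ hle) ≫ hZ₀.fromSpec) := by
      rw [hC]; infer_instance
    exact WeaklyEtale.of_comp (Spec.map (V.hom.appLE (i ⁻¹ᵁ X₀) V₀ hle)) hZ₀.fromSpec
  obtain ⟨D, _, _, _, _, hD, hff⟩ := exists_ring_cover (A := A) (B := B) (C := C) h1 h2
  have hAD : WeaklyEtale (Spec.map (CommRingCat.ofHom (algebraMap A D))) := (weaklyEtale_Spec_iff A D).mpr hD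
  let W : X.ProEt := Scheme.ProEt.mk (Spec.map (CommRingCat.ofHom (algebraMap A D)) ≫ hX₀.fromSpec)
  -- the base change of `W`
  have hpo := (CommRingCat.isPushout_tensorProduct A B D)
  have hsq2 := (isPullback_SpecMap_of_isPushout _ _ _ _ hpo).flip
  have hsq3 := hsq2.paste_vert hsq
  let e : Spec (CommRingCat.of (B ⊗[A] D)) ≅ pullback W.hom i := hsq3.isoPullback
  have he : e.inv ≫ Spec.map (CommRingCat.ofHom (algebraMap B (B ⊗[A] D))) ≫ hZ₀.fromSpec =
      pullback.snd W.hom i := hsq3.isoPullback_inv_snd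
  let c' : pullback W.hom i ⟶ Spec (CommRingCat.of C) :=
    e.inv ≫ Spec.map (CommRingCat.ofHom (algebraMap C (B ⊗[A] D)))
  have hc' : c' ≫ hV₀.fromSpec ≫ V.hom = pullback.snd W.hom i := by
    have h3 : Spec.map (CommRingCat.ofHom (algebraMap C (B ⊗[A] D))) ≫
        Spec.map (CommRingCat.ofHom (algebraMap B C)) =
        Spec.map (CommRingCat.ofHom (algebraMap B (B ⊗[A] D))) := by
      rw [← Spec.map_comp, ← CommRingCat.ofHom_comp, ← IsScalarTower.algebraMap_eq]
    have h4 : hV₀.fromSpec ≫ V.hom = Spec.map (CommRingCat.ofHom (algebraMap B C)) ≫ hZ₀.fromSpec := hC.symm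
    calc c' ≫ hV₀.fromSpec ≫ V.hom = c' ≫ Spec.map (CommRingCat.ofHom (algebraMap B C)) ≫ hZ₀.fromSpec := by
          rw [h4]
      _ = e.inv ≫ (Spec.map (CommRingCat.ofHom (algebraMap C (B ⊗[A] D))) ≫
        Spec.map (CommRingCat.ofHom (algebraMap B C))) ≫ hZ₀.fromSpec := by
          simp only [c', Category.assoc]
      _ = pullback.snd W.hom i := by rw [h3]; exact he
  have hsurj : Surjective (Spec.map (CommRingCat.ofHom (algebraMap C (B ⊗[A] D)))) :=
    surjective_of_faithfullyFlat C (B ⊗[A] D)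
  refine ⟨W, MorphismProperty.Over.homMk c' hc', ?_, ?_⟩
  · exact (inferInstance : Surjective (e.inv ≫ Spec.map (CommRingCat.ofHom (algebraMap C (B ⊗[A] D)))))
  · exact (inferInstance : QuasiCompact (e.inv ≫ Spec.map (CommRingCat.ofHom (algebraMap C (B ⊗[A] D)))))

set_option backward.isDefEq.respectTransparency.types false in
/-- **Cover density.** -/
theorem isCoverDense [IsIntegralHom i] [UniversallyInjective i] [Surjective i] :
    (ProEtS.bcP i).IsCoverDense (Scheme.ProEt.topology Z) where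
  is_cover V := by
    have h1 : ∀ v : V.left, ∃ (X₀ : X.Opens) (_ : IsAffineOpen X₀) (V₀ : V.left.Opens),
        v ∈ V₀ ∧ IsAffineOpen V₀ ∧ V₀ ≤ V.hom ⁻¹ᵁ (i ⁻¹ᵁ X₀) := by
      intro v
      obtain ⟨_, ⟨X₀, hX₀, rfl⟩, hxX₀, -⟩ := X.isBasis_affineOpens.exists_subset_of_mem_open
        (Set.mem_univ (i (V.hom v))) isOpen_univ
      obtain ⟨_, ⟨V₀, hV₀, rfl⟩, hvV₀, hle⟩ := V.left.isBasis_affineOpens.exists_subset_of_mem_open
        (hxX₀ : v ∈ V.hom ⁻¹ᵁ (i ⁻¹ᵁ X₀)) (V.hom ⁻¹ᵁ (i ⁻¹ᵁ X₀)).2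
      exact ⟨X₀, hX₀, V₀, hvV₀, hV₀, hle⟩
    choose X₀ hX₀ V₀ hvV₀ hV₀ hle using h1
    let W : V.left → Z.ProEt := fun v => Scheme.ProEt.mk ((hV₀ v).fromSpec ≫ V.hom)
    let g : ∀ v, W v ⟶ V := fun v => MorphismProperty.Over.homMk (hV₀ v).fromSpec rfl
    refine (Scheme.ProEt.topology Z).transitive (ofArrows_openImmersion_mem g
      (fun v => (inferInstance : IsOpenImmersion (hV₀ v).fromSpec)) (fun v => ?_)) _ ?_
    · have : v ∈ ((hV₀ v).fromSpec).opensRange := by
        rw [IsAffineOpen.opensRange_fromSpec]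
        exact hvV₀ v
      exact ⟨v, this⟩
    · rintro Y _ ⟨_, a, _, ⟨v⟩, rfl⟩
      rw [Sieve.pullback_comp]
      refine (Scheme.ProEt.topology Z).pullback_stable a ?_
      obtain ⟨T, c, hc1, hc2⟩ := exists_cover i V (hX₀ v) (hV₀ v) (hle v)
      refine (Scheme.ProEt.topology Z).superset_covering ?_ (generate_singleton_mem c)
      rw [Sieve.generate_le_iff]
      rintro _ _ ⟨⟩
      exact ⟨⟨T, 𝟙 _, c ≫ g v, by simp⟩⟩

theorem isDenseSubsite [IsIntegralHom i] [UniversallyInjective i] [Surjective i] :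
    (ProEtS.bcP i).IsDenseSubsite (Scheme.ProEt.topology X) (Scheme.ProEt.topology Z) where
  isCoverDense' := isCoverDense i
  isLocallyFull' := ⟨fun f => functorPushforward_mem i (imageSieve_mem i f)⟩
  isLocallyFaithful' := by
    have := faithful i
    infer_instance
  functorPushforward_mem_iff := ⟨mem_of_functorPushforward_mem i, functorPushforward_mem i⟩

end Groth.Agent.Proet.UHDense
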