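import Groth.Agent.Proet.WEtale2
import Mathlib.AlgebraicGeometry.Morphisms.UniversallyInjective
import Mathlib.AlgebraicGeometry.Morphisms.Integral
import Mathlib.RingTheory.TensorProduct.IncludeLeftSubRight
import Mathlib.RingTheory.Ideal.GoingDown

/-!
# Weakly étale algebras and universal homeomorphisms

`UH A B`: the algebra `B` is integral over `A` and universally bijective on spectra.

* `eq_of_comp_eq`: maps from a weakly étale algebra are determined after a map surjective on spectra.
* `UH.exists_lift`: `P` weakly étale over `R`, `UH R R'`; every `P →ₐ[R] R'` lifts to `P →ₐ[R] R`.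
* `UH.existsUnique_lift`: for `T` an `R`-algebra every `P →ₐ[R] T ⊗[R] R'` lifts uniquely to `P →ₐ[R] T`.
-/

set_option autoImplicit false
universe u
open TensorProduct

namespace Groth.Agent.Proet.UHRing

open Groth.Agent.Proet.WEtaleBasic Groth.Agent.Proet.WEtale2

/-- Maps from a weakly étale algebra which become equal after a map surjective on spectra are equal. -/
theorem eq_of_comp_eq {A P T T' : Type u} [CommRing A] [CommRing P] [CommRing T] [CommRing T']
    [Algebra A P] [Algebra A T] [Algebra.WeaklyEtale A P] (i : T →+* T')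
    (hi : Function.Surjective (PrimeSpectrum.comap i)) (a b : P →ₐ[A] T) (h : ∀ p, i (a p) = i (b p)) :
    a = b := by
  have := pure_ideal A P
  let c : P ⊗[A] P →ₐ[A] T := Algebra.TensorProduct.lift a b (fun _ _ => Commute.all _ _)
  have hc : ∀ x y, c (x ⊗ₜ y) = a x * b y := fun x y => Algebra.TensorProduct.lift_tmul ..
  have hK : ∀ y ∈ KaehlerDifferential.ideal A P, i (c y) = 0 := by
    intro y hy
    rw [← KaehlerDifferential.span_range_eq_ideal] at hy
    have hle : Ideal.span (Set.range fun s : P => (1 : P) ⊗ₜ[A] s - s ⊗ₜ[A] (1 : P)) ≤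
        RingHom.ker (i.comp c.toRingHom) := by
      rw [Ideal.span_le]
      rintro _ ⟨w, rfl⟩
      rw [SetLike.mem_coe, RingHom.mem_ker]
      change i (c _) = 0
      rw [map_sub, hc, hc, map_one, map_one, one_mul, mul_one, map_sub, h, sub_self]
    exact hle hy
  ext p
  have hp : (1 : P) ⊗ₜ[A] p - p ⊗ₜ[A] (1 : P) ∈ KaehlerDifferential.ideal A P := by
    rw [← KaehlerDifferential.span_range_eq_ideal]
    exact Ideal.subset_span ⟨p, rfl⟩
  obtain ⟨y, hy, hxy⟩ := Ideal.exists_eq_mul_of_pure hp
  have h1 := congrArg c hxy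
  rw [map_mul, map_sub, hc, hc, map_one, map_one, one_mul, mul_one] at h1
  have hu : IsUnit (1 - c y) := by
    by_contra hn
    obtain ⟨m, hm, hym⟩ := exists_max_ideal_of_mem_nonunits (mem_nonunits_iff.mpr hn)
    obtain ⟨q, hq⟩ := hi ⟨m, hm.isPrime⟩
    have h2 : 1 - c y ∈ (PrimeSpectrum.comap i q).asIdeal := by rw [hq]; exact hym
    rw [PrimeSpectrum.comap_asIdeal, Ideal.mem_comap, map_sub, map_one, hK y hy, sub_zero] at h2
    exact q.2.ne_top ((Ideal.eq_top_iff_one _).mpr h2)
  have h3 : (b p - a p) * (1 - c y) = 0 := by rw [mul_sub, mul_one, ← h1, sub_self]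
  exact (sub_eq_zero.mp (hu.mul_left_eq_zero.mp h3)).symm

/-- The algebra `B` is integral over `A` and universally bijective on spectra. -/
structure UH (A B : Type u) [CommRing A] [CommRing B] [Algebra A B] : Prop where
  integral : Algebra.IsIntegral A B
  bij : ∀ (T : Type u) [CommRing T] [Algebra A T],
    Function.Bijective (PrimeSpectrum.comap (algebraMap T (T ⊗[A] B)))

variable {R R' : Type u} [CommRing R] [CommRing R'] [Algebra R R']

theorem comap_bijective_of_ringEquiv {A B : Type u} [CommRing A] [CommRing B] (e : A ≃+* B) :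
    Function.Bijective (PrimeSpectrum.comap e.toRingHom) :=
  (PrimeSpectrum.comapEquiv e.symm).bijective

theorem UH.baseChange (h : UH R R') (T : Type u) [CommRing T] [Algebra R T] : UH T (T ⊗[R] R') where
  integral := by
    have := h.integral
    infer_instance
  bij T' _ _ := by
    let : Algebra R T' := ((algebraMap T T').comp (algebraMap R T)).toAlgebra
    have : IsScalarTower R T T' := .of_algebraMap_eq' rfl
    let e : T' ⊗[T] (T ⊗[R] R') ≃ₐ[T'] T' ⊗[R] R' := Algebra.TensorProduct.cancelBaseChange R T T' T' R'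
    have h1 : algebraMap T' (T' ⊗[R] R') = e.toRingEquiv.toRingHom.comp (algebraMap T' (T' ⊗[T] (T ⊗[R] R'))) := by
      ext t
      exact (e.commutes t).symm
    have h2 := h.bij T'
    rw [h1, PrimeSpectrum.comap_comp] at h2
    have h3 := comap_bijective_of_ringEquiv e.toRingEquiv
    exact (Function.Bijective.of_comp_iff _ h3).mp h2

theorem UH.surjective (h : UH R R') : Function.Surjective (PrimeSpectrum.comap (algebraMap R R')) := by
  have h1 := (h.bij R).2
  let e : R ⊗[R] R' ≃ₐ[R] R' := Algebra.TensorProduct.lid R R'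
  have h2 : algebraMap R (R ⊗[R] R') = e.symm.toRingEquiv.toRingHom.comp (algebraMap R R') := by
    ext t
    exact (e.symm.commutes t).symm
  rw [h2, PrimeSpectrum.comap_comp] at h1
  exact Function.Surjective.of_comp h1

/-- Surjectivity on spectra together with weak étaleness and a retraction forces bijectivity. -/
theorem bijective_of_surjective (h : UH R R') {Q : Type u} [CommRing Q] [Algebra R Q]
    [Algebra.WeaklyEtale R Q] (τ : Q →ₐ[R] R') (hτ : Function.Surjective (PrimeSpectrum.comap τ.toRingHom)) :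
    Function.Bijective (algebraMap R Q) := by
  -- the retraction of `R' → Q ⊗ R'`
  let ρ : Q ⊗[R] R' →ₐ[R] R' := Algebra.TensorProduct.lift τ (AlgHom.id R R') (fun _ _ => Commute.all _ _)
  have hρ : ∀ x y, ρ (x ⊗ₜ y) = τ x * y := fun x y => Algebra.TensorProduct.lift_tmul ..
  have hρsurj : Function.Surjective ρ := fun r => ⟨1 ⊗ₜ r, by rw [hρ, map_one, one_mul]⟩
  have hρflat : ρ.toRingHom.Flat := by
    let : Algebra Q R' := τ.toRingHom.toAlgebra
    have : IsScalarTower R Q R' := .of_algebraMap_eq' τ.comp_algebraMap.symm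
    have h1 := flat_lift R Q R'
    have h2 : ρ.toRingHom = (Algebra.TensorProduct.lift (Algebra.ofId R' R') (IsScalarTower.toAlgHom R Q R')
        (fun _ _ => Commute.all _ _) : R' ⊗[R] Q →ₐ[R'] R').toRingHom.comp
        (Algebra.TensorProduct.comm R Q R').toRingEquiv.toRingHom := by
      apply RingHom.ext
      intro x
      induction x with
      | zero => simp
      | add x y hx hy => rw [map_add, map_add, hx, hy]
      | tmul x y =>
        change ρ (x ⊗ₜ y) = (Algebra.TensorProduct.lift (Algebra.ofId R' R') (IsScalarTower.toAlgHom R Q R')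
          (fun _ _ => Commute.all _ _) : R' ⊗[R] Q →ₐ[R'] R') (y ⊗ₜ x)
        rw [hρ, Algebra.TensorProduct.lift_tmul]
        exact mul_comm _ _
    rw [h2]
    exact RingHom.Flat.comp (RingHom.Flat.of_bijective
      (Algebra.TensorProduct.comm R Q R').toRingEquiv.bijective) h1
  have hbij := h.bij Q
  have hρspec : Function.Surjective (PrimeSpectrum.comap ρ.toRingHom) := by
    intro M
    obtain ⟨q, hq⟩ := hτ (PrimeSpectrum.comap (algebraMap Q (Q ⊗[R] R')) M)
    refine ⟨q, hbij.1 ?_⟩
    rw [← hq, ← PrimeSpectrum.comap_comp_apply]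
    congr 1
    ext x
    change ρ (x ⊗ₜ 1) = τ x
    rw [hρ, mul_one]
  have hρinj : Function.Injective ρ := by
    let : Algebra (Q ⊗[R] R') R' := ρ.toRingHom.toAlgebra
    have h1 : Module.Flat (Q ⊗[R] R') R' := hρflat
    have h2 : Module.FaithfullyFlat (Q ⊗[R] R') R' :=
      Module.FaithfullyFlat.of_comap_surjective hρspec
    exact FaithfulSMul.algebraMap_injective (Q ⊗[R] R') R'
  -- `R → Q` is faithfully flat
  have hffspec : Function.Surjective (PrimeSpectrum.comap (algebraMap R Q)) := by
    have h1 := h.surjective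
    rw [← τ.comp_algebraMap, PrimeSpectrum.comap_comp] at h1
    exact Function.Surjective.of_comp h1
  have hff : Module.FaithfullyFlat R Q :=
    Module.FaithfullyFlat.of_comap_surjective hffspec
  refine ⟨FaithfulSMul.algebraMap_injective R Q, ?_⟩
  -- `R → Q` is an epimorphism
  have hepi : (Algebra.TensorProduct.includeLeft : Q →ₐ[R] Q ⊗[R] Q) = Algebra.TensorProduct.includeRight := by
    refine eq_of_comp_eq (algebraMap (Q ⊗[R] Q) ((Q ⊗[R] Q) ⊗[R] R')) (h.bij (Q ⊗[R] Q)).2 _ _ ?_
    intro q
    have h1 : q ⊗ₜ[R] (1 : R') = 1 ⊗ₜ τ q := by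
      apply hρinj
      rw [hρ, hρ, map_one, one_mul, mul_one]
    have h2 := congrArg (Algebra.TensorProduct.map (Algebra.TensorProduct.includeLeft : Q →ₐ[R] Q ⊗[R] Q)
      (AlgHom.id R R')) h1
    have h3 := congrArg (Algebra.TensorProduct.map (Algebra.TensorProduct.includeRight : Q →ₐ[R] Q ⊗[R] Q)
      (AlgHom.id R R')) h1
    rw [Algebra.TensorProduct.map_tmul, Algebra.TensorProduct.map_tmul, map_one] at h2 h3
    exact h2.trans h3.symm
  intro q
  have h1 := (Algebra.IsEffective.of_faithfullyFlat R Q).eqLocus_includeLeft_includeRight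
  have h2 : q ∈ Set.range (algebraMap R Q) := by
    rw [← h1]
    exact congrArg (fun f => f q) hepi
  exact h2

/-- Every prime `p` of `P` which is comaximal to `ker τ` in the weak sense `p + ker τ ≠ P` is in the image. -/
theorem exists_prime_of_sup_ne_top (h : UH R R') {P : Type u} [CommRing P] [Algebra R P]
    [Algebra.WeaklyEtale R P] (τ : P →ₐ[R] R') (p : Ideal P) [hp : p.IsPrime]
    (hne : p ⊔ RingHom.ker τ ≠ ⊤) : ∃ q : PrimeSpectrum R', (PrimeSpectrum.comap τ.toRingHom q).asIdeal = p := by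
  have hint := h.integral
  obtain ⟨m, hm, hle⟩ := Ideal.exists_le_maximal _ hne
  have := hm.isPrime
  -- algebra structure of `R'` over `P`
  let : Algebra P R' := τ.toRingHom.toAlgebra
  have : IsScalarTower R P R' := .of_algebraMap_eq' τ.comp_algebraMap.symm
  have hintP : Algebra.IsIntegral P R' := Algebra.IsIntegral.tower_top (R := R)
  obtain ⟨m', -, hm', hm'm⟩ := Ideal.exists_ideal_over_prime_of_isIntegral m (⊥ : Ideal R') (by
    have : Ideal.comap (algebraMap P R') ⊥ = RingHom.ker τ := rfl
    rw [this]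
    exact le_sup_right.trans hle)
  -- algebra structure of `R'` over `P ⊗ R'`
  let ρ : P ⊗[R] R' →ₐ[R] R' := Algebra.TensorProduct.lift τ (AlgHom.id R R') (fun _ _ => Commute.all _ _)
  have hρ : ∀ x y, ρ (x ⊗ₜ y) = τ x * y := fun x y => Algebra.TensorProduct.lift_tmul ..
  have hρflat : ρ.toRingHom.Flat := by
    have h1 := flat_lift R P R'
    have h2 : ρ.toRingHom = (Algebra.TensorProduct.lift (Algebra.ofId R' R') (IsScalarTower.toAlgHom R P R')
        (fun _ _ => Commute.all _ _) : R' ⊗[R] P →ₐ[R'] R').toRingHom.comp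
        (Algebra.TensorProduct.comm R P R').toRingEquiv.toRingHom := by
      apply RingHom.ext
      intro x
      induction x with
      | zero => simp
      | add x y hx hy => rw [map_add, map_add, hx, hy]
      | tmul x y =>
        change ρ (x ⊗ₜ y) = (Algebra.TensorProduct.lift (Algebra.ofId R' R') (IsScalarTower.toAlgHom R P R')
          (fun _ _ => Commute.all _ _) : R' ⊗[R] P →ₐ[R'] R') (y ⊗ₜ x)
        rw [hρ, Algebra.TensorProduct.lift_tmul]
        exact mul_comm _ _
    rw [h2]
    exact RingHom.Flat.comp (RingHom.Flat.of_bijective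
      (Algebra.TensorProduct.comm R P R').toRingEquiv.bijective) h1
  have hbij := h.bij P
  have hintT := (h.baseChange P).integral
  obtain ⟨𝔭, h𝔭⟩ := hbij.2 ⟨p, hp⟩
  have h𝔭' : 𝔭.asIdeal.comap (algebraMap P (P ⊗[R] R')) = p := congrArg PrimeSpectrum.asIdeal h𝔭
  obtain ⟨M, hM, hMp, hMm⟩ := Ideal.exists_ideal_over_prime_of_isIntegral m 𝔭.asIdeal (by
    rw [h𝔭']
    exact le_sup_left.trans hle)
  have hρa : ρ.toRingHom.comp (algebraMap P (P ⊗[R] R')) = τ.toRingHom := by
    ext x
    change ρ (x ⊗ₜ 1) = τ x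
    rw [hρ, mul_one]
  have hMeq : (⟨M, hMp⟩ : PrimeSpectrum (P ⊗[R] R')) = PrimeSpectrum.comap ρ.toRingHom ⟨m', hm'⟩ := by
    apply hbij.1
    rw [← PrimeSpectrum.comap_comp_apply, hρa]
    apply PrimeSpectrum.ext
    exact hMm.trans hm'm.symm
  let : Algebra (P ⊗[R] R') R' := ρ.toRingHom.toAlgebra
  have h1 : Module.Flat (P ⊗[R] R') R' := hρflat
  have hover : m'.LiesOver M := ⟨congrArg PrimeSpectrum.asIdeal hMeq⟩
  obtain ⟨q, hq, hqp, hq𝔭⟩ := Ideal.exists_ideal_le_liesOver_of_le (p := 𝔭.asIdeal) (q := M) m' hM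
  refine ⟨⟨q, hqp⟩, ?_⟩
  rw [← hρa, PrimeSpectrum.comap_comp_apply]
  have h2 : PrimeSpectrum.comap ρ.toRingHom ⟨q, hqp⟩ = 𝔭 := PrimeSpectrum.ext hq𝔭.over.symm
  rw [h2, h𝔭]

/-- **Lifting sections of weakly étale algebras along universal homeomorphisms.** -/
theorem exists_lift (h : UH R R') {P : Type u} [CommRing P] [Algebra R P] [Algebra.WeaklyEtale R P]
    (τ : P →ₐ[R] R') : ∃ σ : P →ₐ[R] R, ∀ x, algebraMap R R' (σ x) = τ x := by
  let S : Submonoid P := (⊥ : Submonoid R').comap τ.toMonoidHom
  have hS : ∀ s, s ∈ S ↔ τ s = 1 := fun s => Submonoid.mem_bot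
  let Q := Localization S
  have := weaklyEtale_of_isLocalization Q S
  have hRQ : Algebra.WeaklyEtale R Q := Algebra.WeaklyEtale.trans R P Q
  let τ' : Q →ₐ[R] R' := IsLocalization.liftAlgHom (M := S) (f := τ) (fun s => by
    rw [(hS s).mp s.2]
    exact isUnit_one)
  have hτ' : ∀ x, τ' (algebraMap P Q x) = τ x := fun x => IsLocalization.lift_eq _ _
  have hsurj : Function.Surjective (PrimeSpectrum.comap τ'.toRingHom) := by
    intro q
    let p : Ideal P := q.asIdeal.comap (algebraMap P Q)
    have hp : p.IsPrime := Ideal.comap_isPrime _ _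
    have hdisj : Disjoint (S : Set P) p := by
      rw [Set.disjoint_left]
      intro s hs hsp
      exact q.2.ne_top (Ideal.eq_top_of_isUnit_mem _ hsp (IsLocalization.map_units Q ⟨s, hs⟩))
    obtain ⟨q', hq'⟩ := exists_prime_of_sup_ne_top h τ p (by
      rw [Ne, Ideal.eq_top_iff_one, Submodule.mem_sup]
      rintro ⟨x, hx, k, hk, hxk⟩
      refine Set.disjoint_left.mp hdisj ((hS x).mpr ?_) hx
      have := congrArg τ hxk
      rwa [map_add, RingHom.mem_ker.mp hk, add_zero, map_one] at this)
    refine ⟨q', PrimeSpectrum.localization_comap_injective Q S ?_⟩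
    rw [← PrimeSpectrum.comap_comp_apply]
    apply PrimeSpectrum.ext
    have h1 : τ'.toRingHom.comp (algebraMap P Q) = τ.toRingHom := RingHom.ext hτ'
    rw [h1, hq']
    rfl
  have hbij := bijective_of_surjective h τ' hsurj
  let e : R ≃ₐ[R] Q := AlgEquiv.ofBijective (Algebra.ofId R Q) hbij
  refine ⟨e.symm.toAlgHom.comp (IsScalarTower.toAlgHom R P Q), fun x => ?_⟩
  have h1 : algebraMap R Q (e.symm (algebraMap P Q x)) = algebraMap P Q x := e.apply_symm_apply _
  change algebraMap R R' (e.symm (algebraMap P Q x)) = τ x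
  rw [← τ'.commutes, h1, hτ']

/-- **Topological invariance** for maps from weakly étale algebras. -/
theorem existsUnique_lift (h : UH R R') {P T : Type u} [CommRing P] [Algebra R P] [Algebra.WeaklyEtale R P]
    [CommRing T] [Algebra R T] (τ : P →ₐ[R] T ⊗[R] R') :
    ∃! σ : P →ₐ[R] T, ∀ x, σ x ⊗ₜ (1 : R') = τ x := by
  let τ' : T ⊗[R] P →ₐ[T] T ⊗[R] R' := Algebra.TensorProduct.lift (Algebra.ofId T _) τ
    (fun _ _ => Commute.all _ _)
  have hτ' : ∀ x y, τ' (x ⊗ₜ y) = algebraMap T (T ⊗[R] R') x * τ y := fun x y =>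
    Algebra.TensorProduct.lift_tmul ..
  obtain ⟨σ, hσ⟩ := exists_lift (h.baseChange T) τ'
  refine ⟨(σ.restrictScalars R).comp Algebra.TensorProduct.includeRight, fun x => ?_, ?_⟩
  · refine (hσ (1 ⊗ₜ x)).trans ?_
    rw [hτ', map_one, one_mul]
  · intro σ' hσ'
    refine eq_of_comp_eq (algebraMap T (T ⊗[R] R')) (h.bij T).2 _ _ fun x => ?_
    refine (hσ' x).trans ?_
    refine Eq.symm ((hσ (1 ⊗ₜ x)).trans ?_)
    rw [hτ', map_one, one_mul]

/-- **Topological invariance** for maps from weakly étale algebras, left version. -/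
theorem existsUnique_lift' (h : UH R R') {P T : Type u} [CommRing P] [Algebra R P] [Algebra.WeaklyEtale R P]
    [CommRing T] [Algebra R T] (τ : P →ₐ[R] R' ⊗[R] T) :
    ∃! σ : P →ₐ[R] T, ∀ x, (1 : R') ⊗ₜ σ x = τ x := by
  obtain ⟨σ, hσ, hu⟩ := existsUnique_lift h ((Algebra.TensorProduct.comm R R' T).toAlgHom.comp τ)
  refine ⟨σ, fun x => ?_, fun σ' hσ' => hu σ' fun x => ?_⟩
  · apply (Algebra.TensorProduct.comm R R' T).injective
    rw [Algebra.TensorProduct.comm_tmul]
    exact hσ x
  · rw [← Algebra.TensorProduct.comm_tmul (R := R), hσ' x]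
    rfl

section Scheme

open AlgebraicGeometry CategoryTheory

theorem UH.of_scheme [Algebra.IsIntegral R R']
    (h1 : UniversallyInjective (Spec.map (CommRingCat.ofHom (algebraMap R R'))))
    (h2 : Surjective (Spec.map (CommRingCat.ofHom (algebraMap R R')))) : UH R R' where
  integral := inferInstance
  bij T _ _ := by
    have hp := isPullback_SpecMap_of_isPushout _ _ _ _ (CommRingCat.isPushout_tensorProduct R T R')
    have h3 : UniversallyInjective (Spec.map (CommRingCat.ofHom (algebraMap T (T ⊗[R] R')))) :=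
      MorphismProperty.of_isPullback hp.flip h1
    have h4 : Surjective (Spec.map (CommRingCat.ofHom (algebraMap T (T ⊗[R] R')))) :=
      MorphismProperty.of_isPullback hp.flip h2
    exact ⟨(Spec.map (CommRingCat.ofHom (algebraMap T (T ⊗[R] R')))).injective, h4.surj⟩

end Scheme

end Groth.Agent.Proet.UHRing
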