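import Groth.Agent.Proet.UHRing
import Groth.Agent.Proet.WCBasic
import Mathlib.AlgebraicGeometry.Morphisms.FlatMono
import Mathlib.AlgebraicGeometry.Morphisms.Immersion

/-!
# Weakly étale schemes and universal homeomorphisms

* `ext_of_surjective`: maps to a weakly étale scheme agreeing after a surjective morphism agree.
* `exists_section_affine`, `exists_local_section`: sections of weakly étale morphisms over a universal homeomorphism
  `U' ⟶ U` descend (locally) to `U`.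
-/

set_option autoImplicit false
universe u

open CategoryTheory CategoryTheory.Limits AlgebraicGeometry Opposite

namespace Groth.Agent.Proet.UHSch

open Groth.Agent.Proet.UHRing

theorem isIso_of_isImmersion {X Y : Scheme.{u}} (e : X ⟶ Y) [IsImmersion e] [Surjective e] [Flat e] :
    IsIso e := by
  have h0 : Topology.IsEmbedding e := e.isEmbedding
  have h1 : IsHomeomorph e := (isHomeomorph_iff_isEmbedding_surjective).mpr ⟨h0, e.surjective⟩
  have : QuasiCompact e := ⟨fun U _ hc => h1.homeomorph.isCompact_preimage.mpr hc⟩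
  exact Flat.isIso_of_surjective_of_mono e

/-- Two morphisms to a weakly étale scheme agreeing after a surjective morphism agree. -/
theorem ext_of_surjective {X S Y Y' : Scheme.{u}} (π : X ⟶ S) [WeaklyEtale π] (q : Y' ⟶ Y) [Surjective q]
    (φ ψ : Y ⟶ X) (h : φ ≫ π = ψ ≫ π) (hq : q ≫ φ = q ≫ ψ) : φ = ψ := by
  let d := pullback.lift φ ψ h
  have hd1 : d ≫ pullback.fst _ _ = φ := pullback.lift_fst _ _ _
  have hd2 : d ≫ pullback.snd _ _ = ψ := pullback.lift_snd _ _ _
  let e : pullback d (pullback.diagonal π) ⟶ Y := pullback.fst _ _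
  have h3 : IsImmersion e := inferInstance
  have h3' : Flat e := inferInstance
  have h4 : Surjective e := by
    let l : Y' ⟶ pullback d (pullback.diagonal π) := pullback.lift q (q ≫ φ) (by
      apply pullback.hom_ext <;> simp [hd1, hd2, hq])
    have : Surjective (l ≫ e) := by
      have : l ≫ e = q := pullback.lift_fst _ _ _
      rw [this]; infer_instance
    exact Surjective.of_comp l _
  have h5 : IsIso e := isIso_of_isImmersion e
  rw [← cancel_epi e]
  have h6 : e ≫ d = pullback.snd _ _ ≫ pullback.diagonal π := pullback.condition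
  have h7 : e ≫ φ = pullback.snd d (pullback.diagonal π) := by
    have := congrArg (· ≫ pullback.fst _ _) h6
    simpa [hd1] using this
  have h8 : e ≫ ψ = pullback.snd d (pullback.diagonal π) := by
    have := congrArg (· ≫ pullback.snd _ _) h6
    simpa [hd2] using this
  rw [h7, h8]

/-- The algebra of functions along an integral universally injective surjective morphism of affine schemes. -/
theorem uh_appTop {U U' : Scheme.{u}} [IsAffine U] (q : U' ⟶ U) [IsIntegralHom q] [UniversallyInjective q]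
    [Surjective q] : letI := q.appTop.hom.toAlgebra; UH Γ(U, ⊤) Γ(U', ⊤) := by
  let := q.appTop.hom.toAlgebra
  have : IsAffine U' := isAffine_of_isAffineHom q
  have e : Arrow.mk q ≅ Arrow.mk (Spec.map q.appTop) := arrowIsoSpecΓOfIsAffine q
  have h1 : IsIntegralHom (Spec.map q.appTop) :=
    (MorphismProperty.arrow_mk_iso_iff @IsIntegralHom e).mp inferInstance
  have h2 : UniversallyInjective (Spec.map q.appTop) :=
    (MorphismProperty.arrow_mk_iso_iff @UniversallyInjective e).mp inferInstance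
  have h3 : Surjective (Spec.map q.appTop) :=
    (MorphismProperty.arrow_mk_iso_iff @Surjective e).mp inferInstance
  have h4 : Algebra.IsIntegral Γ(U, ⊤) Γ(U', ⊤) := by
    rw [← algebraMap_isIntegral_iff]
    exact IsIntegralHom.SpecMap_iff.mp h1
  exact UH.of_scheme h2 h3

/-- Sections of weakly étale morphisms of affine schemes descend along universal homeomorphisms. -/
theorem exists_section_affine {U U' P : Scheme.{u}} [IsAffine U] [IsAffine P] (q : U' ⟶ U) [IsIntegralHom q]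
    [UniversallyInjective q] [Surjective q] (p : P ⟶ U) [WeaklyEtale p] (τ : U' ⟶ P) (w : τ ≫ p = q) :
    ∃ s : U ⟶ P, s ≫ p = 𝟙 U ∧ q ≫ s = τ := by
  have : IsAffine U' := isAffine_of_isAffineHom q
  have hUH := uh_appTop q
  let := q.appTop.hom.toAlgebra
  let := p.appTop.hom.toAlgebra
  have hP : Algebra.WeaklyEtale Γ(U, ⊤) Γ(P, ⊤) := by
    rw [← WCBasic.weaklyEtale_Spec_iff]
    have e : Arrow.mk p ≅ Arrow.mk (Spec.map p.appTop) := arrowIsoSpecΓOfIsAffine p
    exact (MorphismProperty.arrow_mk_iso_iff @WeaklyEtale e).mp inferInstance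
  let τ' : Γ(P, ⊤) →ₐ[Γ(U, ⊤)] Γ(U', ⊤) :=
    { τ.appTop.hom with
      commutes' := fun r => by
        change (p.appTop ≫ τ.appTop).hom r = q.appTop.hom r
        rw [← Scheme.Hom.comp_appTop, w] }
  obtain ⟨σ, hσ⟩ := exists_lift hUH τ'
  have h1 : p.appTop ≫ CommRingCat.ofHom σ.toRingHom = 𝟙 _ := by
    ext r
    exact σ.commutes r
  have h2 : CommRingCat.ofHom σ.toRingHom ≫ q.appTop = τ.appTop := by
    ext r
    exact hσ r
  refine ⟨U.isoSpec.hom ≫ Spec.map (CommRingCat.ofHom σ.toRingHom) ≫ P.isoSpec.inv, ?_, ?_⟩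
  · rw [Category.assoc, Category.assoc, ← Scheme.isoSpec_inv_naturality, ← Spec.map_comp_assoc, h1]
    simp
  · rw [← Scheme.isoSpec_hom_naturality_assoc, ← Spec.map_comp_assoc, h2, Scheme.isoSpec_inv_naturality,
      Iso.hom_inv_id_assoc]

/-- Sections of weakly étale morphisms descend Zariski locally along universal homeomorphisms. -/
theorem exists_local_section {U U' P : Scheme.{u}} (q : U' ⟶ U) [IsIntegralHom q]
    [UniversallyInjective q] [Surjective q] (p : P ⟶ U) [WeaklyEtale p] (τ : U' ⟶ P) (w : τ ≫ p = q) (x : U) :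
    ∃ (W : U.Opens) (s : (W : Scheme.{u}) ⟶ P), x ∈ W ∧ s ≫ p = W.ι ∧ (q ∣_ W) ≫ s = (q ⁻¹ᵁ W).ι ≫ τ := by
  obtain ⟨x', rfl⟩ := q.surjective x
  -- an affine neighbourhood of the image of `x`
  obtain ⟨_, ⟨U₁, hU₁, rfl⟩, hxU₁, -⟩ := U.isBasis_affineOpens.exists_subset_of_mem_open
    (Set.mem_univ (q x')) isOpen_univ
  have hx1 : τ x' ∈ p ⁻¹ᵁ U₁ := by
    change p (τ x') ∈ U₁
    rw [← Scheme.Hom.comp_apply, w]
    exact hxU₁
  obtain ⟨_, ⟨P₁, hP₁, rfl⟩, hxP₁, hP₁U₁⟩ := P.isBasis_affineOpens.exists_subset_of_mem_open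
    hx1 (p ⁻¹ᵁ U₁).2
  -- an open neighbourhood of `x` whose preimage maps to `P₁`
  have hclosed : IsClosed (q '' ((τ ⁻¹ᵁ P₁ : U'.Opens) : Set U')ᶜ) :=
    q.isClosedMap _ (τ ⁻¹ᵁ P₁).2.isClosed_compl
  have hxc : q x' ∉ q '' ((τ ⁻¹ᵁ P₁ : U'.Opens) : Set U')ᶜ := by
    rintro ⟨y, hy, hyx⟩
    exact hy (by rw [q.injective hyx]; exact hxP₁)
  obtain ⟨f, hfle, hxf⟩ := hU₁.exists_basicOpen_le ⟨q x', (⟨hxc, hxU₁⟩ :
    q x' ∈ (⟨_, hclosed.isOpen_compl⟩ : U.Opens) ⊓ U₁).1⟩ hxU₁
  have hxf' : q x' ∈ U.basicOpen f := hxf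
  have hW : IsAffineOpen (U.basicOpen f) := hU₁.basicOpen f
  generalize hWW : U.basicOpen f = W at hxf' hfle hW
  have hP₁U₁' : P₁ ≤ p ⁻¹ᵁ U₁ := hP₁U₁
  have hP₂ : IsAffineOpen (P.basicOpen (p.appLE U₁ P₁ hP₁U₁' f)) := hP₁.basicOpen _
  rw [Scheme.basicOpen_appLE, hWW] at hP₂
  obtain ⟨P₂, hPP⟩ : ∃ P₂ : P.Opens, P₁ ⊓ p ⁻¹ᵁ W = P₂ := ⟨_, rfl⟩
  rw [hPP] at hP₂
  have hle : P₂ ≤ p ⁻¹ᵁ W := hPP ▸ inf_le_right
  have : IsAffine W := hW
  have : IsAffine P₂ := hP₂
  have hi2 : UniversallyInjective (q ∣_ W) :=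
    MorphismProperty.of_isPullback (isPullback_morphismRestrict q W).flip inferInstance
  have hi3 : Surjective (q ∣_ W) :=
    MorphismProperty.of_isPullback (isPullback_morphismRestrict q W).flip inferInstance
  have hrange : Set.range ((q ⁻¹ᵁ W).ι ≫ τ) ⊆ Set.range P₂.ι := by
    rw [Scheme.Opens.range_ι]
    rintro _ ⟨y, rfl⟩
    rw [Scheme.Hom.comp_apply, ← hPP]
    have hyW : q ((q ⁻¹ᵁ W).ι y) ∈ W := y.2
    refine ⟨?_, ?_⟩
    · by_contra hn
      exact hfle hyW ⟨_, hn, rfl⟩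
    · change p (τ ((q ⁻¹ᵁ W).ι y)) ∈ W
      rw [← Scheme.Hom.comp_apply, w]
      exact hyW
  let τ' : ((q ⁻¹ᵁ W : U'.Opens) : Scheme.{u}) ⟶ P₂ := IsOpenImmersion.lift P₂.ι ((q ⁻¹ᵁ W).ι ≫ τ) hrange
  have hτ' : τ' ≫ P₂.ι = (q ⁻¹ᵁ W).ι ≫ τ := IsOpenImmersion.lift_fac _ _ _
  obtain ⟨s, hs1, hs2⟩ := exists_section_affine (q ∣_ W) (p.resLE W P₂ hle) τ' (by
    rw [← cancel_mono W.ι, Category.assoc, Scheme.Hom.resLE_comp_ι, ← Category.assoc, hτ', Category.assoc, w,
      morphismRestrict_ι])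
  refine ⟨W, s ≫ P₂.ι, hxf', ?_, ?_⟩
  · rw [Category.assoc, ← Scheme.Hom.resLE_comp_ι p hle, ← Category.assoc, hs1, Category.id_comp]
  · rw [← Category.assoc, hs2, hτ']

end Groth.Agent.Proet.UHSch
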