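import Groth.Agent.Proet.UHSch
import Groth.Agent.Proet.WCClopen
import Groth.Agent.Proet.CoverFin

/-!
# Base change of small pro-étale sites along a universal homeomorphism
-/

set_option autoImplicit false
universe u v

open CategoryTheory CategoryTheory.Limits AlgebraicGeometry Opposite

namespace Groth.Agent.Proet.UHSite

open Groth.Agent.Proet.UHSch WCBasic WCClopen

variable {Z X : Scheme.{u}} (i : Z ⟶ X)

set_option backward.isDefEq.respectTransparency.types false in
/-- The projection `V ×_X Z ⟶ V`. -/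
noncomputable abbrev pr (V : X.ProEt) : ((ProEtS.bcP i).obj V).left ⟶ V.left :=
  (pullback.fst V.hom i : pullback V.hom i ⟶ V.left)

set_option backward.isDefEq.respectTransparency.types false in
theorem bcP_obj_hom (V : X.ProEt) : ((ProEtS.bcP i).obj V).hom = pullback.snd V.hom i := rfl

set_option backward.isDefEq.respectTransparency.types false in
theorem pr_comp_hom (V : X.ProEt) : pr i V ≫ V.hom = ((ProEtS.bcP i).obj V).hom ≫ i :=
  pullback.condition

set_option backward.isDefEq.respectTransparency.types false in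
theorem pr_naturality {U V : X.ProEt} (g : U ⟶ V) :
    ((ProEtS.bcP i).map g).left ≫ pr i V = pr i U ≫ g.left :=
  (Cont.isPullback_bcP_map i g).w

set_option backward.isDefEq.respectTransparency.types false in
/-- A morphism into `V ×_X Z` is determined by the composite to `V`. -/
theorem hom_ext_pr {U : Z.ProEt} {V : X.ProEt} (a b : U ⟶ (ProEtS.bcP i).obj V)
    (h : a.left ≫ pr i V = b.left ≫ pr i V) : a = b := by
  apply MorphismProperty.Over.Hom.ext
  apply pullback.hom_ext
  · exact h
  · have ha : a.left ≫ ((ProEtS.bcP i).obj V).hom = U.hom := Over.w a.hom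
    have hb : b.left ≫ ((ProEtS.bcP i).obj V).hom = U.hom := Over.w b.hom
    rw [bcP_obj_hom] at ha hb
    exact ha.trans hb.symm

set_option backward.isDefEq.respectTransparency.types false in
/-- The morphism `U ⟶ V ×_X Z` of `Z.ProEt` attached to `q : U ⟶ V`. -/
noncomputable def toBc {U : Z.ProEt} {V : X.ProEt} (q : U.left ⟶ V.left)
    (hq : q ≫ V.hom = U.hom ≫ i) : U ⟶ (ProEtS.bcP i).obj V :=
  MorphismProperty.Over.homMk (pullback.lift q U.hom hq) (pullback.lift_snd _ _ _)

set_option backward.isDefEq.respectTransparency.types false in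
theorem toBc_left_pr {U : Z.ProEt} {V : X.ProEt} (q : U.left ⟶ V.left)
    (hq : q ≫ V.hom = U.hom ≫ i) : (toBc i q hq).left ≫ pr i V = q :=
  pullback.lift_fst _ _ _

instance [UniversallyInjective i] (V : X.ProEt) : UniversallyInjective (pr i V) :=
  MorphismProperty.pullback_fst V.hom i inferInstance

instance [Surjective i] (V : X.ProEt) : Surjective (pr i V) :=
  MorphismProperty.pullback_fst V.hom i inferInstance

instance [IsIntegralHom i] (V : X.ProEt) : IsIntegralHom (pr i V) :=
  MorphismProperty.pullback_fst V.hom i inferInstance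

set_option backward.isDefEq.respectTransparency.types false in
theorem faithful [Surjective i] : (ProEtS.bcP i).Faithful where
  map_injective {U V} a b h := by
    apply MorphismProperty.Over.Hom.ext
    refine ext_of_surjective V.hom (pr i U) a.left b.left ?_ ?_
    · have ha : a.left ≫ V.hom = U.hom := Over.w a.hom
      have hb : b.left ≫ V.hom = U.hom := Over.w b.hom
      exact ha.trans hb.symm
    · rw [← pr_naturality, ← pr_naturality, h]

set_option backward.isDefEq.respectTransparency.types false in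
/-- Local fullness on the source. -/
theorem imageSieve_mem [IsIntegralHom i] [UniversallyInjective i] [Surjective i] {U V : X.ProEt}
    (f : (ProEtS.bcP i).obj U ⟶ (ProEtS.bcP i).obj V) :
    (ProEtS.bcP i).imageSieve f ∈ Scheme.ProEt.topology X U := by
  -- the projection `U ×_X V ⟶ U` and the section over `U ×_X Z`
  let p : pullback U.hom V.hom ⟶ U.left := pullback.fst _ _
  have hw : pr i U ≫ U.hom = (f.left ≫ pr i V) ≫ V.hom := by
    have hf : f.left ≫ ((ProEtS.bcP i).obj V).hom = ((ProEtS.bcP i).obj U).hom := Over.w f.hom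
    rw [Category.assoc, pr_comp_hom, pr_comp_hom, ← Category.assoc, hf]
  let τ : ((ProEtS.bcP i).obj U).left ⟶ pullback U.hom V.hom := pullback.lift (pr i U) (f.left ≫ pr i V) hw
  have hτp : τ ≫ p = pr i U := pullback.lift_fst _ _ _
  have hτ2 : τ ≫ pullback.snd U.hom V.hom = f.left ≫ pr i V := pullback.lift_snd _ _ _
  choose W s hxW hs1 hs2 using exists_local_section (pr i U) p τ hτp
  refine (Scheme.ProEt.topology X).superset_covering ?_ (ofArrows_openImmersion_mem
    (fun x : U.left => openHom U (W x)) (fun x => (inferInstance : IsOpenImmersion (W x).ι))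
    (fun x => ⟨x, ⟨⟨x, hxW x⟩, rfl⟩⟩))
  rw [Sieve.generate_le_iff]
  rintro _ _ ⟨x⟩
  have h1 : (s x ≫ pullback.snd U.hom V.hom) ≫ V.hom = (openObj U (W x)).hom := by
    change _ = (W x).ι ≫ U.hom
    rw [Category.assoc, ← pullback.condition, ← Category.assoc, hs1]
  refine ⟨MorphismProperty.Over.homMk (s x ≫ pullback.snd _ _) h1, ?_⟩
  apply hom_ext_pr
  rw [pr_naturality]
  change pr i (openObj U (W x)) ≫ s x ≫ pullback.snd _ _ =
    (((ProEtS.bcP i).map (openHom U (W x))).left ≫ f.left) ≫ pr i V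
  have hnat : ((ProEtS.bcP i).map (openHom U (W x))).left ≫ pr i U = pr i (openObj U (W x)) ≫ (W x).ι :=
    pr_naturality i (openHom U (W x))
  let l : ((ProEtS.bcP i).obj (openObj U (W x))).left ⟶ ((pr i U ⁻¹ᵁ (W x) :
      ((ProEtS.bcP i).obj U).left.Opens) : Scheme.{u}) :=
    IsOpenImmersion.lift (pr i U ⁻¹ᵁ (W x)).ι ((ProEtS.bcP i).map (openHom U (W x))).left (by
      rw [Scheme.Opens.range_ι]
      rintro _ ⟨y, rfl⟩
      change pr i U (((ProEtS.bcP i).map (openHom U (W x))).left y) ∈ W x
      rw [← Scheme.Hom.comp_apply, hnat, Scheme.Hom.comp_apply]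
      exact (pr i (openObj U (W x)) y).2)
  have hl : l ≫ (pr i U ⁻¹ᵁ (W x)).ι = ((ProEtS.bcP i).map (openHom U (W x))).left :=
    IsOpenImmersion.lift_fac _ _ _
  have hl2 : l ≫ (pr i U ∣_ (W x)) = pr i (openObj U (W x)) := by
    rw [← cancel_mono (W x).ι, Category.assoc, morphismRestrict_ι, ← Category.assoc, hl]
    exact hnat
  have key : pr i (openObj U (W x)) ≫ s x = ((ProEtS.bcP i).map (openHom U (W x))).left ≫ τ := by
    calc pr i (openObj U (W x)) ≫ s x = (l ≫ (pr i U ∣_ (W x))) ≫ s x := congrArg (fun t => t ≫ s x) hl2.symm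
      _ = l ≫ (pr i U ∣_ (W x)) ≫ s x := Category.assoc _ _ _
      _ = l ≫ (pr i U ⁻¹ᵁ (W x)).ι ≫ τ := by rw [hs2]
      _ = (l ≫ (pr i U ⁻¹ᵁ (W x)).ι) ≫ τ := (Category.assoc _ _ _).symm
      _ = ((ProEtS.bcP i).map (openHom U (W x))).left ≫ τ := by rw [hl]
  exact (Category.assoc _ _ _).symm.trans ((congrArg (· ≫ pullback.snd _ _) key).trans
    ((Category.assoc _ _ _).trans ((congrArg (((ProEtS.bcP i).map (openHom U (W x))).left ≫ ·) hτ2).trans
      (Category.assoc _ _ _).symm)))

set_option backward.isDefEq.respectTransparency.types false in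
theorem functorPushforward_mem {U : X.ProEt} {S : Sieve U} (hS : S ∈ Scheme.ProEt.topology X U) :
    S.functorPushforward (ProEtS.bcP i) ∈ Scheme.ProEt.topology Z ((ProEtS.bcP i).obj U) := by
  obtain ⟨R, hR, hle⟩ := (Cont.mem_topology_iff S).1 hS
  have h1 := Cont.precoverage_le_comap_bcP i U hR
  rw [Precoverage.mem_comap_iff] at h1
  refine (Scheme.ProEt.topology Z).superset_covering ?_ (Precoverage.generate_mem_toGrothendieck h1)
  rw [Sieve.generate_map_eq_functorPushforward]
  apply Sieve.functorPushforward_monotone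
  rw [Sieve.generate_le_iff]
  exact hle

theorem exists_finset_affine {V : Scheme.{u}} {K : Set V} (hK : IsCompact K) (O : V.Opens)
    (hKO : K ⊆ O) : ∃ (t : Finset V) (A : V → V.Opens), (∀ y ∈ t, IsAffineOpen (A y) ∧ A y ≤ O) ∧
      K ⊆ ⋃ y ∈ t, (A y : Set V) := by
  have h1 : ∀ y : V, ∃ A : V.Opens, y ∈ K → IsAffineOpen A ∧ A ≤ O ∧ y ∈ A := by
    intro y
    by_cases hy : y ∈ K
    · obtain ⟨_, ⟨A, hA, rfl⟩, hyA, hle⟩ := V.isBasis_affineOpens.exists_subset_of_mem_open (hKO hy) O.2
      exact ⟨A, fun _ => ⟨hA, hle, hyA⟩⟩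
    · exact ⟨⊥, fun h => (hy h).elim⟩
  choose A hA using h1
  obtain ⟨t, ht, htc⟩ := hK.elim_nhds_subcover (fun y => (A y : Set V))
    (fun y hy => (A y).2.mem_nhds (hA y hy).2.2)
  exact ⟨t, A, fun y hy => ⟨(hA y (ht y hy)).1, (hA y (ht y hy)).2.1⟩, htc⟩

set_option backward.isDefEq.respectTransparency.types false in
theorem pullback_openHom_mem [IsIntegralHom i] [Surjective i] {U : X.ProEt} {S : Sieve U}
    (hS : S.functorPushforward (ProEtS.bcP i) ∈ Scheme.ProEt.topology Z ((ProEtS.bcP i).obj U))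
    (W : U.left.Opens) (hW : IsAffineOpen W) :
    S.pullback (openHom U W) ∈ Scheme.ProEt.topology X (openObj U W) := by
  have hWa : IsAffine W := hW
  have hWc : CompactSpace (openObj U W).left := (inferInstance : CompactSpace W)
  have hcpt : CompactSpace ((ProEtS.bcP i).obj (openObj U W)).left :=
    QuasiCompact.compactSpace_of_compactSpace (pr i (openObj U W))
  obtain ⟨n, Y, h, hYaff, hYsurj, hYS⟩ := CoverFin.exists_finite_affine_refinement
    ((Scheme.ProEt.topology Z).pullback_stable ((ProEtS.bcP i).map (openHom U W)) hS)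
  choose V s t hs ht using hYS
  let τ : ∀ k, (Y k).left ⟶ (V k).left := fun k => (t k).left ≫ pr i (V k)
  have hτ : ∀ k, τ k ≫ (s k).left = (h k).left ≫ pr i (openObj U W) ≫ W.ι := by
    intro k
    have e1 : (t k).left ≫ ((ProEtS.bcP i).map (s k)).left =
        (h k).left ≫ ((ProEtS.bcP i).map (openHom U W)).left := congrArg (fun f => f.left) (ht k).symm
    have e2 := pr_naturality i (s k)
    have e3 : ((ProEtS.bcP i).map (openHom U W)).left ≫ pr i U = pr i (openObj U W) ≫ W.ι :=
      pr_naturality i (openHom U W)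
    calc τ k ≫ (s k).left = (t k).left ≫ pr i (V k) ≫ (s k).left := Category.assoc _ _ _
      _ = (t k).left ≫ ((ProEtS.bcP i).map (s k)).left ≫ pr i U := by rw [e2]
      _ = ((t k).left ≫ ((ProEtS.bcP i).map (s k)).left) ≫ pr i U := (Category.assoc _ _ _).symm
      _ = ((h k).left ≫ ((ProEtS.bcP i).map (openHom U W)).left) ≫ pr i U := by rw [e1]
      _ = (h k).left ≫ ((ProEtS.bcP i).map (openHom U W)).left ≫ pr i U := Category.assoc _ _ _
      _ = (h k).left ≫ pr i (openObj U W) ≫ W.ι := congrArg (fun f => (h k).left ≫ f) e3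
  have hrange : ∀ k, Set.range (τ k) ⊆ ((s k).left ⁻¹ᵁ W : (V k).left.Opens) := by
    rintro k _ ⟨y, rfl⟩
    change (s k).left (τ k y) ∈ W
    rw [← Scheme.Hom.comp_apply, hτ k]
    exact (pr i (openObj U W) ((h k).left y)).2
  have hcompact : ∀ k, IsCompact (Set.range (τ k)) := by
    intro k
    have := hYaff k
    exact isCompact_range (τ k).continuous
  choose c A hA hAc using fun k => exists_finset_affine (hcompact k) _ (hrange k)
  let ob : (Σ k : Fin n, c k) → X.ProEt := fun j => openObj (V j.1) (A j.1 j.2)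
  let mor : ∀ j, ob j ⟶ openObj U W := fun j =>
    MorphismProperty.Over.homMk ((s j.1).left.resLE W (A j.1 j.2) (hA j.1 j.2 j.2.2).2) (by
      have e1 : (s j.1).left ≫ U.hom = (V j.1).hom := Over.w (s j.1).hom
      change (s j.1).left.resLE W (A j.1 j.2) _ ≫ W.ι ≫ U.hom = (A j.1 j.2).ι ≫ (V j.1).hom
      rw [← Category.assoc, Scheme.Hom.resLE_comp_ι, Category.assoc, e1])
  refine (Scheme.ProEt.topology X).superset_covering ?_ (CoverFin.sieve_mem_of_finite ob mor ?_ ?_)
  · rw [Sieve.ofArrows, Sieve.generate_le_iff]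
    rintro _ _ ⟨j⟩
    change S (mor j ≫ openHom U W)
    have e : mor j ≫ openHom U W = openHom (V j.1) (A j.1 j.2) ≫ s j.1 := by
      apply MorphismProperty.Over.Hom.ext
      exact Scheme.Hom.resLE_comp_ι _ _
    rw [e]
    exact S.downward_closed (hs j.1) _
  · intro j
    have h1 : IsAffine (A j.1 j.2) := (hA j.1 j.2 j.2.2).1
    exact (inferInstance : QuasiCompact ((s j.1).left.resLE W (A j.1 j.2) (hA j.1 j.2 j.2.2).2))
  · intro w
    obtain ⟨z, hz⟩ := (pr i (openObj U W)).surjective w
    obtain ⟨k, y, hy⟩ := hYsurj z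
    obtain ⟨a, ha, hya⟩ := Set.mem_iUnion₂.mp (hAc k ⟨y, rfl⟩)
    refine ⟨⟨k, ⟨a, ha⟩⟩, ⟨τ k y, hya⟩, ?_⟩
    apply W.ι.injective
    have e1 : W.ι ((s k).left.resLE W (A k a) (hA k a ha).2 ⟨τ k y, hya⟩) = (s k).left (τ k y) := by
      rw [← Scheme.Hom.comp_apply, Scheme.Hom.resLE_comp_ι]
      rfl
    have e2 : (s k).left (τ k y) = W.ι (pr i (openObj U W) ((h k).left y)) := by
      rw [← Scheme.Hom.comp_apply, hτ k]
      rfl
    exact e1.trans (e2.trans (by rw [hy, hz]))

set_option backward.isDefEq.respectTransparency.types false in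
theorem mem_of_functorPushforward_mem [IsIntegralHom i] [Surjective i] {U : X.ProEt} {S : Sieve U}
    (hS : S.functorPushforward (ProEtS.bcP i) ∈ Scheme.ProEt.topology Z ((ProEtS.bcP i).obj U)) :
    S ∈ Scheme.ProEt.topology X U := by
  have h1 : ∀ x : U.left, ∃ W : U.left.Opens, x ∈ W ∧ IsAffineOpen W := by
    intro x
    obtain ⟨_, ⟨W, hW, rfl⟩, hxW, -⟩ := U.left.isBasis_affineOpens.exists_subset_of_mem_open
      (Set.mem_univ x) isOpen_univ
    exact ⟨W, hxW, hW⟩
  choose W hxW hW using h1
  refine (Scheme.ProEt.topology X).transitive (ofArrows_openImmersion_mem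
    (fun x : U.left => openHom U (W x)) (fun x => (inferInstance : IsOpenImmersion (W x).ι))
    (fun x => ⟨x, ⟨⟨x, hxW x⟩, rfl⟩⟩)) S ?_
  rintro Y _ ⟨_, a, _, ⟨x⟩, rfl⟩
  rw [Sieve.pullback_comp]
  exact (Scheme.ProEt.topology X).pullback_stable a (pullback_openHom_mem i hS (W x) (hW x))

end Groth.Agent.Proet.UHSite
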