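import Groth.Agent.Proet.EpsPres
import Groth.Agent.Proet.RpushEps
import Groth.Agent.Dix.EtaleSieve

/-!
# The unit of `eps⁻¹ ⊣ eps_*` is an isomorphism (Stacks 099T), from a description of sections

* `isBasis_affine X`: affine étale schemes form a basis of the small étale site.
* `isIso_unit`: `F → eps_* eps⁻¹ F` is an isomorphism, from `RepSurj` on `B0` and `RepInj`.
-/

set_option autoImplicit false
universe u

open CategoryTheory CategoryTheory.Limits AlgebraicGeometry Opposite CategoryTheory.Abelian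

namespace Groth.Agent.Proet.UnitIso

open PushAcyc RpushEps EpsB0 EpsPres

set_option backward.isDefEq.respectTransparency.types false

/-- Affine étale schemes form a basis of the small étale site. -/
theorem isBasis_affine (X : Scheme.{u}) :
    IsBasis X.smallEtaleTopology (fun U : X.Etale => IsAffine U.left) := by
  intro U
  let S : Sieve U :=
    { arrows := fun V g => ∃ (W : X.Etale) (_ : IsAffine W.left) (a : V ⟶ W) (b : W ⟶ U), a ≫ b = g
      downward_closed := by
        rintro V V' g ⟨W, hW, a, b, rfl⟩ c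
        exact ⟨W, hW, c ≫ a, b, Category.assoc _ _ _⟩ }
  refine ⟨S, ?_, fun V g hg => hg⟩
  refine Groth.Agent.Dix.EtaleSieve.mem_of_forall U S fun x => ?_
  obtain ⟨W, hW, hxW, -⟩ := exists_isAffineOpen_mem_and_subset (x := x) (U := ⊤) trivial
  let V : X.Etale := Scheme.Etale.mk (W.ι ≫ U.hom)
  let g : V ⟶ U := MorphismProperty.Over.homMk W.ι rfl trivial
  exact ⟨V, g, ⟨⟨x, hxW⟩, rfl⟩, V, hW, 𝟙 V, g, Category.id_comp g⟩

/-- A section of `F` dying in `eps⁻¹ F` over `V` dies on an étale neighbourhood. -/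
def RepInj {X : Scheme.{u}} [ProEtS.EpsCont X] (V : X.ProEt) : Prop :=
  ∀ (F : EtCoh.Ab X) (U : X.Etale) (g : V ⟶ (ProEtS.eps X).obj U) (s : F.obj.obj (op U)),
    ((ProEtS.epsPull X).obj F).obj.map g.op (un F U s) = 0 →
      ∃ (W : X.Etale) (k : W ⟶ U) (g1 : V ⟶ (ProEtS.eps X).obj W),
        g1 ≫ (ProEtS.eps X).map k = g ∧ F.obj.map k.op s = 0

/-- The unit is bijective on sections over `U` when `eps U` has `RepSurj` and `RepInj`. -/
theorem bijective_un {X : Scheme.{u}} [ProEtS.EpsCont X] (F : EtCoh.Ab X) (U : X.Etale)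
    (hS : RepSurj ((ProEtS.eps X).obj U)) (hI : RepInj ((ProEtS.eps X).obj U)) :
    Function.Bijective (un F U) := by
  constructor
  · rw [injective_iff_map_eq_zero]
    intro s hs
    obtain ⟨W, k, g1, h1, h2⟩ := hI F U (𝟙 _) s (by rw [hs, map_zero])
    let h : U ⟶ W := (epsFF X).preimage g1
    have h3 : h ≫ k = 𝟙 U := by
      apply (epsFF X).map_injective
      rw [Functor.map_comp, (epsFF X).map_preimage, CategoryTheory.Functor.map_id]
      exact h1
    have h4 : F.obj.map h.op (F.obj.map k.op s) = s := by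
      rw [← ConcreteCategory.comp_apply, ← Functor.map_comp, ← op_comp, h3, op_id,
        CategoryTheory.Functor.map_id]
      rfl
    rw [← h4, h2, map_zero]
  · intro y
    obtain ⟨U', g, x, hx⟩ := hS F y
    let h : U ⟶ U' := (epsFF X).preimage g
    refine ⟨F.obj.map h.op x, ?_⟩
    rw [un_naturality, (epsFF X).map_preimage]
    exact hx

/-- `F → eps_* eps⁻¹ F` is an isomorphism. -/
theorem isIso_unit {X : Scheme.{u}} [ProEtS.EpsCont X]
    (hS : ∀ U : X.Etale, IsAffine U.left → RepSurj ((ProEtS.eps X).obj U))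
    (hI : ∀ U : X.Etale, IsAffine U.left → RepInj ((ProEtS.eps X).obj U)) (F : EtCoh.Ab X) :
    IsIso ((ProEtS.epsAdj X).unit.app F) :=
  isIso_of_basis _ (isBasis_affine X) fun U hU => bijective_un F U (hS U hU) (hI U hU)

end Groth.Agent.Proet.UnitIso
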