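import Groth.Agent.Proet.WCClopen
import Mathlib.CategoryTheory.Limits.Shapes.Opposites.Products

/-!
# Sheafification on affine weakly contractible objects
-/

set_option autoImplicit false
universe u v w

open CategoryTheory CategoryTheory.Limits AlgebraicGeometry Opposite

namespace Groth.Agent.Proet.WCSheafify

open Scheme TensorProduct WCBasic WC WCClopen

variable {X : Scheme.{u}}

set_option backward.isDefEq.respectTransparency.types false in
/-- A disjoint union of open subobjects is a coproduct in the small pro-etale site. -/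
theorem nonempty_isColimit_of_disjoint {ι : Type v} {U : X.ProEt} {W : ι → X.ProEt}
    (g : ∀ i, W i ⟶ U)
    (hg : ∀ i, IsOpenImmersion (g i).left) (hcov : ∀ x : U.left, ∃ i, x ∈ Set.range (g i).left)
    (hdisj : Pairwise fun i j => Disjoint (Set.range (g i).left) (Set.range (g j).left)) :
    Nonempty (IsColimit (Cofan.mk U g)) := by
  have hsub : ∀ V : X.ProEt, Presieve.IsSheaf (Scheme.ProEt.topology X) (yoneda.obj V) :=
    fun V => GrothendieckTopology.Subcanonical.isSheaf_of_isRepresentable _
  have hb := fun V => bijective_of_disjoint g hg hcov hdisj (hsub V)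
  choose d hd using fun V => (hb V).2
  refine ⟨Cofan.IsColimit.mk _ (fun s => d s.pt (fun i => s.inj i)) (fun s i => ?_)
    (fun s m hm => ?_)⟩
  · exact congrFun (hd s.pt (fun i => s.inj i)) i
  · apply (hb s.pt).1
    funext i
    exact (hm i).trans (congrFun (hd s.pt (fun i => s.inj i)) i).symm

/-- A limit fan of types induces a bijection onto the product. -/
theorem bijective_of_isLimit_fan {ι : Type v} {Z : ι → Type w} {c : Fan Z} (hc : IsLimit c) :
    Function.Bijective (fun (x : c.pt) (i : ι) => c.proj i x) := by
  constructor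
  · intro x y hxy
    have h : (↾fun _ : PUnit.{w + 1} => x) = ↾fun _ => y := by
      refine Fan.IsLimit.hom_ext hc _ _ fun i => ?_
      ext ⟨⟩
      exact congrFun hxy i
    exact ConcreteCategory.congr_hom h PUnit.unit
  · intro x
    refine ⟨Fan.IsLimit.lift hc (fun i => ↾fun _ : PUnit.{w + 1} => x i) PUnit.unit,
      funext fun i => ?_⟩
    exact ConcreteCategory.congr_hom
      (Fan.IsLimit.fac hc (fun i => ↾fun _ : PUnit.{w + 1} => x i) i) PUnit.unit

set_option backward.isDefEq.respectTransparency.types false in
/-- Presheaves preserving finite products turn finite disjoint unions into products. -/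
theorem bijective_of_preservesFiniteProducts {ι : Type} [Finite ι] {U : X.ProEt}
    {W : ι → X.ProEt} (g : ∀ i, W i ⟶ U)
    (hg : ∀ i, IsOpenImmersion (g i).left) (hcov : ∀ x : U.left, ∃ i, x ∈ Set.range (g i).left)
    (hdisj : Pairwise fun i j => Disjoint (Set.range (g i).left) (Set.range (g j).left))
    (F : X.ProEtᵒᵖ ⥤ Type w) [PreservesFiniteProducts F] :
    Function.Bijective (fun (s : F.obj (op U)) (i : ι) => F.map (g i).op s) := by
  obtain ⟨hc⟩ := nonempty_isColimit_of_disjoint g hg hcov hdisj
  exact bijective_of_isLimit_fan (isLimitFanMkObjOfIsLimit F _ _ (Cofan.IsColimit.op hc))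

/-- The properties of a clopen decomposition. -/
theorem openHom_props {U : X.ProEt} {ι : Type v} (W : ι → U.left.Opens)
    (hdisj : Pairwise (fun k l => Disjoint (W k : Set ↥U.left) (W l)))
    (hcov : (⋃ k, (W k : Set ↥U.left)) = Set.univ) :
    (∀ k, IsOpenImmersion (openHom U (W k)).left) ∧
    (∀ x : U.left, ∃ i, x ∈ Set.range (openHom U (W i)).left) ∧
    (Pairwise fun i j => Disjoint (Set.range (openHom U (W i)).left)
      (Set.range (openHom U (W j)).left)) := by
  refine ⟨fun k => inferInstanceAs (IsOpenImmersion (W k).ι), ?_, ?_⟩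
  · intro x
    have hx : x ∈ ⋃ k, (W k : Set ↥U.left) := by rw [hcov]; trivial
    obtain ⟨i, hi⟩ := Set.mem_iUnion.1 hx
    exact ⟨i, ⟨x, hi⟩, rfl⟩
  · intro i j hij
    have e : ∀ i, Set.range (openHom U (W i)).left = (W i : Set ↥U.left) := fun i =>
      Subtype.range_coe
    rw [e, e]
    exact hdisj hij

/-- A locally bijective map from a presheaf preserving finite products to a sheaf is bijective
on affine weakly contractible objects. -/
theorem bijective_app_of_isWC {F G : X.ProEtᵒᵖ ⥤ Type w} (φ : F ⟶ G)
    [PreservesFiniteProducts F] (hG : Presieve.IsSheaf (Scheme.ProEt.topology X) G)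
    [Presheaf.IsLocallyInjective (Scheme.ProEt.topology X) φ]
    [Presheaf.IsLocallySurjective (Scheme.ProEt.topology X) φ]
    (U : X.ProEt) [IsAffine U.left] (hU : ProEtS.IsWC U) :
    Function.Bijective (φ.app (op U)) := by
  constructor
  · intro a b hab
    have h := Presheaf.equalizerSieve_mem (Scheme.ProEt.topology X) φ (X := op U) a b hab
    obtain ⟨n, W, -, hdisj, hcov, hW⟩ := exists_clopen_of_isWC hU h
    obtain ⟨h1, h2, h3⟩ := openHom_props W hdisj hcov
    apply (bijective_of_preservesFiniteProducts _ h1 h2 h3 F).1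
    funext k
    exact hW k
  · intro t
    have h : Presheaf.imageSieve φ t ∈ Scheme.ProEt.topology X U :=
      Presheaf.imageSieve_mem (Scheme.ProEt.topology X) φ (U := op U) t
    obtain ⟨n, W, -, hdisj, hcov, hW⟩ := exists_clopen_of_isWC hU h
    obtain ⟨h1, h2, h3⟩ := openHom_props W hdisj hcov
    choose x hx using hW
    obtain ⟨y, hy⟩ := (bijective_of_preservesFiniteProducts _ h1 h2 h3 F).2 x
    refine ⟨y, ?_⟩
    apply (bijective_of_disjoint _ h1 h2 h3 hG).1
    funext k
    have h4 : F.map (openHom U (W k)).op y = x k := congrFun hy k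
    have h5 : φ.app (op (openObj U (W k))) (x k) = G.map (openHom U (W k)).op t := hx k
    dsimp only
    rw [← h5, ← h4]
    exact (ConcreteCategory.congr_hom (φ.naturality (openHom U (W k)).op) y).symm

end Groth.Agent.Proet.WCSheafify
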