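import Groth.Agent.Proet.WCExist
import Groth.Agent.Proet.WCSheafify
import Groth.Prelude.Def_ProEtDC
import Mathlib.CategoryTheory.Sites.EpiMono

/-!
# Exactness on weakly contractible objects
-/

set_option autoImplicit false
universe u v w v' u'

open CategoryTheory CategoryTheory.Limits AlgebraicGeometry Opposite

namespace Groth.Agent.Proet.WCExact

open WCBasic WC WCClopen WCExist

variable {X : Scheme.{u}}

/-- The sieve of all morphisms factoring through an affine weakly contractible object. -/
def wcSieve (U : X.ProEt) : Sieve U where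
  arrows Y f := ∃ (V : X.ProEt) (a : Y ⟶ V) (b : V ⟶ U),
    IsAffine V.left ∧ ProEtS.IsWC V ∧ a ≫ b = f
  downward_closed := by
    rintro Y Z f ⟨V, a, b, h1, h2, rfl⟩ g
    exact ⟨V, g ≫ a, b, h1, h2, by simp⟩

set_option backward.isDefEq.respectTransparency.types false in
theorem wcSieve_mem (hwc : HasWCCover.{u}) (U : X.ProEt) :
    wcSieve U ∈ Scheme.ProEt.topology X U := by
  have h1 : Sieve.generate (Presieve.ofArrows _
      (fun T : U.left.affineOpens => openHom U T.1)) ∈ Scheme.ProEt.topology X U := by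
    refine ofArrows_openImmersion_mem _ (fun i => inferInstanceAs (IsOpenImmersion i.1.ι))
      fun x => ?_
    obtain ⟨T, hT, hx, -⟩ := U.left.isBasis_affineOpens.exists_subset_of_mem_open
      (Set.mem_univ x) isOpen_univ
    obtain ⟨T', hT', rfl⟩ := hT
    exact ⟨⟨T', hT'⟩, ⟨x, hx⟩, rfl⟩
  refine (Scheme.ProEt.topology X).transitive h1 _ ?_
  rintro Y f ⟨_, k, _, ⟨T⟩, rfl⟩
  rw [Sieve.pullback_comp]
  apply (Scheme.ProEt.topology X).pullback_stable
  have hT' : IsAffine (openObj U T.1).left := T.2
  obtain ⟨V, g, hV, hg, hwcV⟩ := exists_affine_wc_cover hwc (openObj U T.1)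
  refine (Scheme.ProEt.topology X).superset_covering ?_ (generate_singleton_mem g)
  rw [Sieve.generate_le_iff]
  rintro _ _ ⟨⟩
  exact ⟨V, 𝟙 _, g ≫ openHom U T.1, hV, hwcV, by simp⟩

section Concrete

variable {A : Type u'} [Category.{v'} A] {FA : A → A → Type*} {CA : A → Type (u + 1)}
  [∀ X Y, FunLike (FA X Y) (CA X) (CA Y)] [ConcreteCategory.{u + 1} A FA]

/-- Locally surjective maps are surjective on weakly contractible objects. -/
theorem surjective_of_isLocallySurjective
    [(Scheme.ProEt.topology X).HasSheafCompose (forget A)]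
    {F G : Sheaf (Scheme.ProEt.topology X) A} (φ : F ⟶ G)
    [h : Sheaf.IsLocallySurjective φ] {U : X.ProEt} (hU : ProEtS.IsWC U) :
    Function.Surjective (φ.hom.app (op U)) := by
  rw [isWC_iff] at hU
  have h1 : Sheaf.IsLocallySurjective
      ((sheafCompose (Scheme.ProEt.topology X) (forget A)).map φ) := inferInstance
  exact hU _ _ _ h1

/-- Maps which are surjective on affine weakly contractible objects are locally surjective. -/
theorem isLocallySurjective_of_surjective (hwc : HasWCCover.{u})
    {F G : X.ProEtᵒᵖ ⥤ A} (φ : F ⟶ G)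
    (h : ∀ U : X.ProEt, IsAffine U.left → ProEtS.IsWC U →
      Function.Surjective (φ.app (op U))) :
    Presheaf.IsLocallySurjective (Scheme.ProEt.topology X) φ := by
  refine ⟨fun {U} s => ?_⟩
  refine (Scheme.ProEt.topology X).superset_covering ?_ (wcSieve_mem hwc U)
  rintro Y f ⟨V, a, b, h1, h2, rfl⟩
  obtain ⟨t, ht⟩ := h V h1 h2 (G.map b.op s)
  refine ⟨F.map a.op t, ?_⟩
  rw [NatTrans.naturality_apply φ a.op t, ht]
  simp

/-- Maps which are injective on affine weakly contractible objects are locally injective. -/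
theorem isLocallyInjective_of_injective (hwc : HasWCCover.{u})
    {F G : X.ProEtᵒᵖ ⥤ A} (φ : F ⟶ G)
    (h : ∀ U : X.ProEt, IsAffine U.left → ProEtS.IsWC U →
      Function.Injective (φ.app (op U))) :
    Presheaf.IsLocallyInjective (Scheme.ProEt.topology X) φ := by
  refine ⟨fun {U} s t hst => ?_⟩
  refine (Scheme.ProEt.topology X).superset_covering ?_ (wcSieve_mem hwc U.unop)
  rintro Y f ⟨V, a, b, h1, h2, rfl⟩
  have h3 : F.map b.op s = F.map b.op t := by
    apply h V h1 h2
    erw [NatTrans.naturality_apply φ b.op s, NatTrans.naturality_apply φ b.op t, hst]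
  change F.map (a ≫ b).op s = F.map (a ≫ b).op t
  rw [op_comp, Functor.map_comp]
  simp [h3]

theorem epi_of_surjective (hwc : HasWCCover.{u})
    [(Scheme.ProEt.topology X).HasSheafCompose (forget A)]
    {F G : Sheaf (Scheme.ProEt.topology X) A} (φ : F ⟶ G)
    (h : ∀ U : X.ProEt, IsAffine U.left → ProEtS.IsWC U →
      Function.Surjective (φ.hom.app (op U))) : Epi φ := by
  have : Sheaf.IsLocallySurjective φ := isLocallySurjective_of_surjective hwc φ.hom h
  infer_instance

theorem isIso_of_bijective (hwc : HasWCCover.{u})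
    [(Scheme.ProEt.topology X).HasSheafCompose (forget A)] [(forget A).ReflectsIsomorphisms]
    {F G : Sheaf (Scheme.ProEt.topology X) A} (φ : F ⟶ G)
    (h : ∀ U : X.ProEt, IsAffine U.left → ProEtS.IsWC U →
      Function.Bijective (φ.hom.app (op U))) : IsIso φ := by
  refine (Sheaf.isLocallyBijective_iff_isIso (J := Scheme.ProEt.topology X) (f := φ)).1 ?_
  exact ⟨isLocallyInjective_of_injective hwc φ.hom fun U h1 h2 => (h U h1 h2).1,
    isLocallySurjective_of_surjective hwc φ.hom fun U h1 h2 => (h U h1 h2).2⟩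

end Concrete

section Products

variable {A : Type u'} [Category.{v'} A] {FA : A → A → Type*} {CA : A → Type (u + 1)}
  [∀ X Y, FunLike (FA X Y) (CA X) (CA Y)] [ConcreteCategory.{u + 1} A FA]
  [ConcreteCategory.HasFunctorialSurjectiveInjectiveFactorization A]
  [(Scheme.ProEt.topology X).WEqualsLocallyBijective A]
  [HasSheafify (Scheme.ProEt.topology X) A]
  [(Scheme.ProEt.topology X).HasSheafCompose (forget A)]
  [Balanced (Sheaf (Scheme.ProEt.topology X) A)]

/-- Epimorphisms are surjective on weakly contractible objects. -/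
theorem surjective_of_epi {F G : Sheaf (Scheme.ProEt.topology X) A} (φ : F ⟶ G)
    [Epi φ] {U : X.ProEt} (hU : ProEtS.IsWC U) :
    Function.Surjective (φ.hom.app (op U)) := by
  have : Sheaf.IsLocallySurjective φ := (Sheaf.isLocallySurjective_iff_epi' A φ).2 inferInstance
  exact surjective_of_isLocallySurjective φ hU

omit [ConcreteCategory.HasFunctorialSurjectiveInjectiveFactorization A]
  [(Scheme.ProEt.topology X).WEqualsLocallyBijective A]
  [(Scheme.ProEt.topology X).HasSheafCompose (forget A)]
  [Balanced (Sheaf (Scheme.ProEt.topology X) A)] in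
/-- Sections of a product of sheaves. -/
theorem bijective_sections_of_isLimit {ι : Type w} {F : ι → Sheaf (Scheme.ProEt.topology X) A}
    [HasLimitsOfShape (Discrete ι) A] [PreservesLimitsOfShape (Discrete ι) (forget A)]
    {P : Sheaf (Scheme.ProEt.topology X) A} (p : ∀ i, P ⟶ F i) (hc : IsLimit (Fan.mk P p))
    (U : X.ProEt) :
    Function.Bijective (fun (x : ToType (P.obj.obj (op U))) (i : ι) =>
      (p i).hom.app (op U) x) := by
  let E : Sheaf (Scheme.ProEt.topology X) A ⥤ Type (u + 1) :=
    sheafToPresheaf _ _ ⋙ (evaluation _ _).obj (op U) ⋙ forget A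
  exact WCSheafify.bijective_of_isLimit_fan (isLimitFanMkObjOfIsLimit E _ _ hc)

/-- Products of epimorphisms are epimorphisms. -/
theorem epi_of_isLimit_of_epi (hwc : HasWCCover.{u}) {ι : Type w}
    {F G : ι → Sheaf (Scheme.ProEt.topology X) A}
    [HasLimitsOfShape (Discrete ι) A] [PreservesLimitsOfShape (Discrete ι) (forget A)]
    {P Q : Sheaf (Scheme.ProEt.topology X) A} (p : ∀ i, P ⟶ F i) (hp : IsLimit (Fan.mk P p))
    (q : ∀ i, Q ⟶ G i) (hq : IsLimit (Fan.mk Q q)) (φ : P ⟶ Q) (f : ∀ i, F i ⟶ G i)
    (hf : ∀ i, Epi (f i)) (h : ∀ i, φ ≫ q i = p i ≫ f i) : Epi φ := by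
  refine epi_of_surjective hwc φ fun U _ hU => ?_
  intro y
  choose x hx using fun i => surjective_of_epi (f i) hU ((q i).hom.app (op U) y)
  obtain ⟨z, hz⟩ := (bijective_sections_of_isLimit p hp U).2 x
  refine ⟨z, ?_⟩
  apply (bijective_sections_of_isLimit q hq U).1
  funext i
  have h1 : (p i).hom.app (op U) z = x i := congrFun hz i
  have h2 := ConcreteCategory.congr_hom (congrArg (fun t => t.hom.app (op U)) (h i)) z
  simp at h2
  rw [h1] at h2
  exact h2.trans (hx i)

end Products

section Lim

/-- A limit cone over a discrete diagram as a limit fan. -/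
def isLimitFan {C : Type*} [Category* C] {ι : Type w} {D : Discrete ι ⥤ C} {c : Cone D}
    (hc : IsLimit c) : IsLimit (Fan.mk c.pt (fun i => c.π.app ⟨i⟩)) :=
  Fan.IsLimit.mk _ (fun s => hc.lift ⟨s.pt, Discrete.natTrans fun i => s.proj i.as⟩)
    (fun s i => hc.fac ⟨s.pt, Discrete.natTrans fun i => s.proj i.as⟩ ⟨i⟩)
    (fun s m hm => hc.uniq ⟨s.pt, Discrete.natTrans fun i => s.proj i.as⟩ m
      (fun ⟨i⟩ => hm i))

variable {A : Type u'} [Category.{v'} A] {FA : A → A → Type*} {CA : A → Type (u + 1)}
  [∀ X Y, FunLike (FA X Y) (CA X) (CA Y)] [ConcreteCategory.{u + 1} A FA]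
  [ConcreteCategory.HasFunctorialSurjectiveInjectiveFactorization A]
  [(Scheme.ProEt.topology X).WEqualsLocallyBijective A]
  [HasSheafify (Scheme.ProEt.topology X) A]
  [(Scheme.ProEt.topology X).HasSheafCompose (forget A)]
  [Balanced (Sheaf (Scheme.ProEt.topology X) A)]

/-- Products of sheaves on the small pro-etale site are exact. -/
theorem preservesEpi_lim (hwc : HasWCCover.{u}) (ι : Type w)
    [HasPushouts (Sheaf (Scheme.ProEt.topology X) A)]
    [HasLimitsOfShape (Discrete ι) A] [PreservesLimitsOfShape (Discrete ι) (forget A)] :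
    (lim (J := Discrete ι) (C := Sheaf (Scheme.ProEt.topology X) A)).PreservesEpimorphisms where
  preserves {D₁ D₂} f hf := by
    exact epi_of_isLimit_of_epi hwc _ (isLimitFan (limit.isLimit D₁)) _
      (isLimitFan (limit.isLimit D₂)) (lim.map f) (fun i => f.app ⟨i⟩)
      (fun i => (NatTrans.epi_iff_epi_app f).1 hf ⟨i⟩) (fun i => limMap_π f ⟨i⟩)

end Lim

section Instances

set_option backward.isDefEq.respectTransparency.types false in
theorem hasExactLimitsOfShape_modP (hwc : HasWCCover.{u}) (Λ : Type (u + 1)) [CommRing Λ]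
    (ι : Type (u + 1)) : HasExactLimitsOfShape (Discrete ι) (EtModW.ModP Λ X) := by
  have := preservesEpi_lim (X := X) (A := ModuleCat.{u + 1} Λ) hwc ι
  exact hasExactLimitsOfShape_of_preservesEpi (C := EtModW.ModP Λ X) (Discrete ι)

set_option backward.isDefEq.respectTransparency.types false in
theorem hasExactLimitsOfShape_nat_modP (hwc : HasWCCover.{u}) (Λ : Type (u + 1)) [CommRing Λ] :
    HasExactLimitsOfShape (Discrete ℕ) (EtModW.ModP Λ X) := by
  have := preservesEpi_lim (X := X) (A := ModuleCat.{u + 1} Λ) hwc ℕ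
  exact hasExactLimitsOfShape_of_preservesEpi (C := EtModW.ModP Λ X) (Discrete ℕ)

set_option backward.isDefEq.respectTransparency.types false in
theorem hasExactLimitsOfShape_abP (hwc : HasWCCover.{u})
    (ι : Type (u + 1)) : HasExactLimitsOfShape (Discrete ι) (ProEtS.AbP X) := by
  have := preservesEpi_lim (X := X) (A := AddCommGrpCat.{u + 1}) hwc ι
  exact hasExactLimitsOfShape_of_preservesEpi (C := ProEtS.AbP X) (Discrete ι)

set_option backward.isDefEq.respectTransparency.types false in
theorem hasExactLimitsOfShape_nat_abP (hwc : HasWCCover.{u}) :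
    HasExactLimitsOfShape (Discrete ℕ) (ProEtS.AbP X) := by
  have := preservesEpi_lim (X := X) (A := AddCommGrpCat.{u + 1}) hwc ℕ
  exact hasExactLimitsOfShape_of_preservesEpi (C := ProEtS.AbP X) (Discrete ℕ)

end Instances

end Groth.Agent.Proet.WCExact
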