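import Groth.Prelude.Def_PBC
import Groth.Agent.Proet.WEtale2

/-!
# Lifting sections over w-contractible rings

* `exists_lift`: if `A` is w-contractible, `A → Ā` is surjective with kernel in the Jacobson radical
  and `A → C` is weakly etale, then every `A`-algebra map `C → Ā` lifts to `C → A`.
* `algHom_ext_of_weaklyEtale`: the lift is unique.
-/

set_option autoImplicit false
universe u v w

open scoped TensorProduct

namespace Groth.Agent.Proet.WCLift

open WEtaleBasic WEtale2

theorem exists_eq_mul_of_flat {R : Type u} {S : Type v} [CommRing R] [CommRing S] (f : R →+* S)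
    (hf : f.Flat) (hs : Function.Surjective f) {x : R} (hx : f x = 0) :
    ∃ y, f y = 0 ∧ x = x * y := by
  algebraize [f]
  have : (RingHom.ker f).Pure :=
    Module.Flat.of_linearEquiv
      (Ideal.quotientKerAlgEquivOfSurjective (f := Algebra.ofId R S) hs).toLinearEquiv
  exact Ideal.exists_eq_mul_of_pure (I := RingHom.ker f) hx

/-- A flat algebra `C'` over `A` is faithfully flat as soon as it has an `A`-algebra map to a
quotient of `A` by an ideal contained in the Jacobson radical. -/
theorem faithfullyFlat_of_algHom {A : Type u} {Ab : Type v} {C : Type w} [CommRing A] [CommRing Ab]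
    [CommRing C] [Algebra A Ab] [Algebra A C] [Module.Flat A C]
    (hs : Function.Surjective (algebraMap A Ab))
    (hJ : RingHom.ker (algebraMap A Ab) ≤ Ring.jacobson A) (π : C →ₐ[A] Ab) :
    Module.FaithfullyFlat A C := by
  refine ⟨fun {m} hm htop => ?_⟩
  have hkm : RingHom.ker (algebraMap A Ab) ≤ m := by
    refine hJ.trans ?_
    rw [Ring.jacobson_eq_sInf_isMaximal]
    exact sInf_le hm
  have h1 : (1 : C) ∈ m.map (algebraMap A C) := by
    have : (1 : C) ∈ (m • ⊤ : Submodule A C) := by rw [htop]; trivial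
    rwa [Ideal.smul_top_eq_map] at this
  have h2 : (1 : Ab) ∈ m.map (algebraMap A Ab) := by
    have := Ideal.mem_map_of_mem (π : C →+* Ab) h1
    rw [Ideal.map_map, map_one] at this
    have e : (π : C →+* Ab).comp (algebraMap A C) = algebraMap A Ab := π.comp_algebraMap
    rwa [e] at this
  rw [Ideal.mem_map_iff_of_surjective _ hs] at h2
  obtain ⟨a, ha, ha1⟩ := h2
  have h3 : a - 1 ∈ RingHom.ker (algebraMap A Ab) := by
    rw [RingHom.mem_ker, map_sub, ha1, map_one, sub_self]
  have h4 : (1 : A) ∈ m := by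
    have := m.sub_mem ha (hkm h3)
    simpa using this
  exact hm.ne_top ((Ideal.eq_top_iff_one m).2 h4)

/-- Lifting sections over w-contractible rings. -/
theorem exists_lift {A Ab C : Type u} [CommRing A] [CommRing Ab] [CommRing C] [Algebra A Ab]
    [Algebra A C] [Algebra.WeaklyEtale A C] (hA : EtPBC.IsWContractible A)
    (hs : Function.Surjective (algebraMap A Ab))
    (hJ : RingHom.ker (algebraMap A Ab) ≤ Ring.jacobson A) (π : C →ₐ[A] Ab) :
    ∃ σ : C →ₐ[A] A, ∀ c, algebraMap A Ab (σ c) = π c := by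
  let S : Submonoid C := Submonoid.comap π (⊥ : Submonoid Ab)
  have hS : ∀ c, c ∈ S ↔ π c = 1 := fun c => Submonoid.mem_bot
  let C' := Localization S
  have hw : Algebra.WeaklyEtale C C' := weaklyEtale_of_isLocalization C' S
  have hw' : Algebra.WeaklyEtale A C' := Algebra.WeaklyEtale.trans A C C'
  let π' : C' →ₐ[A] Ab := IsLocalization.liftAlgHom (M := S) (f := π) (fun s => by
    rw [(hS s).1 s.2]; exact isUnit_one)
  have hff : Module.FaithfullyFlat A C' := faithfullyFlat_of_algHom hs hJ π'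
  obtain ⟨ρ⟩ := hA C' hff hw'
  let σ : C →ₐ[A] A := ρ.comp (IsScalarTower.toAlgHom A C C')
  have hσS : ∀ c ∈ S, IsUnit (σ c) := fun c hc =>
    (IsLocalization.map_units C' (⟨c, hc⟩ : S)).map ρ
  refine ⟨σ, ?_⟩
  -- elements of the kernel of `π` are mapped to the kernel of `A → Ab`
  have key : ∀ x : C, π x = 0 → algebraMap A Ab (σ x) = 0 := by
    intro x hx
    let : Algebra C Ab := π.toRingHom.toAlgebra
    have : IsScalarTower A C Ab := IsScalarTower.of_algebraMap_eq fun a => (π.commutes a).symm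
    have hflat := flat_lift A C Ab
    set g := (Algebra.TensorProduct.lift (Algebra.ofId Ab Ab) (IsScalarTower.toAlgHom A C Ab)
      (fun _ _ => Commute.all _ _) : Ab ⊗[A] C →ₐ[Ab] Ab) with hg
    have hgs : Function.Surjective g.toRingHom := fun c => ⟨c ⊗ₜ 1, by simp [g]⟩
    have hg1 : ∀ c : C, g.toRingHom ((1 : Ab) ⊗ₜ[A] c) = π c := by
      intro c
      simp [g]
      rfl
    obtain ⟨y, hy, hxy⟩ := exists_eq_mul_of_flat g.toRingHom hflat hgs
      (x := (1 : Ab) ⊗ₜ[A] x) (by rw [hg1, hx])
    obtain ⟨z, rfl⟩ : ∃ z : C, (1 : Ab) ⊗ₜ[A] z = y := by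
      exact Algebra.TensorProduct.includeRight_surjective C hs y
    rw [hg1] at hy
    have hz : 1 - z ∈ S := by rw [hS, map_sub, map_one, hy, sub_zero]
    have h0 : (1 : Ab) ⊗ₜ[A] (x * (1 - z)) = 0 := by
      have : (1 : Ab) ⊗ₜ[A] (x * (1 - z)) = (1 : Ab) ⊗ₜ[A] x - ((1 : Ab) ⊗ₜ[A] x) *
          ((1 : Ab) ⊗ₜ[A] z) := by
        rw [Algebra.TensorProduct.tmul_mul_tmul, mul_one, ← TensorProduct.tmul_sub]
        congr 1
        ring
      rw [this, ← hxy, sub_self]
    let τ : Ab ⊗[A] C →ₐ[Ab] Ab := Algebra.TensorProduct.lift (Algebra.ofId Ab Ab)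
      ((Algebra.ofId A Ab).comp σ) (fun _ _ => Commute.all _ _)
    have hτ : ∀ c : C, τ ((1 : Ab) ⊗ₜ[A] c) = algebraMap A Ab (σ c) := by
      intro c
      simp [τ, Algebra.ofId_apply]
    have h1 : algebraMap A Ab (σ (x * (1 - z))) = 0 := by
      rw [← hτ, h0, map_zero]
    rw [map_mul, map_mul] at h1
    have hu : IsUnit (algebraMap A Ab (σ (1 - z))) := (hσS _ hz).map _
    exact (hu.mul_left_eq_zero).1 h1
  intro c
  obtain ⟨a, ha⟩ := hs (π c)
  have h1 : π (c - algebraMap A C a) = 0 := by
    rw [map_sub, π.commutes, ha, sub_self]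
  have h2 := key _ h1
  rw [map_sub, σ.commutes, map_sub, Algebra.algebraMap_self, RingHom.id_apply, ha, sub_eq_zero] at h2
  exact h2

end Groth.Agent.Proet.WCLift
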