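import Groth.Prelude.Def_PBC
import Groth.Agent.Proet.WCLift
import Groth.Agent.Proet.WEtaleScheme
import Mathlib.AlgebraicGeometry.Limits

/-!
# Sections of weakly etale morphisms over affine schemes with w-contractible ring of functions
-/

set_option autoImplicit false
universe u

open CategoryTheory CategoryTheory.Limits AlgebraicGeometry Opposite

namespace Groth.Agent.Proet.WCScheme

open WEtaleBasic WEtale2 WEtaleScheme WCLift

set_option backward.isDefEq.respectTransparency.types false in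
theorem weaklyEtale_appTop {V T : Scheme.{u}} [IsAffine V] [IsAffine T] (p : T ⟶ V)
    [WeaklyEtale p] : letI := p.appTop.hom.toAlgebra; Algebra.WeaklyEtale Γ(V, ⊤) Γ(T, ⊤) := by
  rw [← weaklyEtale_Spec_map_iff]
  have h : Spec.map p.appTop = T.isoSpec.inv ≫ p ≫ V.isoSpec.hom := by
    rw [← Scheme.isoSpec_hom_naturality, Iso.inv_hom_id_assoc]
  rw [h]
  infer_instance

/-- The morphism into an affine scheme given by a ring map. -/
noncomputable def homOfRingHom {V T : Scheme.{u}} [IsAffine T] (φ : Γ(T, ⊤) ⟶ Γ(V, ⊤)) : V ⟶ T :=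
  V.toSpecΓ ≫ Spec.map φ ≫ T.isoSpec.inv

set_option backward.isDefEq.respectTransparency.types false in
theorem appTop_homOfRingHom {V T : Scheme.{u}} [IsAffine T] (φ : Γ(T, ⊤) ⟶ Γ(V, ⊤)) :
    (homOfRingHom φ).appTop = φ := by
  have h : T.isoSpec.inv.appTop ≫ (Scheme.ΓSpecIso Γ(T, ⊤)).hom = 𝟙 _ := by
    rw [← Scheme.toSpecΓ_appTop, ← Scheme.Hom.comp_appTop, Scheme.toSpecΓ_isoSpec_inv]
    rfl
  rw [homOfRingHom, Scheme.Hom.comp_appTop, Scheme.Hom.comp_appTop, Scheme.toSpecΓ_appTop,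
    Category.assoc, Scheme.ΓSpecIso_naturality, reassoc_of% h]

/-- An affine weakly etale surjective scheme over an affine scheme with w-contractible ring of
functions has a section. -/
theorem exists_section {V T : Scheme.{u}} [IsAffine V] [IsAffine T]
    (hV : EtPBC.IsWContractible Γ(V, ⊤)) (p : T ⟶ V) [WeaklyEtale p] [Surjective p] :
    ∃ σ : V ⟶ T, σ ≫ p = 𝟙 V := by
  have hw := weaklyEtale_appTop p
  have hf := (Flat.flat_and_surjective_iff_faithfullyFlat_of_isAffine (f := p)).1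
    ⟨inferInstance, inferInstance⟩
  let := p.appTop.hom.toAlgebra
  obtain ⟨σ⟩ := hV Γ(T, ⊤) hf hw
  refine ⟨homOfRingHom (CommRingCat.ofHom σ.toRingHom), ?_⟩
  refine ext_of_isAffine ?_
  rw [Scheme.Hom.comp_appTop, appTop_homOfRingHom]
  ext x
  exact σ.commutes x

set_option backward.isDefEq.respectTransparency.types false in
theorem ker_appTop_le_jacobson {V W : Scheme.{u}} [IsAffine V] [IsAffine W] (j : W ⟶ V)
    (hj : ∀ v : V, ∃ w : W, v ⤳ j w) :
    RingHom.ker j.appTop.hom ≤ Ring.jacobson Γ(V, ⊤) := by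
  rw [Ring.jacobson_eq_sInf_isMaximal]
  refine le_sInf ?_
  intro m hm
  let x : Spec Γ(V, ⊤) := ⟨m, hm.isPrime⟩
  have hx : IsClosed ({x} : Set (Spec Γ(V, ⊤))) :=
    (PrimeSpectrum.isClosed_singleton_iff_isMaximal _).2 hm
  obtain ⟨w, hw⟩ := hj (V.isoSpec.inv x)
  have h1 : x ⤳ V.isoSpec.hom (j w) := by
    have := hw.map V.isoSpec.hom.continuous
    have e : V.isoSpec.hom (V.isoSpec.inv x) = x := by
      rw [← Scheme.Hom.comp_apply, Iso.inv_hom_id]; rfl
    rwa [e] at this
  have h2 : V.isoSpec.hom (j w) = x := by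
    have h3 := h1.mem_closed hx (Set.mem_singleton x)
    exact h3
  have h4 : Spec.map j.appTop (W.isoSpec.hom w) = x := by
    rw [← Scheme.Hom.comp_apply, Scheme.isoSpec_hom_naturality, Scheme.Hom.comp_apply, h2]
  have h5 : m = (W.isoSpec.hom w).asIdeal.comap j.appTop.hom := by
    have := congrArg PrimeSpectrum.asIdeal h4
    exact this.symm
  rw [h5]
  exact Ideal.comap_mono bot_le

/-- Lifting of sections of affine weakly etale morphisms. -/
theorem exists_lift_affine {V T W : Scheme.{u}} [IsAffine V] [IsAffine T]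
    (hV : EtPBC.IsWContractible Γ(V, ⊤)) (j : W ⟶ V) [IsClosedImmersion j]
    (hj : ∀ v : V, ∃ w : W, v ⤳ j w) (p : T ⟶ V) [WeaklyEtale p] (s : W ⟶ T) (hs : s ≫ p = j) :
    ∃ σ : V ⟶ T, σ ≫ p = 𝟙 V ∧ j ≫ σ = s := by
  obtain ⟨hWaff, hjs⟩ := IsClosedImmersion.isAffine_surjective_of_isAffine j
  have hw := weaklyEtale_appTop p
  have hker := ker_appTop_le_jacobson j hj
  let := p.appTop.hom.toAlgebra
  let := j.appTop.hom.toAlgebra
  let π : Γ(T, ⊤) →ₐ[Γ(V, ⊤)] Γ(W, ⊤) :=
    { s.appTop.hom with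
      commutes' := fun a => by
        have := congrArg (fun t : W ⟶ V => t.appTop.hom a) hs
        exact this }
  obtain ⟨σ, hσ⟩ := exists_lift hV hjs hker π
  refine ⟨homOfRingHom (CommRingCat.ofHom σ.toRingHom), ?_, ?_⟩
  · refine ext_of_isAffine ?_
    rw [Scheme.Hom.comp_appTop, appTop_homOfRingHom]
    ext x
    exact σ.commutes x
  · refine ext_of_isAffine ?_
    rw [Scheme.Hom.comp_appTop, appTop_homOfRingHom]
    ext x
    exact hσ x

end Groth.Agent.Proet.WCScheme
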