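import Mathlib.RingTheory.Spectrum.Prime.Topology
import Mathlib.RingTheory.Localization.AtPrime.Basic
import Mathlib.Topology.Spectral.ConstructibleTopology

/-!
# The w-localization of a ring, as an explicit subalgebra of a product of local rings
-/

universe u

open TopologicalSpace Filter

namespace Groth.Agent.Proet.WLoc

variable (A : Type u) [CommRing A]

/-- The product of all local rings of `A`. -/
abbrev Pr := ∀ p : PrimeSpectrum A, Localization.AtPrime p.asIdeal

/-- The constructible topology on the spectrum, generated by the `D(f)` and their complements. -/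
def cTop : TopologicalSpace (PrimeSpectrum A) := generateFrom
  ({U | ∃ f : A, U = PrimeSpectrum.basicOpen f} ∪
    {U | ∃ f : A, U = (PrimeSpectrum.basicOpen f : Set (PrimeSpectrum A))ᶜ})

variable {A}

/-- Neighbourhoods for the constructible topology. -/
def cNhds (p : PrimeSpectrum A) : Filter (PrimeSpectrum A) := @nhds _ (cTop A) p

/-- Clopen for the constructible topology. -/
def IsC (U : Set (PrimeSpectrum A)) : Prop := @IsClopen _ (cTop A) U

theorem isC_basicOpen (f : A) : IsC (PrimeSpectrum.basicOpen f : Set (PrimeSpectrum A)) := by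
  let := cTop A
  constructor
  · rw [← isOpen_compl_iff]
    exact isOpen_generateFrom_of_mem (Or.inr ⟨f, rfl⟩)
  · exact isOpen_generateFrom_of_mem (Or.inl ⟨f, rfl⟩)

theorem IsC.compl {U : Set (PrimeSpectrum A)} (h : IsC U) : IsC Uᶜ :=
  @IsClopen.compl _ (cTop A) _ h

theorem IsC.inter {U V : Set (PrimeSpectrum A)} (h : IsC U) (h' : IsC V) : IsC (U ∩ V) :=
  @IsClopen.inter _ (cTop A) _ _ h h'

theorem IsC.union {U V : Set (PrimeSpectrum A)} (h : IsC U) (h' : IsC V) : IsC (U ∪ V) :=
  @IsClopen.union _ (cTop A) _ _ h h'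

theorem IsC.mem_nhds {U : Set (PrimeSpectrum A)} (h : IsC U) {p : PrimeSpectrum A} (hp : p ∈ U) :
    U ∈ cNhds p := by
  let := cTop A
  exact h.isOpen.mem_nhds hp

theorem isC_univ : IsC (Set.univ : Set (PrimeSpectrum A)) := @isClopen_univ _ (cTop A)

theorem isC_empty : IsC (∅ : Set (PrimeSpectrum A)) := @isClopen_empty _ (cTop A)

theorem exists_isC_of_eventually {p : PrimeSpectrum A} {P : PrimeSpectrum A → Prop}
    (h : ∀ᶠ q in cNhds p, P q) : ∃ U : Set (PrimeSpectrum A), IsC U ∧ p ∈ U ∧ ∀ q ∈ U, P q := by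
  let := cTop A
  have hb := isTopologicalBasis_of_subbasis (α := PrimeSpectrum A) (t := cTop A) rfl
  obtain ⟨V, ⟨S, ⟨hS, hS'⟩, rfl⟩, hpV, hV⟩ := hb.mem_nhds_iff.1 h
  refine ⟨_, ?_, hpV, fun q hq => hV hq⟩
  have : IsClopen (⋂ s ∈ S, s) := by
    refine hS.isClopen_biInter fun s hs => ?_
    rcases hS' hs with ⟨f, rfl⟩ | ⟨f, rfl⟩
    · exact isC_basicOpen f
    · exact (isC_basicOpen f).compl
  rw [← Set.sInter_eq_biInter] at this
  exact this

theorem eventually_notMem {p : PrimeSpectrum A} {b : A} (hb : b ∉ p.asIdeal) :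
    ∀ᶠ q in cNhds p, b ∉ q.asIdeal :=
  (isC_basicOpen b).mem_nhds hb

theorem eventually_mem {p : PrimeSpectrum A} {b : A} (hb : b ∈ p.asIdeal) :
    ∀ᶠ q in cNhds p, b ∈ q.asIdeal := by
  have := (isC_basicOpen b).compl.mem_nhds (p := p) (by simpa using hb)
  filter_upwards [this] with q hq
  simpa using hq

theorem Eventually.self {p : PrimeSpectrum A} {P : PrimeSpectrum A → Prop}
    (h : ∀ᶠ q in cNhds p, P q) : P p := by
  let := cTop A
  exact h.self_of_nhds

variable (A) in
/-- The condition of being locally (for the constructible topology) a fraction. -/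
def IsLF (s : Pr A) : Prop := ∀ p : PrimeSpectrum A, ∃ a b : A, b ∉ p.asIdeal ∧
  ∀ᶠ q in cNhds p, algebraMap A (Localization.AtPrime q.asIdeal) b * s q =
    algebraMap A (Localization.AtPrime q.asIdeal) a

variable (A) in
/-- The w-localization of a ring. -/
def Aw : Subalgebra A (Pr A) where
  carrier := {s | IsLF A s}
  mul_mem' := by
    intro s t hs ht p
    obtain ⟨a, b, hb, h⟩ := hs p
    obtain ⟨a', b', hb', h'⟩ := ht p
    refine ⟨a * a', b * b', p.isPrime.mul_notMem hb hb', ?_⟩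
    filter_upwards [h, h'] with q hq hq'
    simp only [Pi.mul_apply, map_mul, ← hq, ← hq']
    ring
  add_mem' := by
    intro s t hs ht p
    obtain ⟨a, b, hb, h⟩ := hs p
    obtain ⟨a', b', hb', h'⟩ := ht p
    refine ⟨a * b' + a' * b, b * b', p.isPrime.mul_notMem hb hb', ?_⟩
    filter_upwards [h, h'] with q hq hq'
    simp only [Pi.add_apply, map_mul, map_add, ← hq, ← hq']
    ring
  algebraMap_mem' := by
    intro r p
    exact ⟨r, 1, p.isPrime.one_notMem, Eventually.of_forall fun q => by simp⟩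


theorem mem_Aw {s : Pr A} : s ∈ Aw A ↔ IsLF A s := Iff.rfl

theorem Aw_spec (s : Aw A) (p : PrimeSpectrum A) : ∃ a b : A, b ∉ p.asIdeal ∧
    ∀ᶠ q in cNhds p, algebraMap A (Localization.AtPrime q.asIdeal) b * s.1 q =
      algebraMap A (Localization.AtPrime q.asIdeal) a := s.2 p

open Classical in
/-- The fraction `a / b` extended by zero outside of a constructible set `U ⊆ D(b)`. -/
noncomputable def frac (U : Set (PrimeSpectrum A)) (hU : IsC U) (a b : A)
    (hb : ∀ q ∈ U, b ∉ q.asIdeal) : Aw A :=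
  ⟨fun q => if h : q ∈ U then IsLocalization.mk' (Localization.AtPrime q.asIdeal) a
    (⟨b, hb q h⟩ : q.asIdeal.primeCompl) else 0, by
    intro p
    by_cases hp : p ∈ U
    · refine ⟨a, b, hb p hp, ?_⟩
      filter_upwards [hU.mem_nhds hp] with q hq
      simp only [dif_pos hq]
      exact IsLocalization.mk'_spec' _ a (⟨b, hb q hq⟩ : q.asIdeal.primeCompl)
    · refine ⟨0, 1, p.isPrime.one_notMem, ?_⟩
      filter_upwards [hU.compl.mem_nhds hp] with q hq
      rw [dif_neg hq]
      simp⟩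

theorem frac_apply_of_mem {U : Set (PrimeSpectrum A)} {hU : IsC U} {a b : A}
    {hb : ∀ q ∈ U, b ∉ q.asIdeal} {q : PrimeSpectrum A} (hq : q ∈ U) :
    (frac U hU a b hb).1 q = IsLocalization.mk' (Localization.AtPrime q.asIdeal) a
    (⟨b, hb q hq⟩ : q.asIdeal.primeCompl) := by
  simp [frac, hq]

theorem frac_apply_of_notMem {U : Set (PrimeSpectrum A)} {hU : IsC U} {a b : A}
    {hb : ∀ q ∈ U, b ∉ q.asIdeal} {q : PrimeSpectrum A} (hq : q ∉ U) :
    (frac U hU a b hb).1 q = 0 := by
  simp [frac, hq]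

/-- The idempotent attached to a constructible set. -/
noncomputable def ind (U : Set (PrimeSpectrum A)) (hU : IsC U) : Aw A :=
  frac U hU 1 1 (fun q _ => q.isPrime.one_notMem)

theorem ind_apply_of_mem {U : Set (PrimeSpectrum A)} {hU : IsC U} {q : PrimeSpectrum A}
    (hq : q ∈ U) : (ind U hU).1 q = 1 := by
  rw [ind, frac_apply_of_mem hq]
  exact IsLocalization.mk'_self _ q.isPrime.one_notMem

theorem ind_apply_of_notMem {U : Set (PrimeSpectrum A)} {hU : IsC U} {q : PrimeSpectrum A}
    (hq : q ∉ U) : (ind U hU).1 q = 0 := by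
  rw [ind, frac_apply_of_notMem hq]

theorem Aw_ext {s t : Aw A} (h : ∀ q, s.1 q = t.1 q) : s = t := Subtype.ext (funext h)

theorem Aw_mul_apply (s t : Aw A) (q : PrimeSpectrum A) : (s * t).1 q = s.1 q * t.1 q := rfl
theorem Aw_add_apply (s t : Aw A) (q : PrimeSpectrum A) : (s + t).1 q = s.1 q + t.1 q := rfl
theorem Aw_sub_apply (s t : Aw A) (q : PrimeSpectrum A) : (s - t).1 q = s.1 q - t.1 q := rfl
theorem Aw_algebraMap_apply (a : A) (q : PrimeSpectrum A) :
    (algebraMap A (Aw A) a).1 q = algebraMap A (Localization.AtPrime q.asIdeal) a := rfl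
theorem Aw_one_apply (q : PrimeSpectrum A) : (1 : Aw A).1 q = 1 := rfl
theorem Aw_zero_apply (q : PrimeSpectrum A) : (0 : Aw A).1 q = 0 := rfl

theorem ind_mul_ind {U V : Set (PrimeSpectrum A)} (hU : IsC U) (hV : IsC V) :
    ind U hU * ind V hV = ind (U ∩ V) (hU.inter hV) := by
  refine Aw_ext fun q => ?_
  rw [Aw_mul_apply]
  by_cases h : q ∈ U <;> by_cases h' : q ∈ V
  · rw [ind_apply_of_mem h, ind_apply_of_mem h', ind_apply_of_mem (⟨h, h'⟩ : q ∈ U ∩ V), one_mul]
  · rw [ind_apply_of_notMem h', ind_apply_of_notMem (fun hh : q ∈ U ∩ V => h' hh.2), mul_zero]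
  · rw [ind_apply_of_notMem h, ind_apply_of_notMem (fun hh : q ∈ U ∩ V => h hh.1), zero_mul]
  · rw [ind_apply_of_notMem h, ind_apply_of_notMem (fun hh : q ∈ U ∩ V => h hh.1), zero_mul]

theorem ind_compl {U : Set (PrimeSpectrum A)} (hU : IsC U) :
    ind Uᶜ hU.compl = 1 - ind U hU := by
  refine Aw_ext fun q => ?_
  rw [Aw_sub_apply, Aw_one_apply]
  by_cases h : q ∈ U
  · rw [ind_apply_of_mem h, ind_apply_of_notMem (fun hh : q ∈ Uᶜ => hh h), sub_self]
  · rw [ind_apply_of_notMem h, ind_apply_of_mem h, sub_zero]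

theorem ind_mono {U V : Set (PrimeSpectrum A)} (hU : IsC U) (hV : IsC V) (h : U ⊆ V) :
    ind U hU = ind U hU * ind V hV := by
  rw [ind_mul_ind]
  congr 1
  exact (Set.inter_eq_left.2 h).symm

theorem exists_frac (s : Aw A) (p : PrimeSpectrum A) :
    ∃ (U : Set (PrimeSpectrum A)) (hU : IsC U) (a b : A) (hb : ∀ q ∈ U, b ∉ q.asIdeal),
      p ∈ U ∧ s * ind U hU = frac U hU a b hb := by
  obtain ⟨a, b, hb, h⟩ := Aw_spec s p
  obtain ⟨U, hU, hpU, hUb⟩ := exists_isC_of_eventually (h.and (eventually_notMem hb))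
  refine ⟨U, hU, a, b, fun q hq => (hUb q hq).2, hpU, Aw_ext fun q => ?_⟩
  rw [Aw_mul_apply]
  by_cases hq : q ∈ U
  · rw [ind_apply_of_mem hq, mul_one, frac_apply_of_mem hq, eq_comm,
      IsLocalization.mk'_eq_iff_eq_mul, mul_comm]
    exact (hUb q hq).1.symm
  · rw [ind_apply_of_notMem hq, mul_zero, frac_apply_of_notMem hq]

/-- If an element `s` of `Aw A` is a unit at `p`, then it is invertible on a neighbourhood. -/
theorem exists_inv (s : Aw A) (p : PrimeSpectrum A)
    (hs : s.1 p ∉ IsLocalRing.maximalIdeal (Localization.AtPrime p.asIdeal)) :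
    ∃ (U : Set (PrimeSpectrum A)) (hU : IsC U) (t : Aw A), p ∈ U ∧ s * t = ind U hU := by
  obtain ⟨U, hU, a, b, hb, hpU, h⟩ := exists_frac s p
  have h1 : s.1 p = IsLocalization.mk' (Localization.AtPrime p.asIdeal) a
      (⟨b, hb p hpU⟩ : p.asIdeal.primeCompl) := by
    have := congrArg (fun t : Aw A => t.1 p) h
    simp only [Aw_mul_apply] at this
    rwa [ind_apply_of_mem hpU, mul_one, frac_apply_of_mem hpU] at this
  have ha : a ∉ p.asIdeal := by
    intro ha
    apply hs
    rw [h1, IsLocalization.AtPrime.mk'_mem_maximal_iff (Localization.AtPrime p.asIdeal) p.asIdeal]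
    exact ha
  have hUa := hU.inter (isC_basicOpen a)
  have hUa' : ∀ q ∈ U ∩ PrimeSpectrum.basicOpen a, a ∉ q.asIdeal := fun q hq => hq.2
  refine ⟨_, hUa, frac _ hUa b a hUa', ⟨hpU, ha⟩, Aw_ext fun q => ?_⟩
  rw [Aw_mul_apply]
  by_cases hq : q ∈ U ∩ PrimeSpectrum.basicOpen a
  · rw [ind_apply_of_mem hq, frac_apply_of_mem hq]
    have := congrArg (fun t : Aw A => t.1 q) h
    simp only [Aw_mul_apply] at this
    rw [ind_apply_of_mem hq.1, mul_one, frac_apply_of_mem hq.1] at this
    rw [this, ← IsLocalization.mk'_mul, IsLocalization.mk'_eq_iff_eq_mul]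
    simp [mul_comm]
  · rw [ind_apply_of_notMem hq, frac_apply_of_notMem hq, mul_zero]

/-- Evaluation at a point. -/
noncomputable def ev (p : PrimeSpectrum A) : Aw A →ₐ[A] Localization.AtPrime p.asIdeal :=
  (Pi.evalAlgHom A _ p).comp (Aw A).val

theorem ev_apply (p : PrimeSpectrum A) (s : Aw A) : ev p s = s.1 p := rfl

/-- The closed point of `Spec Aw` attached to a point of `Spec A`. -/
noncomputable def mx (p : PrimeSpectrum A) : PrimeSpectrum (Aw A) :=
  PrimeSpectrum.comap (ev p).toRingHom (IsLocalRing.closedPoint _)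

theorem mem_mx {p : PrimeSpectrum A} {s : Aw A} : s ∈ (mx p).asIdeal ↔
    s.1 p ∈ IsLocalRing.maximalIdeal (Localization.AtPrime p.asIdeal) := Iff.rfl

theorem comap_mx (p : PrimeSpectrum A) :
    PrimeSpectrum.comap (algebraMap A (Aw A)) (mx p) = p := by
  ext a
  rw [PrimeSpectrum.comap_asIdeal, Ideal.mem_comap, mem_mx, Aw_algebraMap_apply,
    IsLocalization.AtPrime.to_map_mem_maximal_iff (Localization.AtPrime p.asIdeal) p.asIdeal]

theorem ind_mem_mx {p : PrimeSpectrum A} {U : Set (PrimeSpectrum A)} (hU : IsC U) :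
    ind U hU ∈ (mx p).asIdeal ↔ p ∉ U := by
  rw [mem_mx]
  by_cases hp : p ∈ U
  · rw [ind_apply_of_mem hp]
    simp only [hp, not_true_eq_false, iff_false]
    exact fun h => (Ideal.ne_top_iff_one _).1 (Ideal.IsPrime.ne_top inferInstance) h
  · rw [ind_apply_of_notMem hp]
    simp [hp]

theorem ind_empty : ind (∅ : Set (PrimeSpectrum A)) isC_empty = 0 := by
  refine Aw_ext fun q => ?_
  rw [ind_apply_of_notMem (Set.notMem_empty q), Aw_zero_apply]

theorem ind_univ : ind (Set.univ : Set (PrimeSpectrum A)) isC_univ = 1 := by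
  refine Aw_ext fun q => ?_
  rw [ind_apply_of_mem (Set.mem_univ q), Aw_one_apply]

theorem ind_mem_or_compl (q : PrimeSpectrum (Aw A)) {U : Set (PrimeSpectrum A)} (hU : IsC U) :
    ind U hU ∈ q.asIdeal ↔ ind Uᶜ hU.compl ∉ q.asIdeal := by
  rw [ind_compl hU]
  constructor
  · intro h h'
    exact (Ideal.ne_top_iff_one _).1 q.isPrime.ne_top (by simpa using q.asIdeal.add_mem h h')
  · intro h
    have : ind U hU * (1 - ind U hU) ∈ q.asIdeal := by
      rw [← ind_compl hU, ind_mul_ind]
      have : ind (U ∩ Uᶜ) (hU.inter hU.compl) = 0 := by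
        rw [← ind_empty]
        congr 1
        exact Set.inter_compl_self U
      rw [this]
      exact zero_mem _
    exact (q.isPrime.mem_or_mem this).resolve_right h

theorem ind_mem_of_subset (q : Ideal (Aw A)) {U V : Set (PrimeSpectrum A)} (hU : IsC U)
    (hV : IsC V) (h : U ⊆ V) (hq : ind V hV ∈ q) : ind U hU ∈ q := by
  rw [ind_mono hU hV h]
  exact q.mul_mem_left _ hq

theorem ind_union_mem (q : Ideal (Aw A)) {U V : Set (PrimeSpectrum A)} (hU : IsC U)
    (hV : IsC V) (h : ind U hU ∈ q) (hq : ind V hV ∈ q) : ind (U ∪ V) (hU.union hV) ∈ q := by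
  have : ind (U ∪ V) (hU.union hV) = ind U hU + ind V hV - ind U hU * ind V hV := by
    refine Aw_ext fun q => ?_
    rw [Aw_sub_apply, Aw_add_apply, Aw_mul_apply]
    by_cases h : q ∈ U <;> by_cases h' : q ∈ V
    · rw [ind_apply_of_mem h, ind_apply_of_mem h', ind_apply_of_mem (Or.inl h : q ∈ U ∪ V)]
      ring
    · rw [ind_apply_of_mem h, ind_apply_of_notMem h', ind_apply_of_mem (Or.inl h : q ∈ U ∪ V)]
      ring
    · rw [ind_apply_of_notMem h, ind_apply_of_mem h', ind_apply_of_mem (Or.inr h' : q ∈ U ∪ V)]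
      ring
    · rw [ind_apply_of_notMem h, ind_apply_of_notMem h', ind_apply_of_notMem
        (fun hh : q ∈ U ∪ V => hh.elim h h')]
      ring
  rw [this]
  exact q.sub_mem (q.add_mem h hq) (q.mul_mem_left _ hq)

/-- The point of `Spec A` attached to a prime of `Aw A`. -/
noncomputable def pt (q : PrimeSpectrum (Aw A)) : PrimeSpectrum A where
  asIdeal :=
    { carrier := {f | ind (PrimeSpectrum.basicOpen f) (isC_basicOpen f) ∈ q.asIdeal}
      add_mem' := by
        intro f g hf hg
        refine ind_mem_of_subset _ _ ((isC_basicOpen f).union (isC_basicOpen g)) ?_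
          (ind_union_mem _ _ _ hf hg)
        intro p hp
        by_contra h
        simp only [Set.mem_union, not_or, SetLike.mem_coe, PrimeSpectrum.mem_basicOpen,
          not_not] at h hp
        exact hp (p.asIdeal.add_mem h.1 h.2)
      zero_mem' := by
        have : ind (PrimeSpectrum.basicOpen (0 : A) : Set (PrimeSpectrum A))
            (isC_basicOpen (0 : A)) = 0 := by
          rw [← ind_empty]
          congr 1
          simp
        show _ ∈ q.asIdeal
        rw [this]
        exact zero_mem _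
      smul_mem' := by
        intro c f hf
        refine ind_mem_of_subset _ _ (isC_basicOpen f) ?_ hf
        intro p hp
        simp only [smul_eq_mul, SetLike.mem_coe, PrimeSpectrum.mem_basicOpen] at hp ⊢
        exact fun h => hp (p.asIdeal.mul_mem_left _ h) }
  isPrime := by
    refine ⟨?_, ?_⟩
    · rw [Ideal.ne_top_iff_one]
      intro h
      have h' : ind (PrimeSpectrum.basicOpen (1 : A) : Set (PrimeSpectrum A))
        (isC_basicOpen (1 : A)) ∈ q.asIdeal := h
      have : ind (PrimeSpectrum.basicOpen (1 : A) : Set (PrimeSpectrum A))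
          (isC_basicOpen (1 : A)) = 1 := by
        rw [← ind_univ]
        congr 1
        simp
      rw [this] at h'
      exact (Ideal.ne_top_iff_one _).1 q.isPrime.ne_top h'
    · intro f g h
      have h' : ind (PrimeSpectrum.basicOpen (f * g) : Set (PrimeSpectrum A))
        (isC_basicOpen _) ∈ q.asIdeal := h
      have : ind (PrimeSpectrum.basicOpen (f * g) : Set (PrimeSpectrum A)) (isC_basicOpen _) =
          ind (PrimeSpectrum.basicOpen f : Set (PrimeSpectrum A)) (isC_basicOpen _) *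
            ind (PrimeSpectrum.basicOpen g : Set (PrimeSpectrum A)) (isC_basicOpen _) := by
        rw [ind_mul_ind]
        congr 1
        rw [PrimeSpectrum.basicOpen_mul]
        rfl
      rw [this] at h'
      exact q.isPrime.mem_or_mem h'

theorem mem_pt {q : PrimeSpectrum (Aw A)} {f : A} :
    f ∈ (pt q).asIdeal ↔ ind (PrimeSpectrum.basicOpen f) (isC_basicOpen f) ∈ q.asIdeal := Iff.rfl

/-- The filter of sets containing a clopen whose idempotent is not in `q`. -/
noncomputable def filt (q : PrimeSpectrum (Aw A)) : Filter (PrimeSpectrum A) where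
  sets := {S | ∃ (U : Set (PrimeSpectrum A)) (hU : IsC U), U ⊆ S ∧ ind U hU ∉ q.asIdeal}
  univ_sets := ⟨Set.univ, isC_univ, subset_rfl, by
    rw [ind_univ]
    exact (Ideal.ne_top_iff_one _).1 q.isPrime.ne_top⟩
  sets_of_superset := by
    rintro S T ⟨U, hU, h, h'⟩ hST
    exact ⟨U, hU, h.trans hST, h'⟩
  inter_sets := by
    rintro S T ⟨U, hU, h, h'⟩ ⟨V, hV, k, k'⟩
    refine ⟨U ∩ V, hU.inter hV, Set.inter_subset_inter h k, ?_⟩
    rw [← ind_mul_ind hU hV]
    exact q.isPrime.mul_notMem h' k'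

theorem filt_le (q : PrimeSpectrum (Aw A)) : filt q ≤ cNhds (pt q) := by
  rw [cNhds, cTop, nhds_generateFrom]
  refine le_iInf₂ fun s hs => le_principal_iff.2 ?_
  obtain ⟨hs, ⟨f, rfl⟩ | ⟨f, rfl⟩⟩ := hs
  · exact ⟨_, isC_basicOpen f, subset_rfl, fun h => hs h⟩
  · refine ⟨_, (isC_basicOpen f).compl, subset_rfl, fun h => hs ?_⟩
    rw [← not_not (a := ind _ (isC_basicOpen f).compl ∈ q.asIdeal), ← ind_mem_or_compl] at h
    exact h

theorem ind_notMem_iff (q : PrimeSpectrum (Aw A)) {U : Set (PrimeSpectrum A)} (hU : IsC U) :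
    ind U hU ∉ q.asIdeal ↔ pt q ∈ U := by
  have key : ∀ {U : Set (PrimeSpectrum A)} (hU : IsC U), pt q ∈ U → ind U hU ∉ q.asIdeal := by
    intro U hU h
    obtain ⟨V, hV, hVU, hV'⟩ := filt_le q (hU.mem_nhds h)
    exact fun h' => hV' (ind_mem_of_subset _ hV hU hVU h')
  refine ⟨fun h => ?_, key hU⟩
  by_contra h'
  exact h ((ind_mem_or_compl q hU).2 (key hU.compl h'))

theorem le_mx (q : PrimeSpectrum (Aw A)) : q.asIdeal ≤ (mx (pt q)).asIdeal := by
  intro s hs
  by_contra h
  rw [mem_mx] at h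
  obtain ⟨U, hU, t, hpU, hst⟩ := exists_inv s _ h
  exact (ind_notMem_iff q hU).2 hpU (hst ▸ q.asIdeal.mul_mem_right _ hs)

theorem pt_mx (p : PrimeSpectrum A) : pt (mx p) = p := by
  ext f
  rw [mem_pt, ind_mem_mx]
  simp

theorem pt_eq_of_le {q q' : PrimeSpectrum (Aw A)} (h : q.asIdeal ≤ q'.asIdeal) : pt q = pt q' := by
  ext f
  rw [mem_pt, mem_pt]
  refine ⟨fun hf => h hf, fun hf => ?_⟩
  by_contra hf'
  rw [ind_mem_or_compl, not_not] at hf'
  exact (ind_mem_or_compl q' (isC_basicOpen f)).1 hf (h hf')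

/-- Every closed point is some `mx p`. -/
theorem isMax_mx (p : PrimeSpectrum A) : (mx p).asIdeal.IsMaximal := by
  obtain ⟨M, hM, hM'⟩ := Ideal.exists_le_maximal _ (mx p).isPrime.ne_top
  have h1 := le_mx ⟨M, hM.isPrime⟩
  have h2 : pt ⟨M, hM.isPrime⟩ = p := by
    rw [← pt_mx p]
    exact (pt_eq_of_le (q := mx p) (q' := ⟨M, hM.isPrime⟩) hM').symm
  rw [h2] at h1
  rwa [le_antisymm hM' h1]

theorem mx_of_isMaximal {q : PrimeSpectrum (Aw A)} (h : q.asIdeal.IsMaximal) : mx (pt q) = q :=
  PrimeSpectrum.ext (h.eq_of_le (mx (pt q)).isPrime.ne_top (le_mx q)).symm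

end Groth.Agent.Proet.WLoc
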