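import Groth.Agent.Proet.WLoc
import Groth.Prelude.Def_ProEtW

/-!
# w-locality of the w-localization
-/

universe u

open TopologicalSpace Filter

namespace Groth.Agent.Proet.WLoc

variable {A : Type u} [CommRing A]

variable (A) in
/-- The ideal cutting out the closed points of `Spec Aw`. -/
noncomputable def Iw : Ideal (Aw A) := ⨅ p : PrimeSpectrum A, (mx p).asIdeal

theorem mem_Iw {s : Aw A} : s ∈ Iw A ↔ ∀ p : PrimeSpectrum A,
    s.1 p ∈ IsLocalRing.maximalIdeal (Localization.AtPrime p.asIdeal) := by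
  simp only [Iw, Ideal.mem_iInf]
  exact Iff.rfl

theorem isMaximal_of_Iw_le {q : PrimeSpectrum (Aw A)} (h : Iw A ≤ q.asIdeal) : q = mx (pt q) := by
  refine PrimeSpectrum.ext (le_antisymm (le_mx q) ?_)
  intro s hs
  rw [mem_mx] at hs
  obtain ⟨U, hU, a, b, hb, hpU, hf⟩ := exists_frac s (pt q)
  have h1 : ∀ (p : PrimeSpectrum A) (hpU : p ∈ U), s.1 p =
      IsLocalization.mk' (Localization.AtPrime p.asIdeal) a
        (⟨b, hb p hpU⟩ : p.asIdeal.primeCompl) := by
    intro p hpU
    have := congrArg (fun t : Aw A => t.1 p) hf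
    simp only [Aw_mul_apply] at this
    rwa [ind_apply_of_mem hpU, mul_one, frac_apply_of_mem hpU] at this
  have h2 : ∀ p ∈ U, (s.1 p ∈ IsLocalRing.maximalIdeal (Localization.AtPrime p.asIdeal) ↔
      a ∈ p.asIdeal) := by
    intro p hpU
    rw [h1 p hpU,
      IsLocalization.AtPrime.mk'_mem_maximal_iff (Localization.AtPrime p.asIdeal) p.asIdeal]
  have ha : a ∈ (pt q).asIdeal := (h2 _ hpU).1 hs
  have hV := hU.inter (isC_basicOpen a).compl
  have hpV : pt q ∈ U ∩ (PrimeSpectrum.basicOpen a : Set (PrimeSpectrum A))ᶜ := by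
    refine ⟨hpU, ?_⟩
    simpa using ha
  have h3 : s * ind _ hV ∈ Iw A := by
    rw [mem_Iw]
    intro p
    rw [Aw_mul_apply]
    by_cases hp : p ∈ U ∩ (PrimeSpectrum.basicOpen a : Set (PrimeSpectrum A))ᶜ
    · rw [ind_apply_of_mem hp, mul_one, h2 p hp.1]
      simpa using hp.2
    · rw [ind_apply_of_notMem hp, mul_zero]
      exact zero_mem _
  exact (q.isPrime.mem_or_mem (h h3)).resolve_right ((ind_notMem_iff q hV).2 hpV)

theorem closedPoints_eq : ProEtW.closedPoints (PrimeSpectrum (Aw A)) =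
    PrimeSpectrum.zeroLocus (Iw A) := by
  ext q
  simp only [ProEtW.closedPoints, Set.mem_ofPred_eq, PrimeSpectrum.isClosed_singleton_iff_isMaximal,
    PrimeSpectrum.mem_zeroLocus, SetLike.coe_subset_coe]
  constructor
  · intro h
    rw [← mx_of_isMaximal h]
    exact iInf_le _ _
  · intro h
    rw [isMaximal_of_Iw_le h]
    exact isMax_mx _

theorem isClosed_singleton_mx (p : PrimeSpectrum A) :
    IsClosed ({mx p} : Set (PrimeSpectrum (Aw A))) := by
  rw [PrimeSpectrum.isClosed_singleton_iff_isMaximal]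
  exact isMax_mx p

theorem isWLocal_Aw : ProEtW.IsWLocal (PrimeSpectrum (Aw A)) := by
  refine ⟨inferInstance, ?_, fun q => ⟨mx (pt q), ⟨isClosed_singleton_mx _, ?_⟩, ?_⟩⟩
  · change IsClosed (ProEtW.closedPoints (PrimeSpectrum (Aw A)))
    rw [closedPoints_eq]
    exact PrimeSpectrum.isClosed_zeroLocus _
  · rw [← PrimeSpectrum.le_iff_specializes]
    exact le_mx q
  · rintro y ⟨hy, hqy⟩
    rw [← PrimeSpectrum.le_iff_specializes] at hqy
    rw [PrimeSpectrum.isClosed_singleton_iff_isMaximal] at hy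
    rw [pt_eq_of_le hqy]
    exact (mx_of_isMaximal hy).symm

theorem bijOn_closedPoints : Set.BijOn (PrimeSpectrum.comap (algebraMap A (Aw A)))
    (ProEtW.closedPoints (PrimeSpectrum (Aw A))) Set.univ := by
  refine ⟨fun _ _ => Set.mem_univ _, ?_, fun p _ => ⟨mx p, isClosed_singleton_mx p, comap_mx p⟩⟩
  intro q hq q' hq' h
  have hq1 : q.asIdeal.IsMaximal := (PrimeSpectrum.isClosed_singleton_iff_isMaximal q).1 hq
  have hq'1 : q'.asIdeal.IsMaximal := (PrimeSpectrum.isClosed_singleton_iff_isMaximal q').1 hq'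
  rw [← mx_of_isMaximal hq1, ← mx_of_isMaximal hq'1, comap_mx, comap_mx] at h
  rw [← mx_of_isMaximal hq1, ← mx_of_isMaximal hq'1, h]

theorem comap_surjective : Function.Surjective (PrimeSpectrum.comap (algebraMap A (Aw A))) :=
  fun p => ⟨mx p, comap_mx p⟩

end Groth.Agent.Proet.WLoc
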