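import Groth.Agent.Proet.WLoc2
import Mathlib.RingTheory.LocalIso
import Mathlib.RingTheory.FinitePresentation

/-!
# Maps from finitely presented algebras to the w-localization
-/

universe u

open TopologicalSpace Filter

namespace Groth.Agent.Proet.WLoc

variable {A : Type u} [CommRing A]

theorem constructibleTopology_le_cTop :
    constructibleTopology (PrimeSpectrum A) ≤ cTop A := by
  rw [cTop, le_generateFrom_iff_subset_isOpen]
  rintro U (⟨f, rfl⟩ | ⟨f, rfl⟩)
  · exact IsCompact.isOpen_constructibleTopology_of_isOpen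
      (PrimeSpectrum.isCompact_basicOpen f) (PrimeSpectrum.basicOpen f).isOpen
  · refine IsCompact.isOpen_constructibleTopology_of_isClosed ?_
      (PrimeSpectrum.basicOpen f).isOpen.isClosed_compl
    rw [compl_compl]
    exact PrimeSpectrum.isCompact_basicOpen f

theorem compactSpace_cTop : @CompactSpace (PrimeSpectrum A) (cTop A) := by
  have hc := continuous_le_rng (constructibleTopology_le_cTop (A := A))
    (WithTopology.continuous_ofTopology (constructibleTopology (PrimeSpectrum A)))
  exact @Function.Surjective.compactSpace (WithConstructibleTopology (PrimeSpectrum A))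
    (PrimeSpectrum A) _ (cTop A) _ hc inferInstance (WithTopology.ofTopology_surjective _)

/-- A finite subfamily of a family of constructible neighbourhoods covers the spectrum. -/
theorem exists_finite_cover (U : PrimeSpectrum A → Set (PrimeSpectrum A))
    (hU : ∀ p, IsC (U p)) (hpU : ∀ p, p ∈ U p) :
    ∃ (n : ℕ) (x : Fin n → PrimeSpectrum A) (k : PrimeSpectrum A → Fin n),
      (∀ q, q ∈ U (x (k q))) ∧ ∀ p, ∀ᶠ q in cNhds p, k q = k p := by
  classical
  let := cTop A
  have := compactSpace_cTop (A := A)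
  obtain ⟨t, ht⟩ := isCompact_univ.elim_nhds_subcover U (fun p _ => (hU p).mem_nhds (hpU p))
  let n := t.card
  let e : t ≃ Fin n := t.equivFin
  let x : Fin n → PrimeSpectrum A := fun i => (e.symm i).1
  have hx : ∀ q, ∃ i : Fin n, q ∈ U (x i) := by
    intro q
    obtain ⟨p, hp, hq⟩ : ∃ p ∈ t, q ∈ U p := by simpa using ht.2 (Set.mem_univ q)
    exact ⟨e ⟨p, hp⟩, by simpa [x] using hq⟩
  let S : PrimeSpectrum A → Finset (Fin n) := fun q => Finset.univ.filter fun i => q ∈ U (x i)
  have hS : ∀ q, (S q).Nonempty := fun q => by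
    obtain ⟨i, hi⟩ := hx q
    exact ⟨i, by simpa [S] using hi⟩
  refine ⟨n, x, fun q => (S q).min' (hS q), fun q => ?_, fun p => ?_⟩
  · have := (S q).min'_mem (hS q)
    simpa [S] using this
  · have : ∀ i : Fin n, ∀ᶠ q in cNhds p, (i ∈ S q ↔ i ∈ S p) := by
      intro i
      by_cases hi : p ∈ U (x i)
      · filter_upwards [(hU (x i)).mem_nhds hi] with q hq
        simp [S, hi, hq]
      · filter_upwards [(hU (x i)).compl.mem_nhds hi] with q hq
        simp only [S, Finset.mem_filter, Finset.mem_univ, true_and, hi, iff_false]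
        exact hq
    filter_upwards [Filter.eventually_all.2 this] with q hq
    have hSq : S q = S p := Finset.ext hq
    simp only [hSq]

/-- The canonical map `A[1/b] → A_q` for `b ∉ q`. -/
noncomputable def toAt (b : A) (q : PrimeSpectrum A) (hb : b ∉ q.asIdeal) :
    Localization.Away b →ₐ[A] Localization.AtPrime q.asIdeal :=
  IsLocalization.liftAlgHom (M := Submonoid.powers b)
    (f := Algebra.ofId A (Localization.AtPrime q.asIdeal)) (by
      rintro ⟨_, n, rfl⟩
      exact IsLocalization.map_units (Localization.AtPrime q.asIdeal)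
        (⟨b ^ n, fun h => hb (q.isPrime.mem_of_pow_mem n h)⟩ : q.asIdeal.primeCompl))

/-- Powers of an element. -/
def pw (b : A) (n : ℕ) : Submonoid.powers b := ⟨b ^ n, n, rfl⟩

theorem pw_val (b : A) (n : ℕ) : ((pw b n : Submonoid.powers b) : A) = b ^ n := rfl

theorem toAt_mk' (b : A) (q : PrimeSpectrum A) (hb : b ∉ q.asIdeal) (a : A) (n : ℕ) :
    algebraMap A (Localization.AtPrime q.asIdeal) (b ^ n) *
      toAt b q hb (IsLocalization.mk' (Localization.Away b) a (pw b n)) =
      algebraMap A (Localization.AtPrime q.asIdeal) a := by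
  rw [← (toAt b q hb).commutes (b ^ n), ← map_mul, ← pw_val, IsLocalization.mk'_spec',
    (toAt b q hb).commutes]

theorem exists_mk' (b : A) (x : Localization.Away b) : ∃ (a : A) (n : ℕ),
    x = IsLocalization.mk' (Localization.Away b) a (pw b n) := by
  obtain ⟨a, ⟨_, n, rfl⟩, h⟩ := IsLocalization.exists_mk'_eq (Submonoid.powers b) x
  exact ⟨a, n, h.symm⟩

theorem exists_ann (b : A) (p : PrimeSpectrum A) (hb : b ∉ p.asIdeal) (x : Localization.Away b)
    (hx : toAt b p hb x = 0) : ∃ c ∉ p.asIdeal, algebraMap A (Localization.Away b) c * x = 0 := by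
  obtain ⟨a, n, rfl⟩ := exists_mk' b x
  have h := toAt_mk' b p hb a n
  rw [hx, mul_zero, eq_comm, IsLocalization.map_eq_zero_iff p.asIdeal.primeCompl] at h
  obtain ⟨⟨c, hc⟩, hca⟩ := h
  refine ⟨c, hc, ?_⟩
  rw [← IsLocalization.mk'_one (M := Submonoid.powers b) (Localization.Away b) c,
    ← IsLocalization.mk'_mul, hca, IsLocalization.mk'_zero]

/-- Local factorization. -/
theorem local_factor (Z : Type u) [CommRing Z] [Algebra A Z] [Algebra.FinitePresentation A Z]
    (g : Z →ₐ[A] Aw A) (p : PrimeSpectrum A) :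
    ∃ (b : A) (h : Z →ₐ[A] Localization.Away b) (U : Set (PrimeSpectrum A)) (_ : IsC U),
      p ∈ U ∧ ∃ hb : ∀ q ∈ U, b ∉ q.asIdeal, ∀ (q : PrimeSpectrum A) (hq : q ∈ U) (z : Z),
        (g z).1 q = toAt b q (hb q hq) (h z) := by
  classical
  obtain ⟨n, π, hπ, T, hT⟩ := (inferInstance : Algebra.FinitePresentation A Z).out
  choose a b hb h using fun i : Fin n => Aw_spec (g (π (MvPolynomial.X i))) p
  let b0 : A := ∏ i, b i
  have hb0 : b0 ∉ p.asIdeal := by
    intro h0
    obtain ⟨i, -, hi⟩ := (p.isPrime.prod_mem_iff).1 h0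
    exact hb i hi
  let a0 : Fin n → A := fun i => a i * ∏ j ∈ Finset.univ.erase i, b j
  have hb0' : ∀ i, b0 = b i * ∏ j ∈ Finset.univ.erase i, b j := fun i =>
    (Finset.mul_prod_erase Finset.univ b (Finset.mem_univ i)).symm
  let h0 : MvPolynomial (Fin n) A →ₐ[A] Localization.Away b0 := MvPolynomial.aeval
    fun i => IsLocalization.mk' (Localization.Away b0) (a0 i)
      (pw b0 1)
  have key : ∀ᶠ q in cNhds p, ∃ hq : b0 ∉ q.asIdeal, ∀ r : MvPolynomial (Fin n) A,
      (g (π r)).1 q = toAt b0 q hq (h0 r) := by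
    filter_upwards [Filter.eventually_all.2 h, eventually_notMem hb0] with q hq hq0
    refine ⟨hq0, fun r => ?_⟩
    have : ((ev q).comp (g.comp π)) = (toAt b0 q hq0).comp h0 := by
      refine MvPolynomial.algHom_ext fun i => ?_
      simp only [AlgHom.comp_apply, ev_apply, h0, MvPolynomial.aeval_X]
      have h1 := toAt_mk' b0 q hq0 (a0 i) 1
      have h2 : algebraMap A (Localization.AtPrime q.asIdeal) (b0 ^ 1) *
          (g (π (MvPolynomial.X i))).1 q = algebraMap A (Localization.AtPrime q.asIdeal) (a0 i) := by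
        rw [pow_one, hb0' i]
        simp only [a0]
        rw [map_mul, map_mul, ← hq i]
        ring
      have h3 : IsUnit (algebraMap A (Localization.AtPrime q.asIdeal) (b0 ^ 1)) := by
        rw [pow_one]
        exact IsLocalization.map_units (Localization.AtPrime q.asIdeal)
          (⟨b0, hq0⟩ : q.asIdeal.primeCompl)
      exact h3.mul_left_cancel (h2.trans h1.symm)
    exact DFunLike.congr_fun this r
  have hp := Eventually.self key
  obtain ⟨hp0, hp⟩ := hp
  -- elements killing the relations
  have hc : ∀ r : MvPolynomial (Fin n) A, π r = 0 → ∃ c ∉ p.asIdeal,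
      algebraMap A (Localization.Away b0) c * h0 r = 0 := by
    intro r hr
    apply exists_ann b0 p hb0
    rw [← hp r, hr, map_zero]
    rfl
  choose! c hc hc' using hc
  have hTk : ∀ r ∈ T, π r = 0 := by
    intro r hr
    have : r ∈ RingHom.ker π.toRingHom := by
      rw [← hT]
      exact Ideal.subset_span hr
    exact this
  let c0 : A := ∏ r ∈ T, c r
  have hc0 : c0 ∉ p.asIdeal := by
    intro h0
    obtain ⟨r, hr, hi⟩ := (p.isPrime.prod_mem_iff).1 h0
    exact hc r (hTk r hr) hi
  have hbc : b0 * c0 ∉ p.asIdeal := p.isPrime.mul_notMem hb0 hc0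
  let j : Localization.Away b0 →ₐ[A] Localization.Away (b0 * c0) :=
    IsLocalization.liftAlgHom (M := Submonoid.powers b0)
      (f := Algebra.ofId A (Localization.Away (b0 * c0))) (by
      rintro ⟨_, n, rfl⟩
      change IsUnit (algebraMap A (Localization.Away (b0 * c0)) (b0 ^ n))
      rw [map_pow]
      apply IsUnit.pow
      exact isUnit_of_dvd_unit (map_dvd _ (dvd_mul_right b0 c0))
        (IsLocalization.Away.algebraMap_isUnit (b0 * c0)))
  have hj : ∀ r, π r = 0 → j (h0 r) = 0 := by
    intro r hr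
    have hr' : r ∈ Ideal.span (T : Set (MvPolynomial (Fin n) A)) := by
      rw [hT]
      exact hr
    have : Ideal.span (T : Set (MvPolynomial (Fin n) A)) ≤ RingHom.ker (j.comp h0).toRingHom := by
      rw [Ideal.span_le]
      intro r hr
      change j (h0 r) = 0
      have h1 := congrArg j (hc' r (hTk r hr))
      rw [map_mul, map_zero, AlgHom.commutes] at h1
      have h2 : IsUnit (algebraMap A (Localization.Away (b0 * c0)) (c r)) :=
        isUnit_of_dvd_unit (map_dvd _ ((Finset.dvd_prod_of_mem c hr).trans (dvd_mul_left c0 b0)))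
          (IsLocalization.Away.algebraMap_isUnit (b0 * c0))
      exact (h2.mul_right_eq_zero).1 h1
    exact this hr'
  let h' : Z →ₐ[A] Localization.Away (b0 * c0) := AlgHom.liftOfSurjective π hπ (j.comp h0) hj
  obtain ⟨U, hU, hpU, hUq⟩ := exists_isC_of_eventually (key.and (eventually_notMem hbc))
  refine ⟨b0 * c0, h', U, hU, hpU, fun q hq => (hUq q hq).2, fun q hq z => ?_⟩
  obtain ⟨r, rfl⟩ := hπ z
  obtain ⟨⟨hq0, hq1⟩, hq2⟩ := hUq q hq
  rw [hq1 r]
  have h3 : h' (π r) = j (h0 r) := AlgHom.liftOfSurjective_apply π hπ (j.comp h0) hj r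
  rw [h3]
  have h4 : toAt b0 q hq0 = (toAt (b0 * c0) q hq2).comp j := by
    apply IsLocalization.algHom_ext (Submonoid.powers b0)
    ext
  rw [h4]
  rfl

/-- Every map from a finitely presented `A`-algebra to the w-localization of `A` factors through a
finite product of principal localizations of `A`. -/
theorem factor (Z : Type u) [CommRing Z] [Algebra A Z] [Algebra.FinitePresentation A Z]
    (g : Z →ₐ[A] Aw A) : ∃ (n : ℕ) (b : Fin n → A)
      (u : Z →ₐ[A] ∀ k, Localization.Away (b k)) (v : (∀ k, Localization.Away (b k)) →ₐ[A] Aw A),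
      v.comp u = g := by
  choose b h U hU hpU hb hg using local_factor Z g
  obtain ⟨n, x, k, hk, hk'⟩ := exists_finite_cover U hU hpU
  have hbk : ∀ q, b (x (k q)) ∉ q.asIdeal := fun q => hb _ q (hk q)
  let v0 : (∀ k : Fin n, Localization.Away (b (x k))) →ₐ[A] Pr A :=
    AlgHom.pi fun q => (toAt (b (x (k q))) q (hbk q)).comp
      (Pi.evalAlgHom A (fun k : Fin n => Localization.Away (b (x k))) (k q))
  have hv0 : ∀ y, v0 y ∈ Aw A := by
    intro y p
    obtain ⟨a, m, hm⟩ := exists_mk' _ (y (k p))
    refine ⟨a, b (x (k p)) ^ m, fun h => hbk p (p.isPrime.mem_of_pow_mem m h), ?_⟩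
    filter_upwards [hk' p] with q hq
    have aux : ∀ (i : Fin n) (hi : i = k p) (hbi : b (x i) ∉ q.asIdeal),
        algebraMap A (Localization.AtPrime q.asIdeal) (b (x (k p)) ^ m) *
          toAt (b (x i)) q hbi (y i) = algebraMap A (Localization.AtPrime q.asIdeal) a := by
      rintro i rfl hbi
      rw [hm]
      exact toAt_mk' _ _ _ _ _
    exact aux (k q) hq (hbk q)
  let v : (∀ k : Fin n, Localization.Away (b (x k))) →ₐ[A] Aw A := v0.codRestrict (Aw A) hv0
  refine ⟨n, fun k => b (x k), AlgHom.pi fun k => h (x k), v, ?_⟩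
  refine AlgHom.ext fun z => Aw_ext fun q => ?_
  exact (hg (x (k q)) q (hk q) z).symm

theorem factor_isLocalIso (Z : Type u) [CommRing Z] [Algebra A Z]
    [Algebra.FinitePresentation A Z] (g : Z →ₐ[A] Aw A) :
    ∃ (W : Type u) (_ : CommRing W) (_ : Algebra A W) (u : Z →ₐ[A] W) (v : W →ₐ[A] Aw A),
      Algebra.IsLocalIso A W ∧ v.comp u = g := by
  obtain ⟨n, b, u, v, huv⟩ := factor Z g
  have : ∀ k, Algebra.IsStandardOpenImmersion A (Localization.Away (b k)) := fun k =>
    ⟨⟨b k, inferInstance⟩⟩
  exact ⟨∀ k, Localization.Away (b k), inferInstance, inferInstance, u, v,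
    Algebra.IsLocalIso.pi_of_finite A _, huv⟩

end Groth.Agent.Proet.WLoc
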