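import Groth.Agent.Proet.WLoc3
import Groth.Agent.Proet.Spectral

/-!
# Clopen subsets of w-local spaces and the universal property of the w-localization
-/

universe u

open TopologicalSpace Filter

namespace Groth.Agent.Proet.WLoc

open Groth.Agent.Proet.Spectral

/-- In a w-local space, the set of points specializing to a closed point in a given constructible
set is clopen. -/
theorem isClosed_genz {X : Type u} [TopologicalSpace X] (hX : ProEtW.IsWLocal X) {U : Set X}
    (hU : IsProCons U) : IsClosed {x | ∃ y, (y ∈ U ∧ IsClosed ({y} : Set X)) ∧ x ⤳ y} := by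
  obtain ⟨_, h2, h3⟩ := hX
  refine isClosed_of_isProCons (isProCons_generizations (s := {y | y ∈ U ∧ IsClosed ({y} : Set X)})
    (IsProCons.isCompact (hU.inter (isProCons_of_isClosed h2)))) ?_
  rintro x z hxz ⟨y, ⟨hy, hy'⟩, hxy⟩
  obtain ⟨z', hz', -⟩ := h3 z
  have : z' = y := (h3 x).unique ⟨hz'.1, hxz.trans hz'.2⟩ ⟨hy', hxy⟩
  exact ⟨z', ⟨this ▸ hy, hz'.1⟩, hz'.2⟩

theorem isClopen_genz {X : Type u} [TopologicalSpace X] (hX : ProEtW.IsWLocal X) {U : Set X}
    (hU : IsProCons U) (hU' : IsProCons Uᶜ) :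
    IsClopen {x | ∃ y, (y ∈ U ∧ IsClosed ({y} : Set X)) ∧ x ⤳ y} := by
  refine ⟨isClosed_genz hX hU, ?_⟩
  rw [← isClosed_compl_iff]
  convert isClosed_genz hX hU' using 1
  ext x
  obtain ⟨y, hy, hy'⟩ := hX.2.2 x
  constructor
  · intro h
    exact ⟨y, ⟨fun hyU => h ⟨y, ⟨hyU, hy.1⟩, hy.2⟩, hy.1⟩, hy.2⟩
  · rintro ⟨z, ⟨hz, hz'⟩, hxz⟩ ⟨z', ⟨hz1, hz1'⟩, hxz'⟩
    have : z = z' := (hX.2.2 x).unique ⟨hz', hxz⟩ ⟨hz1', hxz'⟩
    exact hz (this ▸ hz1)

variable {A : Type u} [CommRing A]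

theorem IsC.isProCons {U : Set (PrimeSpectrum A)} (hU : IsC U) : IsProCons U :=
  IsClosed.mono (α := PrimeSpectrum A) hU.1 constructibleTopology_le_cTop

/-- In a ring with w-local spectrum, every constructible set is cut out on closed points by an
idempotent. -/
theorem exists_idem (hA : ProEtW.IsWLocal (PrimeSpectrum A)) {U : Set (PrimeSpectrum A)}
    (hU : IsC U) : ∃ e : A, IsIdempotentElem e ∧ ∀ m : PrimeSpectrum A, m.asIdeal.IsMaximal →
      (m ∈ U ↔ e ∉ m.asIdeal) := by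
  obtain ⟨e, he, he'⟩ := PrimeSpectrum.exists_idempotent_basicOpen_eq_of_isClopen
    (isClopen_genz hA hU.isProCons hU.compl.isProCons)
  refine ⟨e, he, fun m hm => ?_⟩
  have hm' : IsClosed ({m} : Set (PrimeSpectrum A)) :=
    (PrimeSpectrum.isClosed_singleton_iff_isMaximal m).2 hm
  have : e ∉ m.asIdeal ↔ m ∈ (PrimeSpectrum.basicOpen e : Set (PrimeSpectrum A)) := Iff.rfl
  rw [this, ← he']
  constructor
  · intro h
    exact ⟨m, ⟨h, hm'⟩, specializes_rfl⟩
  · rintro ⟨y, ⟨hy, hy'⟩, hmy⟩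
    have : m = y := by
      have := hmy.mem_closed hm' rfl
      exact this.symm
    exact this ▸ hy

theorem IsC.of_eventually {U : Set (PrimeSpectrum A)}
    (h : ∀ p, ∀ᶠ q in cNhds p, (q ∈ U ↔ p ∈ U)) : IsC U := by
  let := cTop A
  refine ⟨?_, ?_⟩
  · rw [← isOpen_compl_iff, isOpen_iff_mem_nhds]
    intro p hp
    change _ ∈ cNhds p
    filter_upwards [h p] with q hq
    exact fun hqU => hp (hq.1 hqU)
  · rw [isOpen_iff_mem_nhds]
    intro p hp
    change _ ∈ cNhds p
    filter_upwards [h p] with q hq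
    exact hq.2 hp

variable {C : Type u} [CommRing C]

theorem continuous_comap_cTop (f : A →+* C) :
    @Continuous _ _ (cTop C) (cTop A) (PrimeSpectrum.comap f) := by
  let := cTop A
  let := cTop C
  refine continuous_generateFrom_iff.2 ?_
  rintro U (⟨g, rfl⟩ | ⟨g, rfl⟩)
  · exact (isC_basicOpen (f g)).2
  · exact (isC_basicOpen (f g)).compl.2

theorem IsC.comap {U : Set (PrimeSpectrum A)} (hU : IsC U) (f : A →+* C) :
    IsC (PrimeSpectrum.comap f ⁻¹' U) := by
  let := cTop A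
  let := cTop C
  exact IsClopen.preimage hU (continuous_comap_cTop f)

end Groth.Agent.Proet.WLoc
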