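import Groth.Agent.Proet.WLoc4
import Mathlib.RingTheory.Spectrum.Maximal.Localization

/-!
# The universal property of the w-localization
-/

universe u

open TopologicalSpace Filter

namespace Groth.Agent.Proet.WLoc

variable {A : Type u} [CommRing A] (C : Type u) [CommRing C] [Algebra A C]

/-- The point below a maximal ideal. -/
noncomputable def bel (m : MaximalSpectrum C) : PrimeSpectrum A :=
  PrimeSpectrum.comap (algebraMap A C) m.toPrimeSpectrum

variable {C}

theorem mem_bel {m : MaximalSpectrum C} {a : A} :
    a ∈ (bel (A := A) C m).asIdeal ↔ algebraMap A C a ∈ m.asIdeal := Iff.rfl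

/-- The map of local rings. -/
noncomputable def locMap (m : MaximalSpectrum C) :
    Localization.AtPrime (bel (A := A) C m).asIdeal →+* Localization.AtPrime m.asIdeal :=
  Localization.localRingHom _ m.asIdeal (algebraMap A C) rfl

theorem locMap_algebraMap (m : MaximalSpectrum C) (a : A) :
    locMap m (algebraMap A (Localization.AtPrime (bel (A := A) C m).asIdeal) a) =
      algebraMap C (Localization.AtPrime m.asIdeal) (algebraMap A C a) :=
  Localization.localRingHom_to_map _ _ _ _ a

theorem isSpectralMap_comap {R S : Type*} [CommRing R] [CommRing S] (f : R →+* S) :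
    IsSpectralMap (PrimeSpectrum.comap f) := by
  classical
  refine ⟨PrimeSpectrum.continuous_comap f, fun s hs hs' => ?_⟩
  obtain ⟨t, ht⟩ := PrimeSpectrum.isCompact_isOpen_iff.1 ⟨hs', hs⟩
  refine (PrimeSpectrum.isCompact_isOpen_iff.2 ⟨t.image f, ?_⟩).1
  rw [← ht, Set.preimage_compl, PrimeSpectrum.preimage_comap_zeroLocus, Finset.coe_image]

theorem isUnit_of_forall {c : C} (h : ∀ m : MaximalSpectrum C, c ∉ m.asIdeal) : IsUnit c := by
  by_contra hc
  obtain ⟨m, hm, hcm⟩ := exists_max_ideal_of_mem_nonunits hc
  exact h ⟨m, hm⟩ hcm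

theorem idem_one {m : MaximalSpectrum C} {e : C} (he : IsIdempotentElem e) (h : e ∉ m.asIdeal) :
    algebraMap C (Localization.AtPrime m.asIdeal) e = 1 := by
  have h1 : IsUnit (algebraMap C (Localization.AtPrime m.asIdeal) e) :=
    IsLocalization.map_units (Localization.AtPrime m.asIdeal) (⟨e, h⟩ : m.asIdeal.primeCompl)
  have h2 : algebraMap C (Localization.AtPrime m.asIdeal) e *
      algebraMap C (Localization.AtPrime m.asIdeal) e =
      algebraMap C (Localization.AtPrime m.asIdeal) e * 1 := by
    rw [← map_mul, he, mul_one]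
  exact h1.mul_left_cancel h2

theorem idem_zero {m : MaximalSpectrum C} {e : C} (he : IsIdempotentElem e) (h : e ∈ m.asIdeal) :
    algebraMap C (Localization.AtPrime m.asIdeal) e = 0 := by
  have h1 : (1 - e) ∉ m.asIdeal := fun h' =>
    (Ideal.ne_top_iff_one _).1 m.isMaximal.ne_top (by simpa using m.asIdeal.add_mem h' h)
  have h2 := idem_one he.one_sub h1
  rw [map_sub, map_one] at h2
  simpa using h2

theorem exists_lift (hC : ProEtW.IsWLocal (PrimeSpectrum C)) (s : Aw A) :
    ∃ c : C, ∀ m : MaximalSpectrum C, algebraMap C (Localization.AtPrime m.asIdeal) c =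
      locMap m (s.1 (bel C m)) := by
  classical
  choose U hU a b hb hpU hs using exists_frac s
  obtain ⟨n, x, k, hk, hk'⟩ := exists_finite_cover U hU hpU
  have hV : ∀ i : Fin n, IsC {q : PrimeSpectrum A | k q = i} := fun i => by
    refine IsC.of_eventually fun p => ?_
    filter_upwards [hk' p] with q hq
    simp only [hq]
  choose e he he' using fun i => exists_idem hC ((hV i).comap (algebraMap A C))
  have he'' : ∀ (i : Fin n) (m : MaximalSpectrum C), e i ∉ m.asIdeal ↔ k (bel C m) = i :=
    fun i m => (he' i m.toPrimeSpectrum m.isMaximal).symm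
  have hu : ∀ i, IsUnit (algebraMap A C (b (x i)) * e i + (1 - e i)) := by
    intro i
    refine isUnit_of_forall fun m hm => ?_
    by_cases hi : e i ∈ m.asIdeal
    · have h1 : (1 - e i) ∈ m.asIdeal := by
        have := m.asIdeal.sub_mem hm (m.asIdeal.mul_mem_left (algebraMap A C (b (x i))) hi)
        simpa using this
      exact (Ideal.ne_top_iff_one _).1 m.isMaximal.ne_top (by simpa using m.asIdeal.add_mem h1 hi)
    · have h1 : e i * (1 - e i) ∈ m.asIdeal := by
        rw [mul_sub, he i, mul_one, sub_self]
        exact zero_mem _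
      have h2 : (1 - e i) ∈ m.asIdeal := (m.isMaximal.isPrime.mem_or_mem h1).resolve_left hi
      have h3 : algebraMap A C (b (x i)) * e i ∈ m.asIdeal := by
        have := m.asIdeal.sub_mem hm h2
        simpa using this
      have h4 := (m.isMaximal.isPrime.mem_or_mem h3).resolve_right hi
      have h5 := (he'' i m).1 hi
      exact hb (x i) (bel C m) (h5 ▸ hk (bel C m)) h4
  choose v hv using hu
  refine ⟨∑ i, algebraMap A C (a (x i)) * e i * ↑((v i)⁻¹), fun m => ?_⟩
  rw [map_sum, Finset.sum_eq_single (k (bel C m))]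
  · set i := k (bel C m) with hi
    have h1 : e i ∉ m.asIdeal := (he'' i m).2 hi.symm
    have h2 := idem_one (he i) h1
    have h3 : bel C m ∈ U (x i) := hk (bel C m)
    have h4 : s.1 (bel C m) = IsLocalization.mk' _ (a (x i))
        (⟨b (x i), hb (x i) _ h3⟩ : (bel (A := A) C m).asIdeal.primeCompl) := by
      have := congrArg (fun t : Aw A => t.1 (bel C m)) (hs (x i))
      simp only [Aw_mul_apply] at this
      rwa [ind_apply_of_mem h3, mul_one, frac_apply_of_mem h3] at this
    rw [h4, locMap, Localization.localRingHom_mk', eq_comm, IsLocalization.mk'_eq_iff_eq_mul,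
      map_mul, map_mul, h2, mul_one]
    have h5 : algebraMap C (Localization.AtPrime m.asIdeal) (algebraMap A C (b (x i))) =
        algebraMap C (Localization.AtPrime m.asIdeal) (v i : C) := by
      rw [hv i, map_add, map_mul, map_sub, h2, map_one]
      simp
    change _ = _ * algebraMap C (Localization.AtPrime m.asIdeal) (algebraMap A C (b (x i)))
    rw [h5, mul_assoc, ← map_mul]
    simp
  · intro i _ hi
    have h1 : e i ∈ m.asIdeal := by
      by_contra h
      exact hi ((he'' i m).1 h).symm
    rw [map_mul, map_mul, idem_zero (he i) h1, mul_zero, zero_mul]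
  · intro h
    exact absurd (Finset.mem_univ _) h

theorem ext_of_localizations {c c' : C} (h : ∀ m : MaximalSpectrum C,
    algebraMap C (Localization.AtPrime m.asIdeal) c =
      algebraMap C (Localization.AtPrime m.asIdeal) c') : c = c' :=
  MaximalSpectrum.toPiLocalization_injective C (funext h)

/-- The canonical map from the w-localization. -/
noncomputable def lift (hC : ProEtW.IsWLocal (PrimeSpectrum C)) : Aw A →ₐ[A] C where
  toFun s := (exists_lift hC s).choose
  map_one' := ext_of_localizations fun m => by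
    rw [(exists_lift hC (1 : Aw A)).choose_spec m, Aw_one_apply, map_one, map_one]
  map_mul' s t := ext_of_localizations fun m => by
    rw [(exists_lift hC (s * t)).choose_spec m, map_mul, (exists_lift hC s).choose_spec m,
      (exists_lift hC t).choose_spec m, Aw_mul_apply, map_mul]
  map_zero' := ext_of_localizations fun m => by
    rw [(exists_lift hC (0 : Aw A)).choose_spec m, Aw_zero_apply, map_zero, map_zero]
  map_add' s t := ext_of_localizations fun m => by
    rw [(exists_lift hC (s + t)).choose_spec m, map_add, (exists_lift hC s).choose_spec m,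
      (exists_lift hC t).choose_spec m, Aw_add_apply, map_add]
  commutes' a := ext_of_localizations fun m => by
    rw [(exists_lift hC (algebraMap A (Aw A) a)).choose_spec m, Aw_algebraMap_apply,
      locMap_algebraMap]

theorem lift_spec (hC : ProEtW.IsWLocal (PrimeSpectrum C)) (s : Aw A) (m : MaximalSpectrum C) :
    algebraMap C (Localization.AtPrime m.asIdeal) (lift hC s) = locMap m (s.1 (bel C m)) :=
  (exists_lift hC s).choose_spec m

theorem comap_lift (hC : ProEtW.IsWLocal (PrimeSpectrum C)) (m : MaximalSpectrum C) :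
    PrimeSpectrum.comap (lift (A := A) hC).toRingHom m.toPrimeSpectrum = mx (bel C m) := by
  ext s
  have h1 : s ∈ (PrimeSpectrum.comap (lift (A := A) hC).toRingHom m.toPrimeSpectrum).asIdeal ↔
      lift hC s ∈ m.asIdeal := Iff.rfl
  rw [h1, ← IsLocalization.AtPrime.to_map_mem_maximal_iff (Localization.AtPrime m.asIdeal)
    m.asIdeal, lift_spec, mem_mx]
  have h2 : IsLocalHom (locMap (A := A) m) :=
    Localization.isLocalHom_localRingHom _ m.asIdeal (algebraMap A C) rfl
  rw [IsLocalRing.mem_maximalIdeal, IsLocalRing.mem_maximalIdeal, mem_nonunits_iff,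
    mem_nonunits_iff, isUnit_map_iff]

theorem isWLocalMap_lift (hC : ProEtW.IsWLocal (PrimeSpectrum C)) :
    ProEtW.IsWLocalMap (PrimeSpectrum.comap (lift (A := A) hC).toRingHom) := by
  refine ⟨isSpectralMap_comap _, fun x hx => ?_⟩
  have hx' := (PrimeSpectrum.isClosed_singleton_iff_isMaximal x).1 hx
  have := comap_lift (A := A) hC ⟨x.asIdeal, hx'⟩
  change IsClosed ({PrimeSpectrum.comap (lift (A := A) hC).toRingHom
    (MaximalSpectrum.toPrimeSpectrum ⟨x.asIdeal, hx'⟩)} : Set (PrimeSpectrum (Aw A)))
  rw [this]
  exact isClosed_singleton_mx _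

theorem algHom_spec (φ : Aw A →ₐ[A] C)
    (hφ : ProEtW.IsWLocalMap (PrimeSpectrum.comap φ.toRingHom)) (s : Aw A)
    (m : MaximalSpectrum C) :
    algebraMap C (Localization.AtPrime m.asIdeal) (φ s) = locMap m (s.1 (bel C m)) := by
  obtain ⟨U, hU, a, b, hb, hpU, hs⟩ := exists_frac s (bel C m)
  have h4 : s.1 (bel C m) = IsLocalization.mk' _ a
      (⟨b, hb _ hpU⟩ : (bel (A := A) C m).asIdeal.primeCompl) := by
    have := congrArg (fun t : Aw A => t.1 (bel C m)) hs
    simp only [Aw_mul_apply] at this
    rwa [ind_apply_of_mem hpU, mul_one, frac_apply_of_mem hpU] at this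
  have h0 := hφ.2 m.toPrimeSpectrum
    ((PrimeSpectrum.isClosed_singleton_iff_isMaximal _).2 m.isMaximal)
  rw [PrimeSpectrum.isClosed_singleton_iff_isMaximal] at h0
  have h1 := mx_of_isMaximal h0
  have h2 : PrimeSpectrum.comap (algebraMap A (Aw A))
      (PrimeSpectrum.comap φ.toRingHom m.toPrimeSpectrum) = bel C m := by
    ext a
    change φ (algebraMap A (Aw A) a) ∈ m.asIdeal ↔ _
    rw [φ.commutes]
    rfl
  have h3 : PrimeSpectrum.comap φ.toRingHom m.toPrimeSpectrum = mx (bel C m) := by
    rw [← h2, ← h1, comap_mx]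
  have h5 : φ (ind U hU) ∉ m.asIdeal := by
    intro h
    have : ind U hU ∈ (mx (bel (A := A) C m)).asIdeal := by
      rw [← h3]
      exact h
    exact (ind_mem_mx hU).1 this hpU
  have h6 : IsIdempotentElem (φ (ind U hU)) := by
    have : IsIdempotentElem (ind U hU) := by
      have := ind_mul_ind hU hU
      rw [IsIdempotentElem, this]
      congr 1
      exact Set.inter_self U
    exact this.map φ
  have h7 := idem_one h6 h5
  have h8 : s * ind U hU * algebraMap A (Aw A) b = algebraMap A (Aw A) a * ind U hU := by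
    rw [hs]
    refine Aw_ext fun q => ?_
    rw [Aw_mul_apply, Aw_mul_apply, Aw_algebraMap_apply, Aw_algebraMap_apply]
    by_cases hq : q ∈ U
    · rw [ind_apply_of_mem hq, frac_apply_of_mem hq, mul_one]
      exact IsLocalization.mk'_spec _ a (⟨b, hb q hq⟩ : q.asIdeal.primeCompl)
    · rw [ind_apply_of_notMem hq, frac_apply_of_notMem hq, mul_zero, zero_mul]
  have h9 := congrArg (fun t => algebraMap C (Localization.AtPrime m.asIdeal) (φ t)) h8
  simp only [map_mul, h7, mul_one, AlgHom.commutes] at h9
  rw [h4, locMap, Localization.localRingHom_mk', eq_comm, IsLocalization.mk'_eq_iff_eq_mul]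
  exact h9.symm

theorem existsUnique_lift (hC : ProEtW.IsWLocal (PrimeSpectrum C)) :
    ∃! φ : Aw A →ₐ[A] C, ProEtW.IsWLocalMap (PrimeSpectrum.comap φ.toRingHom) := by
  refine ⟨lift hC, isWLocalMap_lift hC, fun φ hφ => ?_⟩
  refine AlgHom.ext fun s => ext_of_localizations fun m => ?_
  rw [algHom_spec φ hφ, lift_spec]

end Groth.Agent.Proet.WLoc
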