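import Groth.Agent.Proet.WLoc5
import Mathlib.RingTheory.Idempotents

/-!
# Finite orthogonal idempotent refinements in rings with w-local spectrum, and the
factorization property of algebras which identify local rings
-/

universe u

open TopologicalSpace Filter

namespace Groth.Agent.Proet.WLocIdem

open Groth.Agent.Proet.WLoc

variable {B : Type u} [CommRing B]

theorem idem_eq_zero {e : B} (he : IsIdempotentElem e)
    (h : ∀ m : MaximalSpectrum B, e ∈ m.asIdeal) : e = 0 := by
  refine ext_of_localizations fun m => ?_
  rw [idem_zero he (h m), map_zero]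

/-- In a ring with w-local spectrum, any family of elements `s m ∉ m` can be refined by a
finite complete family of orthogonal idempotents. -/
theorem exists_orthogonal (hB : ProEtW.IsWLocal (PrimeSpectrum B)) (s : MaximalSpectrum B → B)
    (hs : ∀ m, s m ∉ m.asIdeal) :
    ∃ (n : ℕ) (x : Fin n → MaximalSpectrum B) (e : Fin n → B),
      CompleteOrthogonalIdempotents e ∧ ∀ i, s (x i) ∣ e i := by
  classical
  -- the closed specialization
  have hc : ∀ q : PrimeSpectrum B, ∃ m : MaximalSpectrum B, q.asIdeal ≤ m.asIdeal := fun q => by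
    obtain ⟨M, hM, h⟩ := Ideal.exists_le_maximal _ q.isPrime.ne_top
    exact ⟨⟨M, hM⟩, h⟩
  choose r hr using hc
  have hr' : ∀ m : MaximalSpectrum B, r m.toPrimeSpectrum = m := fun m => by
    have := hr m.toPrimeSpectrum
    exact (MaximalSpectrum.ext (m.isMaximal.eq_of_le (r m.toPrimeSpectrum).isMaximal.ne_top
      this)).symm
  obtain ⟨n, x, k, hk, hk'⟩ := exists_finite_cover
    (fun q : PrimeSpectrum B => (PrimeSpectrum.basicOpen (s (r q)) : Set (PrimeSpectrum B)))
    (fun q => isC_basicOpen _) (fun q h => hs (r q) (hr q h))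
  have hV : ∀ i : Fin n, IsC {q : PrimeSpectrum B | k q = i} := fun i => by
    refine IsC.of_eventually fun p => ?_
    filter_upwards [hk' p] with q hq
    simp only [hq]
  choose e he he' using fun i => exists_idem hB (hV i)
  have he1 : ∀ (i : Fin n) (m : MaximalSpectrum B), e i ∉ m.asIdeal ↔ k m.toPrimeSpectrum = i :=
    fun i m => (he' i m.toPrimeSpectrum m.isMaximal).symm
  have horth : ∀ i j, i ≠ j → e i * e j = 0 := by
    intro i j hij
    refine idem_eq_zero ((he i).mul (he j)) fun m => ?_
    by_contra h
    have h1 : e i ∉ m.asIdeal := fun h' => h (m.asIdeal.mul_mem_right _ h')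
    have h2 : e j ∉ m.asIdeal := fun h' => h (m.asIdeal.mul_mem_left _ h')
    exact hij (((he1 i m).1 h1).symm.trans ((he1 j m).1 h2))
  have hO : OrthogonalIdempotents e := ⟨he, fun i j hij => horth i j hij⟩
  refine ⟨n, fun i => r (x i), e, ⟨hO, ?_⟩, fun i => ?_⟩
  · refine ext_of_localizations fun m => ?_
    rw [map_sum, map_one, Finset.sum_eq_single (k m.toPrimeSpectrum)]
    · exact idem_one (he _) ((he1 _ m).2 rfl)
    · intro j _ hj
      refine idem_zero (he _) ?_
      by_contra h
      exact hj ((he1 j m).1 h).symm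
    · intro h
      exact absurd (Finset.mem_univ _) h
  · have hu : IsUnit (s (r (x i)) * e i + (1 - e i)) := by
      refine isUnit_of_forall fun m hm => ?_
      by_cases hi : e i ∈ m.asIdeal
      · have h1 : (1 - e i) ∈ m.asIdeal := by
          have := m.asIdeal.sub_mem hm (m.asIdeal.mul_mem_left (s (r (x i))) hi)
          simpa using this
        exact (Ideal.ne_top_iff_one _).1 m.isMaximal.ne_top (by simpa using m.asIdeal.add_mem h1 hi)
      · have h1 : e i * (1 - e i) ∈ m.asIdeal := by
          rw [mul_sub, he i, mul_one, sub_self]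
          exact zero_mem _
        have h2 : (1 - e i) ∈ m.asIdeal := (m.isMaximal.isPrime.mem_or_mem h1).resolve_left hi
        have h3 : s (r (x i)) * e i ∈ m.asIdeal := by
          have := m.asIdeal.sub_mem hm h2
          simpa using this
        have h4 := (m.isMaximal.isPrime.mem_or_mem h3).resolve_right hi
        have h5 := (he1 i m).1 hi
        exact hk m.toPrimeSpectrum (h5 ▸ h4)
    obtain ⟨v, hv⟩ := hu
    refine ⟨e i * ↑(v⁻¹), ?_⟩
    have h1 : s (r (x i)) * (e i * ↑(v⁻¹)) = (v : B) * e i * ↑(v⁻¹) := by
      rw [hv, add_mul, mul_assoc _ (e i) (e i), he i, sub_mul, he i, one_mul, sub_self, add_zero]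
      ring
    rw [h1, mul_comm (v : B) (e i), mul_assoc, Units.mul_inv, mul_one]

end Groth.Agent.Proet.WLocIdem
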