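import Groth.Prelude.Def_ProEtW
import Groth.Agent.Proet.WLocalMap
import Groth.Agent.Proet.LocalRings
import Groth.Agent.Proet.IndZariski
import Groth.Agent.EtpbcB.IdLoc
import Groth.Agent.S0737
import Groth.Agent.S0698
import Groth.Agent.S0699
import Groth.Agent.S0738

/-!
# Retractions over w-local rings with extremally disconnected space of components
-/

set_option autoImplicit false
universe u

open Topology TopologicalSpace Set

namespace Groth.Agent.Proet.WRetract

theorem isSpectralMap_comap {A B : Type u} [CommRing A] [CommRing B] (f : A →+* B) :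
    IsSpectralMap (PrimeSpectrum.comap f) := by
  refine ⟨PrimeSpectrum.continuous_comap f, ?_⟩
  intro s hs hc
  obtain ⟨t, rfl⟩ := PrimeSpectrum.isCompact_isOpen_iff.1 ⟨hc, hs⟩
  rw [Set.preimage_compl, PrimeSpectrum.preimage_comap_zeroLocus]
  classical
  exact (PrimeSpectrum.isCompact_isOpen_iff.2 ⟨t.image f, by simp⟩).1

/-- The quotient map `B/IB → C/IC` being bijective, every point of `V(IB)` lifts to `Spec C`. -/
theorem exists_lift_of_bijective {B C : Type u} [CommRing B] [CommRing C] [Algebra B C] (J : Ideal B)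
    (h : Function.Bijective (Ideal.quotientMap (J.map (algebraMap B C)) (algebraMap B C)
      Ideal.le_comap_map)) (q : PrimeSpectrum B) (hq : J ≤ q.asIdeal) :
    ∃ r : PrimeSpectrum C, PrimeSpectrum.comap (algebraMap B C) r = q := by
  let e := RingEquiv.ofBijective _ h
  have h1 : q ∈ Set.range (PrimeSpectrum.comap (Ideal.Quotient.mk J)) := by
    rw [_root_.range_comap_of_surjective _ _ Ideal.Quotient.mk_surjective]
    simpa [PrimeSpectrum.mem_zeroLocus] using hq
  obtain ⟨q', rfl⟩ := h1
  refine ⟨PrimeSpectrum.comap (Ideal.Quotient.mk _) (PrimeSpectrum.comap e.symm.toRingHom q'), ?_⟩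
  rw [← PrimeSpectrum.comap_comp_apply, ← PrimeSpectrum.comap_comp_apply]
  have : (e.symm.toRingHom.comp (Ideal.Quotient.mk (J.map (algebraMap B C)))).comp (algebraMap B C) =
      Ideal.Quotient.mk J := by
    ext x
    simp only [RingHom.comp_apply]
    change e.symm (Ideal.Quotient.mk _ (algebraMap B C x)) = _
    rw [RingEquiv.symm_apply_eq]
    rfl
  rw [← RingHom.comp_assoc, this]

theorem bijective_localRingHom_comp {A B C : Type*} [CommRing A] [CommRing B] [CommRing C]
    (f : A →+* B) (g : B →+* C) (h : A →+* C) (hh : h = g.comp f) (p : Ideal A) [p.IsPrime]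
    (q : Ideal B) [q.IsPrime] (r : Ideal C) [r.IsPrime] (hp : p = r.comap h) (hq : q = r.comap g)
    (hp' : p = q.comap f) (h1 : Function.Bijective (Localization.localRingHom p q f hp'))
    (h2 : Function.Bijective (Localization.localRingHom q r g hq)) :
    Function.Bijective (Localization.localRingHom p r h hp) := by
  subst hh
  rw [Localization.localRingHom_comp p q r f hp' g hq]
  exact h2.comp h1

theorem bijective_localRingHom_comp' {A B C : Type*} [CommRing A] [CommRing B] [CommRing C]
    (f : A →+* B) (g : B →+* C) (h : A →+* C) (hh : h = g.comp f) (p p' : Ideal A) [p.IsPrime]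
    [p'.IsPrime] (q : Ideal B) [q.IsPrime] (r : Ideal C) [r.IsPrime] (hp : p = r.comap h)
    (hq : q = r.comap g)
    {hp' : p' = q.comap f} (h1 : Function.Bijective (Localization.localRingHom p' q f hp'))
    (h2 : Function.Bijective (Localization.localRingHom q r g hq)) :
    Function.Bijective (Localization.localRingHom p r h hp) := by
  obtain rfl : p = p' := by rw [hp, hp', hh, hq, Ideal.comap_comap]
  exact bijective_localRingHom_comp f g h hh p q r hp hq hp' h1 h2

/-- Let `A` be w-local with extremally disconnected `π₀`, and `B` a faithfully flat `A`-algebra with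
algebraic residue field extensions, identifying the local rings at maximal ideals of `A`.
Then `A → B` has a retraction. -/
theorem exists_retraction {A B : Type u} [CommRing A] [CommRing B] [Algebra A B]
    (hsurj : Function.Surjective (PrimeSpectrum.comap (algebraMap A B)))
    (hA : ProEtW.IsWLocal (PrimeSpectrum A))
    (hED : ExtremallyDisconnected (ConnectedComponents (PrimeSpectrum A)))
    (hres : ProEtW.AlgebraicResidueExtensions A B)
    (hloc : ∀ (n : PrimeSpectrum B), (n.asIdeal.comap (algebraMap A B)).IsMaximal →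
      Function.Bijective (Localization.localRingHom (n.asIdeal.comap (algebraMap A B)) n.asIdeal
        (algebraMap A B) rfl)) :
    Nonempty (B →ₐ[A] A) := by
  -- the ideal of closed points
  set I := PrimeSpectrum.vanishingIdeal (ProEtW.closedPoints (PrimeSpectrum A)) with hI
  have hI0 : PrimeSpectrum.zeroLocus (R := A) I = ProEtW.closedPoints (PrimeSpectrum A) := by
    rw [hI, PrimeSpectrum.zeroLocus_vanishingIdeal_eq_closure]
    exact hA.2.1.closure_eq
  have hIr : I.IsRadical := PrimeSpectrum.isRadical_vanishingIdeal _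
  obtain ⟨hc1, C, _, _, _, _, hC1, hC2, hC3, hC4, hC5⟩ :=
    Groth.Agent.S0737.result A B hA I hIr hI0 hres
  -- surjectivity on closed points
  have hs : Set.SurjOn (PrimeSpectrum.comap (algebraMap A C)) (ProEtW.closedPoints (PrimeSpectrum C))
      (ProEtW.closedPoints (PrimeSpectrum A)) := by
    intro m hm
    obtain ⟨q, hq⟩ := hsurj m
    have hIq : I.map (algebraMap A B) ≤ q.asIdeal := by
      rw [Ideal.map_le_iff_le_comap, ← PrimeSpectrum.comap_asIdeal, hq]
      rw [← hI0] at hm
      exact hm
    obtain ⟨r, hr⟩ := exists_lift_of_bijective _ hC2 q hIq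
    have hrm : PrimeSpectrum.comap (algebraMap A C) r = m := by
      rw [← hq, ← hr, ← PrimeSpectrum.comap_comp_apply, ← IsScalarTower.algebraMap_eq]
    refine ⟨r, ?_, hrm⟩
    rw [hC5, Set.mem_preimage, hrm]
    exact hm
  obtain ⟨T, hT, hTb⟩ := WLocalMap.exists_section hC3 hA hED hC4.1.continuous hC4.2 hs
  obtain ⟨D, _, _, hD1, hD2, hD3, hD4⟩ := Groth.Agent.S0698.result C T hT
  let : Algebra A D := ((algebraMap C D).comp (algebraMap A C)).toAlgebra
  have : IsScalarTower A C D := .of_algebraMap_eq' rfl
  -- Spec D is a closed subspace of Spec C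
  have hcl : IsClosedEmbedding (PrimeSpectrum.comap (algebraMap C D)) := by
    refine ⟨hD3, ?_⟩
    rw [hD4]
    exact hT.preimage ConnectedComponents.continuous_coe
  have hDW : ProEtW.IsWLocal (PrimeSpectrum D) :=
    WLocalMap.isWLocal_of_homeo (Groth.Agent.S0738.result _ hC3 _ hcl.isClosed_range)
      hcl.isEmbedding.toHomeomorph
  have hDcl : ∀ d : PrimeSpectrum D, IsClosed ({d} : Set (PrimeSpectrum D)) ↔
      IsClosed ({PrimeSpectrum.comap (algebraMap C D) d} : Set (PrimeSpectrum C)) := by
    intro d
    rw [hcl.isClosed_iff_image_isClosed, Set.image_singleton]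
  have hcomap : ∀ d : PrimeSpectrum D, PrimeSpectrum.comap (algebraMap A D) d =
      PrimeSpectrum.comap (algebraMap A C) (PrimeSpectrum.comap (algebraMap C D) d) := fun d => rfl
  have hDmap : ProEtW.IsWLocalMap (PrimeSpectrum.comap (algebraMap A D)) := by
    refine ⟨isSpectralMap_comap _, fun d hd => ?_⟩
    rw [hcomap]
    exact hC4.2 _ ((hDcl d).1 hd)
  have hbij : Set.BijOn (PrimeSpectrum.comap (algebraMap A D)) (ProEtW.closedPoints (PrimeSpectrum D))
      (ProEtW.closedPoints (PrimeSpectrum A)) := by
    refine ⟨fun d hd => hDmap.2 d hd, ?_, ?_⟩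
    · intro d hd d' hd' h
      apply hcl.injective
      have hmem : ∀ d : PrimeSpectrum D, PrimeSpectrum.comap (algebraMap C D) d ∈
          (ConnectedComponents.mk ⁻¹' T : Set (PrimeSpectrum C)) := by
        intro d
        rw [← hD4]
        exact ⟨d, rfl⟩
      exact hTb.injOn ⟨(hDcl d).1 hd, hmem d⟩ ⟨(hDcl d').1 hd', hmem d'⟩ h
    · intro m hm
      obtain ⟨c, ⟨hc, hcT⟩, rfl⟩ := hTb.surjOn hm
      rw [← hD4] at hcT
      obtain ⟨d, rfl⟩ := hcT
      exact ⟨d, (hDcl d).2 hc, rfl⟩
  have hpi := WLocalMap.bijective_connectedComponentsMap hDW hA hDmap.1.continuous hDmap.2 hbij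
  -- local rings
  have hid : EtPBC.IdentifiesLocalRings A D := by
    apply LocalRings.identifiesLocalRings_of_exists_ge
    intro q
    obtain ⟨n, ⟨hn1, hn2⟩, -⟩ := hDW.2.2 q
    refine ⟨n, (PrimeSpectrum.le_iff_specializes q n).2 hn2, ?_⟩
    have hm := hDmap.2 n hn1
    rw [PrimeSpectrum.isClosed_singleton_iff_isMaximal] at hm
    have e1 := EtpbcB.IdLoc.identifiesLocalRings_of_isIndZariski _ _ hD1 n
    have e2 := EtpbcB.IdLoc.identifiesLocalRings_of_isIndZariski _ _ hC1
      (PrimeSpectrum.comap (algebraMap C D) n)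
    have hABC := IsScalarTower.algebraMap_eq A B C
    have hACD := IsScalarTower.algebraMap_eq A C D
    have hm' : (PrimeSpectrum.comap (algebraMap A D) n).asIdeal =
        (PrimeSpectrum.comap (algebraMap B C) (PrimeSpectrum.comap (algebraMap C D) n)).asIdeal.comap
          (algebraMap A B) := by
      simp only [PrimeSpectrum.comap_asIdeal, Ideal.comap_comap]
      rw [hACD, hABC, RingHom.comp_assoc]
    have e3 := hloc (PrimeSpectrum.comap (algebraMap B C) (PrimeSpectrum.comap (algebraMap C D) n))
      (hm' ▸ hm)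
    have e23 := bijective_localRingHom_comp _ _ (algebraMap A C) hABC _ _ _ (by
        simp only [PrimeSpectrum.comap_asIdeal, Ideal.comap_comap]
        rw [hABC, RingHom.comp_assoc]) rfl rfl e3 e2
    exact bijective_localRingHom_comp' _ _ (algebraMap A D) hACD _ _ _ _ rfl rfl e23 e1
  have hfin := Groth.Agent.S0699.result A D hid hA hDW hDmap hpi
  let e : A ≃ₐ[A] D := AlgEquiv.ofBijective (Algebra.ofId A D) hfin
  exact ⟨e.symm.toAlgHom.comp ((IsScalarTower.toAlgHom A C D).comp (IsScalarTower.toAlgHom A B C))⟩

end Groth.Agent.Proet.WRetract
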