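import Mathlib.CategoryTheory.Sites.SheafCohomology.Basic
import Mathlib.CategoryTheory.ShrinkYoneda
import Mathlib.GroupTheory.FreeAbelianGroup

/-!
# The free abelian sheaf `Z_U` on an object `U`, in general universes

`C` is a locally `w`-small category; abelian sheaves take values in `AddCommGrpCat.{w}`.
* `zPre.obj U`, `(zF J).obj U`: free abelian (pre)sheaf on `U`;
* `preEv U P : (zPre.obj U ⟶ P) ≃+ P(U)`, `ev J U F : ((zF J).obj U ⟶ F) ≃+ F(U)`, natural in both;
* `isoConst`: `Z_T` is the constant sheaf `ℤ` for `T` terminal.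
-/

set_option autoImplicit false
universe w' w v u

open CategoryTheory Category Limits Opposite Abelian

noncomputable section

namespace Groth.Agent.Proet.ZU

variable {C : Type u} [Category.{v} C] [LocallySmall.{w} C]

/-- The free abelian presheaf on an object. -/
abbrev zPre : C ⥤ Cᵒᵖ ⥤ AddCommGrpCat.{w} :=
  shrinkYoneda.{w} ⋙ (Functor.whiskeringRight _ _ _).obj AddCommGrpCat.free.{w}

/-- canonical generator of `zPre.obj U` over `W` attached to `g : W ⟶ U`. -/
def pt {U W : C} (g : W ⟶ U) : (zPre.{w}.obj U).obj (op W) :=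
  FreeAbelianGroup.of (shrinkYonedaObjObjEquiv.{w}.symm g)

theorem map_pt {U V W : C} (g : W ⟶ U) (h : U ⟶ V) :
    (zPre.{w}.map h).app (op W) (pt g) = pt (g ≫ h) := by
  change FreeAbelianGroup.map _ (FreeAbelianGroup.of _) = _
  rw [FreeAbelianGroup.map_of_apply, pt]
  congr 1
  exact shrinkYoneda_map_app_shrinkYonedaObjObjEquiv_symm g h

theorem obj_map_pt {U W W' : C} (g : W ⟶ U) (h : W' ⟶ W) :
    (zPre.{w}.obj U).map h.op (pt g) = pt (h ≫ g) := by
  change FreeAbelianGroup.map _ (FreeAbelianGroup.of _) = _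
  rw [FreeAbelianGroup.map_of_apply, pt]
  congr 1
  exact shrinkYoneda_obj_map_shrinkYonedaObjObjEquiv_symm h.op g

/-- Two additive maps out of `zPre.obj U (W)` agreeing on the generators are equal. -/
theorem hom_ext_pt {U W : C} {A : Type*} [AddCommGroup A]
    {f g : (zPre.{w}.obj U).obj (op W) →+ A} (h : ∀ k : W ⟶ U, f (pt k) = g (pt k)) : f = g := by
  apply FreeAbelianGroup.lift_ext
  intro x
  have := h (shrinkYonedaObjObjEquiv.{w} x)
  rw [pt, Equiv.symm_apply_apply] at this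
  exact this

/-- Evaluation at the canonical section is an additive bijection
`(zPre.obj U ⟶ P) ≃+ P(U)`. -/
def preEv (U : C) (P : Cᵒᵖ ⥤ AddCommGrpCat.{w}) :
    (zPre.{w}.obj U ⟶ P) ≃+ P.obj (op U) where
  toEquiv := ((AddCommGrpCat.adj.{w}.whiskerRight Cᵒᵖ).homEquiv (shrinkYoneda.{w}.obj U) P).trans
    shrinkYonedaEquiv
  map_add' _ _ := rfl

theorem preEv_apply (U : C) (P : Cᵒᵖ ⥤ AddCommGrpCat.{w}) (f : zPre.{w}.obj U ⟶ P) :
    preEv U P f = f.app (op U) (pt (𝟙 U)) := rfl

theorem preEv_comp {U : C} {P Q : Cᵒᵖ ⥤ AddCommGrpCat.{w}} (f : zPre.{w}.obj U ⟶ P) (g : P ⟶ Q) :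
    preEv U Q (f ≫ g) = g.app (op U) (preEv U P f) := rfl

theorem preEv_map_comp {U V : C} {P : Cᵒᵖ ⥤ AddCommGrpCat.{w}} (h : U ⟶ V)
    (f : zPre.{w}.obj V ⟶ P) :
    preEv U P (zPre.{w}.map h ≫ f) = P.map h.op (preEv V P f) := by
  rw [preEv_apply, preEv_apply]
  change f.app (op U) ((zPre.{w}.map h).app (op U) (pt (𝟙 U))) = _
  rw [map_pt, id_comp]
  have := ConcreteCategory.congr_hom (f.naturality h.op) (pt (𝟙 V))
  refine Eq.trans ?_ this
  change _ = f.app (op U) ((zPre.{w}.obj V).map h.op (pt (𝟙 V)))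
  rw [obj_map_pt, comp_id]

theorem preEv_symm_comp {U : C} {P Q : Cᵒᵖ ⥤ AddCommGrpCat.{w}} (s : P.obj (op U)) (g : P ⟶ Q) :
    (preEv U P).symm s ≫ g = (preEv U Q).symm (g.app (op U) s) := by
  apply (preEv U Q).injective
  rw [preEv_comp, AddEquiv.apply_symm_apply, AddEquiv.apply_symm_apply]

theorem map_comp_preEv_symm {U V : C} {P : Cᵒᵖ ⥤ AddCommGrpCat.{w}} (h : U ⟶ V)
    (s : P.obj (op V)) :
    zPre.{w}.map h ≫ (preEv V P).symm s = (preEv U P).symm (P.map h.op s) := by
  apply (preEv U P).injective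
  rw [preEv_map_comp, AddEquiv.apply_symm_apply, AddEquiv.apply_symm_apply]

section Sheaf

variable (J : GrothendieckTopology C) [HasSheafify J AddCommGrpCat.{w}]

/-- The free abelian sheaf on an object. -/
abbrev zF : C ⥤ Sheaf J AddCommGrpCat.{w} := zPre.{w} ⋙ presheafToSheaf J AddCommGrpCat.{w}

/-- The canonical section of `Z_U` over `U`. -/
def gen (U : C) : ((zF.{w} J).obj U).obj.obj (op U) :=
  (toSheafify J (zPre.{w}.obj U)).app (op U) (pt (𝟙 U))

/-- `Hom(Z_U, F) = F(U)`. -/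
def ev (U : C) (F : Sheaf J AddCommGrpCat.{w}) : ((zF.{w} J).obj U ⟶ F) ≃+ F.obj.obj (op U) :=
  AddEquiv.mk' (((sheafificationAdjunction J AddCommGrpCat.{w}).homEquiv (zPre.{w}.obj U) F).trans
    (preEv U F.obj).toEquiv) (fun _ _ => rfl)

variable {J}

theorem ev_apply {U : C} {F : Sheaf J AddCommGrpCat.{w}} (f : (zF.{w} J).obj U ⟶ F) :
    ev J U F f = f.hom.app (op U) (gen J U) := rfl

theorem ev_comp {U : C} {F G : Sheaf J AddCommGrpCat.{w}} (f : (zF.{w} J).obj U ⟶ F) (g : F ⟶ G) :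
    ev J U G (f ≫ g) = g.hom.app (op U) (ev J U F f) := rfl

theorem map_gen {U V : C} (h : U ⟶ V) :
    ((zF.{w} J).map h).hom.app (op U) (gen J U) = ((zF.{w} J).obj V).obj.map h.op (gen J V) := by
  have h1 := toSheafify_naturality J (zPre.{w}.map h)
  have h2 := congr_arg (fun α => α.app (op U) (pt (𝟙 U))) h1
  have h3 := (toSheafify J (zPre.{w}.obj V)).naturality h.op
  have h4 := ConcreteCategory.congr_hom h3 (pt (𝟙 V))
  refine h2.symm.trans (Eq.trans ?_ h4)
  change (toSheafify J (zPre.{w}.obj V)).app (op U) ((zPre.{w}.map h).app (op U) (pt (𝟙 U))) =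
    (toSheafify J (zPre.{w}.obj V)).app (op U) ((zPre.{w}.obj V).map h.op (pt (𝟙 V)))
  rw [map_pt, obj_map_pt, id_comp, comp_id]

theorem ev_map_comp {U V : C} (h : U ⟶ V) {F : Sheaf J AddCommGrpCat.{w}}
    (f : (zF.{w} J).obj V ⟶ F) :
    ev J U F ((zF.{w} J).map h ≫ f) = F.obj.map h.op (ev J V F f) := by
  rw [ev_comp, ev_apply, ev_apply, map_gen]
  exact ConcreteCategory.congr_hom (f.hom.naturality h.op) (gen J V)

theorem ev_symm_comp {U : C} {F G : Sheaf J AddCommGrpCat.{w}} (s : F.obj.obj (op U)) (g : F ⟶ G) :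
    (ev J U F).symm s ≫ g = (ev J U G).symm (g.hom.app (op U) s) := by
  apply (ev J U G).injective
  rw [ev_comp, AddEquiv.apply_symm_apply, AddEquiv.apply_symm_apply]

theorem map_comp_ev_symm {U V : C} (h : U ⟶ V) {F : Sheaf J AddCommGrpCat.{w}}
    (s : F.obj.obj (op V)) :
    (zF.{w} J).map h ≫ (ev J V F).symm s = (ev J U F).symm (F.obj.map h.op s) := by
  apply (ev J U F).injective
  rw [ev_map_comp, AddEquiv.apply_symm_apply, AddEquiv.apply_symm_apply]

end Sheaf

section Terminal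

variable (J : GrothendieckTopology C) [HasSheafify J AddCommGrpCat.{w}]

/-- the free abelian presheaf on a terminal object is the constant presheaf `ℤ` -/
def isoConstPresheaf {T : C} (hT : IsTerminal T) :
    zPre.{w}.obj T ≅ (Functor.const Cᵒᵖ).obj (AddCommGrpCat.of (ULift.{w} ℤ)) :=
  NatIso.ofComponents (fun U =>
    letI : Unique ((shrinkYoneda.{w}.obj T).obj U) :=
      { default := shrinkYonedaObjObjEquiv.symm (hT.from _)
        uniq := fun _ => shrinkYonedaObjObjEquiv.injective (hT.hom_ext _ _) }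
    (((FreeAbelianGroup.uniqueEquiv ((shrinkYoneda.{w}.obj T).obj U))).trans
      AddEquiv.ulift.symm).toAddCommGrpIso)
    (by
      intro U V f
      let _ : Unique ((shrinkYoneda.{w}.obj T).obj U) :=
        { default := shrinkYonedaObjObjEquiv.symm (hT.from _)
          uniq := fun _ => shrinkYonedaObjObjEquiv.injective (hT.hom_ext _ _) }
      let _ : Unique ((shrinkYoneda.{w}.obj T).obj V) :=
        { default := shrinkYonedaObjObjEquiv.symm (hT.from _)
          uniq := fun _ => shrinkYonedaObjObjEquiv.injective (hT.hom_ext _ _) }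
      apply AddCommGrpCat.hom_ext
      apply FreeAbelianGroup.lift_ext
      intro x
      change (AddEquiv.ulift.symm (FreeAbelianGroup.uniqueEquiv ((shrinkYoneda.{w}.obj T).obj V)
        (FreeAbelianGroup.map _ (FreeAbelianGroup.of x)))) =
        AddEquiv.ulift.symm (FreeAbelianGroup.uniqueEquiv ((shrinkYoneda.{w}.obj T).obj U)
          (FreeAbelianGroup.of x))
      rw [FreeAbelianGroup.map_of_apply]
      simp [FreeAbelianGroup.uniqueEquiv])

/-- the constant sheaf `ℤ` is the free abelian sheaf on a terminal object. -/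
def isoConst {T : C} (hT : IsTerminal T) :
    (constantSheaf J AddCommGrpCat.{w}).obj (AddCommGrpCat.of (ULift ℤ)) ≅ (zF.{w} J).obj T :=
  (presheafToSheaf J AddCommGrpCat.{w}).mapIso (isoConstPresheaf hT).symm

end Terminal

section Ext

variable {A : Type u} [Category.{v} A] [Abelian A] [HasExt.{w'} A]

/-- isomorphism invariance of `Ext` in the first variable -/
def extPrecompIso {X Y : A} (e : X ≅ Y) (Z : A) (n : ℕ) : Ext.{w'} Y Z n ≃+ Ext.{w'} X Z n where
  toFun x := (Ext.mk₀ e.hom).comp x (zero_add n)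
  invFun x := (Ext.mk₀ e.inv).comp x (zero_add n)
  left_inv x := by
    dsimp
    rw [Ext.mk₀_comp_mk₀_assoc, e.inv_hom_id, Ext.mk₀_id_comp]
  right_inv x := by
    dsimp
    rw [Ext.mk₀_comp_mk₀_assoc, e.hom_inv_id, Ext.mk₀_id_comp]
  map_add' x y := by rw [Ext.comp_add]

theorem extPrecompIso_apply {X Y : A} (e : X ≅ Y) (Z : A) (n : ℕ) (x : Ext.{w'} Y Z n) :
    extPrecompIso e Z n x = (Ext.mk₀ e.hom).comp x (zero_add n) := rfl

theorem extPrecompIso_comp {X Y : A} (e : X ≅ Y) {Z T : A} (n m k : ℕ) (h : n + m = k)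
    (x : Ext.{w'} Y Z n) (y : Ext.{w'} Z T m) :
    extPrecompIso e T k (x.comp y h) = (extPrecompIso e Z n x).comp y h := by
  rw [extPrecompIso_apply, extPrecompIso_apply, Ext.comp_assoc]
  omega

end Ext

/-- Cohomology `H^n(U, F)` in general universes: `Ext^n(Z_U, F)`. -/
abbrev HU {J : GrothendieckTopology C} [HasSheafify J AddCommGrpCat.{w}]
    [HasExt.{w'} (Sheaf J AddCommGrpCat.{w})] (F : Sheaf J AddCommGrpCat.{w}) (n : ℕ) (U : C) :
    Type w' :=
  Ext.{w'} ((zF.{w} J).obj U) F n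

/-- `H^n(C, F) = H^n(T, F)` for `T` terminal. -/
def HTop {J : GrothendieckTopology C} [HasSheafify J AddCommGrpCat.{w}]
    [HasExt.{w'} (Sheaf J AddCommGrpCat.{w})] {T : C} (hT : IsTerminal T)
    (F : Sheaf J AddCommGrpCat.{w}) (n : ℕ) : HU.{w'} F n T ≃+ Sheaf.H.{w'} F n :=
  extPrecompIso (isoConst J hT) F n

end Groth.Agent.Proet.ZU
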